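import Groth.Prelude.Def_Cyc
import Mathlib.AlgebraicGeometry.Properties
import Mathlib.Order.KrullDimension

/-!
Consequences of having a dimension function: `δ` is strictly monotone for the specialization order and
computes dimensions of local rings of integral schemes.
-/

namespace Groth.Agent.CycLib

open AlgebraicGeometry CategoryTheory

universe u

variable {X : Scheme.{u}} {δ : X → ℤ}

theorem le_iff {x y : X} : x ≤ y ↔ y ⤳ x := Iff.rfl

theorem lt_iff {x y : X} : x < y ↔ y ⤳ x ∧ y ≠ x := by
  rw [lt_iff_le_not_ge]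
  constructor
  · rintro ⟨h1, h2⟩
    refine ⟨h1, ?_⟩
    rintro rfl
    exact h2 le_rfl
  · rintro ⟨h1, h2⟩
    exact ⟨h1, fun h => h2 (h1.antisymm h).eq⟩

theorem strictMono (h : Cyc.IsDimFun X δ) : StrictMono δ := fun a b hab => by
  obtain ⟨h1, h2⟩ := lt_iff.1 hab
  exact (h b a h1 h2).1

theorem le_of_specializes (h : Cyc.IsDimFun X δ) {x y : X} (hxy : x ⤳ y) : δ y ≤ δ x := by
  by_cases he : x = y
  · rw [he]
  · exact (h x y hxy he).1.le

theorem eq_of_specializes (h : Cyc.IsDimFun X δ) {x y : X} (hxy : x ⤳ y) (hd : δ x ≤ δ y) :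
    x = y := by
  by_contra he
  have := (h x y hxy he).1
  omega

theorem length_le (h : Cyc.IsDimFun X δ) (s : LTSeries X) :
    (s.length : ℤ) ≤ δ s.last - δ s.head := by
  induction s using RelSeries.inductionOn with
  | singleton a => simp
  | cons p a hlt ih =>
    have : δ a < δ p.head := strictMono h hlt
    simp only [RelSeries.cons_length, RelSeries.last_cons, RelSeries.head_cons]
    push_cast
    omega

theorem coheight_eq (h : Cyc.IsDimFun X δ) {η : X} : ∀ (n : ℕ) (ξ : X), η ⤳ ξ →
    (∀ z, z ⤳ ξ → η ⤳ z) → δ η = δ ξ + n → Order.coheight ξ = n := by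
  intro n
  induction n using Nat.strong_induction_on with
  | h n ih =>
    intro ξ hξ hgen hd
    refine le_antisymm (Order.coheight_le fun p hp => ?_) ?_
    · have h1 := length_le h p
      have h2 : δ p.last ≤ δ η := le_of_specializes h (hgen _ (hp ▸ p.head_le_last))
      rw [hp] at h1
      exact_mod_cast (show (p.length : ℤ) ≤ n by omega)
    · rcases Nat.eq_zero_or_pos n with rfl | hn
      · simp
      classical
      have hex : ∃ k : ℕ, ∃ z, z ⤳ ξ ∧ z ≠ ξ ∧ δ z = δ ξ + k :=
        ⟨n, η, hξ, fun he => by rw [he] at hd; omega, hd⟩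
      obtain ⟨z, hz, hzne, hzd⟩ := Nat.find_spec hex
      have himm : δ z = δ ξ + 1 := (h z ξ hz hzne).2 fun w hzw hwξ => by
        by_contra hw
        rw [not_or] at hw
        obtain ⟨hw1, hw2⟩ := hw
        have h3 := (h z w hzw fun he => hw1 he.symm).1
        have h4 := (h w ξ hwξ hw2).1
        exact Nat.find_min hex (m := (δ w - δ ξ).toNat) (by omega) ⟨w, hwξ, hw2, by omega⟩
      have h5 := ih (n - 1) (by omega) z (hgen z hz) (fun w hw => hgen w (hw.trans hz))
        (by push_cast [show 1 ≤ n from hn]; omega)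
      calc (n : ℕ∞) = Order.coheight z + 1 := by rw [h5]; exact_mod_cast (by omega : n = n - 1 + 1)
        _ ≤ Order.coheight ξ := Order.coheight_add_one_le (lt_iff.2 ⟨hz, hzne⟩)

theorem ringKrullDim_stalk (h : Cyc.IsDimFun X δ) [IsIntegral X] (ξ : X) :
    ∃ n : ℕ, δ (genericPoint X) = δ ξ + n ∧ ringKrullDim (X.presheaf.stalk ξ) = n := by
  have hle := le_of_specializes h (genericPoint_specializes ξ)
  refine ⟨(δ (genericPoint X) - δ ξ).toNat, by omega, ?_⟩
  rw [ringKrullDim_stalk_eq_coheight, coheight_eq h (δ (genericPoint X) - δ ξ).toNat ξ (genericPoint_specializes ξ)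
    (fun z _ => genericPoint_specializes z) (by omega)]
  rfl

theorem coheight_eq_zero_of_maximal {ξ : X} (h : ∀ z : X, z ⤳ ξ → z = ξ) :
    Order.coheight ξ = 0 :=
  Order.coheight_eq_zero.2 fun z hz => (h z hz).le

end Groth.Agent.CycLib
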