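import Groth.Agent.CycLib.DimFormula
import Groth.Agent.CycLib.DimFun
import Mathlib.AlgebraicGeometry.Morphisms.FiniteType
import Mathlib.AlgebraicGeometry.ResidueField

/-!
The function induced on a scheme locally of finite type by a dimension function on the base is a
dimension function.
-/

set_option linter.style.haveILetI false

namespace Groth.Agent.CycLib

open AlgebraicGeometry CategoryTheory

universe u

variable {X S : Scheme.{u}}

theorem ker_evaluation {U : X.Opens} (hU : IsAffineOpen U) {x : X} (hx : x ∈ U) :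
    RingHom.ker (X.evaluation U x hx).hom = (hU.primeIdealOf ⟨x, hx⟩).asIdeal := by
  ext a
  rw [hU.primeIdealOf_eq_map_closedPoint, RingHom.mem_ker]
  exact (IsLocalRing.residue_eq_zero_iff _)

theorem evaluation_surj {U : X.Opens} (hU : IsAffineOpen U) {x : X} (hx : x ∈ U)
    (z : X.residueField x) :
    ∃ a b, z = (X.evaluation U x hx).hom a / (X.evaluation U x hx).hom b := by
  obtain ⟨w, rfl⟩ := X.residue_surjective x z
  letI := TopCat.Presheaf.algebra_section_stalk X.presheaf (⟨x, hx⟩ : U)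
  haveI := hU.isLocalization_stalk ⟨x, hx⟩
  obtain ⟨⟨a, b⟩, h⟩ := IsLocalization.surj (hU.primeIdealOf ⟨x, hx⟩).asIdeal.primeCompl w
  refine ⟨a, b, ?_⟩
  have hb : (X.evaluation U x hx).hom b ≠ 0 := fun h0 => b.2
    ((SetLike.ext_iff.1 (ker_evaluation hU hx) _).1 h0)
  rw [eq_div_iff hb]
  exact ((map_mul (X.residue x).hom w _).symm.trans (congr_arg (X.residue x).hom h))

theorem evaluation_appLE (f : X ⟶ S) {V : S.Opens} {U : X.Opens} (hUV : U ≤ f ⁻¹ᵁ V) {x : X}
    (hx : x ∈ U) (a : Γ(S, V)) :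
    (X.evaluation U x hx).hom ((f.appLE V U hUV).hom a) =
      (f.residueFieldMap x).hom ((S.evaluation V (f x) (hUV hx)).hom a) := by
  have h := Scheme.evaluation_naturality_apply f x (hUV hx) a
  refine Eq.trans ?_ h.symm
  show X.residue x (X.presheaf.germ U x hx (f.appLE V U hUV a)) =
    X.residue x (X.presheaf.germ (f ⁻¹ᵁ V) x (hUV hx) (f.app V a))
  rw [Scheme.Hom.appLE]
  simp only [CommRingCat.comp_apply, TopCat.Presheaf.germ_res_apply]

theorem primeIdealOf_le_iff {U : X.Opens} (hU : IsAffineOpen U) (a b : PrimeSpectrum Γ(X, U)) :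
    a ≤ b ↔ hU.fromSpec a ⤳ hU.fromSpec b := by
  exact (PrimeSpectrum.le_iff_specializes a b).trans
    hU.fromSpec.isOpenEmbedding.isInducing.specializes_iff.symm

theorem liesOver_primeIdealOf (f : X ⟶ S) {V : S.Opens} (hV : IsAffineOpen V) {U : X.Opens}
    (hU : IsAffineOpen U) (hUV : U ≤ f ⁻¹ᵁ V) {y : X} (hy : y ∈ U) :
    letI := (f.appLE V U hUV).hom.toAlgebra
    (hU.primeIdealOf ⟨y, hy⟩).asIdeal.LiesOver (hV.primeIdealOf ⟨f y, hUV hy⟩).asIdeal :=
  letI := (f.appLE V U hUV).hom.toAlgebra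
  ⟨(congr_arg PrimeSpectrum.asIdeal (IsAffineOpen.comap_primeIdealOf_appLE V hV U hU hUV hy)).symm⟩

theorem trdeg_residueField_eq (f : X ⟶ S) {V : S.Opens} (hV : IsAffineOpen V) {U : X.Opens}
    (hU : IsAffineOpen U) (hUV : U ≤ f ⁻¹ᵁ V) {y : X} (hy : y ∈ U) :
    letI := (f.appLE V U hUV).hom.toAlgebra
    haveI := liesOver_primeIdealOf f hV hU hUV hy
    Algebra.trdeg (Γ(S, V) ⧸ (hV.primeIdealOf ⟨f y, hUV hy⟩).asIdeal)
        (Γ(X, U) ⧸ (hU.primeIdealOf ⟨y, hy⟩).asIdeal) =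
      (letI := (f.residueFieldMap y).hom.toAlgebra
       Algebra.trdeg (S.residueField (f y)) (X.residueField y)) := by
  letI := (f.appLE V U hUV).hom.toAlgebra
  haveI := liesOver_primeIdealOf f hV hU hUV hy
  letI := (f.residueFieldMap y).hom.toAlgebra
  exact (trdeg_eq_of_eval _ _ (S.evaluation V (f y) (hUV hy)).hom (X.evaluation U y hy).hom
    (fun a => evaluation_appLE f hUV hy a) (ker_evaluation hV _) (ker_evaluation hU _)
    (evaluation_surj hV _) (evaluation_surj hU _)).symm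

theorem isDimFun_of_deltaCompat (f : X ⟶ S) [LocallyOfFiniteType f] [IsLocallyNoetherian S]
    {δ : S → ℤ} (hcat : ∀ s, CAlg.IsUniversallyCatenary (S.presheaf.stalk s))
    (hS : Cyc.IsDimFun S δ) {δX : X → ℤ}
    (hδ : Cyc.DeltaCompat f δX δ) : Cyc.IsDimFun X δX := by
  intro x' x hsp hne
  obtain ⟨V, hV, hxV, -⟩ := exists_isAffineOpen_mem_and_subset (x := f x) (U := (⊤ : S.Opens)) trivial
  obtain ⟨U, hU, hxU, hUV⟩ := exists_isAffineOpen_mem_and_subset (x := x) (U := f ⁻¹ᵁ V) hxV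
  have hgen : ∀ z, z ⤳ x → z ∈ U := fun z hz => hz.mem_open U.2 hxU
  have hxU' := hgen x' hsp
  haveI : IsNoetherianRing Γ(S, V) := IsLocallyNoetherian.component_noetherian ⟨V, hV⟩
  letI := (f.appLE V U hUV).hom.toAlgebra
  haveI : Algebra.FiniteType Γ(S, V) Γ(X, U) := f.finiteType_appLE hV hU hUV
  let q := hU.primeIdealOf ⟨x', hxU'⟩
  let q' := hU.primeIdealOf ⟨x, hxU⟩
  let p := hV.primeIdealOf ⟨f x', hUV hxU'⟩
  let p' := hV.primeIdealOf ⟨f x, hUV hxU⟩
  haveI : q.asIdeal.LiesOver p.asIdeal :=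
    ⟨(congr_arg PrimeSpectrum.asIdeal (IsAffineOpen.comap_primeIdealOf_appLE V hV U hU hUV hxU')).symm⟩
  haveI : q'.asIdeal.LiesOver p'.asIdeal :=
    ⟨(congr_arg PrimeSpectrum.asIdeal (IsAffineOpen.comap_primeIdealOf_appLE V hV U hU hUV hxU)).symm⟩
  have hqq : q < q' := by
    refine lt_of_le_of_ne ((primeIdealOf_le_iff hU _ _).2 ?_) fun h => hne ?_
    · rwa [hU.fromSpec_primeIdealOf, hU.fromSpec_primeIdealOf]
    · have := congr_arg hU.fromSpec h
      rwa [hU.fromSpec_primeIdealOf, hU.fromSpec_primeIdealOf] at this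
  let δA : PrimeSpectrum Γ(S, V) → ℤ := fun a => δ (hV.fromSpec a)
  have hanti : StrictAnti δA := fun a b hab =>
    (hS _ _ ((primeIdealOf_le_iff hV a b).1 hab.le)
      (hV.fromSpec.isOpenEmbedding.injective.ne hab.ne)).1
  have hcov : ∀ a b, a ⋖ b → δA a = δA b + 1 := fun a b hab => by
    refine (hS _ _ ((primeIdealOf_le_iff hV a b).1 hab.le)
      (hV.fromSpec.isOpenEmbedding.injective.ne hab.ne)).2 fun z h1 h2 => ?_
    obtain ⟨c, rfl⟩ := h2.mem_open hV.fromSpec.isOpenEmbedding.isOpen_range ⟨b, rfl⟩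
    rcases hab.eq_or_eq ((primeIdealOf_le_iff hV a c).2 h1) ((primeIdealOf_le_iff hV c b).2 h2) with
      rfl | rfl
    · exact Or.inl rfl
    · exact Or.inr rfl
  have hpc : PolyCatAt Γ(S, V) p'.asIdeal := by
    letI := TopCat.Presheaf.algebra_section_stalk S.presheaf (⟨f x, hUV hxU⟩ : V)
    haveI := hV.isLocalization_stalk ⟨f x, hUV hxU⟩
    exact polyCatAt_of_isLocalization _ (S.presheaf.stalk (f x)) (hcat _)
  obtain ⟨n, hn, hn'⟩ := hδ x'
  obtain ⟨m, hm, hm'⟩ := hδ x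
  obtain ⟨h1, h2⟩ := rank_drop δA hanti hcov p p' q q' hqq hpc n m ((trdeg_residueField_eq f hV hU hUV hxU').trans hn)
    ((trdeg_residueField_eq f hV hU hUV hxU).trans hm)
  have e1 : δA p = δ (f x') := congr_arg δ (hV.fromSpec_primeIdealOf _)
  have e2 : δA p' = δ (f x) := congr_arg δ (hV.fromSpec_primeIdealOf _)
  rw [e1, e2] at h1 h2
  refine ⟨by omega, fun himm => ?_⟩
  have hqc : q ⋖ q' := by
    refine ⟨hqq, fun c hc1 hc2 => ?_⟩
    have h3 := (primeIdealOf_le_iff hU q c).1 hc1.le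
    have h4 := (primeIdealOf_le_iff hU c q').1 hc2.le
    rw [hU.fromSpec_primeIdealOf] at h3 h4
    rcases himm _ h3 h4 with h | h
    · exact hc1.ne' (hU.fromSpec.isOpenEmbedding.injective (h.trans (hU.fromSpec_primeIdealOf ⟨x', hxU'⟩).symm))
    · exact hc2.ne (hU.fromSpec.isOpenEmbedding.injective (h.trans (hU.fromSpec_primeIdealOf ⟨x, hxU⟩).symm))
  have := h2 hqc
  omega

end Groth.Agent.CycLib
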