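import Groth.Agent.FDesc.QuasiFlat
import Groth.Agent.QCoh.FiniteType
import Groth.Agent.QCoh.Qcqs
import Groth.Agent.S6292
import Groth.Agent.CycLib.SchemeDim
import Mathlib.AlgebraicGeometry.Noetherian
import Mathlib.AlgebraicGeometry.Morphisms.Finite
import Mathlib.RingTheory.Support

/-!
Stalks of quasi-coherent modules on affine opens as localisations; supports of coherent modules.
-/

set_option linter.style.haveILetI false

namespace Groth.Agent.CycLib

open AlgebraicGeometry CategoryTheory TopologicalSpace Groth.Agent Groth.Agent.PullStalk.Sky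

universe u

variable {X : Scheme.{u}} (M : X.Modules) {U : X.Opens} (hU : IsAffineOpen U) {x : X} (hx : x ∈ U)

theorem not_mem_primeIdealOf_iff (s : Γ(X, U)) :
    s ∉ (hU.primeIdealOf ⟨x, hx⟩).asIdeal ↔ IsUnit (X.presheaf.germ U x hx s) := by
  letI := TopCat.Presheaf.algebra_section_stalk X.presheaf (⟨x, hx⟩ : U)
  haveI := hU.isLocalization_stalk ⟨x, hx⟩
  exact (IsLocalization.AtPrime.isUnit_to_map_iff (X.presheaf.stalk x) _ s).symm

variable [M.IsQuasicoherent]

include hU in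
theorem exists_smul_germ_eq (t : M.presheaf.stalk x) :
    ∃ (m : Γ(M, U)) (s : Γ(X, U)), IsUnit (X.presheaf.germ U x hx s) ∧
      X.presheaf.germ U x hx s • t = germM M U x hx m := by
  obtain ⟨W, hxW, w, rfl⟩ := exists_germM_eq M x t
  obtain ⟨g, hgle, hxg⟩ := hU.exists_basicOpen_le ⟨x, hxW⟩ hx
  obtain ⟨n, m, hm⟩ := (QCoh.isLocalizingAt M hU g).surj (QCoh.res M hgle w)
  refine ⟨m, g ^ n, ?_, ?_⟩
  · rw [map_pow]; exact ((X.mem_basicOpen g x hx).mp hxg).pow n
  · have e1 : germM M (X.basicOpen g) x hxg (QCoh.res M (X.basicOpen_le g) m) = germM M U x hx m :=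
      M.presheaf.germ_res_apply _ x hxg m
    have e2 : germM M (X.basicOpen g) x hxg (QCoh.res M hgle w) = germM M W x hxW w :=
      M.presheaf.germ_res_apply _ x hxg w
    rw [← e1, ← e2, hm, germM_smul, map_pow, map_pow, QCoh.rres, X.presheaf.germ_res_apply]

include hU in
theorem exists_smul_eq_zero_of_germ_eq_zero (m : Γ(M, U)) (h : germM M U x hx m = 0) :
    ∃ s : Γ(X, U), IsUnit (X.presheaf.germ U x hx s) ∧ s • m = 0 := by
  obtain ⟨W, hxW, iU, _, hW⟩ := M.presheaf.germ_eq x hx hx m 0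
    (h.trans (map_zero (M.presheaf.germ U x hx).hom).symm)
  obtain ⟨g, hgle, hxg⟩ := hU.exists_basicOpen_le ⟨x, hxW⟩ hx
  have hz : QCoh.res M (X.basicOpen_le g) m = 0 := by
    have h0 : QCoh.res M iU.le m = 0 := hW.trans (map_zero _)
    rw [← QCoh.res_res M iU.le hgle, h0, map_zero]
  obtain ⟨n, hn⟩ := (QCoh.isLocalizingAt M hU g).eq_zero m hz
  exact ⟨g ^ n, by rw [map_pow]; exact ((X.mem_basicOpen g x hx).mp hxg).pow n, hn⟩

include hU in
theorem nontrivial_stalk_iff [Module.Finite Γ(X, U) Γ(M, U)] :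
    Nontrivial (M.presheaf.stalk x) ↔
      Module.annihilator Γ(X, U) Γ(M, U) ≤ (hU.primeIdealOf ⟨x, hx⟩).asIdeal := by
  constructor
  · intro hnt s hs
    by_contra hns
    obtain ⟨v, hv⟩ := (not_mem_primeIdealOf_iff hU hx s).1 hns
    obtain ⟨t, ht⟩ := exists_ne (0 : M.presheaf.stalk x)
    obtain ⟨m, r, hr, hrt⟩ := exists_smul_germ_eq M hU hx t
    have h0 : germM M U x hx (s • m) = 0 := by
      rw [Module.mem_annihilator.1 hs m]; exact map_zero (M.presheaf.germ U x hx).hom
    rw [germM_smul, ← hrt, ← hv, smul_smul] at h0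
    exact ht ((v.isUnit.mul hr).smul_eq_zero.1 h0)
  · intro hle
    by_contra hnt
    rw [not_nontrivial_iff_subsingleton] at hnt
    classical
    obtain ⟨S, hS⟩ := Module.Finite.fg_top (R := Γ(X, U)) (M := Γ(M, U))
    choose s hs hsm using fun m : Γ(M, U) =>
      exists_smul_eq_zero_of_germ_eq_zero M hU hx m (Subsingleton.elim _ _)
    have hp : ∏ m ∈ S, s m ∉ (hU.primeIdealOf ⟨x, hx⟩).asIdeal := by
      rw [not_mem_primeIdealOf_iff hU hx, map_prod]
      exact IsUnit.prod_iff.2 fun m _ => hs m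
    refine hp (hle (Module.mem_annihilator.2 fun m => ?_))
    have hm : m ∈ Submodule.span Γ(X, U) (S : Set Γ(M, U)) := hS ▸ Submodule.mem_top
    induction hm using Submodule.span_induction with
    | mem y hy =>
      obtain ⟨k, hk⟩ := Finset.dvd_prod_of_mem s hy
      rw [hk, mul_comm, mul_smul, hsm y, smul_zero]
    | zero => exact smul_zero _
    | add a b _ _ ha hb => rw [smul_add, ha, hb, add_zero]
    | smul c a _ ha => rw [smul_comm, ha, smul_zero]

theorem isClosed_support (hM : Coh.IsCoh M) :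
    IsClosed {x : X | Nontrivial (M.presheaf.stalk x)} := by
  haveI := hM.2
  rw [← isOpen_compl_iff, isOpen_iff_forall_mem_open]
  intro x hx
  obtain ⟨U, hU, hxU, -⟩ := exists_isAffineOpen_mem_and_subset (Opens.mem_top x)
  haveI := QCoh.finite_sections_of_isFiniteType M hU
  obtain ⟨s, hsA, hsp⟩ := SetLike.not_le_iff_exists.1 (fun h => hx ((nontrivial_stalk_iff M hU hxU).2 h))
  refine ⟨X.basicOpen s, fun y hy hnt => ?_, (X.basicOpen s).2, ?_⟩
  · have hyU : y ∈ U := X.basicOpen_le s hy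
    exact (not_mem_primeIdealOf_iff hU hyU s).2 ((X.mem_basicOpen s y hyU).1 hy)
      ((nontrivial_stalk_iff M hU hyU).1 hnt hsA)
  · exact (X.mem_basicOpen s x hxU).2 ((not_mem_primeIdealOf_iff hU hxU s).1 hsp)

/-- At a point of the support with no proper generalisation in the support, the stalk of a coherent
module has finite length. -/
theorem length_stalk_lt_top [IsLocallyNoetherian X] (hM : Coh.IsCoh M) (x : X)
    (h : ∀ y : X, Nontrivial (M.presheaf.stalk y) → y ⤳ x → y = x) :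
    Module.length (X.presheaf.stalk x) (M.presheaf.stalk x) < ⊤ := by
  haveI := FDesc.QuasiFlat.finite_stalk_of_isCoh M hM x
  obtain ⟨U, hU, hx, -⟩ := exists_isAffineOpen_mem_and_subset (Opens.mem_top x)
  letI := TopCat.Presheaf.algebra_section_stalk X.presheaf (⟨x, hx⟩ : U)
  haveI := hU.isLocalization_stalk ⟨x, hx⟩
  let O := X.presheaf.stalk x
  have hsupp : ∀ Q : PrimeSpectrum O,
      Module.annihilator O (M.presheaf.stalk x) ≤ Q.asIdeal → Q.asIdeal = IsLocalRing.maximalIdeal O := by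
    intro Q hQ
    by_contra hne
    have hQs : Q ∈ Module.support O (M.presheaf.stalk x) := by
      rw [Module.support_eq_zeroLocus]; exact hQ
    obtain ⟨t, ht⟩ := Module.mem_support_iff'.1 hQs
    obtain ⟨m, r, hr, hrt⟩ := exists_smul_germ_eq M hU hx t
    let q : PrimeSpectrum Γ(X, U) := PrimeSpectrum.comap (X.presheaf.germ U x hx).hom Q
    let y : X := hU.fromSpec q
    have hyU : y ∈ U := hU.range_fromSpec.subset ⟨q, rfl⟩
    have hq : hU.primeIdealOf ⟨y, hyU⟩ = q :=
      hU.fromSpec.isOpenEmbedding.injective (hU.fromSpec_primeIdealOf _)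
    have hqle : q ≤ hU.primeIdealOf ⟨x, hx⟩ := fun a ha => by
      by_contra hna
      exact Q.2.ne_top (Ideal.eq_top_of_isUnit_mem _ ha ((not_mem_primeIdealOf_iff hU hx a).1 hna))
    have hyx : y ⤳ x := by
      have := (primeIdealOf_le_iff hU _ _).1 hqle
      rwa [hU.fromSpec_primeIdealOf] at this
    have hneq : y ≠ x := by
      intro e
      refine hne ?_
      have e' : q = hU.primeIdealOf ⟨x, hx⟩ := hq.symm.trans (by congr 1; exact Subtype.ext e)
      apply (IsLocalization.orderEmbedding (hU.primeIdealOf ⟨x, hx⟩).asIdeal.primeCompl O).injective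
      show Q.asIdeal.comap (algebraMap Γ(X, U) O) = (IsLocalRing.maximalIdeal O).comap _
      exact (congr_arg PrimeSpectrum.asIdeal e').trans
        (IsLocalization.AtPrime.comap_maximalIdeal O (hU.primeIdealOf ⟨x, hx⟩).asIdeal).symm
    have hsub : Subsingleton (M.presheaf.stalk y) :=
      not_nontrivial_iff_subsingleton.1 fun hnt => hneq (h y hnt hyx)
    obtain ⟨s, hs, hsm⟩ := exists_smul_eq_zero_of_germ_eq_zero M hU hyU m (Subsingleton.elim _ _)
    have hsq : s ∉ q.asIdeal := hq ▸ (not_mem_primeIdealOf_iff hU hyU s).2 hs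
    refine ht (X.presheaf.germ U x hx s) hsq ?_
    have h0 : germM M U x hx (s • m) = 0 := by
      rw [hsm]; exact map_zero (M.presheaf.germ U x hx).hom
    rw [germM_smul, ← hrt, smul_comm] at h0
    exact hr.smul_eq_zero.1 h0
  have hrad : IsLocalRing.maximalIdeal O ≤ (Module.annihilator O (M.presheaf.stalk x)).radical := by
    rw [Ideal.radical_eq_sInf]
    refine le_sInf fun J hJ => ?_
    haveI := hJ.2
    exact (hsupp ⟨J, hJ.2⟩ hJ.1).ge
  obtain ⟨n, hn⟩ := Ideal.exists_pow_le_of_le_radical_of_fg hrad (IsNoetherian.noetherian _)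
  refine (Module.length_ne_top_iff.2 (S6292.result (IsLocalRing.maximalIdeal O) (IsNoetherian.noetherian _) _ n ?_)).lt_top
  rw [eq_bot_iff, Submodule.smul_le]
  intro a ha b _
  rw [Submodule.mem_bot]
  exact Module.mem_annihilator.1 (hn ha) b

/-- Support of a pushforward along a finite morphism. -/
theorem exists_of_nontrivial_stalk_push {Y : Scheme.{u}} (π : X ⟶ Y) [IsFinite π] (hM : Coh.IsCoh M)
    (y : Y) (hy : Nontrivial (((Coh.push π).obj M).presheaf.stalk y)) :
    ∃ x : X, π x = y ∧ Nontrivial (M.presheaf.stalk x) := by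
  haveI := hM.2
  obtain ⟨V, hV, hyV, -⟩ := exists_isAffineOpen_mem_and_subset (Opens.mem_top y)
  have hW : IsAffineOpen (π ⁻¹ᵁ V) := hV.preimage π
  let N := (Coh.push π).obj M
  haveI : N.IsQuasicoherent := QCoh.isQuasicoherent_pushforward π M
  haveI := QCoh.finite_sections_of_isFiniteType M hW
  let A := Γ(Y, V)
  let B := Γ(X, π ⁻¹ᵁ V)
  let φ : A →+* B := (π.app V).hom
  letI := φ.toAlgebra
  haveI : Module.Finite A B := IsFinite.finite_app π V hV
  have hann : Module.annihilator A Γ(N, V) =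
      (Module.annihilator B Γ(M, π ⁻¹ᵁ V)).comap (algebraMap A B) := by
    ext a
    rw [Ideal.mem_comap, Module.mem_annihilator, Module.mem_annihilator]
    exact Iff.rfl
  have hle : Module.annihilator A Γ(N, V) ≤ (hV.primeIdealOf ⟨y, hyV⟩).asIdeal := by
    intro a ha
    by_contra hna
    obtain ⟨t, ht⟩ := exists_ne (0 : N.presheaf.stalk y)
    obtain ⟨m, r, hr, hrt⟩ := exists_smul_germ_eq N hV hyV t
    have h0 : germM N V y hyV (a • m) = 0 := by
      rw [Module.mem_annihilator.1 ha m]; exact map_zero (N.presheaf.germ V y hyV).hom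
    rw [germM_smul, ← hrt, smul_smul] at h0
    exact ht ((((not_mem_primeIdealOf_iff hV hyV a).1 hna).mul hr).smul_eq_zero.1 h0)
  rw [hann] at hle
  obtain ⟨Q, hQge, hQp, hQc⟩ := Ideal.exists_ideal_over_prime_of_isIntegral
    (hV.primeIdealOf ⟨y, hyV⟩).asIdeal _ hle
  let x : X := hW.fromSpec ⟨Q, hQp⟩
  have hxW : x ∈ π ⁻¹ᵁ V := hW.range_fromSpec.subset ⟨⟨Q, hQp⟩, rfl⟩
  have hprime : hW.primeIdealOf ⟨x, hxW⟩ = ⟨Q, hQp⟩ :=
    hW.fromSpec.isOpenEmbedding.injective (hW.fromSpec_primeIdealOf _)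
  refine ⟨x, ?_, (nontrivial_stalk_iff M hW hxW).2 (by rw [hprime]; exact hQge)⟩
  have hc := IsAffineOpen.comap_primeIdealOf_appLE (f := π) V hV (π ⁻¹ᵁ V) hW le_rfl hxW
  rw [hprime] at hc
  have he : hV.primeIdealOf ⟨π x, hxW⟩ = hV.primeIdealOf ⟨y, hyV⟩ := by
    rw [← hc]
    refine PrimeSpectrum.ext ?_
    rw [Scheme.Hom.appLE_eq_app] 
    exact hQc
  have := congr_arg hV.fromSpec he
  rwa [hV.fromSpec_primeIdealOf, hV.fromSpec_primeIdealOf] at this

theorem isCoh_push {Y : Scheme.{u}} (π : X ⟶ Y) [IsFinite π] (hM : Coh.IsCoh M) :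
    Coh.IsCoh ((Coh.push π).obj M) := by
  haveI := hM.2
  haveI : ((Coh.push π).obj M).IsQuasicoherent := QCoh.isQuasicoherent_pushforward π M
  refine ⟨inferInstance, (QCoh.isFiniteType_iff _).2 fun V hV => ?_⟩
  let φ : Γ(Y, V) →+* Γ(X, π ⁻¹ᵁ V) := (π.app V).hom
  letI := φ.toAlgebra
  haveI : Module.Finite Γ(Y, V) Γ(X, π ⁻¹ᵁ V) := IsFinite.finite_app π V hV
  haveI := QCoh.finite_sections_of_isFiniteType M (hV.preimage π)
  letI : Module Γ(Y, V) Γ(M, π ⁻¹ᵁ V) :=
    show Module Γ(Y, V) Γ((Coh.push π).obj M, V) from inferInstance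
  haveI : IsScalarTower Γ(Y, V) Γ(X, π ⁻¹ᵁ V) Γ(M, π ⁻¹ᵁ V) :=
    ⟨fun a b m => mul_smul (φ a) b m⟩
  have := Module.Finite.trans (R := Γ(Y, V)) Γ(X, π ⁻¹ᵁ V) Γ(M, π ⁻¹ᵁ V)
  exact this

end Groth.Agent.CycLib
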