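import Groth.Agent.CycLib.DevK0Class

/-!
Coproducts of modules supported on closures of points, and their stalks.
-/

set_option autoImplicit false
set_option linter.style.haveILetI false

universe u

open CategoryTheory Limits AlgebraicGeometry IsLocalRing

namespace Groth.Agent.CycLib.Dev

open Groth.Agent.PullStalk.Sky Groth.Agent.PullStalk.Exact Groth.Agent.Props.SubMod Groth.Agent.Props.SubSheaf

variable {X : Scheme.{u}}

theorem exists_stalk_sigma' {ι : Type u} (F : ι → X.Modules) {κ : Type} [Fintype κ] (f : κ → ι)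
    (hf : Function.Injective f) (x : X) (hs : ∀ i, i ∉ Set.range f → Subsingleton ((F i).presheaf.stalk x)) :
    ∃ e : (∀ j : κ, (F (f j)).presheaf.stalk x) ≃ₗ[X.presheaf.stalk x] (∐ F).presheaf.stalk x,
      ∀ v, e v = ∑ j : κ, stalkLin (Sigma.ι F (f j)) x (v j) := by
  classical
  let s : Finset ι := Finset.univ.map ⟨f, hf⟩
  obtain ⟨e, he⟩ := exists_stalk_sigma F s x fun i hi => hs i fun ⟨j, hj⟩ => hi (hj ▸ Finset.mem_map_of_mem _ (Finset.mem_univ j))
  let q : κ ≃ s := Equiv.ofBijective (fun j => ⟨f j, Finset.mem_map_of_mem _ (Finset.mem_univ j)⟩)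
    ⟨fun i j h => hf (congrArg Subtype.val h), fun ⟨i, hi⟩ => by
      obtain ⟨j, -, rfl⟩ := Finset.mem_map.1 hi
      exact ⟨j, rfl⟩⟩
  refine ⟨(LinearEquiv.piCongrLeft (X.presheaf.stalk x) (fun i : s => (F i.1).presheaf.stalk x) q).trans e,
    fun v => ?_⟩
  refine (he _).trans ?_
  rw [← q.sum_comp (fun i : s => stalkLin (Sigma.ι F i.1) x _)]
  refine Finset.sum_congr rfl fun j _ => ?_
  show stalkLin (Sigma.ι F (f j)) x _ = _
  congr 1
  exact Equiv.piCongrLeft_apply_apply (fun i : s => (F i.1).presheaf.stalk x) q v j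

/-- The stalk of a biproduct. -/
theorem nonempty_biprod_stalk (A B : X.Modules) (x : X) :
    Nonempty ((A ⊞ B).presheaf.stalk x ≃ₗ[X.presheaf.stalk x] A.presheaf.stalk x × B.presheaf.stalk x) := by
  refine ⟨LinearEquiv.ofLinear ((stalkLin (biprod.fst : A ⊞ B ⟶ A) x).prod (stalkLin (biprod.snd : A ⊞ B ⟶ B) x))
    ((stalkLin (biprod.inl : A ⟶ A ⊞ B) x).coprod (stalkLin (biprod.inr : B ⟶ A ⊞ B) x)) ?_ ?_⟩
  · refine LinearMap.ext fun p => ?_
    simp only [LinearMap.comp_apply, LinearMap.prod_apply, Function.prod, LinearMap.coprod_apply, map_add,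
      ← CohDev.stalkLin_comp_apply, biprod.inl_fst, biprod.inl_snd, biprod.inr_fst, biprod.inr_snd,
      CohDev.stalkLin_id_apply, CohDev.stalkLin_zero_apply, Prod.mk_add_mk, add_zero, zero_add, LinearMap.id_apply]
  · refine LinearMap.ext fun t => ?_
    simp only [LinearMap.comp_apply, LinearMap.prod_apply, Function.prod, LinearMap.coprod_apply,
      ← CohDev.stalkLin_comp_apply, LinearMap.id_apply]
    rw [← CohDev.stalkLin_add_apply, biprod.total, CohDev.stalkLin_id_apply]

theorem stalk_exact_cokernel {A B : X.Modules} (g : A ⟶ B) (x : X) :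
    Function.Exact (stalkLin g x) (stalkLin (cokernel.π g) x) := by
  intro t
  refine ⟨fun h => ?_, ?_⟩
  · have hS : (ShortComplex.mk (Abelian.image.ι g) (cokernel.π g) (kernel.condition _)).ShortExact :=
      { exact := (ShortComplex.mk (Abelian.image.ι g) (cokernel.π g) (kernel.condition _)).exact_of_f_is_kernel
          (kernelIsKernel _)
        mono_f := inferInstanceAs (Mono (Abelian.image.ι g))
        epi_g := inferInstanceAs (Epi (cokernel.π g)) }
    obtain ⟨w, hw⟩ := ((stalk_exact hS x).2.1 t).1 h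
    obtain ⟨v, rfl⟩ := stalk_surjective (Abelian.factorThruImage g) x w
    refine ⟨v, ?_⟩
    rw [← hw]
    show stalkLin g x v = stalkLin (Abelian.image.ι g) x (stalkLin (Abelian.factorThruImage g) x v)
    rw [← CohDev.stalkLin_comp_apply, Abelian.image.fac]
  · rintro ⟨v, rfl⟩
    rw [← CohDev.stalkLin_comp_apply, cokernel.condition, CohDev.stalkLin_zero_apply]

/-- The inclusion of a subsheaf into a larger one. -/
theorem exists_sub_hom {M : X.Modules} {S' S : StalkSub M} (h : ∀ y, S' y ≤ S y) :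
    ∃ j : sub S' ⟶ sub S, j ≫ incl S = incl S' := by
  have hz : incl S' ≫ toQuot S = 0 := by
    refine Pi.hom_ext _ _ fun y => ?_
    rw [zero_comp, Category.assoc, toQuot, Pi.lift_π]
    ext U m
    funext hy
    refine (toSky_app (S y).mkQ U ((incl S').app U m) hy).trans ((Submodule.Quotient.mk_eq_zero _).2 ?_)
    exact h y ((mem_range_incl S' _).1 ⟨m, rfl⟩ y hy.down)
  exact ⟨kernel.lift _ _ hz, kernel.lift_ι _ _ _⟩

variable [IsLocallyNoetherian X] {δ : X → ℤ}

theorem cohLe_sigma {a : ℤ} {ι : Type u} (F : ι → X.Modules) (hF : ∀ i, Cyc.CohLe δ a (F i))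
    (hlf : ∀ U : X.Opens, IsAffineOpen U →
      ∃ s : Finset ι, ∀ i ∉ s, ∀ x ∈ U, Subsingleton ((F i).presheaf.stalk x)) :
    Cyc.CohLe δ a (∐ F) := by
  refine ⟨isCoh_sigma_of_locallyFinite F (fun i => (hF i).1) hlf, fun x hx => ?_⟩
  obtain ⟨U, hU, hxU, -⟩ := exists_isAffineOpen_mem_and_subset (x := x) (U := ⊤) trivial
  obtain ⟨s, hs⟩ := hlf U hU
  obtain ⟨e, -⟩ := exists_stalk_sigma F s x fun i hi => hs i hi x hxU
  by_contra hh
  haveI : ∀ i : s, Subsingleton ((F i.1).presheaf.stalk x) := fun i =>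
    not_nontrivial_iff_subsingleton.1 fun hn => hh ((hF i.1).2 x hn)
  haveI : Subsingleton ((∐ F).presheaf.stalk x) := e.symm.injective.subsingleton
  exact not_nontrivial_iff_subsingleton.2 ‹_› hx

end Groth.Agent.CycLib.Dev
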