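import Groth.Agent.PullStalk.Sky
import Groth.Prelude.Def_Cyc
import Groth.Prelude.Def_Coh
import Mathlib.AlgebraicGeometry.Morphisms.ClosedImmersion
import Mathlib.LinearAlgebra.Isomorphisms

/-!
Stalks of the push-forward of the structure module along a closed immersion.
-/

set_option linter.style.haveILetI false

namespace Groth.Agent.CycLib

open AlgebraicGeometry CategoryTheory TopologicalSpace Groth.Agent.PullStalk.Sky Opposite

universe u

variable {X Z : Scheme.{u}} (i : Z ⟶ X)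

set_option quotPrecheck false in
local notation "P" => (Coh.push i).obj (Coh.structureModule Z)

/-- A function on `i⁻¹ W` as a section of the pushforward. -/
abbrev mkPush {W : X.Opens} (s : Γ(Z, i ⁻¹ᵁ W)) : Γ(P, W) := s

theorem res_mkPush {W W' : X.Opens} (h : W' ≤ W) (s : Γ(Z, i ⁻¹ᵁ W)) :
    (P).presheaf.map (homOfLE h).op (mkPush i s) =
      mkPush i (Z.presheaf.map (homOfLE (i.preimage_mono h)).op s) := rfl

theorem smul_mkPush {W : X.Opens} (r : Γ(X, W)) (s : Γ(Z, i ⁻¹ᵁ W)) :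
    r • mkPush i s = mkPush i (i.app W r * s) := rfl

theorem subsingleton_stalk_push_of_not_mem [IsClosedImmersion i] {x : X} (hx : x ∉ Set.range i) :
    Subsingleton ((P).presheaf.stalk x) := by
  refine subsingleton_of_forall_eq 0 fun t => ?_
  obtain ⟨W, hxW, w, rfl⟩ := exists_germM_eq P x t
  let W' : X.Opens := ⟨(Set.range i)ᶜ, i.isClosedEmbedding.isClosed_range.isOpen_compl⟩
  have hW : i ⁻¹ᵁ (W ⊓ W') = ⊥ := by
    ext z
    simp only [Scheme.Hom.coe_preimage, Set.mem_preimage, SetLike.mem_coe, Opens.coe_bot,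
      Set.mem_empty_iff_false, iff_false]
    exact fun h => h.2 ⟨z, rfl⟩
  have hsub : Subsingleton Γ(Z, i ⁻¹ᵁ (W ⊓ W')) := by rw [hW]; infer_instance
  rw [germM, ← (P).presheaf.germ_res_apply (homOfLE (inf_le_left : W ⊓ W' ≤ W)) x ⟨hxW, hx⟩]
  have : (P).presheaf.map (homOfLE (inf_le_left : W ⊓ W' ≤ W)).op w = 0 := hsub.elim _ _
  rw [this, map_zero]

variable (z : Z)

/-- `r ↦ r • 1`. -/
noncomputable def toPushStalk : X.presheaf.stalk (i z) →ₗ[X.presheaf.stalk (i z)] (P).presheaf.stalk (i z) :=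
  LinearMap.toSpanSingleton _ _ (germM P ⊤ (i z) trivial (mkPush i 1))

theorem toPushStalk_germ {W : X.Opens} (hW : i z ∈ W) (r : Γ(X, W)) :
    toPushStalk i z (X.presheaf.germ W (i z) hW r) = germM P W (i z) hW (mkPush i (i.app W r)) := by
  show X.presheaf.germ W (i z) hW r • germM P ⊤ (i z) trivial (mkPush i 1) = _
  rw [show germM P ⊤ (i z) trivial (mkPush i 1) = germM P W (i z) hW
    ((P).presheaf.map (homOfLE le_top).op (mkPush i 1)) from
      ((P).presheaf.germ_res_apply (homOfLE (le_top : W ≤ ⊤)) (i z) hW _).symm, ← germM_smul,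
    res_mkPush, smul_mkPush]
  congr 1
  show mkPush i (i.app W r * Z.presheaf.map _ 1) = _
  rw [map_one, mul_one]

variable [IsClosedImmersion i]

theorem germM_eq_of_germ_eq {W : X.Opens} (hW : i z ∈ W) {s s' : Γ(Z, i ⁻¹ᵁ W)}
    (h : Z.presheaf.germ (i ⁻¹ᵁ W) z hW s = Z.presheaf.germ (i ⁻¹ᵁ W) z hW s') :
    germM P W (i z) hW (mkPush i s) = germM P W (i z) hW (mkPush i s') := by
  obtain ⟨N, hzN, j, _, hN⟩ := Z.presheaf.germ_eq z hW hW s s' h
  obtain ⟨O, hO, hON⟩ := i.isClosedEmbedding.isInducing.isOpen_iff.1 N.2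
  let W' : X.Opens := W ⊓ ⟨O, hO⟩
  have hle : i ⁻¹ᵁ W' ≤ N := fun w hw => by
    have : w ∈ i ⁻¹' O := hw.2
    rwa [hON] at this
  have hzW' : i z ∈ W' := ⟨hW, show z ∈ i ⁻¹' O by rw [hON]; exact hzN⟩
  refine (P).presheaf.germ_ext W' hzW' (homOfLE inf_le_left) (homOfLE inf_le_left) ?_
  have := congr_arg (Z.presheaf.map (homOfLE hle).op) hN
  simp only [← ConcreteCategory.comp_apply, ← Functor.map_comp] at this
  exact this

theorem toPushStalk_surjective : Function.Surjective (toPushStalk i z) := by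
  intro t
  obtain ⟨W, hW, s, rfl⟩ := exists_germM_eq P (i z) t
  obtain ⟨c, hc⟩ := i.stalkMap_surjective z (Z.presheaf.germ (i ⁻¹ᵁ W) z hW (show Γ(Z, i ⁻¹ᵁ W) from s))
  obtain ⟨W₀, hW₀, r, rfl⟩ := X.presheaf.exists_germ_eq (x := i z) c
  let W₁ : X.Opens := W ⊓ W₀
  have h₁ : i z ∈ W₁ := ⟨hW, hW₀⟩
  refine ⟨X.presheaf.germ W₀ (i z) hW₀ r, ?_⟩
  rw [← X.presheaf.germ_res_apply (homOfLE (inf_le_right : W₁ ≤ W₀)) (i z) h₁ r, toPushStalk_germ]
  refine Eq.trans ?_ ((P).presheaf.germ_res_apply (homOfLE (inf_le_left : W₁ ≤ W)) (i z) h₁ s)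
  refine germM_eq_of_germ_eq i z h₁ ?_
  rw [← Scheme.Hom.germ_stalkMap_apply, X.presheaf.germ_res_apply, hc]
  exact (Z.presheaf.germ_res_apply (homOfLE (i.preimage_mono inf_le_left)) z h₁ _).symm

theorem toPushStalk_ker :
    LinearMap.ker (toPushStalk i z) = RingHom.ker (i.stalkMap z).hom := by
  ext c
  obtain ⟨W, hW, r, rfl⟩ := X.presheaf.exists_germ_eq (x := i z) c
  rw [LinearMap.mem_ker, RingHom.mem_ker, toPushStalk_germ]
  show _ ↔ i.stalkMap z (X.presheaf.germ W (i z) hW r) = 0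
  rw [Scheme.Hom.germ_stalkMap_apply]
  constructor
  · intro h
    obtain ⟨W', hW', j, j', e⟩ := (P).presheaf.germ_eq (i z) hW hW _ 0
      (h.trans (map_zero ((P).presheaf.germ W (i z) hW).hom).symm)
    rw [map_zero] at e
    replace e : Z.presheaf.map (homOfLE (i.preimage_mono j.le)).op (i.app W r) = 0 := e
    rw [← Z.presheaf.germ_res_apply (homOfLE (i.preimage_mono j.le)) z hW' (i.app W r), e, map_zero]
  · intro h
    have := germM_eq_of_germ_eq i z hW (s := i.app W r) (s' := 0) (h.trans (map_zero _).symm)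
    exact this.trans (map_zero ((P).presheaf.germ W (i z) hW).hom)

theorem length_stalk_push :
    Module.length (X.presheaf.stalk (i z)) ((P).presheaf.stalk (i z)) =
      Module.length (Z.presheaf.stalk z) (Z.presheaf.stalk z) := by
  letI := (i.stalkMap z).hom.toAlgebra
  rw [← ((Submodule.quotEquivOfEq _ _ (toPushStalk_ker i z)).symm.trans
    (LinearMap.quotKerEquivOfSurjective _ (toPushStalk_surjective i z))).length_eq]
  have e : LinearMap.ker (Algebra.linearMap (X.presheaf.stalk (i z)) (Z.presheaf.stalk z)) =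
      RingHom.ker (i.stalkMap z).hom := rfl
  rw [← e, ((Algebra.linearMap (X.presheaf.stalk (i z))
    (Z.presheaf.stalk z)).quotKerEquivOfSurjective (i.stalkMap_surjective z)).length_eq]
  exact Module.length_eq_of_surjective (i.stalkMap_surjective z)

end Groth.Agent.CycLib
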