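import Groth.Agent.CycLib.SchemeDim
import Groth.Agent.VarDim.Scheme
import Groth.Agent.RadPtLib.Basic

/-!
Residue field transcendence degrees computed on the fibres, and fibre dimensions.
-/

set_option linter.style.haveILetI false

namespace Groth.Agent.CycLib

open AlgebraicGeometry CategoryTheory Groth.Agent.VarDim

universe u

attribute [local instance] Curv2.resAlgebra

/-- dimension of the closure of a point in the specialisation order -/
theorem topologicalKrullDim_closure (X : Scheme.{u}) (z : X) :
    topologicalKrullDim (closure ({z} : Set X)) = (Order.height z : WithBot ℕ∞) := by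
  haveI : QuasiSober (closure ({z} : Set X)) :=
    (isClosed_closure.isClosedEmbedding_subtypeVal).quasiSober
  rw [Order.height_eq_krullDim_Iic]
  let e : TopologicalSpace.IrreducibleCloseds (closure ({z} : Set X)) ≃ Set.Iic z :=
    irreducibleSetEquivPoints.toEquiv.trans
      { toFun := fun w => ⟨w.1, specializes_iff_mem_closure.2 w.2⟩
        invFun := fun w => ⟨w.1, specializes_iff_mem_closure.1 w.2⟩
        left_inv := fun w => rfl
        right_inv := fun w => rfl }
  exact Order.krullDim_eq_of_orderIso
    { toEquiv := e
      map_rel_iff' := fun {a b} => (subtype_specializes_iff (irreducibleSetEquivPoints b)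
        (irreducibleSetEquivPoints a)).symm.trans irreducibleSetEquivPoints.map_rel_iff' }

theorem evaluation_bijective (k : Type u) [Field k] (w : Spec (CommRingCat.of k)) :
    Function.Bijective (fun c : k => (Spec (CommRingCat.of k)).evaluation ⊤ w trivial
      ((Scheme.ΓSpecIso (CommRingCat.of k)).inv c)) := by
  let e : k →+* (Spec (CommRingCat.of k)).residueField w :=
    ((Spec (CommRingCat.of k)).evaluation ⊤ w trivial).hom.comp (Scheme.ΓSpecIso (CommRingCat.of k)).inv.hom
  refine ⟨e.injective, fun z => ?_⟩
  obtain ⟨a, b, rfl⟩ := evaluation_surj (isAffineOpen_top _) (trivial : w ∈ (⊤ : (Spec (CommRingCat.of k)).Opens)) z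
  obtain ⟨a, rfl⟩ := (ConcreteCategory.bijective_of_isIso (Scheme.ΓSpecIso (CommRingCat.of k)).inv).2 a
  obtain ⟨b, rfl⟩ := (ConcreteCategory.bijective_of_isIso (Scheme.ΓSpecIso (CommRingCat.of k)).inv).2 b
  exact ⟨a / b, map_div₀ e a b⟩

variable {X Y : Scheme.{u}} (f : X ⟶ Y) [LocallyOfFiniteType f] (y : Y)

instance locallyOfFiniteType_fiberToSpecResidueField :
    LocallyOfFiniteType (f.fiberToSpecResidueField y) :=
  MorphismProperty.pullback_snd _ _ inferInstance

theorem trdeg_fibre (z : f.fiber y) :
    letI := f.fiberOverSpecResidueField y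
    @Algebra.trdeg (Y.residueField (f (f.fiberι y z))) (X.residueField (f.fiberι y z)) _ _
      (f.residueFieldMap (f.fiberι y z)).hom.toAlgebra =
      dimPt (Y.residueField y) (f.fiber y) z := by
  letI := f.fiberOverSpecResidueField y
  haveI : LocallyOfFiniteType ((f.fiber y) ↘ Spec (CommRingCat.of (Y.residueField y))) :=
    locallyOfFiniteType_fiberToSpecResidueField f y
  rw [← trdeg_residueField (Y.residueField y) (f.fiber y) z]
  let g := f.fiberToSpecResidueField y
  let c := Scheme.residueFieldCongr (X := Y) (x := (f.fiberι y ≫ f) z)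
    (y := (g ≫ Y.fromSpecResidueField y) z) (by rw [Scheme.Hom.fiber_fac f y])
  have h' : ((f.fiberι y).residueFieldMap z).hom.comp (f.residueFieldMap (f.fiberι y z)).hom =
      (g.residueFieldMap z).hom.comp
        (((Y.fromSpecResidueField y).residueFieldMap (g z)).hom.comp c.hom.hom) := by
    have h := Scheme.Hom.residueFieldMap_congr (Scheme.Hom.fiber_fac f y) z
    simp only [Scheme.residueFieldMap_comp] at h
    have := congrArg CommRingCat.Hom.hom h
    simp only [CommRingCat.hom_comp, RingHom.comp_assoc] at this
    exact this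
  have h1 := RadPtLib.residueFieldMap_bijective (f.fiberι y) z
  have hd : Function.Bijective
      (((Y.fromSpecResidueField y).residueFieldMap (g z)).hom.comp c.hom.hom) :=
    (RadPtLib.residueFieldMap_bijective (Y.fromSpecResidueField y) (g z)).comp
      (ConcreteCategory.bijective_of_isIso c.hom)
  let e := RingEquiv.ofBijective ((((Spec (Y.residueField y)).evaluation ⊤ (g z) trivial).hom.comp
    (Scheme.ΓSpecIso (Y.residueField y)).inv.hom)) (evaluation_bijective (Y.residueField y) (g z))
  let eR := (RingEquiv.ofBijective _ hd).trans e.symm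
  letI := (f.residueFieldMap (f.fiberι y z)).hom.toAlgebra
  haveI : FaithfulSMul (Y.residueField y) ((f.fiber y).residueField z) :=
    (faithfulSMul_iff_algebraMap_injective _ _).2 (RingHom.injective _)
  refine trdeg_congr eR (RingEquiv.ofBijective _ h1) fun a => ?_
  show ((f.fiberι y).residueFieldMap z).hom.comp (f.residueFieldMap (f.fiberι y z)).hom a = _
  rw [h']
  show (g.residueFieldMap z).hom _ = Curv2.resMap (Y.residueField y) (f.fiber y) z (eR a)
  rw [show (((Y.fromSpecResidueField y).residueFieldMap (g z)).hom.comp c.hom.hom) a = e (eR a) from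
    (e.apply_symm_apply _).symm]
  exact Scheme.evaluation_naturality_apply g z _ _

/-- At a generic point of a component of a fibre of dimension `r` the residue extension has trdeg `r`. -/
theorem trdeg_eq_of_hasRelDim {r : ℕ} (hr : Cyc.HasRelDim f r) (x : X)
    (hmax : ∀ x' : X, f x' = f x → x' ⤳ x → x' = x) :
    @Algebra.trdeg (Y.residueField (f x)) (X.residueField x) _ _
      (f.residueFieldMap x).hom.toAlgebra = r := by
  obtain ⟨y, hy⟩ : ∃ y, y = f x := ⟨_, rfl⟩
  obtain ⟨z, hz⟩ : ∃ z : f.fiber y, f.fiberι y z = x := by
    subst hy; exact ⟨f.asFiber x, f.fiberι_asFiber x⟩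
  have hgenz : ∀ w : f.fiber y, w ⤳ z → w = z := by
    intro w hw
    apply (f.fiberι y).isEmbedding.injective
    rw [hz]
    refine hmax _ ?_ (hz ▸ hw.map (f.fiberι y).continuous)
    have := Set.mem_range_self (f := f.fiberι y) w
    rw [Scheme.Hom.range_fiberι] at this
    rw [← hy]
    exact this
  have hT : closure ({z} : Set (f.fiber y)) ∈ irreducibleComponents (f.fiber y) := by
    refine ⟨isIrreducible_singleton.closure, fun T hT hle => ?_⟩
    have hsp : hT.genericPoint ⤳ z := hT.isGenericPoint_genericPoint_closure.specializes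
      (subset_closure (hle (subset_closure rfl)))
    have := hgenz _ hsp
    exact (subset_closure (s := T)).trans
      (le_of_eq (by rw [← hT.genericPoint_closure_eq, this]))
  have hd := (topologicalKrullDim_closure _ z).symm.trans (hr y _ hT)
  letI := f.fiberOverSpecResidueField y
  haveI : LocallyOfFiniteType ((f.fiber y) ↘ Spec (CommRingCat.of (Y.residueField y))) :=
    locallyOfFiniteType_fiberToSpecResidueField f y
  rw [height_eq_dimPt (Y.residueField y)] at hd
  have hd' : dimPt (Y.residueField y) (f.fiber y) z = r := by exact_mod_cast hd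
  have h := trdeg_fibre f y z
  rw [hd'] at h
  subst hz
  exact h

end Groth.Agent.CycLib
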