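import Groth.Prelude.Def_Cyc
import Mathlib.AlgebraicGeometry.Morphisms.FiniteType
import Mathlib.FieldTheory.IntermediateField.Adjoin.Algebra
import Mathlib.FieldTheory.IntermediateField.Adjoin.Basic
import Mathlib.RingTheory.AlgebraicIndependent.Transcendental

/-!
Residue field extensions along morphisms locally of finite type, and the induced dimension function.
-/

namespace Groth.Agent.CycLib

open AlgebraicGeometry CategoryTheory

universe u

variable {X Y : Scheme.{u}} (f : X ⟶ Y)

theorem residueFieldMap_essFiniteType [LocallyOfFiniteType f] (x : X) :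
    (f.residueFieldMap x).hom.EssFiniteType := by
  have h : (Y.residue (f x) ≫ f.residueFieldMap x).hom.EssFiniteType := by
    rw [AlgebraicGeometry.Scheme.residue_residueFieldMap, CommRingCat.hom_comp]
    exact RingHom.EssFiniteType.comp (LocallyOfFiniteType.stalkMap f x)
      (RingHom.FiniteType.essFiniteType (RingHom.FiniteType.of_surjective _ (X.residue_surjective x)))
  rw [CommRingCat.hom_comp] at h
  exact RingHom.EssFiniteType.of_comp _ h

theorem finite_of_essFiniteType_of_algebraic (K L : Type u) [Field K] [Field L] [Algebra K L]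
    [Algebra.EssFiniteType K L] [Algebra.IsAlgebraic K L] : Module.Finite K L := by
  obtain ⟨s, hs⟩ := IntermediateField.fg_top K L
  haveI : FiniteDimensional K (IntermediateField.adjoin K (s : Set L)) :=
    IntermediateField.finiteDimensional_adjoin fun x _ => (Algebra.IsAlgebraic.isAlgebraic x).isIntegral
  rw [hs] at this
  exact Module.Finite.equiv (IntermediateField.topEquiv (F := K) (E := L)).toLinearEquiv

theorem residueFieldMap_finite_of_delta_eq [LocallyOfFiniteType f] {δX : X → ℤ} {δY : Y → ℤ}
    (hδ : Cyc.DeltaCompat f δX δY) (x : X) (h : δX x = δY (f x)) :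
    (f.residueFieldMap x).hom.Finite := by
  obtain ⟨n, hn, hn'⟩ := hδ x
  obtain rfl : n = 0 := by omega
  have hess := residueFieldMap_essFiniteType f x
  letI := (f.residueFieldMap x).hom.toAlgebra
  haveI : Algebra.EssFiniteType (Y.residueField (f x)) (X.residueField x) := hess
  haveI : Algebra.IsAlgebraic (Y.residueField (f x)) (X.residueField x) :=
    trdeg_eq_zero_iff.1 (by simpa using hn)
  exact finite_of_essFiniteType_of_algebraic _ _

theorem le_delta {δX : X → ℤ} {δY : Y → ℤ} (hδ : Cyc.DeltaCompat f δX δY) (x : X) :
    δY (f x) ≤ δX x := by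
  obtain ⟨n, -, hn⟩ := hδ x
  omega

end Groth.Agent.CycLib
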