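import Groth.Agent.CycLib.SchemeDim

/-!
The transcendence degree drops strictly along nontrivial specializations inside a fibre.
-/

set_option linter.style.haveILetI false

namespace Groth.Agent.CycLib

open AlgebraicGeometry CategoryTheory

universe u

theorem trdeg_quotient_lt {D C : Type u} [CommRing D] [IsDomain D] [CommRing C] [IsDomain C]
    [Algebra D C] [FaithfulSMul D C] [Algebra.FiniteType D C] (P : Ideal C) [P.IsPrime] (hP : P ≠ ⊥)
    [FaithfulSMul D (C ⧸ P)] : Algebra.trdeg D (C ⧸ P) < Algebra.trdeg D C := by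
  let π := Ideal.Quotient.mkₐ D P
  refine lt_of_le_of_ne (trdeg_le_of_surjective π Ideal.Quotient.mk_surjective) fun heq => ?_
  obtain ⟨s, hs⟩ := exists_isTranscendenceBasis D (C ⧸ P)
  have hcard := hs.cardinalMk_eq_trdeg
  let x : s → C := fun i => Function.surjInv Ideal.Quotient.mk_surjective i.1
  have hx : π ∘ x = (Subtype.val : s → C ⧸ P) :=
    funext fun i => Function.surjInv_eq Ideal.Quotient.mk_surjective i.1
  have hind : AlgebraicIndependent D x := AlgebraicIndependent.of_comp π (by rw [hx]; exact hs.1)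
  have hbasis := hind.isTranscendenceBasis_of_trdeg_le trdeg_lt_aleph0_of_finiteType
    (le_of_eq (heq.symm.trans hcard.symm))
  obtain ⟨c, hcP, hc0⟩ := Submodule.exists_mem_ne_zero_of_ne_bot hP
  haveI := hbasis.isAlgebraic
  obtain ⟨r, hr0, hdvd⟩ := (Algebra.IsAlgebraic.isAlgebraic (R := Algebra.adjoin D (Set.range x)) c
    ).exists_nonzero_dvd (mem_nonZeroDivisors_of_ne_zero hc0)
  obtain ⟨r, hr⟩ := r
  have hrP : r ∈ P := P.mem_of_dvd hdvd hcP
  rw [Algebra.adjoin_range_eq_range_aeval] at hr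
  obtain ⟨F, rfl⟩ := hr
  have : MvPolynomial.aeval (Subtype.val : s → C ⧸ P) F = 0 := by
    rw [← hx, show (π ∘ x) = fun i => π (x i) from rfl, ← MvPolynomial.comp_aeval, AlgHom.comp_apply]
    exact Ideal.Quotient.eq_zero_iff_mem.2 hrP
  have hF : F = 0 := hs.1 (by rw [this, map_zero])
  exact hr0 (Subtype.ext (by simp [hF]))

variable {X S : Scheme.{u}}

theorem trdeg_residueField_lt (f : X ⟶ S) [LocallyOfFiniteType f] (x x' : X) (hsp : x ⤳ x')
    (hne : x ≠ x') (hfx : f x = f x') :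
    @Algebra.trdeg (S.residueField (f x')) (X.residueField x') _ _ (f.residueFieldMap x').hom.toAlgebra <
      @Algebra.trdeg (S.residueField (f x)) (X.residueField x) _ _ (f.residueFieldMap x).hom.toAlgebra := by
  obtain ⟨V, hV, hxV, -⟩ := exists_isAffineOpen_mem_and_subset (x := f x') (U := (⊤ : S.Opens)) trivial
  obtain ⟨U, hU, hxU, hUV⟩ := exists_isAffineOpen_mem_and_subset (x := x') (U := f ⁻¹ᵁ V) hxV
  have hxU' : x ∈ U := hsp.mem_open U.2 hxU
  letI := (f.appLE V U hUV).hom.toAlgebra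
  haveI : Algebra.FiniteType Γ(S, V) Γ(X, U) := f.finiteType_appLE hV hU hUV
  haveI := liesOver_primeIdealOf f hV hU hUV hxU
  haveI := liesOver_primeIdealOf f hV hU hUV hxU'
  rw [← trdeg_residueField_eq f hV hU hUV hxU, ← trdeg_residueField_eq f hV hU hUV hxU']
  let p := (hV.primeIdealOf ⟨f x, hUV hxU'⟩).asIdeal
  let q := (hU.primeIdealOf ⟨x, hxU'⟩).asIdeal
  let p' := (hV.primeIdealOf ⟨f x', hUV hxU⟩).asIdeal
  let q' := (hU.primeIdealOf ⟨x', hxU⟩).asIdeal
  have hp : p = p' := by simp only [p, p', hfx]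
  haveI : q'.LiesOver p := hp ▸ (inferInstance : q'.LiesOver p')
  have hqq : q < q' := by
    refine lt_of_le_of_ne ((primeIdealOf_le_iff hU _ _).2 ?_) fun h => hne ?_
    · rwa [hU.fromSpec_primeIdealOf, hU.fromSpec_primeIdealOf]
    · have := congr_arg hU.fromSpec (PrimeSpectrum.ext h :
        hU.primeIdealOf ⟨x, hxU'⟩ = hU.primeIdealOf ⟨x', hxU⟩)
      rwa [hU.fromSpec_primeIdealOf, hU.fromSpec_primeIdealOf] at this
  show Algebra.trdeg (Γ(S, V) ⧸ p') (Γ(X, U) ⧸ q') < Algebra.trdeg (Γ(S, V) ⧸ p) (Γ(X, U) ⧸ q)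
  haveI : Algebra.FiniteType (Γ(S, V) ⧸ p) (Γ(X, U) ⧸ q) :=
    Algebra.FiniteType.of_restrictScalars_finiteType Γ(S, V) _ _
  let P : Ideal (Γ(X, U) ⧸ q) := q'.map (Ideal.Quotient.mk q)
  haveI : P.IsPrime := Ideal.map_isPrime_of_surjective Ideal.Quotient.mk_surjective
    (by rw [Ideal.mk_ker]; exact hqq.le)
  have hP : P ≠ ⊥ := fun h => hqq.not_ge (by
    have := Ideal.map_eq_bot_iff_le_ker (Ideal.Quotient.mk q) |>.1 h
    rwa [Ideal.mk_ker] at this)
  let e := DoubleQuot.quotQuotEquivQuotOfLE hqq.le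
  haveI : FaithfulSMul (Γ(S, V) ⧸ p) ((Γ(X, U) ⧸ q) ⧸ P) := by
    rw [faithfulSMul_iff_algebraMap_injective]
    intro a b h
    obtain ⟨a, rfl⟩ := Ideal.Quotient.mk_surjective a
    obtain ⟨b, rfl⟩ := Ideal.Quotient.mk_surjective b
    exact FaithfulSMul.algebraMap_injective (Γ(S, V) ⧸ p) (Γ(X, U) ⧸ q') (congr_arg e h)
  refine lt_of_eq_of_lt ?_ (trdeg_quotient_lt P hP)
  refine trdeg_congr (Ideal.quotEquivOfEq hp.symm) e.symm (fun a => ?_)
  obtain ⟨a, rfl⟩ := Ideal.Quotient.mk_surjective a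
  rfl

end Groth.Agent.CycLib
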