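import Groth.Agent.S4730
import Groth.Agent.PtTop.Catenary
import Mathlib.RingTheory.FiniteType
import Mathlib.RingTheory.MvPolynomial.Localization
import Mathlib.Algebra.MvPolynomial.Equiv
import Mathlib.RingTheory.Ideal.Over
import Mathlib.RingTheory.AlgebraicIndependent.TranscendenceBasis
import Mathlib.Algebra.MvPolynomial.Basic

/-!
The dimension formula (inequality for Noetherian domains, equality in the universally catenary case),
and its consequence that `p ↦ δ p + trdeg` is a rank function along finite type ring maps.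
-/

set_option linter.style.haveILetI false

namespace Groth.Agent.CycLib

open Groth.Agent.PtTop.Catenary

universe u

theorem trdeg_lt_aleph0_of_add {a b : Cardinal.{u}} {n : ℕ} (h : a + b = n) :
    ∃ i j : ℕ, a = i ∧ b = j ∧ i + j = n := by
  have ha : a < Cardinal.aleph0 := lt_of_le_of_lt (h ▸ self_le_add_right a b) (Cardinal.natCast_lt_aleph0)
  have hb : b < Cardinal.aleph0 := lt_of_le_of_lt (h ▸ self_le_add_left b a) (Cardinal.natCast_lt_aleph0)
  obtain ⟨i, rfl⟩ := Cardinal.lt_aleph0.1 ha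
  obtain ⟨j, rfl⟩ := Cardinal.lt_aleph0.1 hb
  exact ⟨i, j, rfl, rfl, by exact_mod_cast h⟩

/-- transcendence degree is invariant under compatible ring isomorphisms -/
theorem trdeg_congr {R S R' S' : Type u} [CommRing R] [CommRing S] [CommRing R'] [CommRing S']
    [IsDomain R] [IsDomain S] [IsDomain R'] [IsDomain S'] [Algebra R S] [Algebra R' S'] [FaithfulSMul R' S']
    (eR : R ≃+* R') (eS : S ≃+* S')
    (h : ∀ x, eS (algebraMap R S x) = algebraMap R' S' (eR x)) :
    Algebra.trdeg R S = Algebra.trdeg R' S' := by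
  letI := eR.toRingHom.toAlgebra
  letI := ((algebraMap R' S').comp eR.toRingHom).toAlgebra
  haveI : IsScalarTower R R' S' := IsScalarTower.of_algebraMap_eq' rfl
  haveI : FaithfulSMul R R' := (faithfulSMul_iff_algebraMap_injective _ _).2 eR.injective
  haveI : Algebra.IsAlgebraic R R' :=
    ⟨fun x => by obtain ⟨y, rfl⟩ := eR.surjective x; exact isAlgebraic_algebraMap y⟩
  rw [(AlgEquiv.ofRingEquiv (f := eS) h : S ≃ₐ[R] S').trdeg_eq, ← trdeg_add_eq R R' (A := S'),
    trdeg_eq_zero (R := R) (A := R'), zero_add]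

/-- the transcendence degree of residue field extensions, computed on quotient domains -/
theorem trdeg_eq_of_eval {A B K L : Type u} [CommRing A] [CommRing B] [Algebra A B] [Field K]
    [Field L] [Algebra K L] (p : Ideal A) [p.IsPrime] (q : Ideal B) [q.IsPrime] [q.LiesOver p]
    (eA : A →+* K) (eB : B →+* L)
    (comm : ∀ a, eB (algebraMap A B a) = algebraMap K L (eA a))
    (hA : RingHom.ker eA = p) (hB : RingHom.ker eB = q)
    (sA : ∀ z, ∃ x y, z = eA x / eA y) (sB : ∀ z, ∃ x y, z = eB x / eB y) :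
    Algebra.trdeg K L = Algebra.trdeg (A ⧸ p) (B ⧸ q) := by
  letI i₁ : Algebra (A ⧸ p) K := (Ideal.Quotient.lift p eA (fun a ha => by rwa [← RingHom.mem_ker, hA])).toAlgebra
  letI i₂ : Algebra (B ⧸ q) L := (Ideal.Quotient.lift q eB (fun a ha => by rwa [← RingHom.mem_ker, hB])).toAlgebra
  letI i₃ : Algebra (A ⧸ p) L := ((algebraMap K L).comp (algebraMap (A ⧸ p) K)).toAlgebra
  haveI : IsScalarTower (A ⧸ p) K L := IsScalarTower.of_algebraMap_eq' rfl
  haveI : IsScalarTower (A ⧸ p) (B ⧸ q) L := IsScalarTower.of_algebraMap_eq fun x => by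
    obtain ⟨a, rfl⟩ := Ideal.Quotient.mk_surjective x
    exact (comm a).symm
  haveI : FaithfulSMul (A ⧸ p) K := (faithfulSMul_iff_algebraMap_injective _ _).2
    (RingHom.lift_injective_of_ker_le_ideal p _ hA.le)
  haveI : FaithfulSMul (B ⧸ q) L := (faithfulSMul_iff_algebraMap_injective _ _).2
    (RingHom.lift_injective_of_ker_le_ideal q _ hB.le)
  haveI : IsFractionRing (A ⧸ p) K := IsFractionRing.of_field _ _ fun z => by
    obtain ⟨x, y, rfl⟩ := sA z
    exact ⟨Ideal.Quotient.mk p x, Ideal.Quotient.mk p y, rfl⟩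
  haveI : IsFractionRing (B ⧸ q) L := IsFractionRing.of_field _ _ fun z => by
    obtain ⟨x, y, rfl⟩ := sB z
    exact ⟨Ideal.Quotient.mk q x, Ideal.Quotient.mk q y, rfl⟩
  haveI : Algebra.IsAlgebraic (A ⧸ p) K := IsLocalization.isAlgebraic K (nonZeroDivisors _)
  haveI : Algebra.IsAlgebraic (B ⧸ q) L := IsLocalization.isAlgebraic L (nonZeroDivisors _)
  haveI : FaithfulSMul K L := (faithfulSMul_iff_algebraMap_injective _ _).2 (algebraMap K L).injective
  calc Algebra.trdeg K L = Algebra.trdeg (A ⧸ p) L := by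
        rw [← trdeg_add_eq (A ⧸ p) K (A := L), trdeg_eq_zero (R := A ⧸ p) (A := K), zero_add]
    _ = _ := by
        rw [← trdeg_add_eq (A ⧸ p) (B ⧸ q) (A := L), trdeg_eq_zero (R := B ⧸ q) (A := L), add_zero]

section poly

variable {A : Type u} [CommRing A]

/-- `A[X₁..Xₙ]` is catenary below the prime `p` of `A`. -/
def PolyCatAt (A : Type u) [CommRing A] (p : Ideal A) : Prop :=
  ∀ (n : ℕ) (s t : LTSeries (PrimeSpectrum (MvPolynomial (Fin n) A))),
    s.head = t.head → s.last = t.last → s.last.asIdeal.comap MvPolynomial.C ≤ p →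
      Saturated s → Saturated t → s.length = t.length

theorem polyCatAt_of_isLocalization (p : Ideal A) [p.IsPrime] (A' : Type u) [CommRing A']
    [Algebra A A'] [IsLocalization.AtPrime A' p] (h : CAlg.IsUniversallyCatenary A') :
    PolyCatAt A p := by
  intro n s t hh hl hp hs ht
  letI := MvPolynomial.algebraMvPolynomial (σ := Fin n) (R := A) (S := A')
  have hrange : ∀ x : PrimeSpectrum (MvPolynomial (Fin n) A), x.asIdeal.comap MvPolynomial.C ≤ p →
      x ∈ Set.range (locEmb (p.primeCompl.map (MvPolynomial.C (σ := Fin n)))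
        (MvPolynomial (Fin n) A')) := by
    intro x hx
    rw [range_locEmb]
    refine Set.disjoint_left.mpr ?_
    rintro _ ⟨a, ha, rfl⟩ hax
    exact ha (hx hax)
  have ho := ordConnected_range_locEmb (p.primeCompl.map (MvPolynomial.C (σ := Fin n)))
        (MvPolynomial (Fin n) A')
  have hlow : ∀ x, x ≤ s.last → x.asIdeal.comap MvPolynomial.C ≤ p := fun x hx =>
    le_trans (Ideal.comap_mono hx) hp
  obtain ⟨s', rfl⟩ := exists_lift _ ho s (hrange _ (hlow _ s.head_le_last)) (hrange _ hp)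
  obtain ⟨t', rfl⟩ := exists_lift _ ho t (hh ▸ hrange _ (hlow _ (LTSeries.head_le_last _)))
    (hl ▸ hrange _ hp)
  exact (h.2 _ inferInstance).2 s' t'
    ((locEmb (p.primeCompl.map (MvPolynomial.C (σ := Fin n))) (MvPolynomial (Fin n) A')).injective
      (by simpa using hh))
    ((locEmb (p.primeCompl.map (MvPolynomial.C (σ := Fin n))) (MvPolynomial (Fin n) A')).injective
      (by simpa using hl))
    ((saturated_map_iff _ ho s').1 hs) ((saturated_map_iff _ ho t').1 ht)

theorem polyCatAt_of_surjective {D : Type u} [CommRing D] (f : A →+* D) (hf : Function.Surjective f)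
    (P : Ideal D) (h : PolyCatAt A (P.comap f)) : PolyCatAt D P := by
  intro n s t hh hl hp hs ht
  have hF := MvPolynomial.map_surjective (σ := Fin n) f hf
  let g : PrimeSpectrum (MvPolynomial (Fin n) D) ↪o PrimeSpectrum (MvPolynomial (Fin n) A) :=
    OrderEmbedding.ofMapLEIff (PrimeSpectrum.comap (MvPolynomial.map f)) fun a b =>
      ⟨fun hab => (Ideal.comap_le_comap_iff_of_surjective _ hF a.asIdeal b.asIdeal).1 hab,
        fun hab => Ideal.comap_mono hab⟩
  have ho : (Set.range g).OrdConnected := by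
    refine ⟨?_⟩
    rintro _ ⟨a, rfl⟩ _ ⟨b, rfl⟩ x ⟨hx, -⟩
    have hker : RingHom.ker (MvPolynomial.map f) ≤ x.asIdeal := fun y hy => hx (show
      MvPolynomial.map f y ∈ a.asIdeal by rw [RingHom.mem_ker.1 hy]; exact zero_mem _)
    refine ⟨⟨x.asIdeal.map (MvPolynomial.map f), Ideal.map_isPrime_of_surjective hF hker⟩,
      PrimeSpectrum.ext ?_⟩
    show (x.asIdeal.map (MvPolynomial.map f)).comap (MvPolynomial.map f) = x.asIdeal
    rw [Ideal.comap_map_of_surjective _ hF, ← RingHom.ker_eq_comap_bot, sup_eq_left.2 hker]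
  refine h n (s.map g g.strictMono) (t.map g g.strictMono) (by simp [hh]) (by simp [hl]) ?_
    ((saturated_map_iff g ho s).2 hs) ((saturated_map_iff g ho t).2 ht)
  intro a ha
  refine hp (show MvPolynomial.C (f a) ∈ s.last.asIdeal from ?_)
  rw [← MvPolynomial.map_C]
  simpa [g] using ha

end poly

section height

variable {R : Type u} [CommRing R]

theorem exists_series_height [IsDomain R] [IsNoetherianRing R] (Q : PrimeSpectrum R) :
    ∃ s : LTSeries (PrimeSpectrum R), s.head = ⟨⊥, Ideal.isPrime_bot⟩ ∧ s.last = Q ∧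
      (s.length : ℕ∞) = Q.asIdeal.height ∧ Saturated s := by
  obtain ⟨s, hl, hlen⟩ := Q.asIdeal.exists_ltSeries_length_eq_height
  have hmax : ∀ t : LTSeries (PrimeSpectrum R), t.last = s.last → t.length ≤ s.length := by
    intro t ht
    have := Order.length_le_height (p := t) (x := Q) (by rw [ht, hl])
    rw [← Q.height_eq_orderHeight, ← hlen] at this
    exact_mod_cast this
  have hh : s.head = ⟨⊥, Ideal.isPrime_bot⟩ := by
    by_contra hne
    have hlt : (⟨⊥, Ideal.isPrime_bot⟩ : PrimeSpectrum R) < s.head :=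
      lt_of_le_of_ne (fun x hx => by rw [(Submodule.mem_bot R).1 hx]; exact zero_mem _) (Ne.symm hne)
    have := hmax (s.cons _ hlt) (by simp)
    simp at this
  exact ⟨s, hh, hl, hlen, saturated_of_longest s fun t _ ht => hmax t ht⟩

variable {S : Type u} [CommRing S] [IsDomain S] [IsNoetherianRing R] [IsDomain R]

/-- `ht P + ht (Q/P) ≤ ht Q`, with equality when chains below `Q` are catenary. -/
theorem height_comap_surjective [IsNoetherianRing S] (f : R →+* S) (hf : Function.Surjective f)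
    (q : Ideal S) [q.IsPrime] :
    (RingHom.ker f).height + q.height ≤ (q.comap f).height ∧
    ((∀ s t : LTSeries (PrimeSpectrum R), s.head = t.head → s.last = t.last →
      s.last.asIdeal ≤ q.comap f → Saturated s → Saturated t → s.length = t.length) →
      (q.comap f).height = (RingHom.ker f).height + q.height) := by
  haveI : (RingHom.ker f).IsPrime := RingHom.ker_isPrime f
  let g : PrimeSpectrum S ↪o PrimeSpectrum R :=
    OrderEmbedding.ofMapLEIff (PrimeSpectrum.comap f) fun a b =>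
      ⟨fun hab => (Ideal.comap_le_comap_iff_of_surjective f hf a.asIdeal b.asIdeal).1 hab,
        fun hab => Ideal.comap_mono hab⟩
  have ho : (Set.range g).OrdConnected := by
    refine ⟨?_⟩
    rintro _ ⟨a, rfl⟩ _ ⟨b, rfl⟩ x ⟨hx, -⟩
    have hker : RingHom.ker f ≤ x.asIdeal := fun y hy => hx (show
      f y ∈ a.asIdeal by rw [RingHom.mem_ker.1 hy]; exact zero_mem _)
    refine ⟨⟨x.asIdeal.map f, Ideal.map_isPrime_of_surjective hf hker⟩, PrimeSpectrum.ext ?_⟩
    show (x.asIdeal.map f).comap f = x.asIdeal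
    rw [Ideal.comap_map_of_surjective _ hf, ← RingHom.ker_eq_comap_bot, sup_eq_left.2 hker]
  obtain ⟨s₁, h₁h, h₁l, h₁len, h₁s⟩ := exists_series_height (⟨RingHom.ker f, ‹_›⟩ : PrimeSpectrum R)
  obtain ⟨s₂, h₂h, h₂l, h₂len, h₂s⟩ := exists_series_height (⟨q, ‹_›⟩ : PrimeSpectrum S)
  have hgl : (s₂.map g g.strictMono).last = ⟨q.comap f, inferInstance⟩ := by
    rw [LTSeries.last_map, h₂l]; rfl
  have hgh : s₁.last = (s₂.map g g.strictMono).head := by
    rw [LTSeries.head_map, h₂h, h₁l]
    exact PrimeSpectrum.ext (RingHom.ker_eq_comap_bot f)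
  let s : LTSeries (PrimeSpectrum R) := RelSeries.smash s₁ (s₂.map g g.strictMono) hgh
  have hlast : s.last = ⟨q.comap f, inferInstance⟩ := by rw [RelSeries.last_smash, hgl]
  have hlen : (s.length : ℕ∞) = (RingHom.ker f).height + q.height := by
    rw [← h₁len, ← h₂len]
    exact_mod_cast rfl
  refine ⟨?_, fun hcat => ?_⟩
  · rw [← hlen, (⟨q.comap f, inferInstance⟩ : PrimeSpectrum R).height_eq_orderHeight]
    exact Order.length_le_height hlast.le
  · obtain ⟨t, hth, htl, htlen, hts⟩ :=
      exists_series_height (⟨q.comap f, inferInstance⟩ : PrimeSpectrum R)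
    rw [← hlen, ← htlen, hcat t s (by rw [hth, RelSeries.head_smash, h₁h]) (by rw [htl, hlast])
      (by rw [htl]) hts ?_]
    have h₂s' : Saturated (s₂.map g g.strictMono) := (saturated_map_iff g ho s₂).2 h₂s
    intro i
    refine Fin.addCases (fun j => ?_) (fun j => ?_) i
    · have := h₁s j
      rw [← RelSeries.smash_castLE hgh j.castSucc, ← RelSeries.smash_castLE hgh j.succ] at this
      exact this
    · have := h₂s' j
      rw [← RelSeries.smash_natAdd hgh j, ← RelSeries.smash_succ_natAdd hgh j] at this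
      exact this

end height

section formula

open MvPolynomial

/-- Heights in polynomial rings over a Noetherian ring. -/
theorem height_mvPolynomial : ∀ (n : ℕ) (A : Type u) [CommRing A] [IsNoetherianRing A]
    (p : Ideal A) [p.IsPrime] (Q : Ideal (MvPolynomial (Fin n) A)) [Q.IsPrime] [Q.LiesOver p],
    (p.height : Cardinal.{u}) + n =
      (Q.height : Cardinal.{u}) + Algebra.trdeg (A ⧸ p) (MvPolynomial (Fin n) A ⧸ Q) := by
  intro n
  induction n with
  | zero =>
    intro A _ _ p _ Q _ _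
    haveI : Algebra.IsAlgebraic (A ⧸ p) (MvPolynomial (Fin 0) A ⧸ Q) := ⟨fun x => by
      obtain ⟨y, rfl⟩ := Ideal.Quotient.mk_surjective x
      rw [MvPolynomial.eq_C_of_isEmpty y]
      exact isAlgebraic_algebraMap (Ideal.Quotient.mk p _)⟩
    rw [trdeg_eq_zero (R := A ⧸ p) (A := MvPolynomial (Fin 0) A ⧸ Q), add_zero, Nat.cast_zero,
      add_zero]
    let e := MvPolynomial.isEmptyRingEquiv A (Fin 0)
    have : Q = p.comap e := by
      ext x
      have he : ∀ a, e (MvPolynomial.C a) = a := fun a => e.apply_symm_apply a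
      rw [MvPolynomial.eq_C_of_isEmpty x, Ideal.mem_comap, he, Ideal.mem_of_liesOver Q p]
      rfl
    rw [this, RingEquiv.height_comap]
  | succ n ih =>
    intro A _ _ p _ Q _ _
    let e : MvPolynomial (Fin (n + 1)) A ≃ₐ[A] Polynomial (MvPolynomial (Fin n) A) :=
      MvPolynomial.finSuccEquiv A n
    let Q' : Ideal (Polynomial (MvPolynomial (Fin n) A)) := Q.comap e.symm
    haveI : Q'.IsPrime := Ideal.comap_isPrime _ _
    haveI : Q'.LiesOver p := Ideal.comap_liesOver Q p e.symm
    have hht : Q'.height = Q.height := RingEquiv.height_comap e.symm.toRingEquiv Q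
    let q₀ : Ideal (MvPolynomial (Fin n) A) := Q'.under _
    haveI : q₀.IsPrime := Ideal.comap_isPrime _ _
    haveI : q₀.LiesOver p := Ideal.LiesOver.tower_bot Q' q₀ p
    haveI : IsScalarTower (A ⧸ p) (MvPolynomial (Fin n) A ⧸ q₀)
        (Polynomial (MvPolynomial (Fin n) A) ⧸ Q') := IsScalarTower.of_algebraMap_eq fun x => by
      obtain ⟨a, rfl⟩ := Ideal.Quotient.mk_surjective x
      rfl
    have h1 := Groth.Agent.S4730.result (MvPolynomial (Fin n) A) q₀ Q'
    have h2 := ih A p q₀
    have h3 := trdeg_add_eq (A ⧸ p) (MvPolynomial (Fin n) A ⧸ q₀)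
      (A := Polynomial (MvPolynomial (Fin n) A) ⧸ Q')
    have h4 : Algebra.trdeg (A ⧸ p) (Polynomial (MvPolynomial (Fin n) A) ⧸ Q') =
        Algebra.trdeg (A ⧸ p) (MvPolynomial (Fin (n + 1)) A ⧸ Q) :=
      trdeg_congr (RingEquiv.refl _)
        (Ideal.quotientEquiv Q' Q e.symm.toRingEquiv
          (Ideal.map_comap_of_surjective _ e.symm.surjective Q).symm)
        (fun x => by
          obtain ⟨a, rfl⟩ := Ideal.Quotient.mk_surjective x
          exact congr_arg (Ideal.Quotient.mk Q) (e.symm.commutes a))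
    calc (p.height : Cardinal.{u}) + ↑(n + 1) = (p.height : Cardinal.{u}) + n + 1 := by
          rw [Nat.cast_succ, add_assoc]
      _ = (q₀.height : Cardinal.{u}) + 1 + Algebra.trdeg (A ⧸ p) (MvPolynomial (Fin n) A ⧸ q₀) := by
          rw [h2, add_right_comm]
      _ = _ := by rw [h1, hht, add_assoc, add_comm (Algebra.trdeg (MvPolynomial (Fin n) A ⧸ q₀) _),
            h3, h4]

theorem exists_nat_height {R : Type u} [CommRing R] [IsNoetherianRing R] (p : Ideal R) [p.IsPrime] :
    ∃ n : ℕ, p.height = n :=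
  (ENat.ne_top_iff_exists.1 (Ideal.height_ne_top_of_isPrime (I := p))).imp fun _ h => h.symm

/-- Dimension formula: inequality, and equality in the universally catenary case. -/
theorem height_add_trdeg {A S : Type u} [CommRing A] [IsDomain A] [IsNoetherianRing A] [CommRing S]
    [IsDomain S] [Algebra A S] [FaithfulSMul A S] [Algebra.FiniteType A S] (p : Ideal A) [p.IsPrime]
    (q : Ideal S) [q.IsPrime] [q.LiesOver p] :
    ∃ hq hp t T : ℕ, q.height = hq ∧ p.height = hp ∧ Algebra.trdeg (A ⧸ p) (S ⧸ q) = t ∧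
      Algebra.trdeg A S = T ∧ hq + t ≤ hp + T ∧ (PolyCatAt A p → hq + t = hp + T) := by
  obtain ⟨n, φ, hφ⟩ := Algebra.FiniteType.iff_quotient_mvPolynomial''.1
    (inferInstance : Algebra.FiniteType A S)
  haveI : IsNoetherianRing S := Algebra.FiniteType.isNoetherianRing A S
  let P : Ideal (MvPolynomial (Fin n) A) := RingHom.ker φ
  haveI : P.IsPrime := RingHom.ker_isPrime φ
  let Q : Ideal (MvPolynomial (Fin n) A) := q.comap φ
  haveI : Q.IsPrime := Ideal.comap_isPrime _ _
  haveI : Q.LiesOver p := Ideal.comap_liesOver q p φ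
  haveI : P.LiesOver (⊥ : Ideal A) := ⟨by
    ext a
    rw [Ideal.under_def, Ideal.mem_comap, Ideal.mem_bot, RingHom.mem_ker, φ.commutes,
      map_eq_zero_iff _ (FaithfulSMul.algebraMap_injective A S)]⟩
  haveI : (⊥ : Ideal A).IsPrime := Ideal.isPrime_bot
  haveI : IsDomain (A ⧸ (⊥ : Ideal A)) := Ideal.Quotient.isDomain _
  obtain ⟨hp, hhp⟩ := exists_nat_height p
  obtain ⟨hq, hhq⟩ := exists_nat_height q
  obtain ⟨hP, hhP⟩ := exists_nat_height P
  obtain ⟨hQ, hhQ⟩ := exists_nat_height Q
  have e1 := height_mvPolynomial n A p Q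
  have e2 := height_mvPolynomial n A (⊥ : Ideal A) P
  have c1 : Algebra.trdeg (A ⧸ p) (MvPolynomial (Fin n) A ⧸ Q) = Algebra.trdeg (A ⧸ p) (S ⧸ q) := by
    refine trdeg_congr (RingEquiv.refl _)
      (RingEquiv.ofBijective (Ideal.quotientMap q φ.toRingHom le_rfl) ⟨Ideal.quotientMap_injective, ?_⟩)
      (fun x => ?_)
    · exact Ideal.quotientMap_surjective hφ
    · obtain ⟨a, rfl⟩ := Ideal.Quotient.mk_surjective x
      exact congr_arg (Ideal.Quotient.mk q) (φ.commutes a)
  have c2 : Algebra.trdeg (A ⧸ (⊥ : Ideal A)) (MvPolynomial (Fin n) A ⧸ P) = Algebra.trdeg A S := by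
    refine trdeg_congr (RingEquiv.quotientBot A) (RingHom.quotientKerEquivOfSurjective hφ)
      (fun x => ?_)
    obtain ⟨a, rfl⟩ := Ideal.Quotient.mk_surjective x
    exact φ.commutes a
  rw [c1, hhp, hhQ] at e1
  rw [c2, Ideal.height_bot, hhP] at e2
  simp only [Cardinal.ofENat_nat, Cardinal.ofENat_zero, zero_add] at e1 e2
  rw [← Nat.cast_add] at e1
  obtain ⟨i, t, hi, ht, hsum⟩ := trdeg_lt_aleph0_of_add e1.symm
  obtain ⟨j, T, hj, hT, hsum'⟩ := trdeg_lt_aleph0_of_add e2.symm
  obtain rfl : i = hQ := (Nat.cast_inj.1 hi).symm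
  obtain rfl : j = hP := (Nat.cast_inj.1 hj).symm
  obtain ⟨hle, heq⟩ := height_comap_surjective φ.toRingHom hφ q
  replace hle : P.height + q.height ≤ Q.height := hle
  rw [hhP, hhq, hhQ, ← Nat.cast_add, Nat.cast_le] at hle
  refine ⟨hq, hp, t, T, hhq, hhp, ht, hT, by omega, fun hcat => ?_⟩
  have hE : Q.height = P.height + q.height := heq fun s t h1 h2 h3 h4 h5 =>
    hcat n s t h1 h2 ((Ideal.comap_mono h3).trans
      (le_of_eq (Ideal.over_def Q p).symm)) h4 h5
  rw [hhP, hhq, hhQ, ← Nat.cast_add, Nat.cast_inj] at hE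
  omega

end formula

section rank

variable {A B : Type u} [CommRing A] [IsNoetherianRing A] [CommRing B] [Algebra A B]
  [Algebra.FiniteType A B]

/-- If `δ` is a (decreasing) rank function on `Spec A`, then `δ p + trdeg` drops along inclusions of
primes of `B` at least by one, and exactly by one along covering relations. -/
theorem rank_drop (δ : PrimeSpectrum A → ℤ) (hδ : StrictAnti δ)
    (hc : ∀ a b, a ⋖ b → δ a = δ b + 1) (p p' : PrimeSpectrum A) (q q' : PrimeSpectrum B)
    (hlt : q < q') [q.asIdeal.LiesOver p.asIdeal] [q'.asIdeal.LiesOver p'.asIdeal]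
    (hcat : PolyCatAt A p'.asIdeal) (t t' : ℕ)
    (ht : Algebra.trdeg (A ⧸ p.asIdeal) (B ⧸ q.asIdeal) = t)
    (ht' : Algebra.trdeg (A ⧸ p'.asIdeal) (B ⧸ q'.asIdeal) = t') :
    δ p' + t' < δ p + t ∧ (q ⋖ q' → δ p + t = δ p' + t' + 1) := by
  have hpp : p.asIdeal ≤ p'.asIdeal := by
    rw [Ideal.over_def q.asIdeal p.asIdeal, Ideal.over_def q'.asIdeal p'.asIdeal]
    exact Ideal.comap_mono hlt.le
  let π := Ideal.Quotient.mk p.asIdeal
  let ρ := Ideal.Quotient.mk q.asIdeal
  let pb : Ideal (A ⧸ p.asIdeal) := p'.asIdeal.map π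
  let qb : Ideal (B ⧸ q.asIdeal) := q'.asIdeal.map ρ
  haveI : pb.IsPrime := Ideal.map_isPrime_of_surjective Ideal.Quotient.mk_surjective
    (by rw [Ideal.mk_ker]; exact hpp)
  haveI : qb.IsPrime := Ideal.map_isPrime_of_surjective Ideal.Quotient.mk_surjective
    (by rw [Ideal.mk_ker]; exact hlt.le)
  have hpc : pb.comap π = p'.asIdeal := by
    rw [Ideal.comap_map_of_surjective _ Ideal.Quotient.mk_surjective, ← RingHom.ker_eq_comap_bot,
      Ideal.mk_ker, sup_eq_left.2 hpp]
  have hqc : qb.comap ρ = q'.asIdeal := by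
    rw [Ideal.comap_map_of_surjective _ Ideal.Quotient.mk_surjective, ← RingHom.ker_eq_comap_bot,
      Ideal.mk_ker, sup_eq_left.2 hlt.le]
  haveI : qb.LiesOver pb := ⟨by
    apply Ideal.comap_injective_of_surjective π Ideal.Quotient.mk_surjective
    rw [hpc, Ideal.over_def q'.asIdeal p'.asIdeal, Ideal.under_def, Ideal.under_def, ← hqc,
      Ideal.comap_comap, Ideal.comap_comap]
    rfl⟩
  haveI : Algebra.FiniteType (A ⧸ p.asIdeal) (B ⧸ q.asIdeal) :=
    Algebra.FiniteType.of_restrictScalars_finiteType A _ _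
  obtain ⟨hq, hp, t₂, T, hhq, hhp, ht₂, hT, -, heq⟩ := height_add_trdeg pb qb
  have hE := heq (polyCatAt_of_surjective π Ideal.Quotient.mk_surjective pb (by rwa [hpc]))
  have c : Algebra.trdeg ((A ⧸ p.asIdeal) ⧸ pb) ((B ⧸ q.asIdeal) ⧸ qb) =
      Algebra.trdeg (A ⧸ p'.asIdeal) (B ⧸ q'.asIdeal) :=
    trdeg_congr (DoubleQuot.quotQuotEquivQuotOfLE hpp) (DoubleQuot.quotQuotEquivQuotOfLE hlt.le)
      (fun x => by
        obtain ⟨y, rfl⟩ := Ideal.Quotient.mk_surjective x
        obtain ⟨a, rfl⟩ := Ideal.Quotient.mk_surjective y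
        rfl)
  rw [c, ht', Nat.cast_inj] at ht₂
  rw [ht, Nat.cast_inj] at hT
  obtain ⟨s, hsh, hsl, hslen, hss⟩ := exists_series_height (⟨pb, ‹_›⟩ : PrimeSpectrum (A ⧸ p.asIdeal))
  let g : PrimeSpectrum (A ⧸ p.asIdeal) ↪o PrimeSpectrum A :=
    OrderEmbedding.ofMapLEIff (PrimeSpectrum.comap π) fun a b =>
      ⟨fun hab => (Ideal.comap_le_comap_iff_of_surjective π Ideal.Quotient.mk_surjective
        a.asIdeal b.asIdeal).1 hab, fun hab => Ideal.comap_mono hab⟩
  have ho : (Set.range g).OrdConnected := by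
    refine ⟨?_⟩
    rintro _ ⟨a, rfl⟩ _ ⟨b, rfl⟩ x ⟨hx, -⟩
    have hker : RingHom.ker π ≤ x.asIdeal := fun y hy => hx (show
      π y ∈ a.asIdeal by rw [RingHom.mem_ker.1 hy]; exact zero_mem _)
    refine ⟨⟨x.asIdeal.map π, Ideal.map_isPrime_of_surjective Ideal.Quotient.mk_surjective hker⟩,
      PrimeSpectrum.ext ?_⟩
    show (x.asIdeal.map π).comap π = x.asIdeal
    rw [Ideal.comap_map_of_surjective _ Ideal.Quotient.mk_surjective, ← RingHom.ker_eq_comap_bot,
      sup_eq_left.2 hker]
  have hsd := length_eq_rank_sub (fun x => - δ x) (fun a b hab => by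
    have := hc a b hab
    omega) (s.map g g.strictMono) ((saturated_map_iff g ho s).2 hss)
  rw [LTSeries.head_map, LTSeries.last_map, hsh, hsl] at hsd
  have hg1 : g ⟨⊥, Ideal.isPrime_bot⟩ = p := PrimeSpectrum.ext (by
    show (⊥ : Ideal (A ⧸ p.asIdeal)).comap π = p.asIdeal
    rw [← RingHom.ker_eq_comap_bot, Ideal.mk_ker])
  have hg2 : g ⟨pb, ‹_›⟩ = p' := PrimeSpectrum.ext hpc
  rw [hg1, hg2] at hsd
  replace hsd : (s.length : ℤ) = - δ p' - - δ p := hsd
  have hlen : s.length = hp := by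
    have : (s.length : ℕ∞) = pb.height := hslen
    rw [hhp] at this
    exact_mod_cast this
  have hq0 : hq ≠ 0 := by
    intro h
    rw [h, Nat.cast_zero, Ideal.height_eq_zero_iff_eq_bot] at hhq
    rw [hhq, ← RingHom.ker_eq_comap_bot, Ideal.mk_ker] at hqc
    exact hlt.ne (PrimeSpectrum.ext hqc)
  refine ⟨by omega, fun hcov => ?_⟩
  have : hq ≤ 1 := by
    by_contra hgt
    haveI : IsNoetherianRing B := Algebra.FiniteType.isNoetherianRing A B
    obtain ⟨r, hrh, hrl, hrlen, hrs⟩ :=
      exists_series_height (⟨qb, ‹_›⟩ : PrimeSpectrum (B ⧸ q.asIdeal))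
    have hr2 : r.length = hq := by
      have : (r.length : ℕ∞) = qb.height := hrlen
      rw [hhq] at this
      exact_mod_cast this
    have hm : StrictMono (PrimeSpectrum.comap ρ) :=
      RingHom.strictMono_comap_of_surjective Ideal.Quotient.mk_surjective
    have hrl' : PrimeSpectrum.comap ρ r.last = q' := by
      rw [hrl]; exact PrimeSpectrum.ext hqc
    have hrh' : PrimeSpectrum.comap ρ r.head = q := by
      rw [hrh]; exact PrimeSpectrum.ext (by
        show (⊥ : Ideal (B ⧸ q.asIdeal)).comap ρ = q.asIdeal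
        rw [← RingHom.ker_eq_comap_bot, Ideal.mk_ker])
    let i : Fin (r.length + 1) := ⟨1, by omega⟩
    have h0 : (0 : Fin (r.length + 1)) < i := Nat.zero_lt_one
    have h1 : i < Fin.last r.length := show 1 < r.length by omega
    exact hcov.2 (c := PrimeSpectrum.comap ρ (r i)) (lt_of_eq_of_lt hrh'.symm (hm (r.strictMono h0)))
      (lt_of_lt_of_eq (hm (r.strictMono h1)) hrl')
  omega

end rank

end Groth.Agent.CycLib
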