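import Groth.Agent.CohDev.Piece
import Groth.Agent.QCohGen.StalkFun
import Groth.Agent.CycLib.DimFun
import Mathlib.Algebra.Category.ModuleCat.Products
import Groth.Prelude.Def_ChowK

/-!
The sheaf attached to a cycle.
-/

set_option autoImplicit false
set_option linter.style.haveILetI false

universe u

open CategoryTheory Limits AlgebraicGeometry

namespace Groth.Agent.CycLib.Dev

open Groth.Agent.PullStalk.Exact Groth.Agent.PullStalk.Sky

variable {X : Scheme.{u}}

/-- The stalk of a coproduct of modules. -/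
theorem exists_stalk_sigma {ι : Type u} (F : ι → X.Modules) (s : Finset ι) (x : X)
    (hs : ∀ i ∉ s, Subsingleton ((F i).presheaf.stalk x)) :
    ∃ e : (∀ i : s, (F i.1).presheaf.stalk x) ≃ₗ[X.presheaf.stalk x] (∐ F).presheaf.stalk x,
      ∀ v, e v = ∑ i : s, stalkLin (Sigma.ι F i.1) x (v i) := by
  classical
  let L := QCohGen.stalkFun X x
  haveI : PreservesColimitsOfSize.{u, u} L := (Adjunction.ofIsLeftAdjoint L).leftAdjoint_preservesColimits
  let Z : ι → ModuleCat.{u} (X.presheaf.stalk x) := fun i => L.obj (F i)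
  let e0 : L.obj (∐ F) ≅ ModuleCat.of _ (DirectSum ι fun i => Z i) :=
    (PreservesCoproduct.iso L F) ≪≫ ModuleCat.coprodIsoDirectSum Z
  have hι : ∀ i, L.map (Sigma.ι F i) ≫ e0.hom = ModuleCat.ofHom (DirectSum.lof _ ι (fun i => Z i) i) := by
    intro i
    rw [Iso.trans_hom, ← Category.assoc, ← ι_comp_sigmaComparison, ← PreservesCoproduct.inv_hom,
      Category.assoc, Category.assoc, Iso.inv_hom_id_assoc]
    exact ModuleCat.ι_coprodIsoDirectSum_hom Z i
  let Φ : (∀ i : s, (F i.1).presheaf.stalk x) →ₗ[X.presheaf.stalk x] (∐ F).presheaf.stalk x :=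
    ∑ i : s, (stalkLin (Sigma.ι F i.1) x).comp (LinearMap.proj i)
  have hΦ : ∀ v, e0.hom (Φ v) = ∑ i : s, DirectSum.lof (X.presheaf.stalk x) ι (fun i => Z i) i.1 (v i) := fun v => by
    show e0.toLinearEquiv (Φ v) = _
    simp only [Φ, LinearMap.coe_sum, Finset.sum_apply, LinearMap.comp_apply, LinearMap.proj_apply]
    refine (map_sum e0.toLinearEquiv _ _).trans ?_
    exact Finset.sum_congr rfl fun i _ => congr($(hι i.1) (v i))
  have hcomp : ∀ (v : ∀ i : s, (F i.1).presheaf.stalk x) (j : s),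
      DirectSum.component (X.presheaf.stalk x) ι (fun i => Z i) j.1 (e0.hom (Φ v)) = v j := fun v j => by
    rw [hΦ, map_sum, Finset.sum_eq_single j]
    · exact DirectSum.component.lof_self _ _ _
    · intro i _ hij
      exact DFinsupp.single_eq_of_ne fun e => hij (Subtype.ext e.symm)
    · exact fun h => absurd (Finset.mem_univ j) h
  refine ⟨LinearEquiv.ofBijective Φ ⟨fun v w e => funext fun j => ?_, fun t => ?_⟩, fun v => ?_⟩
  · rw [← hcomp v j, ← hcomp w j, e]
  · refine ⟨fun j => DirectSum.component (X.presheaf.stalk x) ι (fun i => Z i) j.1 (e0.hom t), e0.toLinearEquiv.injective ?_⟩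
    refine DirectSum.ext_component (X.presheaf.stalk x) fun i => ?_
    by_cases hi : i ∈ s
    · exact hcomp _ ⟨i, hi⟩
    · haveI : Subsingleton (Z i) := hs i hi
      exact Subsingleton.elim _ _
  · show Φ v = _
    simp [Φ]

variable [IsLocallyNoetherian X]

/-- A coproduct which is locally a finite coproduct of coherent modules is coherent. -/
theorem isCoh_sigma_of_locallyFinite {ι : Type u} (F : ι → X.Modules) (hF : ∀ i, Coh.IsCoh (F i))
    (hlf : ∀ U : X.Opens, IsAffineOpen U →
      ∃ s : Finset ι, ∀ i ∉ s, ∀ x ∈ U, Subsingleton ((F i).presheaf.stalk x)) :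
    Coh.IsCoh (∐ F) := by
  classical
  haveI := fun j => (hF j).1
  have hq : Coh.IsQCoh (∐ F) := QCoh.isQuasicoherent_coproduct F
  refine ⟨hq, (QCoh.isFiniteType_iff _).mpr fun U hU => ?_⟩
  obtain ⟨s, hs⟩ := hlf U hU
  have := fun j => (QCoh.isFiniteType_iff (F j)).mp (hF j).2 U hU
  let Ψ : (∀ i : s, Γ(F i.1, U)) →ₗ[Γ(X, U)] Γ(∐ F, U) :=
    ∑ i : s, (CohDev.appLin (Sigma.ι F i.1) U).comp (LinearMap.proj i)
  refine Module.Finite.of_surjective Ψ ?_
  let a : (∐ fun i : s => F i.1) ⟶ ∐ F := Sigma.desc fun i => Sigma.ι F i.1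
  haveI : ∀ i : s, (F i.1).IsQuasicoherent := fun i => (hF i.1).1
  have hdom : Coh.IsQCoh (∐ fun i : s => F i.1) := QCoh.isQuasicoherent_coproduct _
  have hsub : Subsingleton Γ(cokernel a, U) := by
    refine subsingleton_of_forall_eq 0 fun m => ?_
    refine TopCat.Presheaf.section_ext (⟨(cokernel a).presheaf, (cokernel a).isSheaf⟩ :
      TopCat.Sheaf AddCommGrpCat X) U _ _ fun y hy => ?_
    have : Subsingleton ((cokernel a).presheaf.stalk y) := by
      refine subsingleton_of_forall_eq 0 fun t => ?_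
      obtain ⟨t, rfl⟩ := stalk_surjective (cokernel.π a) y t
      obtain ⟨e, he⟩ := exists_stalk_sigma F s y fun i hi => hs i hi y hy
      obtain ⟨v, rfl⟩ := e.surjective t
      rw [he, map_sum]
      refine Finset.sum_eq_zero fun i _ => ?_
      have h0 : Sigma.ι F i.1 ≫ cokernel.π a = 0 := by
        rw [show Sigma.ι F i.1 = Sigma.ι (fun i : s => F i.1) i ≫ a from (Sigma.ι_desc (fun i : s => Sigma.ι F i.1) i).symm,
          Category.assoc, cokernel.condition, comp_zero]
      obtain ⟨W, hyW, w, hw⟩ := exists_germM_eq (F i.1) y (v i)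
      rw [← hw, stalkLin_germ, stalkLin_germ]
      refine (congrArg (germM (cokernel a) W y hyW) ?_).trans (map_zero _)
      exact congrArg (fun ψ : F i.1 ⟶ cokernel a => Scheme.Modules.Hom.app ψ W w) h0
    exact Subsingleton.elim _ _
  intro m
  obtain ⟨m', hm'⟩ : ∃ m' : Γ(∐ fun i : s => F i.1, U), a.app U m' = m := by
    let S2 := ShortComplex.mk (kernel.ι (cokernel.π a)) (cokernel.π a) (kernel.condition _)
    have hex : S2.Exact := S2.exact_of_f_is_kernel (kernelIsKernel _)
    haveI : Mono S2.f := inferInstanceAs (Mono (kernel.ι (cokernel.π a)))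
    obtain ⟨w, hw⟩ := QCoh.exists_app_eq_of_app_eq_zero S2 hex U m (Subsingleton.elim _ _)
    have hqi : (Abelian.image a).IsQuasicoherent := @QCoh.isQuasicoherent_image X _ _ a hdom hq
    obtain ⟨m', hm'⟩ := @QCoh.app_surjective_of_epi X _ _ (Abelian.factorThruImage a) _ hdom hqi U hU w
    refine ⟨m', ?_⟩
    rw [← hw, ← hm']
    exact (congrArg (fun ψ : (∐ fun i : s => F i.1) ⟶ ∐ F => Scheme.Modules.Hom.app ψ U m')
      (Abelian.image.fac a)).symm
  haveI : HasFiniteBiproducts X.Modules := HasFiniteBiproducts.of_hasFiniteProducts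
  let e := biproduct.isoCoproduct (fun i : s => F i.1)
  refine ⟨fun j => (e.inv ≫ biproduct.π _ j).app U m', ?_⟩
  have h : (∑ j : s, (e.inv ≫ biproduct.π _ j) ≫ Sigma.ι F j.1) = a := by
    refine Sigma.hom_ext _ _ fun i => ?_
    have hι : Sigma.ι (fun i : s => F i.1) i ≫ e.inv = biproduct.ι (fun i : s => F i.1) i := by
      rw [biproduct.isoCoproduct_inv, Sigma.ι_desc]
    rw [Preadditive.comp_sum, Sigma.ι_desc, Finset.sum_eq_single i]
    · rw [← Category.assoc, ← Category.assoc, hι, biproduct.ι_π_self, Category.id_comp]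
    · intro j _ hij
      rw [← Category.assoc, ← Category.assoc, hι, biproduct.ι_π_ne _ (Ne.symm hij), zero_comp]
    · exact fun h => absurd (Finset.mem_univ i) h
  let φ : ((∐ fun i : s => F i.1) ⟶ ∐ F) →+ Γ(∐ F, U) :=
    AddMonoidHom.mk' (fun f => f.app U m') fun _ _ => rfl
  rw [← hm']
  refine Eq.trans ?_ (congrArg φ h)
  rw [map_sum]
  simp only [Ψ, LinearMap.coe_sum, Finset.sum_apply, LinearMap.comp_apply, LinearMap.proj_apply]
  rfl

variable {δ : X → ℤ} {k : ℤ}

/-- The sheaf of the positive part of a cycle. -/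
theorem cycleSheafPos_spec (hd : Cyc.IsDimFun X δ) {a : X → ℤ}
    (hfin : ∀ U : X.Opens, IsAffineOpen U → ((U : Set X) ∩ Function.support a).Finite)
    (hk : ∀ x, δ x ≠ k → a x = 0) :
    Cyc.CohLe δ k (Cyc.cycleSheafPos a) ∧
      Cyc.sheafFun δ k (Cyc.cycleSheafPos a) = fun x => ((a x).toNat : ℤ) := by
  classical
  let ι : Type u := Σ ζ : {ζ : X // 0 < a ζ}, Fin (a ζ.1).toNat
  let F : ι → X.Modules := fun i => Cyc.closureStructureSheaf i.1.1
  have hsupp : ∀ (i : ι) (y : X), Nontrivial ((F i).presheaf.stalk y) → i.1.1 ⤳ y := fun i y h =>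
    specializes_iff_mem_closure.2 (CohDev.support_oz_subset i.1.1 (not_subsingleton_iff_nontrivial.2 h))
  have hkey : ∀ i : ι, δ i.1.1 = k := fun i => not_not.1 fun h => by
    have := i.1.2
    rw [hk _ h] at this
    exact lt_irrefl _ this
  have hlf : ∀ U : X.Opens, IsAffineOpen U →
      ∃ s : Finset ι, ∀ i ∉ s, ∀ y ∈ U, Subsingleton ((F i).presheaf.stalk y) := fun U hU => by
    refine ⟨(((hfin U hU).preimage Subtype.val_injective.injOn).toFinset : Finset {ζ : X // 0 < a ζ}).sigma
      fun _ => Finset.univ, fun i hi y hy => not_nontrivial_iff_subsingleton.1 fun hn => hi ?_⟩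
    rw [Finset.mem_sigma, Set.Finite.mem_toFinset]
    exact ⟨⟨(hsupp i y hn).mem_open U.2 hy, i.1.2.ne'⟩, Finset.mem_univ _⟩
  have hfinx : ∀ x : X, ∃ s : Finset ι, ∀ i ∉ s, Subsingleton ((F i).presheaf.stalk x) := fun x => by
    obtain ⟨U, hU, hx, -⟩ := exists_isAffineOpen_mem_and_subset (x := x) (U := ⊤) trivial
    obtain ⟨s, hs⟩ := hlf U hU
    exact ⟨s, fun i hi => hs i hi x hx⟩
  refine ⟨⟨isCoh_sigma_of_locallyFinite F (fun i => CohDev.isCoh_oz _) hlf, fun x hx => ?_⟩, funext fun x => ?_⟩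
  · obtain ⟨s, hs⟩ := hfinx x
    obtain ⟨e, -⟩ := exists_stalk_sigma F s x hs
    obtain ⟨i, hi⟩ : ∃ i : s, Nontrivial ((F i.1).presheaf.stalk x) := by
      by_contra hc
      push Not at hc
      haveI : ∀ i : s, Subsingleton ((F i.1).presheaf.stalk x) := hc
      haveI : Subsingleton ((∐ F).presheaf.stalk x) := e.symm.injective.subsingleton
      exact absurd hx (not_nontrivial_iff_subsingleton.2 ‹_›)
    rw [← hkey i.1]
    exact le_of_specializes hd (hsupp i.1 x hi)
  · rw [Cyc.sheafFun]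
    by_cases hx : δ x = k
    · rw [if_pos hx]
      have hother : ∀ i : ι, i.1.1 ≠ x → Subsingleton ((F i).presheaf.stalk x) := fun i hne =>
        not_nontrivial_iff_subsingleton.1 fun hn => hne (eq_of_specializes hd (hsupp i x hn) (by rw [hkey, hx]))
      by_cases hpos : 0 < a x
      · let s : Finset ι := Finset.univ.map ⟨fun j : Fin (a x).toNat => (⟨⟨x, hpos⟩, j⟩ : ι), fun i j e => eq_of_heq (Sigma.mk.inj_iff.1 e).2⟩
        obtain ⟨e, -⟩ := exists_stalk_sigma F s x fun i hi => hother i fun he => hi (by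
          obtain ⟨⟨ζ, hζ⟩, j⟩ := i
          obtain rfl : ζ = x := he
          exact Finset.mem_map_of_mem _ (Finset.mem_univ j))
        have h1 : ∀ i : s, Module.length (X.presheaf.stalk x) ((F i.1).presheaf.stalk x) = 1 := fun i => by
          obtain ⟨j, -, hj⟩ := Finset.mem_map.1 i.2
          rw [← hj]
          exact CohDev.length_stalk_oz x
        show ((Module.length (X.presheaf.stalk x) ((∐ F).presheaf.stalk x)).toNat : ℤ) = _
        rw [← e.length_eq, Module.length_pi_of_fintype, Finset.sum_congr rfl fun i _ => h1 i, Finset.sum_const]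
        simp [s]
      · obtain ⟨e, -⟩ := exists_stalk_sigma F ∅ x fun i _ => hother i fun he => hpos (he ▸ i.1.2)
        haveI : Subsingleton ((∐ F).presheaf.stalk x) := e.symm.injective.subsingleton
        show ((Module.length (X.presheaf.stalk x) ((∐ F).presheaf.stalk x)).toNat : ℤ) = _
        rw [Module.length_eq_zero, Int.toNat_eq_zero.2 (not_lt.1 hpos)]
        rfl
    · rw [if_neg hx, hk x hx]
      rfl

end Groth.Agent.CycLib.Dev
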