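import Groth.Agent.CycLib.FlatDecomp
import Groth.Agent.S0616
import Mathlib.RingTheory.Ideal.AssociatedPrime.Localization
import Mathlib.RingTheory.Support
import Mathlib.RingTheory.Localization.Module

/-!
Cutting a module with one-dimensional support by an element avoiding the minimal primes of its support.
-/

set_option autoImplicit false
set_option linter.style.haveILetI false
set_option maxHeartbeats 800000

universe u

open IsLocalRing Pointwise

namespace Groth.Agent.CycLib

/-- Lengths of localized modules do not depend on the localizations they are computed over. -/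
theorem length_eq_of_isLocalizedModule {A S T : Type u} [CommRing A] [CommRing S] [CommRing T] [Algebra A S]
    [Algebra A T] (M0 : Submonoid A) [IsLocalization M0 S] (φ : S →ₐ[A] T) (hφ : Function.Surjective φ)
    {M N N' : Type u} [AddCommGroup M] [Module A M] [AddCommGroup N] [Module A N] [Module S N]
    [IsScalarTower A S N] [AddCommGroup N'] [Module A N'] [Module T N'] [IsScalarTower A T N']
    (f : M →ₗ[A] N) [IsLocalizedModule M0 f] (f' : M →ₗ[A] N') [IsLocalizedModule M0 f'] :
    Module.length S N = Module.length T N' := by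
  letI : Module S N' := Module.compHom N' φ.toRingHom
  letI := φ.toRingHom.toAlgebra
  haveI : IsScalarTower A S N' := ⟨fun a s n => by
    show φ (a • s) • n = a • φ s • n
    rw [map_smul, smul_assoc]⟩
  haveI : IsScalarTower S T N' := ⟨fun s t n => by
    show (φ s * t) • n = φ s • t • n
    rw [mul_smul]⟩
  let e : N ≃ₗ[A] N' := (IsLocalizedModule.iso M0 f).symm.trans (IsLocalizedModule.iso M0 f')
  rw [(LinearEquiv.ofBijective (e.toLinearMap.extendScalarsOfIsLocalization M0 S) e.bijective :
    N ≃ₗ[S] N').length_eq]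
  exact Module.length_eq_of_surjective (R := T) (S := S) (M := N') hφ

theorem minimalPrimes_subset_associatedPrimes {A : Type u} [CommRing A] [IsNoetherianRing A] (M : Type u)
    [AddCommGroup M] [Module A M] [Module.Finite A M] :
    (Module.annihilator A M).minimalPrimes ⊆ associatedPrimes A M :=
  Module.associatedPrimes.minimalPrimes_annihilator_subset_associatedPrimes A M

theorem length_cut_module {A : Type u} [CommRing A] [IsNoetherianRing A] [IsLocalRing A] (M : Type u)
    [AddCommGroup M] [Module A M] [Module.Finite A M] [Nontrivial M]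
    (hdim : ∀ P : Ideal A, P.IsPrime → Module.annihilator A M ≤ P →
      P ∈ (Module.annihilator A M).minimalPrimes ∨ P = maximalIdeal A)
    (hmax : ¬ IsAssociatedPrime (maximalIdeal A) M) (t : A)
    (ht : ∀ P ∈ (Module.annihilator A M).minimalPrimes, t ∉ P) (s : Finset (PrimeSpectrum A))
    (hs : ∀ P : PrimeSpectrum A, P ∈ s ↔ P.asIdeal ∈ (Module.annihilator A M).minimalPrimes) :
    (Module.length A (M ⧸ Ideal.span {t} • (⊤ : Submodule A M))).toNat =
      ∑ P ∈ s, (Module.length (Localization.AtPrime P.asIdeal) (LocalizedModule P.asIdeal.primeCompl M)).toNat *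
        (Module.length A (A ⧸ (P.asIdeal ⊔ Ideal.span {t}))).toNat := by
  classical
  set I := Module.annihilator A M
  have hI : I ≠ ⊤ := fun h => by
    obtain ⟨m, hm⟩ := exists_ne (0 : M)
    exact hm (by simpa using Module.mem_annihilator.1 (h ▸ Submodule.mem_top : (1 : A) ∈ I) m)
  have hassoc : I.minimalPrimes ⊆ associatedPrimes A M := minimalPrimes_subset_associatedPrimes M
  have hmaxmin : maximalIdeal A ∉ I.minimalPrimes := fun h => hmax (hassoc h)
  let A' := A ⧸ I
  let π : A →+* A' := Ideal.Quotient.mk I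
  have hπ : Function.Surjective π := Ideal.Quotient.mk_surjective
  haveI : Nontrivial A' := Ideal.Quotient.nontrivial_iff.2 hI
  haveI : IsLocalRing A' := IsLocalRing.of_surjective' π hπ
  letI : Module A' M := Module.IsTorsionBySet.module (I := I) fun m ⟨a, ha⟩ => Module.mem_annihilator.1 ha m
  haveI : IsScalarTower A A' M := ⟨fun a b m => by
    obtain ⟨c, rfl⟩ := hπ b
    show (a * c) • m = a • c • m
    rw [mul_smul]⟩
  haveI : Module.Finite A' M := Module.Finite.of_restrictScalars_finite A A' M
  have hle : ∀ q : Ideal A', I ≤ q.comap π := fun q => Ideal.mk_ker.ge.trans (Ideal.comap_mono bot_le)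
  have hmincomap : ∀ q : Ideal A', q.IsPrime → (q ∈ minimalPrimes A' ↔ q.comap π ∈ I.minimalPrimes) := by
    intro q hq
    constructor
    · intro h
      refine ⟨⟨inferInstance, hle q⟩, fun J hJ hJle => ?_⟩
      haveI : J.IsPrime := hJ.1
      have hJ' : (J.map π).IsPrime := Ideal.map_isPrime_of_surjective hπ (by rw [Ideal.mk_ker]; exact hJ.2)
      have h1 : J.map π ≤ q := (Ideal.map_mono hJle).trans Ideal.map_comap_le
      exact (Ideal.comap_mono (h.2 ⟨hJ', bot_le⟩ h1)).trans (by
        rw [Ideal.comap_map_of_surjective π hπ, ← RingHom.ker_eq_comap_bot, Ideal.mk_ker]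
        exact sup_le le_rfl hJ.2)
    · intro h
      refine ⟨⟨hq, bot_le⟩, fun J hJ hJle => ?_⟩
      haveI : J.IsPrime := hJ.1
      rw [← Ideal.map_comap_of_surjective π hπ J, ← Ideal.map_comap_of_surjective π hπ q]
      exact Ideal.map_mono (h.2 ⟨inferInstance, hle J⟩ (Ideal.comap_mono hJle))
  have hmaxcomap : (maximalIdeal A').comap π = maximalIdeal A :=
    IsLocalRing.eq_maximalIdeal (Ideal.comap_isMaximal_of_surjective π hπ)
  have hdim' : ∀ q : Ideal A', q.IsPrime → q ∈ minimalPrimes A' ∨ q = maximalIdeal A' := fun q hq => by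
    rcases hdim _ (Ideal.IsPrime.comap π) (hle q) with h | h
    · exact Or.inl ((hmincomap q hq).2 h)
    · refine Or.inr ?_
      rw [← Ideal.map_comap_of_surjective π hπ q, h, ← hmaxcomap, Ideal.map_comap_of_surjective π hπ]
  haveI : Ring.KrullDimLE 1 A' := Ring.krullDimLE_one_iff.2 fun J hJ =>
    (hdim' J hJ).imp id fun (h : J = maximalIdeal A') => h ▸ maximalIdeal.isMaximal A'
  have hA : ringKrullDim A' = 1 := by
    refine le_antisymm (Ring.krullDimLE_iff.1 inferInstance) ?_
    by_contra hlt
    have h0 : ringKrullDim A' ≤ 0 := by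
      rcases h : ringKrullDim A' with _ | (_ | n)
      · exact bot_le
      · exact absurd (h ▸ le_top) hlt
      · rw [h] at hlt
        have : n = 0 := by
          by_contra hn
          refine hlt ?_
          show ((1 : ℕ) : WithBot ℕ∞) ≤ ((n : ℕ) : WithBot ℕ∞)
          exact_mod_cast Nat.one_le_iff_ne_zero.2 hn
        subst this
        exact le_rfl
    haveI : Ring.KrullDimLE 0 A' := Ring.krullDimLE_iff.2 (by simpa using h0)
    exact hmaxmin (hmaxcomap ▸ (hmincomap _ inferInstance).1 ((maximalIdeal A').mem_minimalPrimes_of_krullDimLE_zero))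
  have ht' : ∀ q ∈ minimalPrimes A', π t ∉ q := fun q hq h => ht _ ((hmincomap q hq.1.1).1 hq) h
  have h := S0616.result hA M (π t) ht'
  have hker : Module.length A' (LinearMap.ker (LinearMap.lsmul A' M (π t))) = 0 := by
    rw [Module.length_eq_zero_iff, Submodule.subsingleton_iff_eq_bot, LinearMap.ker_eq_bot']
    intro x hx
    replace hx : t • x = 0 := hx
    by_contra hx0
    have hmem : t ∈ ⋃ p ∈ associatedPrimes A M, (p : Set A) := by
      rw [biUnion_associatedPrimes_eq_zero_divisors]
      exact ⟨x, hx0, hx⟩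
    obtain ⟨p, hp, htp⟩ := Set.mem_iUnion₂.1 hmem
    haveI := IsAssociatedPrime.isPrime hp
    rcases hdim p inferInstance (Submodule.annihilator_top.symm.le.trans (IsAssociatedPrime.annihilator_le hp)) with h' | h'
    · exact ht p h' htp
    · exact hmax (h' ▸ hp)
  rw [hker, zero_add] at h
  have e : Module.length A (M ⧸ Ideal.span {t} • (⊤ : Submodule A M)) =
      Module.length A' (M ⧸ π t • (⊤ : Submodule A' M)) := by
    have e1 : (π t • (⊤ : Submodule A' M)).restrictScalars A = Ideal.span {t} • (⊤ : Submodule A M) := by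
      rw [Submodule.ideal_span_singleton_smul]
      ext x
      simp only [Submodule.restrictScalars_mem, Submodule.mem_smul_pointwise_iff_exists, Submodule.mem_top,
        true_and]
      rfl
    rw [← Module.length_eq_of_surjective (R := A') (S := A) (M := M ⧸ π t • (⊤ : Submodule A' M)) hπ]
    exact ((Submodule.quotEquivOfEq _ _ e1.symm).trans
      (Submodule.Quotient.restrictScalarsEquiv A (π t • (⊤ : Submodule A' M)))).length_eq
  rw [e, h]
  let g : PrimeSpectrum A' → PrimeSpectrum A := PrimeSpectrum.comap π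
  have hginj : Function.Injective g := PrimeSpectrum.comap_injective_of_surjective π hπ
  have hs'fin : ((g ⁻¹' (s : Set (PrimeSpectrum A)))).Finite := s.finite_toSet.preimage hginj.injOn
  have hs' : ∀ q : PrimeSpectrum A', q ∈ hs'fin.toFinset ↔ q.asIdeal ∈ minimalPrimes A' := fun q => by
    rw [Set.Finite.mem_toFinset, Set.mem_preimage, Finset.mem_coe, hs, hmincomap _ q.isPrime]
    rfl
  rw [show (∑ᶠ (p : PrimeSpectrum A') (_ : p.asIdeal ∈ minimalPrimes A'),
        Module.length (Localization.AtPrime p.asIdeal) (LocalizedModule p.asIdeal.primeCompl M) *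
          Module.length A' (A' ⧸ p.asIdeal ⊔ Ideal.span {π t})) = ∑ p ∈ hs'fin.toFinset,
        Module.length (Localization.AtPrime p.asIdeal) (LocalizedModule p.asIdeal.primeCompl M) *
          Module.length A' (A' ⧸ p.asIdeal ⊔ Ideal.span {π t}) from
    finsum_mem_eq_sum_of_inter_support_eq (s := {p : PrimeSpectrum A' | p.asIdeal ∈ minimalPrimes A'}) _
      (Set.ext fun p => and_congr_left fun _ => (hs' p).symm)]
  have hl : ∀ q ∈ hs'fin.toFinset,
      Module.length (Localization.AtPrime q.asIdeal) (LocalizedModule q.asIdeal.primeCompl M) ≠ ⊤ := by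
    intro q hq
    haveI : Ring.KrullDimLE 0 (Localization.AtPrime q.asIdeal) := by
      rw [Ring.krullDimLE_iff, IsLocalization.AtPrime.ringKrullDim_eq_height q.asIdeal,
        Ideal.height_eq_zero_iff.2 ((hs' q).1 hq)]
      rfl
    haveI : IsArtinianRing (Localization.AtPrime q.asIdeal) := IsNoetherianRing.isArtinianRing_of_krullDimLE_zero
    exact Module.length_ne_top
  have hfin : ∀ q ∈ hs'fin.toFinset, Module.length A' (A' ⧸ (q.asIdeal ⊔ Ideal.span {π t})) ≠ ⊤ := by
    intro q hq
    have hne : q.asIdeal ⊔ Ideal.span {π t} ≠ q.asIdeal := fun e' =>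
      ht' q.asIdeal ((hs' q).1 hq) (e' ▸ Ideal.mem_sup_right (Ideal.mem_span_singleton_self (π t)))
    haveI : Ring.KrullDimLE 0 (A' ⧸ (q.asIdeal ⊔ Ideal.span {π t})) := by
      rw [Ring.krullDimLE_zero_iff]
      intro Q hQ
      haveI := hQ
      have hle : q.asIdeal ⊔ Ideal.span {π t} ≤ Q.comap (Ideal.Quotient.mk _) :=
        Ideal.mk_ker.ge.trans (Ideal.comap_mono bot_le)
      have hQm : Q.comap (Ideal.Quotient.mk (q.asIdeal ⊔ Ideal.span {π t})) = maximalIdeal A' := by
        refine (hdim' _ inferInstance).resolve_left fun hmin => ?_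
        exact hne (le_antisymm (hle.trans (hmin.2 ⟨q.isPrime, bot_le⟩ (le_sup_left.trans hle))) le_sup_left)
      haveI : (Q.comap (Ideal.Quotient.mk (q.asIdeal ⊔ Ideal.span {π t}))).IsMaximal :=
        hQm ▸ maximalIdeal.isMaximal A'
      exact Ideal.map_comap_of_surjective _ Ideal.Quotient.mk_surjective Q ▸
        (Ideal.IsMaximal.map_of_surjective_of_ker_le Ideal.Quotient.mk_surjective (by rw [Ideal.mk_ker]; exact hle))
    haveI : IsArtinianRing (A' ⧸ (q.asIdeal ⊔ Ideal.span {π t})) := IsNoetherianRing.isArtinianRing_of_krullDimLE_zero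
    rw [length_quot_self]
    exact Module.length_ne_top
  have hnat : ∀ q ∈ hs'fin.toFinset,
      Module.length (Localization.AtPrime q.asIdeal) (LocalizedModule q.asIdeal.primeCompl M) *
        Module.length A' (A' ⧸ (q.asIdeal ⊔ Ideal.span {π t})) =
      (((Module.length (Localization.AtPrime q.asIdeal) (LocalizedModule q.asIdeal.primeCompl M)).toNat *
        (Module.length A' (A' ⧸ (q.asIdeal ⊔ Ideal.span {π t}))).toNat : ℕ) : ℕ∞) := fun q hq => by
    rw [Nat.cast_mul, ENat.coe_toNat (hl q hq), ENat.coe_toNat (hfin q hq)]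
  rw [Finset.sum_congr rfl hnat, ← Nat.cast_sum, ENat.toNat_natCast]
  refine Finset.sum_nbij g (fun q hq => ?_) hginj.injOn (fun P hP => ?_) fun q hq => ?_
  · exact hs'fin.mem_toFinset.1 hq
  · have hIP : I ≤ P.asIdeal := ((hs P).1 hP).1.2
    haveI : (P.asIdeal.map π).IsPrime := Ideal.map_isPrime_of_surjective hπ (by rw [Ideal.mk_ker]; exact hIP)
    have hgP : g ⟨P.asIdeal.map π, inferInstance⟩ = P := PrimeSpectrum.ext (by
      show (P.asIdeal.map π).comap π = P.asIdeal
      rw [Ideal.comap_map_of_surjective π hπ, ← RingHom.ker_eq_comap_bot, Ideal.mk_ker, sup_eq_left]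
      exact hIP)
    exact ⟨_, hs'fin.mem_toFinset.2 (show g ⟨P.asIdeal.map π, inferInstance⟩ ∈ s from hgP.symm ▸ hP), hgP⟩
  congr 1
  · refine congrArg ENat.toNat ?_
    have hcompl : ∀ a : A, a ∈ (g q).asIdeal.primeCompl ↔ π a ∈ q.asIdeal.primeCompl := fun a => Iff.rfl
    let φ : Localization.AtPrime (g q).asIdeal →ₐ[A] Localization.AtPrime q.asIdeal :=
      IsLocalization.liftAlgHom (M := (g q).asIdeal.primeCompl) (f := Algebra.ofId A (Localization.AtPrime q.asIdeal))
        fun a => by
          rw [Algebra.ofId_apply, IsScalarTower.algebraMap_apply A A' (Localization.AtPrime q.asIdeal)]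
          exact IsLocalization.map_units (Localization.AtPrime q.asIdeal) (⟨π a, (hcompl _).1 a.2⟩ : q.asIdeal.primeCompl)
    have hφ : Function.Surjective φ := fun z => by
      obtain ⟨⟨b, u⟩, hbu⟩ := IsLocalization.surj q.asIdeal.primeCompl z
      obtain ⟨a, rfl⟩ := hπ b
      obtain ⟨c, hc⟩ := hπ u
      have hcm : c ∈ (g q).asIdeal.primeCompl := (hcompl c).2 (hc ▸ u.2)
      refine ⟨IsLocalization.mk' _ a ⟨c, hcm⟩, ?_⟩
      refine (IsLocalization.map_units (Localization.AtPrime q.asIdeal) u).mul_left_injective ?_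
      show φ (IsLocalization.mk' _ a ⟨c, hcm⟩) * algebraMap A' (Localization.AtPrime q.asIdeal) u =
        z * algebraMap A' (Localization.AtPrime q.asIdeal) u
      rw [hbu, ← hc]
      have := congrArg φ (IsLocalization.mk'_spec (Localization.AtPrime (g q).asIdeal) a (⟨c, hcm⟩ : (g q).asIdeal.primeCompl))
      rw [map_mul, AlgHom.commutes, AlgHom.commutes] at this
      exact this
    let f' : M →ₗ[A] LocalizedModule q.asIdeal.primeCompl M :=
      (LocalizedModule.mkLinearMap q.asIdeal.primeCompl M).restrictScalars A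
    haveI : IsLocalizedModule (g q).asIdeal.primeCompl f' := by
      refine ⟨fun a => ?_, fun y => ?_, fun {x y} h => ?_⟩
      · obtain ⟨v, hv⟩ := IsLocalizedModule.map_units (LocalizedModule.mkLinearMap q.asIdeal.primeCompl M)
          (⟨π a, (hcompl _).1 a.2⟩ : q.asIdeal.primeCompl)
        rw [Module.End.isUnit_iff]
        have hb := (Module.End.isUnit_iff _).1 ⟨v, hv⟩
        refine (congrArg Function.Bijective (funext fun m => ?_)).mp hb
        exact algebraMap_smul A' (a : A) m
      · obtain ⟨⟨m, u⟩, hmu⟩ := IsLocalizedModule.surj q.asIdeal.primeCompl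
          (LocalizedModule.mkLinearMap q.asIdeal.primeCompl M) y
        obtain ⟨c, hc⟩ := hπ u
        refine ⟨(m, ⟨c, (hcompl c).2 (hc ▸ u.2)⟩), ?_⟩
        show c • y = _
        rw [← algebraMap_smul A' c y]
        exact (congrArg (fun b : A' => b • y) hc).trans hmu
      · obtain ⟨u, hu⟩ := IsLocalizedModule.exists_of_eq (S := q.asIdeal.primeCompl)
          (f := LocalizedModule.mkLinearMap q.asIdeal.primeCompl M) h
        obtain ⟨c, hc⟩ := hπ u
        refine ⟨⟨c, (hcompl c).2 (hc ▸ u.2)⟩, ?_⟩
        show c • x = c • y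
        rw [← algebraMap_smul A' c x, ← algebraMap_smul A' c y]
        show π c • x = π c • y
        rw [hc]
        exact hu
    exact (length_eq_of_isLocalizedModule (g q).asIdeal.primeCompl φ hφ
      (LocalizedModule.mkLinearMap (g q).asIdeal.primeCompl M) f').symm
  · refine congrArg ENat.toNat ?_
    refine length_quot_surjective π hπ _ _ ?_
    rw [← Set.image_singleton, ← Ideal.map_span, ← Ideal.map_comap_of_surjective π hπ q.asIdeal, ← Ideal.map_sup,
      Ideal.comap_map_of_surjective π hπ, ← RingHom.ker_eq_comap_bot, Ideal.mk_ker, sup_eq_left.2]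
    · rfl
    · exact le_sup_of_le_left (hle _)

end Groth.Agent.CycLib
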