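import Groth.Agent.CycLib.DivFun
import Mathlib.AlgebraicGeometry.Stalk
import Mathlib.RingTheory.Localization.LocalizationLocalization
import Mathlib.RingTheory.Localization.AtPrime.Basic

/-!
The primes of `O_{X,x}` are the generizations of `x`: `p_ζ = ker (O_{X,x} → κ(ζ))`.
-/

set_option autoImplicit false
set_option linter.style.haveILetI false
set_option maxHeartbeats 400000

universe u

open CategoryTheory AlgebraicGeometry IsLocalRing TopologicalSpace

namespace Groth.Agent.CycLib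

variable {X Y : Scheme.{u}}

/-- The prime of `O_{X,x}` given by a generization `ζ` of `x`. -/
noncomputable def ptPrime (x ζ : X) (h : ζ ⤳ x) : PrimeSpectrum (X.presheaf.stalk x) :=
  ⟨RingHom.ker (Cyc.specMap x ζ h), RingHom.ker_isPrime _⟩

theorem ker_specMap_eq_comap (x ζ : X) (h : ζ ⤳ x) :
    RingHom.ker (Cyc.specMap x ζ h) =
      (maximalIdeal (X.presheaf.stalk ζ)).comap (X.presheaf.stalkSpecializes h).hom := by
  ext a
  exact IsLocalRing.residue_eq_zero_iff _

theorem ptPrime_eq_comap (x ζ : X) (h : ζ ⤳ x) :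
    ptPrime x ζ h =
      PrimeSpectrum.comap (X.presheaf.stalkSpecializes h).hom (closedPoint (X.presheaf.stalk ζ)) :=
  PrimeSpectrum.ext (ker_specMap_eq_comap x ζ h)

theorem fromSpecStalk_ptPrime (x ζ : X) (h : ζ ⤳ x) : X.fromSpecStalk x (ptPrime x ζ h) = ζ := by
  rw [ptPrime_eq_comap]
  show (Spec.map (X.presheaf.stalkSpecializes h) ≫ X.fromSpecStalk x) (closedPoint _) = ζ
  rw [Scheme.SpecMap_stalkSpecializes_fromSpecStalk h]
  exact Scheme.fromSpecStalk_closedPoint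

theorem fromSpecStalk_specializes (x : X) (P : PrimeSpectrum (X.presheaf.stalk x)) :
    X.fromSpecStalk x P ⤳ x := by
  have hmem : X.fromSpecStalk x P ∈ Set.range (X.fromSpecStalk x) := ⟨P, rfl⟩
  rw [Scheme.range_fromSpecStalk] at hmem
  exact hmem

theorem exists_ptPrime (x : X) (P : PrimeSpectrum (X.presheaf.stalk x)) :
    ∃ (ζ : X) (h : ζ ⤳ x), ptPrime x ζ h = P :=
  ⟨_, fromSpecStalk_specializes x P,
    (X.fromSpecStalk x).isEmbedding.injective (fromSpecStalk_ptPrime _ _ _)⟩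

theorem ptPrime_le_iff {x ζ ζ' : X} (h : ζ ⤳ x) (h' : ζ' ⤳ x) :
    RingHom.ker (Cyc.specMap x ζ h) ≤ RingHom.ker (Cyc.specMap x ζ' h') ↔ ζ ⤳ ζ' := by
  have e : X.fromSpecStalk x (ptPrime x ζ h) ⤳ X.fromSpecStalk x (ptPrime x ζ' h') ↔
      ptPrime x ζ h ≤ ptPrime x ζ' h' :=
    (X.fromSpecStalk x).isEmbedding.isInducing.specializes_iff.trans
      (PrimeSpectrum.le_iff_specializes _ _).symm
  rw [fromSpecStalk_ptPrime, fromSpecStalk_ptPrime] at e
  exact e.symm

theorem residueFieldMap_specMap' (f : X ⟶ Y) {x ζ : X} (h : ζ ⤳ x)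
    (c : Y.presheaf.stalk (f x)) :
    f.residueFieldMap ζ (Cyc.specMap (f x) (f ζ) (h.map f.continuous) c) =
      Cyc.specMap x ζ h (f.stalkMap x c) := by
  have e1 := Scheme.Hom.stalkSpecializes_stalkMap_apply f ζ x h c
  show f.residueFieldMap ζ (Y.residue (f ζ) (Y.presheaf.stalkSpecializes _ c)) =
    X.residue ζ (X.presheaf.stalkSpecializes h (f.stalkMap x c))
  rw [← e1]
  exact congr($(Scheme.residue_residueFieldMap f ζ) _)

theorem residueFieldMap_congr_specMap (f : X ⟶ Y) {x ζ : X} {ξ : Y} (hζ : f ζ = ξ) (h : ζ ⤳ x)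
    (h' : ξ ⤳ f x) (c : Y.presheaf.stalk (f x)) :
    f.residueFieldMap ζ ((Y.residueFieldCongr hζ.symm).hom (Cyc.specMap (f x) ξ h' c)) =
      Cyc.specMap x ζ h (f.stalkMap x c) := by
  subst hζ
  rw [Scheme.residueFieldCongr_refl]
  exact residueFieldMap_specMap' f h c

theorem comap_ker_specMap (f : X ⟶ Y) {x ζ : X} (h : ζ ⤳ x) :
    (RingHom.ker (Cyc.specMap x ζ h)).comap (f.stalkMap x).hom =
      RingHom.ker (Cyc.specMap (f x) (f ζ) (h.map f.continuous)) := by
  ext c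
  rw [Ideal.mem_comap, RingHom.mem_ker, RingHom.mem_ker, ← residueFieldMap_specMap' f h c]
  exact map_eq_zero_iff _ (f.residueFieldMap ζ).hom.injective

theorem isLocalization_stalkSpecializes {x ζ : X} (h : ζ ⤳ x) :
    letI := (X.presheaf.stalkSpecializes h).hom.toAlgebra
    IsLocalization.AtPrime (X.presheaf.stalk ζ) (RingHom.ker (Cyc.specMap x ζ h))
      (hp := RingHom.ker_isPrime _) := by
  letI := (X.presheaf.stalkSpecializes h).hom.toAlgebra
  obtain ⟨W, hW, hx, -⟩ := exists_isAffineOpen_mem_and_subset (Opens.mem_top x)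
  have hζ : ζ ∈ W := h.mem_open W.2 hx
  letI := TopCat.Presheaf.algebra_section_stalk X.presheaf (⟨x, hx⟩ : W)
  letI := TopCat.Presheaf.algebra_section_stalk X.presheaf (⟨ζ, hζ⟩ : W)
  haveI := hW.isLocalization_stalk ⟨x, hx⟩
  haveI := hW.isLocalization_stalk ⟨ζ, hζ⟩
  haveI : IsScalarTower Γ(X, W) (X.presheaf.stalk x) (X.presheaf.stalk ζ) :=
    IsScalarTower.of_algebraMap_eq fun a => (X.presheaf.germ_stalkSpecializes_apply hx h a).symm
  haveI : (RingHom.ker (Cyc.specMap x ζ h)).IsPrime := RingHom.ker_isPrime _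
  have hc : (RingHom.ker (Cyc.specMap x ζ h)).comap (algebraMap Γ(X, W) (X.presheaf.stalk x)) =
      (hW.primeIdealOf ⟨ζ, hζ⟩).asIdeal := by
    rw [ker_specMap_eq_comap, Ideal.comap_comap,
      show ((X.presheaf.stalkSpecializes h).hom).comp (algebraMap Γ(X, W) (X.presheaf.stalk x)) =
        algebraMap Γ(X, W) (X.presheaf.stalk ζ) from
        (IsScalarTower.algebraMap_eq Γ(X, W) (X.presheaf.stalk x) (X.presheaf.stalk ζ)).symm]
    exact IsLocalization.AtPrime.comap_maximalIdeal (X.presheaf.stalk ζ) _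
  set q := (RingHom.ker (Cyc.specMap x ζ h)).comap (algebraMap Γ(X, W) (X.presheaf.stalk x))
  haveI hq : IsLocalization (hW.primeIdealOf ⟨ζ, hζ⟩).asIdeal.primeCompl (X.presheaf.stalk ζ) :=
    hW.isLocalization_stalk ⟨ζ, hζ⟩
  have hMN : (hW.primeIdealOf ⟨x, hx⟩).asIdeal.primeCompl ≤ (hW.primeIdealOf ⟨ζ, hζ⟩).asIdeal.primeCompl :=
    fun a ha ha' => (RingHom.ker_isPrime (Cyc.specMap x ζ h)).ne_top
      (Ideal.eq_top_of_isUnit_mem _ (show algebraMap Γ(X, W) (X.presheaf.stalk x) a ∈ _ from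
        (show a ∈ q from hc.symm ▸ ha'))
        ((IsLocalization.AtPrime.isUnit_to_map_iff (X.presheaf.stalk x) _ a).2 ha))
  haveI := IsLocalization.isLocalization_of_submonoid_le (X.presheaf.stalk x) (X.presheaf.stalk ζ) _ _ hMN
  refine IsLocalization.isLocalization_of_is_exists_mul_mem (X.presheaf.stalk ζ)
    ((hW.primeIdealOf ⟨ζ, hζ⟩).asIdeal.primeCompl.map (algebraMap Γ(X, W) (X.presheaf.stalk x))) _ ?_ ?_
  · rintro _ ⟨a, ha, rfl⟩ hmem
    exact ha (hc ▸ (show a ∈ q from hmem))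
  · rintro ⟨s, hs⟩
    obtain ⟨⟨a, b⟩, e⟩ := IsLocalization.surj (hW.primeIdealOf ⟨x, hx⟩).asIdeal.primeCompl s
    refine ⟨algebraMap Γ(X, W) (X.presheaf.stalk x) b.1, a, fun ha => ?_, ?_⟩
    · have : s * algebraMap Γ(X, W) (X.presheaf.stalk x) b.1 ∈ RingHom.ker (Cyc.specMap x ζ h) :=
        e ▸ (show a ∈ q from hc.symm ▸ ha)
      rcases (RingHom.ker_isPrime (Cyc.specMap x ζ h)).mem_or_mem this with h' | h'
      · exact hs h'
      · exact hMN b.2 (hc ▸ (show b.1 ∈ q from h'))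
    · rw [mul_comm]; exact e.symm

end Groth.Agent.CycLib
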