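import Groth.Agent.CycLib.ModStalk
import Groth.Agent.CycLib.ModCut
import Groth.Agent.CycLib.SpecPt
import Groth.Agent.CycLib.DimFun
import Groth.Agent.FDesc.Stalk
import Groth.Agent.Ref1.Sp
import Mathlib.LinearAlgebra.TensorProduct.Quotient
import Mathlib.RingTheory.Ideal.Quotient.Operations

/-!
Stalks of coherent modules at generizations and along closed immersions.
-/

set_option autoImplicit false
set_option linter.style.haveILetI false
set_option maxHeartbeats 800000

universe u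

open CategoryTheory AlgebraicGeometry IsLocalRing TopologicalSpace
open scoped TensorProduct

namespace Groth.Agent.CycLib

open Groth.Agent Groth.Agent.PullStalk.Sky

variable {X Y : Scheme.{u}} (M : X.Modules)

/-- The stalk at a generization as a module over the local ring. -/
noncomputable abbrev stalkModule {p ζ : X} (h : ζ ⤳ p) : Module (X.presheaf.stalk p) (M.presheaf.stalk ζ) :=
  Module.compHom _ (Ref1.spR h)

/-- Specialization as a linear map. -/
noncomputable def spLin {p ζ : X} (h : ζ ⤳ p) :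
    letI := stalkModule M h
    M.presheaf.stalk p →ₗ[X.presheaf.stalk p] M.presheaf.stalk ζ :=
  letI := stalkModule M h
  { toFun := Ref1.sp M h
    map_add' := map_add _
    map_smul' := fun a v => Ref1.sp_smul M h a v }

theorem isLocalizedModule_spLin [M.IsQuasicoherent] {p ζ : X} (h : ζ ⤳ p) :
    letI := stalkModule M h
    IsLocalizedModule (S := (ptPrime p ζ h).asIdeal.primeCompl) (spLin M h) := by
  letI := stalkModule M h
  have hunit : ∀ a, a ∈ (ptPrime p ζ h).asIdeal.primeCompl ↔ IsUnit (Ref1.spR h a) := fun a => by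
    show a ∉ RingHom.ker (Cyc.specMap p ζ h) ↔ _
    rw [ker_specMap_eq_comap, Ideal.mem_comap]
    exact IsLocalRing.notMem_maximalIdeal
  obtain ⟨W, hW, hp, -⟩ := exists_isAffineOpen_mem_and_subset (x := p) (U := ⊤) trivial
  have hζ : ζ ∈ W := h.mem_open W.2 hp
  have hu : ∀ s : Γ(X, W), IsUnit (X.presheaf.germ W ζ hζ s) →
      X.presheaf.germ W p hp s ∈ (ptPrime p ζ h).asIdeal.primeCompl := fun s hs => by
    rw [hunit, Ref1.spR_germ]; exact hs
  refine ⟨fun a => ?_, fun t => ?_, fun {v w} hvw => ?_⟩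
  · obtain ⟨b, hb⟩ := (hunit a).1 a.2
    rw [Module.End.isUnit_iff]
    refine ⟨fun v w e => ?_, fun v => ⟨(↑b⁻¹ : X.presheaf.stalk ζ) • v, ?_⟩⟩
    · replace e : Ref1.spR h a • v = Ref1.spR h a • w := e
      exact ((hunit a).1 a.2).smul_left_cancel.1 e
    · show Ref1.spR h a • (↑b⁻¹ : X.presheaf.stalk ζ) • v = v
      rw [← hb, smul_smul, Units.mul_inv, one_smul]
  · obtain ⟨m, s, hs, hst⟩ := exists_smul_germ_eq M hW hζ t
    refine ⟨(germM M W p hp m, ⟨_, hu s hs⟩), ?_⟩
    show Ref1.spR h (X.presheaf.germ W p hp s) • t = Ref1.sp M h (germM M W p hp m)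
    rw [Ref1.spR_germ, Ref1.sp_germ]
    exact hst
  · replace hvw : Ref1.sp M h (v - w) = 0 := by rw [map_sub]; exact sub_eq_zero.2 hvw
    obtain ⟨m, s, hs, hsm⟩ := exists_smul_germ_eq M hW hp (v - w)
    have h0 : germM M W ζ hζ m = 0 := by
      rw [← Ref1.sp_germ M h hp m, ← hsm, Ref1.sp_smul, hvw, smul_zero]
    obtain ⟨r, hr, hrm⟩ := exists_smul_eq_zero_of_germ_eq_zero M hW hζ m h0
    refine ⟨⟨_, Submonoid.mul_mem _ (hu r hr) ((hunit _).2 (hs.map _))⟩, ?_⟩
    show (X.presheaf.germ W p hp r * X.presheaf.germ W p hp s) • v =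
      (X.presheaf.germ W p hp r * X.presheaf.germ W p hp s) • w
    rw [← sub_eq_zero, ← smul_sub, mul_smul, hsm, ← germM_smul, hrm]
    exact map_zero (M.presheaf.germ W p hp).hom

theorem nontrivial_stalk_iff_le [M.IsQuasicoherent] {p ζ : X} (h : ζ ⤳ p)
    [Module.Finite (X.presheaf.stalk p) (M.presheaf.stalk p)] :
    Nontrivial (M.presheaf.stalk ζ) ↔
      Module.annihilator (X.presheaf.stalk p) (M.presheaf.stalk p) ≤ RingHom.ker (Cyc.specMap p ζ h) := by
  letI := stalkModule M h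
  haveI := isLocalizedModule_spLin M h
  rw [← (IsLocalizedModule.iso (ptPrime p ζ h).asIdeal.primeCompl (spLin M h)).toEquiv.nontrivial_congr]
  exact (Module.mem_support_iff (p := ptPrime p ζ h)).symm.trans Module.mem_support_iff_of_finite

theorem length_localized_stalk [M.IsQuasicoherent] {p ζ : X} (h : ζ ⤳ p) :
    Module.length (Localization.AtPrime (ptPrime p ζ h).asIdeal)
      (LocalizedModule (ptPrime p ζ h).asIdeal.primeCompl (M.presheaf.stalk p)) =
      Module.length (X.presheaf.stalk ζ) (M.presheaf.stalk ζ) := by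
  letI := stalkModule M h
  letI := (X.presheaf.stalkSpecializes h).hom.toAlgebra
  haveI : IsLocalization.AtPrime (X.presheaf.stalk ζ) (ptPrime p ζ h).asIdeal := isLocalization_stalkSpecializes h
  haveI : IsScalarTower (X.presheaf.stalk p) (X.presheaf.stalk ζ) (M.presheaf.stalk ζ) :=
    IsScalarTower.of_algebraMap_smul fun _ _ => rfl
  haveI := isLocalizedModule_spLin M h
  exact length_eq_of_isLocalizedModule (ptPrime p ζ h).asIdeal.primeCompl
    (IsLocalization.algEquiv (ptPrime p ζ h).asIdeal.primeCompl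
      (Localization.AtPrime (ptPrime p ζ h).asIdeal) (X.presheaf.stalk ζ)).toAlgHom
    (IsLocalization.algEquiv (ptPrime p ζ h).asIdeal.primeCompl
      (Localization.AtPrime (ptPrime p ζ h).asIdeal) (X.presheaf.stalk ζ)).surjective
    (LocalizedModule.mkLinearMap _ _) (spLin M h)

/-- The length of the stalk of the pullback along a closed immersion. -/
theorem exists_pullback_stalk_equiv (s : Y ⟶ X) [IsClosedImmersion s] (y : Y) :
    Nonempty (((Scheme.Modules.pullback s).obj M).presheaf.stalk y ≃+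
        (M.presheaf.stalk (s y) ⧸
          RingHom.ker (s.stalkMap y).hom • (⊤ : Submodule (X.presheaf.stalk (s y)) (M.presheaf.stalk (s y))))) ∧
      Module.length (Y.presheaf.stalk y) (((Scheme.Modules.pullback s).obj M).presheaf.stalk y) =
        Module.length (X.presheaf.stalk (s y)) (M.presheaf.stalk (s y) ⧸
          RingHom.ker (s.stalkMap y).hom • (⊤ : Submodule (X.presheaf.stalk (s y)) (M.presheaf.stalk (s y)))) := by
  letI := (s.stalkMap y).hom.toAlgebra
  obtain ⟨e, -⟩ := FDesc.Stalk.exists_stalk_equiv s M y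
  have hs : Function.Surjective (algebraMap (X.presheaf.stalk (s y)) (Y.presheaf.stalk y)) := s.stalkMap_surjective y
  let e1 : Y.presheaf.stalk y ⊗[X.presheaf.stalk (s y)] M.presheaf.stalk (s y) ≃ₗ[X.presheaf.stalk (s y)]
      (X.presheaf.stalk (s y) ⧸ RingHom.ker (s.stalkMap y).hom) ⊗[X.presheaf.stalk (s y)] M.presheaf.stalk (s y) :=
    TensorProduct.congr
      (Ideal.quotientKerAlgEquivOfSurjective (f := Algebra.ofId (X.presheaf.stalk (s y)) (Y.presheaf.stalk y)) hs).toLinearEquiv.symm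
      (LinearEquiv.refl _ _)
  let e2 := e1.trans (TensorProduct.quotTensorEquivQuotSMul (M.presheaf.stalk (s y)) (RingHom.ker (s.stalkMap y).hom))
  refine ⟨⟨e.symm.toAddEquiv.trans e2.toAddEquiv⟩, ?_⟩
  rw [← e.length_eq, ← e2.length_eq]
  exact (Module.length_eq_of_surjective hs).symm

theorem nontrivial_pullback_stalk (s : Y ⟶ X) [IsClosedImmersion s] (y : Y)
    [Module.Finite (X.presheaf.stalk (s y)) (M.presheaf.stalk (s y))]
    (h : Nontrivial (M.presheaf.stalk (s y))) :
    Nontrivial (((Scheme.Modules.pullback s).obj M).presheaf.stalk y) := by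
  obtain ⟨⟨e⟩, -⟩ := exists_pullback_stalk_equiv M s y
  rw [e.toEquiv.nontrivial_congr, Submodule.Quotient.nontrivial_iff]
  intro htop
  have h1 := Submodule.eq_bot_of_le_smul_of_le_jacobson_bot (RingHom.ker (s.stalkMap y).hom)
    (⊤ : Submodule (X.presheaf.stalk (s y)) (M.presheaf.stalk (s y))) Module.Finite.fg_top htop.ge
    ((IsLocalRing.le_maximalIdeal (RingHom.ker_ne_top _)).trans (IsLocalRing.maximalIdeal_le_jacobson _))
  exact not_subsingleton (M.presheaf.stalk (s y)) (Submodule.subsingleton_iff _ |>.1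
    (subsingleton_of_bot_eq_top h1.symm))

theorem nontrivial_of_nontrivial_pullback_stalk (s : Y ⟶ X) [IsClosedImmersion s] (y : Y)
    (h : Nontrivial (((Scheme.Modules.pullback s).obj M).presheaf.stalk y)) :
    Nontrivial (M.presheaf.stalk (s y)) := by
  obtain ⟨⟨e⟩, -⟩ := exists_pullback_stalk_equiv M s y
  by_contra hn
  rw [not_nontrivial_iff_subsingleton] at hn
  exact not_nontrivial _ (e.toEquiv.nontrivial_congr.1 h)

/-- Top dimensional points of the support are locally finite. -/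
theorem finite_top_dim_support [IsLocallyNoetherian X] {δ : X → ℤ} (hd : Cyc.IsDimFun X δ) {k : ℤ}
    (hM : Coh.IsCoh M) (hsupp : ∀ p : X, Nontrivial (M.presheaf.stalk p) → δ p ≤ k + 1) (p : X) :
    ∃ W : Set X, IsOpen W ∧ p ∈ W ∧
      {ζ : {q : X // δ q = k + 1 ∧ Nontrivial (M.presheaf.stalk q)} | (closure {ζ.1} ∩ W).Nonempty}.Finite := by
  haveI := hM.1
  obtain ⟨W, hW, hpW, -⟩ := exists_isAffineOpen_mem_and_subset (x := p) (U := ⊤) trivial
  haveI : IsNoetherianRing Γ(X, W) := IsLocallyNoetherian.component_noetherian ⟨_, hW⟩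
  haveI : Module.Finite Γ(X, W) Γ(M, W) := (QCoh.isFiniteType_iff M).1 hM.2 W hW
  refine ⟨W, W.2, hpW, ((((Module.annihilator Γ(X, W) Γ(M, W)).finite_minimalPrimes_of_isNoetherianRing _).preimage
    (f := fun Q : PrimeSpectrum Γ(X, W) => Q.asIdeal)
    (fun a _ b _ e => PrimeSpectrum.ext e)).image hW.fromSpec |>.preimage Subtype.val_injective.injOn).subset ?_⟩
  rintro ⟨ζ, hζ, hnt⟩ ⟨w, hw, hwW⟩
  have hζW : ζ ∈ W := (specializes_iff_mem_closure.2 hw).mem_open W.2 hwW
  refine ⟨hW.primeIdealOf ⟨ζ, hζW⟩, ⟨⟨(hW.primeIdealOf ⟨ζ, hζW⟩).isPrime, (nontrivial_stalk_iff M hW hζW).1 hnt⟩,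
    fun J hJ hle => ?_⟩, hW.fromSpec_primeIdealOf _⟩
  have hJW : hW.fromSpec ⟨J, hJ.1⟩ ∈ W := by rw [← SetLike.mem_coe, ← hW.range_fromSpec]; exact ⟨_, rfl⟩
  have hntJ : Nontrivial (M.presheaf.stalk (hW.fromSpec ⟨J, hJ.1⟩)) := by
    refine (nontrivial_stalk_iff M hW hJW).2 ?_
    rw [show hW.primeIdealOf ⟨hW.fromSpec ⟨J, hJ.1⟩, hJW⟩ = (⟨J, hJ.1⟩ : PrimeSpectrum _) from
      hW.fromSpec.isOpenEmbedding.injective (hW.fromSpec_primeIdealOf _)]
    exact hJ.2
  have h1 := (primeIdealOf_le_iff hW ⟨J, hJ.1⟩ (hW.primeIdealOf ⟨ζ, hζW⟩)).1 hle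
  rw [hW.fromSpec_primeIdealOf] at h1
  have h2 : hW.fromSpec ⟨J, hJ.1⟩ = ζ := eq_of_specializes hd h1 (by rw [hζ]; exact hsupp _ hntJ)
  exact (congrArg PrimeSpectrum.asIdeal (hW.fromSpec.isOpenEmbedding.injective
    (h2.trans (hW.fromSpec_primeIdealOf ⟨ζ, hζW⟩).symm))).ge

end Groth.Agent.CycLib
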