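import Groth.Agent.CycLib.DevAbLib
import Groth.Agent.CycLib.SheafSpec
import Groth.Agent.CycLib.DevCycle
import Groth.Agent.CycLib.ModStalk
import Groth.Agent.Props.KilledSub
import Groth.Agent.ModShf.GrothAb
import Groth.Agent.KFlat.ProjFormulaClosed
import Groth.Agent.CohDev.K0
import Groth.Agent.CohDev.Piece
import Groth.Agent.ZClosLib.CohDescent

/-!
The ideal filtration of a module supported on a closed subscheme, and `K₀`.
-/

set_option autoImplicit false
set_option linter.style.haveILetI false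
set_option maxHeartbeats 800000

universe u

open CategoryTheory Limits AlgebraicGeometry IsLocalRing
open scoped ZeroObject

namespace Groth.Agent.CycLib.Dev.ClosedK0

open Groth.Agent.PullStalk.Sky Groth.Agent.PullStalk.Exact Groth.Agent.PullStalk.Basic AbLib

variable {X Z : Scheme.{u}} (i : Z ⟶ X) [IsClosedImmersion i]

/-- Pull-back. -/
noncomputable abbrev L : X.Modules ⥤ Z.Modules := Scheme.Modules.pullback i

/-- Push-forward. -/
noncomputable abbrev R : Z.Modules ⥤ X.Modules := Scheme.Modules.pushforward i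

/-- The unit. -/
noncomputable abbrev u (M : X.Modules) : M ⟶ (R i).obj ((L i).obj M) :=
  (Scheme.Modules.pullbackPushforwardAdjunction i).unit.app M

/-- The ideal of the closed subscheme at a point. -/
noncomputable abbrev J (z : Z) : Ideal (X.presheaf.stalk (i z)) := RingHom.ker (i.stalkMap z).hom

/-- Modules killed by the ideal. -/
def Small (M : X.Modules) : Prop := IsIso (u i M)

theorem small_iff {M : X.Modules} : Small i M ↔
    (∀ z, ∀ r ∈ J i z, ∀ t : M.presheaf.stalk (i z), r • t = 0) ∧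
      ∀ x ∉ Set.range i, Subsingleton (M.presheaf.stalk x) := ClUnit.isIso_unit_iff_stalk i M

theorem small_push (N : Z.Modules) : Small i ((R i).obj N) := Props.KilledSub.isIso_unit_push i N

theorem small_of_mono {A B : X.Modules} (f : A ⟶ B) [Mono f] (h : Small i B) : Small i A := by
  rw [small_iff] at h ⊢
  refine ⟨fun z r hr t => CohDev.stalk_injective f (i z) ?_, fun x hx => ?_⟩
  · rw [map_smul, map_zero, h.1 z r hr]
  · haveI := h.2 x hx
    exact (CohDev.stalk_injective f x).subsingleton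

theorem small_of_epi {A B : X.Modules} (f : A ⟶ B) [Epi f] (h : Small i A) : Small i B := by
  rw [small_iff] at h ⊢
  refine ⟨fun z r hr t => ?_, fun x hx => ?_⟩
  · obtain ⟨s, rfl⟩ := stalk_surjective f (i z) t
    rw [← map_smul, h.1 z r hr, map_zero]
  · haveI := h.2 x hx
    exact (stalk_surjective f x).subsingleton

theorem unit_stalk_eq_zero_iff (M : X.Modules) (z : Z) (t : M.presheaf.stalk (i z)) :
    stalkLin (u i M) (i z) t = 0 ↔ unitStalkHom i M z t = 0 := by
  have h : TopCat.Presheaf.stalkPushforward AddCommGrpCat i.base ((L i).obj M).presheaf z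
      (stalkLin (u i M) (i z) t) = unitStalkHom i M z t := ClUnit.stalkPushforward_unit i M z t
  have hb := ClUnit.stalkPushforward_bijective i ((L i).obj M) i.isClosedEmbedding.isInducing z
  rw [← h]
  exact ⟨fun e => (congrArg _ e).trans (map_zero _), fun e => hb.1 (e.trans (map_zero _).symm)⟩

theorem unit_stalk_surjective (M : X.Modules) (x : X) : Function.Surjective (stalkLin (u i M) x) := by
  by_cases hx : x ∈ Set.range i
  · obtain ⟨z, rfl⟩ := hx
    letI := (i.stalkMap z).hom.toAlgebra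
    letI := moduleOver i M z
    haveI : IsScalarTower (X.presheaf.stalk (i z)) (Z.presheaf.stalk z) (((L i).obj M).presheaf.stalk z) :=
      IsScalarTower.of_algebraMap_smul fun _ _ => rfl
    have hs := ClUnit.isBaseChange_surjective (isBaseChange_unitStalk i M z) (i.stalkMap_surjective z)
    have hb := ClUnit.stalkPushforward_bijective i ((L i).obj M) i.isClosedEmbedding.isInducing z
    intro s
    obtain ⟨t, ht⟩ := hs (TopCat.Presheaf.stalkPushforward AddCommGrpCat i.base ((L i).obj M).presheaf z s)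
    exact ⟨t, hb.1 ((ClUnit.stalkPushforward_unit i M z t).trans ht)⟩
  · haveI := ((small_iff i).1 (small_push i ((L i).obj M))).2 x hx
    exact fun s => ⟨0, Subsingleton.elim _ _⟩

theorem ker_unit_le (M : X.Modules) (z : Z) (t : M.presheaf.stalk (i z)) (ht : unitStalkHom i M z t = 0) :
    t ∈ J i z • (⊤ : Submodule (X.presheaf.stalk (i z)) (M.presheaf.stalk (i z))) := by
  letI := (i.stalkMap z).hom.toAlgebra
  letI := moduleOver i M z
  haveI : IsScalarTower (X.presheaf.stalk (i z)) (Z.presheaf.stalk z) (((L i).obj M).presheaf.stalk z) :=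
    IsScalarTower.of_algebraMap_smul fun _ _ => rfl
  let W := J i z • (⊤ : Submodule (X.presheaf.stalk (i z)) (M.presheaf.stalk (i z)))
  have hS : Function.Surjective (algebraMap (X.presheaf.stalk (i z)) (Z.presheaf.stalk z)) := i.stalkMap_surjective z
  let N := M.presheaf.stalk (i z) ⧸ W
  have hk : ∀ r ∈ RingHom.ker (algebraMap (X.presheaf.stalk (i z)) (Z.presheaf.stalk z)), ∀ m : N, r • m = 0 := by
    intro r hr m
    obtain ⟨m, rfl⟩ := Submodule.Quotient.mk_surjective _ m
    rw [← Submodule.Quotient.mk_smul, Submodule.Quotient.mk_eq_zero]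
    exact Submodule.smul_mem_smul hr Submodule.mem_top
  letI : SMul (Z.presheaf.stalk z) N := ⟨fun s m => (hS s).choose • m⟩
  have key : ∀ (r : X.presheaf.stalk (i z)) (m : N), algebraMap (X.presheaf.stalk (i z)) (Z.presheaf.stalk z) r • m = r • m :=
    fun r m => by
      change (hS (algebraMap _ _ r)).choose • m = r • m
      rw [← sub_eq_zero, ← sub_smul]
      exact hk _ (by rw [RingHom.mem_ker, map_sub, (hS (algebraMap _ _ r)).choose_spec, sub_self]) m
  letI : Module (Z.presheaf.stalk z) N := Function.Surjective.moduleLeft _ hS key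
  haveI : IsScalarTower (X.presheaf.stalk (i z)) (Z.presheaf.stalk z) N := IsScalarTower.of_algebraMap_smul key
  have e := (isBaseChange_unitStalk i M z).lift_eq (Submodule.mkQ W : _ →ₗ[X.presheaf.stalk (i z)] N) t
  rw [show unitStalk i M z t = 0 from ht, map_zero] at e
  exact (Submodule.Quotient.mk_eq_zero W).1 e.symm

/-- The functor `M ↦ I M`. -/
noncomputable def D : X.Modules ⥤ X.Modules where
  obj M := kernel (u i M)
  map {M N} f := kernel.map (u i M) (u i N) f ((R i).map ((L i).map f))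
    ((Scheme.Modules.pullbackPushforwardAdjunction i).unit.naturality f).symm
  map_id M := by rw [← cancel_mono (kernel.ι (u i M))]; simp
  map_comp {M N P} f g := by rw [← cancel_mono (kernel.ι (u i P))]; simp

/-- The inclusion. -/
noncomputable def dι (M : X.Modules) : (D i).obj M ⟶ M := kernel.ι (u i M)

instance mono_dι (M : X.Modules) : Mono (dι i M) := inferInstanceAs (Mono (kernel.ι _))

@[reassoc]
theorem dι_nat {M N : X.Modules} (f : M ⟶ N) : (D i).map f ≫ dι i N = dι i M ≫ f := kernel.lift_ι _ _ _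

theorem mono_D {M N : X.Modules} (f : M ⟶ N) [Mono f] : Mono ((D i).map f) := by
  haveI : Mono ((D i).map f ≫ dι i N) := by rw [dι_nat]; exact mono_comp _ _
  exact mono_of_mono _ (dι i N)

instance : (D i).Additive where
  map_add {M N f g} := by
    rw [← cancel_mono (dι i N), Preadditive.add_comp, dι_nat, dι_nat, dι_nat, Preadditive.comp_add]

theorem shortExact_unit (M : X.Modules) :
    (ShortComplex.mk (dι i M) (u i M) (kernel.condition _)).ShortExact :=
  { exact := ShortComplex.exact_of_f_is_kernel _ (kernelIsKernel _)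
    mono_f := inferInstanceAs (Mono (dι i M))
    epi_g := epi_of_stalk_surjective' _ (unit_stalk_surjective i M) }
where
  epi_of_stalk_surjective' {M N : X.Modules} (φ : M ⟶ N) (h : ∀ x, Function.Surjective (stalkLin φ x)) : Epi φ := by
    refine Preadditive.epi_of_isZero_cokernel φ ?_
    refine CohDev.isZero_of_support_eq_empty (Set.eq_empty_of_forall_notMem fun x => ?_)
    exact CohDev.not_mem_support_cokernel φ (h x)

theorem mem_range_dι (M : X.Modules) (x : X) (t : M.presheaf.stalk x) :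
    t ∈ Set.range (stalkLin (dι i M) x) ↔ stalkLin (u i M) x t = 0 :=
  ((stalk_exact (shortExact_unit i M) x).2.1 t).symm

theorem range_dι (M : X.Modules) (z : Z) :
    LinearMap.range (stalkLin (dι i M) (i z)) = J i z • ⊤ := by
  refine le_antisymm ?_ (Submodule.smul_le.2 fun r hr m _ => ?_)
  · rintro _ ⟨w, rfl⟩
    exact ker_unit_le i M z _ ((unit_stalk_eq_zero_iff i M z _).1 ((mem_range_dι i M _ _).1 ⟨w, rfl⟩))
  · refine (mem_range_dι i M _ _).2 ?_
    rw [map_smul]
    exact ((small_iff i).1 (small_push i ((L i).obj M))).1 z r hr _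

theorem epi_D {M N : X.Modules} (f : M ⟶ N) [Epi f] : Epi ((D i).map f) := by
  refine shortExact_unit.epi_of_stalk_surjective' _ fun x w => ?_
  by_cases hx : x ∈ Set.range i
  · obtain ⟨z, rfl⟩ := hx
    have h : stalkLin (dι i N) (i z) w ∈ J i z • (⊤ : Submodule (X.presheaf.stalk (i z)) (N.presheaf.stalk (i z))) :=
      (range_dι i N z).le ⟨w, rfl⟩
    rw [← LinearMap.range_eq_top.2 (stalk_surjective f (i z)), LinearMap.range_eq_map,
      ← Submodule.map_smul'', ← range_dι, Submodule.mem_map] at h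
    obtain ⟨_, ⟨v, rfl⟩, hv⟩ := h
    refine ⟨v, CohDev.stalk_injective (dι i N) (i z) ?_⟩
    rw [← CohDev.stalkLin_comp_apply, dι_nat, CohDev.stalkLin_comp_apply]
    exact hv
  · haveI := ((small_iff i).1 (small_push i ((L i).obj M))).2 x hx
    obtain ⟨v, hv⟩ := stalk_surjective f x (stalkLin (dι i N) x w)
    obtain ⟨v', rfl⟩ := (mem_range_dι i M x v).2 (Subsingleton.elim _ _)
    refine ⟨v', CohDev.stalk_injective (dι i N) x ?_⟩
    rw [← CohDev.stalkLin_comp_apply, dι_nat, CohDev.stalkLin_comp_apply, hv]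

/-- Iterates. -/
noncomputable def Dn : ℕ → (X.Modules ⥤ X.Modules)
  | 0 => 𝟭 _
  | n + 1 => Dn n ⋙ D i

instance additive_Dn : ∀ n, (Dn i n).Additive
  | 0 => inferInstanceAs (𝟭 X.Modules).Additive
  | n + 1 => haveI := additive_Dn n; inferInstanceAs (Dn i n ⋙ D i).Additive

theorem mono_Dn {M N : X.Modules} (f : M ⟶ N) [Mono f] : ∀ n, Mono ((Dn i n).map f)
  | 0 => ‹Mono f›
  | n + 1 => haveI := mono_Dn f n; mono_D i _

theorem epi_Dn {M N : X.Modules} (f : M ⟶ N) [Epi f] : ∀ n, Epi ((Dn i n).map f)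
  | 0 => ‹Epi f›
  | n + 1 => haveI := epi_Dn f n; epi_D i _

/-- The inclusion of the iterate. -/
noncomputable def dnι : ∀ (n : ℕ) (M : X.Modules), (Dn i n).obj M ⟶ M
  | 0, M => 𝟙 M
  | n + 1, M => dι i ((Dn i n).obj M) ≫ dnι n M

instance mono_dnι : ∀ (n : ℕ) (M : X.Modules), Mono (dnι i n M)
  | 0, M => inferInstanceAs (Mono (𝟙 M))
  | n + 1, M => haveI := mono_dnι n M; inferInstanceAs (Mono (dι i ((Dn i n).obj M) ≫ dnι i n M))

theorem range_dnι_le : ∀ (n : ℕ) (M : X.Modules) (z : Z),
    LinearMap.range (stalkLin (dnι i n M) (i z)) ≤ J i z ^ n • ⊤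
  | 0, M, z => fun t _ => by rw [pow_zero, Ideal.one_eq_top, Submodule.top_smul]; trivial
  | n + 1, M, z => by
    rintro _ ⟨w, rfl⟩
    show stalkLin (dι i ((Dn i n).obj M) ≫ dnι i n M) (i z) w ∈ _
    rw [CohDev.stalkLin_comp_apply]
    have h : stalkLin (dnι i n M) (i z) (stalkLin (dι i ((Dn i n).obj M)) (i z) w) ∈
        Submodule.map (stalkLin (dnι i n M) (i z)) (J i z • ⊤) :=
      Submodule.mem_map_of_mem (range_dι i ((Dn i n).obj M) z ▸ ⟨w, rfl⟩)
    rw [Submodule.map_smul'', Submodule.map_top] at h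
    rw [pow_succ', Submodule.mul_smul]
    exact Submodule.smul_mono le_rfl (range_dnι_le n M z) h

theorem subsingleton_Dn_le {M : X.Modules} {n m : ℕ} (h : n ≤ m) (x : X)
    (hs : Subsingleton (((Dn i n).obj M).presheaf.stalk x)) : Subsingleton (((Dn i m).obj M).presheaf.stalk x) := by
  induction h with
  | refl => exact hs
  | @step k _ ih => exact (CohDev.stalk_injective (dι i ((Dn i k).obj M)) x).subsingleton

/-- Local nilpotence of a sequence. -/
def Fin' {Y : Scheme.{u}} (N : ℕ → Y.Modules) : Prop :=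
  ∀ x : Y, ∃ W : Y.Opens, x ∈ W ∧ ∃ n, ∀ j, n ≤ j → ∀ y ∈ W, Subsingleton ((N j).presheaf.stalk y)

theorem Fin'.coh {Y : Scheme.{u}} [IsLocallyNoetherian Y] {N : ℕ → Y.Modules} (h : Fin' N)
    (hN : ∀ j, Coh.IsCoh (N j)) : Coh.IsCoh (seqSum.{u} N) := by
  classical
  refine isCoh_sigma_of_locallyFinite _ (fun j => hN _) fun U hU => ?_
  choose W hW n hn using h
  obtain ⟨t, ht⟩ := hU.isCompact.elim_finite_subcover (fun x => (W x : Set Y)) (fun x => (W x).2)
    fun x _ => Set.mem_iUnion.2 ⟨x, hW x⟩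
  refine ⟨(Finset.range (t.sup n)).image ULift.up, fun j hj y hy => ?_⟩
  obtain ⟨x, hxt, hyx⟩ := Set.mem_iUnion₂.1 (ht hy)
  refine hn x j.down ((Finset.le_sup hxt).trans ?_) y hyx
  by_contra hlt
  exact hj (Finset.mem_image.2 ⟨j.down, Finset.mem_range.2 (not_le.1 hlt), rfl⟩)

theorem Fin'.succ {Y : Scheme.{u}} {N : ℕ → Y.Modules} (h : Fin' N) : Fin' fun j => N (j + 1) := fun x => by
  obtain ⟨W, hW, n, hn⟩ := h x
  exact ⟨W, hW, n, fun j hj => hn (j + 1) (hj.trans j.le_succ)⟩

theorem Fin'.of_mono {Y : Scheme.{u}} {A B : ℕ → Y.Modules} (h : Fin' B) (f : ∀ j, A j ⟶ B j) [∀ j, Mono (f j)] :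
    Fin' A := fun x => by
  obtain ⟨W, hW, n, hn⟩ := h x
  exact ⟨W, hW, n, fun j hj y hy => haveI := hn j hj y hy; (CohDev.stalk_injective (f j) y).subsingleton⟩

theorem Fin'.of_epi {Y : Scheme.{u}} {A B : ℕ → Y.Modules} (h : Fin' A) (f : ∀ j, A j ⟶ B j) [∀ j, Epi (f j)] :
    Fin' B := fun x => by
  obtain ⟨W, hW, n, hn⟩ := h x
  exact ⟨W, hW, n, fun j hj y hy => haveI := hn j hj y hy; (stalk_surjective (f j) y).subsingleton⟩

theorem Fin'.pull {N : ℕ → X.Modules} (h : Fin' N) : Fin' fun j => (L i).obj (N j) := fun z => by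
  obtain ⟨W, hW, n, hn⟩ := h (i z)
  refine ⟨i ⁻¹ᵁ W, hW, n, fun j hj y hy => ?_⟩
  haveI := hn j hj (i y) hy
  letI := (i.stalkMap y).hom.toAlgebra
  letI := moduleOver i (N j) y
  haveI : IsScalarTower (X.presheaf.stalk (i y)) (Z.presheaf.stalk y) (((L i).obj (N j)).presheaf.stalk y) :=
    IsScalarTower.of_algebraMap_smul fun _ _ => rfl
  exact (ClUnit.isBaseChange_surjective (isBaseChange_unitStalk i (N j) y) (i.stalkMap_surjective y)).subsingleton

variable [IsLocallyNoetherian X]

/-- Coherent modules supported on the closed subscheme. -/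
def Good (G : X.Modules) : Prop := Coh.IsCoh G ∧ ∀ x : X, Nontrivial (G.presheaf.stalk x) → x ∈ Set.range i

theorem Good.of_mono {A B : X.Modules} (f : A ⟶ B) [Mono f] (hA : Coh.IsQCoh A) (h : Good i B) : Good i A :=
  ⟨CohDev.isCoh_of_mono f hA h.1, fun x hx => h.2 x ((CohDev.stalk_injective f x).nontrivial)⟩

theorem Good.of_epi {A B : X.Modules} (f : A ⟶ B) [Epi f] (hB : Coh.IsQCoh B) (h : Good i A) : Good i B :=
  ⟨CohDev.isCoh_of_epi f h.1 hB, fun x hx => h.2 x ((stalk_surjective f x).nontrivial)⟩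

theorem good_push {N : Z.Modules} (hN : Coh.IsCoh N) : Good i ((R i).obj N) :=
  haveI := hN.1
  ⟨CycLib.isCoh_push N i hN, fun x hx => by_contra fun h =>
    not_nontrivial_iff_subsingleton.2 (((small_iff i).1 (small_push i N)).2 x h) hx⟩

theorem coh_pull {M : X.Modules} (hM : Coh.IsCoh M) : Coh.IsCoh ((L i).obj M) :=
  ZClosLib.CohDescent.isCoh_pullback i M hM

theorem good_D {M : X.Modules} (h : Good i M) : Good i ((D i).obj M) :=
  Good.of_mono i (dι i M)
    (CohDev.isCoh_kernel _ h.1 (good_push i (coh_pull i h.1)).1.1).1 h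

theorem good_Dn {M : X.Modules} (h : Good i M) : ∀ n, Good i ((Dn i n).obj M)
  | 0 => h
  | n + 1 => good_D i (good_Dn h n)

theorem fin_Dn {M : X.Modules} (hM : Good i M) : Fin' fun n => (Dn i n).obj M := by
  intro x
  suffices h : ∃ n, Subsingleton (((Dn i n).obj M).presheaf.stalk x) by
    obtain ⟨n, hn⟩ := h
    haveI := (good_Dn i hM n).1.1
    refine ⟨⟨_, (CycLib.isClosed_support _ (good_Dn i hM n).1).isOpen_compl⟩, not_nontrivial_iff_subsingleton.2 hn,
      n, fun j hj y hy => subsingleton_Dn_le i hj y (not_nontrivial_iff_subsingleton.1 hy)⟩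
  by_cases hx : Nontrivial (M.presheaf.stalk x)
  swap
  · exact ⟨0, not_nontrivial_iff_subsingleton.1 hx⟩
  obtain ⟨z, rfl⟩ := hM.2 x hx
  haveI := hM.1.1
  haveI := FDesc.QuasiFlat.finite_stalk_of_isCoh M hM.1 (i z)
  have hle : J i z ≤ (Module.annihilator (X.presheaf.stalk (i z)) (M.presheaf.stalk (i z))).radical := by
    rw [Ideal.radical_eq_sInf]
    refine le_sInf fun p ⟨hp, hpp⟩ => fun a ha => ?_
    obtain ⟨ζ, hζ, e⟩ := exists_ptPrime (i z) ⟨p, hpp⟩
    letI := stalkModule M hζ
    haveI := isLocalizedModule_spLin M hζ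
    have hsupp : ⟨p, hpp⟩ ∈ Module.support (X.presheaf.stalk (i z)) (M.presheaf.stalk (i z)) := by
      rw [Module.support_eq_zeroLocus]; exact hp
    obtain ⟨m, hm⟩ := Module.mem_support_iff'.1 hsupp
    have hne : Ref1.sp M hζ m ≠ 0 := fun h0 => by
      obtain ⟨c, hc⟩ := IsLocalizedModule.exists_of_eq (S := (ptPrime (i z) ζ hζ).asIdeal.primeCompl)
        (f := spLin M hζ) (show spLin M hζ m = spLin M hζ 0 from h0.trans (map_zero _).symm)
      have hc' : (c : X.presheaf.stalk (i z)) ∉ p := fun hcp =>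
        c.2 ((congrArg PrimeSpectrum.asIdeal e).ge hcp)
      exact hm c.1 hc' (by simpa [Submonoid.smul_def] using hc)
    obtain ⟨w, rfl⟩ := hM.2 ζ (nontrivial_of_ne _ _ hne)
    have hw : w ⤳ z := i.isClosedEmbedding.isInducing.specializes_iff.1 hζ
    rw [show p = (ptPrime (i z) (i w) hζ).asIdeal by rw [e]]
    show a ∈ RingHom.ker (Cyc.specMap (i z) (i w) hζ)
    rw [ker_specMap_eq_comap, Ideal.mem_comap]
    by_contra hu
    have hu' : IsUnit ((X.presheaf.stalkSpecializes hζ).hom a) := not_not.1 hu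
    have := hu'.map (i.stalkMap w).hom
    erw [Scheme.Hom.stalkSpecializes_stalkMap_apply i w z hw a] at this
    rw [show (i.stalkMap z) a = 0 from ha, map_zero] at this
    exact not_isUnit_zero this
  obtain ⟨n, hn⟩ := Ideal.exists_pow_le_of_le_radical_of_fg hle (IsNoetherian.noetherian _)
  refine ⟨n, subsingleton_of_forall_eq 0 fun t => CohDev.stalk_injective (dnι i n M) (i z) ?_⟩
  rw [map_zero]
  have h := (range_dnι_le i n M z).trans (Submodule.smul_mono hn le_rfl) ⟨t, rfl⟩
  refine Submodule.smul_induction_on h (fun r hr m _ => Module.mem_annihilator.1 hr m) fun a b ha hb => ?_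
  rw [ha, hb, add_zero]

end Groth.Agent.CycLib.Dev.ClosedK0
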