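import Mathlib.RingTheory.Length
import Mathlib.RingTheory.Flat.FaithfullyFlat.Algebra
import Mathlib.RingTheory.SimpleModule.Basic
import Mathlib.LinearAlgebra.TensorProduct.Quotient
import Mathlib.RingTheory.LocalRing.RingHom.Basic
import Mathlib.RingTheory.Ideal.Maps

/-!
Lengths along flat local homomorphisms.
-/

set_option autoImplicit false
set_option linter.style.haveILetI false
set_option maxHeartbeats 400000

universe u

open TensorProduct IsLocalRing

namespace Groth.Agent.CycLib

variable {A B : Type u} [CommRing A] [CommRing B] [Algebra A B] [IsLocalRing A] [IsLocalRing B]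
  [IsLocalHom (algebraMap A B)] [Module.Flat A B]

theorem faithfullyFlat_of_isLocalHom : Module.FaithfullyFlat A B :=
  Module.FaithfullyFlat.of_flat_of_isLocalHom

theorem tensorQuotEquiv_self (I : Ideal A) :
    Nonempty ((B ⊗[A] (A ⧸ I)) ≃ₗ[B] B ⧸ I.map (algebraMap A B)) :=
  ⟨(Algebra.TensorProduct.quotIdealMapEquivTensorQuot B I).symm.toLinearEquiv⟩

/-- `length_B (B ⊗ M) = length_A M * length_B (B / m B)` for a flat local homomorphism. -/
theorem length_tensor (M : Type u) [AddCommGroup M] [Module A M] :
    Module.length B (B ⊗[A] M) =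
      Module.length A M * Module.length B (B ⧸ (maximalIdeal A).map (algebraMap A B)) := by
  haveI := faithfullyFlat_of_isLocalHom (A := A) (B := B)
  set e := Module.length B (B ⧸ (maximalIdeal A).map (algebraMap A B))
  rcases eq_or_ne (Module.length A M) ⊤ with htop | htop
  · have hne : e ≠ 0 := by
      rw [Ne, Module.length_eq_zero_iff, Ideal.Quotient.subsingleton_iff]
      intro h
      exact (maximalIdeal.isMaximal B).ne_top (top_le_iff.mp (h ▸ (((IsLocalRing.local_hom_TFAE
        (algebraMap A B)).out 0 2).mp ‹_›)))
    rw [htop, ENat.top_mul hne]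
    let F : Submodule A M → Submodule B (B ⊗[A] M) := fun N =>
      LinearMap.range (AlgebraTensorModule.lTensor B B N.subtype)
    have hF : StrictMono F := by
      intro N N' h
      refine lt_of_le_not_ge ?_ ?_
      · rintro _ ⟨z, rfl⟩
        refine ⟨(Submodule.inclusion h.le).lTensor B z, ?_⟩
        show N'.subtype.lTensor B ((Submodule.inclusion h.le).lTensor B z) = N.subtype.lTensor B z
        rw [← LinearMap.lTensor_comp_apply, Submodule.subtype_comp_inclusion]
      · intro hle
        have hz : (N.mkQ ∘ₗ N'.subtype).lTensor B = 0 := by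
          refine LinearMap.ext fun z => ?_
          obtain ⟨w, hw⟩ := hle ⟨z, rfl⟩
          rw [LinearMap.lTensor_comp_apply, LinearMap.zero_apply]
          rw [show N'.subtype.lTensor B z = N.subtype.lTensor B w from hw.symm,
            ← LinearMap.lTensor_comp_apply, show N.mkQ ∘ₗ N.subtype = 0 from LinearMap.ext fun x => by simp,
            LinearMap.lTensor_zero]
          rfl
        have hz0 := (Module.FaithfullyFlat.zero_iff_lTensor_zero A B _).mpr hz
        exact h.not_ge fun x hx => by
          simpa using LinearMap.congr_fun hz0 ⟨x, hx⟩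
    rw [← WithBot.coe_inj, Module.coe_length]
    refine le_antisymm ?_ ?_
    · rw [← Module.coe_length]; exact WithBot.coe_le_coe.2 le_top
    · rw [← htop, Module.coe_length]; exact Order.krullDim_le_of_strictMono F hF
  · rw [Module.length_ne_top_iff] at htop
    induction htop with
    | @of_subsingleton M _ _ _ =>
      rw [Module.length_eq_zero_iff.mpr inferInstance, Module.length_eq_zero_iff.mpr inferInstance, zero_mul]
    | @of_simple_quotient M _ _ N _ hN ih =>
      obtain ⟨m, hm, ⟨em⟩⟩ := isSimpleModule_iff_quot_maximal.mp ‹IsSimpleModule A (M ⧸ N)›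
      obtain rfl := IsLocalRing.eq_maximalIdeal hm
      have h1 := Module.length_eq_add_of_exact (AlgebraTensorModule.lTensor B B N.subtype)
        (AlgebraTensorModule.lTensor B B N.mkQ)
        (Module.Flat.lTensor_preserves_injective_linearMap N.subtype N.injective_subtype)
        (LinearMap.lTensor_surjective B N.mkQ_surjective)
        (lTensor_exact B (LinearMap.exact_subtype_mkQ N) N.mkQ_surjective)
      have h2 := Module.length_eq_add_of_exact N.subtype N.mkQ N.injective_subtype N.mkQ_surjective
        (LinearMap.exact_subtype_mkQ N)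
      obtain ⟨e'⟩ := tensorQuotEquiv_self (A := A) (B := B) (maximalIdeal A)
      rw [h1, h2, ih, (AlgebraTensorModule.congr (LinearEquiv.refl B B) em ≪≫ₗ e').length_eq,
        Module.length_eq_one (R := A) (M := M ⧸ N), add_mul, one_mul]

/-- `length_B (B / I B) = length_A (A / I) * length_B (B / m B)`. -/
theorem length_quotient_map (I : Ideal A) :
    Module.length B (B ⧸ I.map (algebraMap A B)) =
      Module.length A (A ⧸ I) * Module.length B (B ⧸ (maximalIdeal A).map (algebraMap A B)) := by
  obtain ⟨e⟩ := tensorQuotEquiv_self (A := A) (B := B) I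
  rw [← e.length_eq, length_tensor]

end Groth.Agent.CycLib
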