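import Groth.Agent.CycLib.DevDegInt
import Groth.Agent.CohTop.Vanishing
import Groth.Prelude.Def_FGA

/-!
Vanishing above the dimension of the support, and the alternating sum defining intersection numbers.
-/

set_option autoImplicit false
set_option linter.style.haveILetI false

universe u

open CategoryTheory Limits AlgebraicGeometry TopologicalSpace

namespace Groth.Agent.CycLib.Dev

variable {X : Scheme.{u}}

theorem height_le_of_subset {S : Set X} {d : ℕ} (hd : topologicalKrullDim S ≤ d) (T : IrreducibleCloseds X)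
    (hT : (T : Set X) ⊆ S) : Order.height T ≤ d := by
  refine Order.height_le fun p hp => ?_
  have hsub : ∀ i, (p i : Set X) ⊆ S := fun i =>
    fun y hy => hT (((p.monotone (Fin.le_last i)).trans (le_of_eq hp)) hy)
  let g : Fin (p.length + 1) → IrreducibleCloseds S := fun i =>
    ⟨Subtype.val ⁻¹' (p i : Set X), ⟨by
        obtain ⟨y, hy⟩ := (p i).2.1
        exact ⟨⟨y, hsub i hy⟩, hy⟩, fun u v hu hv ⟨a, ha, hau⟩ ⟨b, hb, hbv⟩ => by
        obtain ⟨U, hU, rfl⟩ := isOpen_induced_iff.1 hu
        obtain ⟨V, hV, rfl⟩ := isOpen_induced_iff.1 hv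
        obtain ⟨w, hw, hwU, hwV⟩ := (p i).2.2 U V hU hV ⟨a.1, ha, hau⟩ ⟨b.1, hb, hbv⟩
        exact ⟨⟨w, hsub i hw⟩, hw, hwU, hwV⟩⟩, (p i).3.preimage continuous_subtype_val⟩
  have hg : StrictMono g := fun i j hij => by
    obtain ⟨h1, h2⟩ := lt_iff_le_not_ge.1 (p.strictMono hij)
    exact lt_iff_le_not_ge.2 ⟨fun y hy => h1 hy, fun h => h2 fun y hy => h (show (⟨y, hsub j hy⟩ : S) ∈ _ from hy)⟩
  have := Order.LTSeries.length_le_krullDim (LTSeries.mk p.length g hg)
  exact_mod_cast this.trans hd

/-- Coherent cohomology vanishes above the dimension of a closed set containing the support. -/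
theorem subsingleton_HH_of_support_dim [IsNoetherian X] (M : X.Modules) {S : Set X} (hS : IsClosed S)
    (hM : ∀ x ∉ S, Subsingleton (M.presheaf.stalk x)) {d : ℕ} (hd : topologicalKrullDim S ≤ d) (p : ℕ) (hp : d < p) :
    Subsingleton (Coh.HH X M p) := by
  have hb : CohTop.Vanishing.Bound (X := X.toPresheafedSpace.carrier) S (d + 1) := fun T hT =>
    lt_of_le_of_lt (height_le_of_subset hd T hT) (by exact_mod_cast Nat.lt_succ_self d)
  have hs : CohTop.Vanishing.Supp (X := X.toPresheafedSpace.carrier) S (Coh.toAb M) := fun V hV s => by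
    refine TopCat.Presheaf.section_ext ⟨M.presheaf, M.isSheaf⟩ V s 0 fun x hx => ?_
    haveI := hM x (Set.disjoint_left.1 hV hx)
    exact Subsingleton.elim _ _
  haveI := CohTop.Vanishing.van_of_supp ⟨S, hS⟩ (d + 1) hb (Coh.toAb M) hs p hp
  exact (CohTop.Basic.HEquivHUTop (Coh.toAb M) p).injective.subsingleton

section sum

variable (k : Type u) [Field k] [X.Over (Spec (CommRingCat.of k))] [IsProper (X ↘ Spec (CommRingCat.of k))]

theorem sum_powerset_succ {r : ℕ} {A : Type*} [AddCommMonoid A] (f : Finset (Fin (r + 1)) → A) :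
    (∑ I, f I) = (∑ J : Finset (Fin r), f (J.map (Fin.succEmb r))) +
      ∑ J : Finset (Fin r), f (insert 0 (J.map (Fin.succEmb r))) := by
  classical
  rw [← Finset.powerset_univ, Fin.univ_succ, Finset.cons_eq_insert]
  erw [Finset.sum_powerset_insert (by simp)]
  have hp : (Finset.univ.map ⟨Fin.succ, Fin.succ_injective r⟩).powerset =
      (Finset.univ : Finset (Finset (Fin r))).map (Finset.mapEmbedding (Fin.succEmb r)).toEmbedding := by
    ext I
    simp only [Finset.mem_powerset, Finset.subset_map_iff, Finset.mem_map, Finset.mem_univ, true_and]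
    constructor
    · rintro ⟨u, -, rfl⟩; exact ⟨u, rfl⟩
    · rintro ⟨u, rfl⟩; exact ⟨u, Finset.subset_univ _, rfl⟩
  erw [hp]
  rw [Finset.sum_map, Finset.sum_map]
  rfl

theorem sort_map_succ {r : ℕ} (J : Finset (Fin r)) :
    (J.map (Fin.succEmb r)).sort (· ≤ ·) = (J.sort (· ≤ ·)).map Fin.succ :=
  (Finset.map_sort (r := (· ≤ ·)) (r' := (· ≤ ·)) (f := Fin.succEmb r) (s := J) fun a _ b _ => Fin.succ_le_succ_iff.symm).symm

include k in
theorem twEuler_ofFn : ∀ {r : ℕ} (D : Fin r → TwDatum X) (F : X.Modules),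
    twEuler k (List.ofFn D) F = ∑ I : Finset (Fin r), (-1 : ℤ) ^ I.card *
      Curv2.euler k X (CohB1.tensorMod (FGA.tensorList ((I.sort (· ≤ ·)).map fun i => (D i).M)) F) := by
  intro r
  induction r with
  | zero =>
    intro D F
    rw [List.ofFn_zero, Fintype.sum_subsingleton _ ∅]
    simp only [twEuler, Finset.card_empty, pow_zero, one_mul, Finset.sort_empty, List.map_nil, FGA.tensorList]
    exact EulerChar.euler_iso k (ProjTwist.oneTens F).symm
  | succ r ih =>
    intro D F
    classical
    rw [List.ofFn_succ, sum_powerset_succ]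
    simp only [twEuler]
    rw [ih, ih, sub_eq_add_neg, ← Finset.sum_neg_distrib]
    refine congrArg₂ (· + ·) (Finset.sum_congr rfl fun J _ => ?_) (Finset.sum_congr rfl fun J _ => ?_)
    · rw [Finset.card_map, sort_map_succ, List.map_map]
      rfl
    · rw [Finset.card_insert_of_notMem (by simp), Finset.card_map,
        Finset.sort_insert (r := (· ≤ ·)) (by simp) (by simp), sort_map_succ, List.map_cons, List.map_map, pow_succ]
      simp only [FGA.tensorList]
      rw [mul_neg_one, neg_mul]
      congr 2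
      refine EulerChar.euler_iso k ?_
      let T := FGA.tensorList (List.map ((fun i => (D i).M) ∘ Fin.succ) (J.sort (· ≤ ·)))
      exact ProjTwist.tensCongr (Iso.refl T) (ProjTwist.tensComm F (D 0).M) ≪≫
        (ProjTwist.tensAssoc T (D 0).M F).symm ≪≫
          ProjTwist.tensCongr (ProjTwist.tensComm T (D 0).M) (Iso.refl F)

include k in
theorem eulerCharLE_eq (M : X.Modules) {S : Set X} (hS : IsClosed S)
    (hM : ∀ x ∉ S, Subsingleton (M.presheaf.stalk x)) {d : ℕ} (hd : topologicalKrullDim S ≤ d) :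
    FGA.eulerCharLE k X M d = Curv2.euler k X M := by
  haveI := EulerChar.isLocallyNoetherian k (X := X)
  haveI := EulerChar.compactSpace k (X := X)
  haveI : IsNoetherian X := ⟨⟩
  rw [FGA.eulerCharLE, EulerChar.euler_eq_sum k (t := d + 1) fun p hp =>
    subsingleton_HH_of_support_dim M hS hM hd p (by omega)]

end sum

end Groth.Agent.CycLib.Dev
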