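import Groth.Agent.CycLib.DimFun
import Groth.Agent.VarDim.Curve
import Groth.Prelude.Def_Coh

/-!
The dimension function of schemes locally of finite type over a field, and degrees of zero-cycles.
-/

set_option autoImplicit false
set_option linter.style.haveILetI false
set_option maxHeartbeats 400000

universe u

open CategoryTheory AlgebraicGeometry Groth.Agent.VarDim Algebra

namespace Groth.Agent.CycLib

variable (K : Type u) [Field K] {X Y : Scheme.{u}}

/-- `K → κ(x)`. -/
noncomputable def kMap (c : X ⟶ Spec (CommRingCat.of K)) (x : X) : K →+* X.residueField x :=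
  (X.evaluation ⊤ x trivial).hom.comp (Coh.toGlobal c)

/-- `x ↦ trdeg_K κ(x)`. -/
noncomputable def fdelta (c : X ⟶ Spec (CommRingCat.of K)) (x : X) : ℤ :=
  letI : X.Over (Spec (CommRingCat.of K)) := ⟨c⟩
  dimPt K X x

theorem kMap_comp (f : X ⟶ Y) (cY : Y ⟶ Spec (CommRingCat.of K)) (x : X) (a : K) :
    kMap K (f ≫ cY) x a = f.residueFieldMap x (kMap K cY (f x) a) :=
  (Scheme.evaluation_naturality_apply f x (V := ⊤) trivial _).symm

theorem trdeg_eq_fdelta (c : X ⟶ Spec (CommRingCat.of K)) [LocallyOfFiniteType c] (x : X) :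
    ∃ n : ℕ, fdelta K c x = n ∧
      (letI := (kMap K c x).toAlgebra; Algebra.trdeg K (X.residueField x)) = n := by
  letI : X.Over (Spec (CommRingCat.of K)) := ⟨c⟩
  haveI : LocallyOfFiniteType (X ↘ Spec (CommRingCat.of K)) := ‹LocallyOfFiniteType c›
  exact ⟨_, rfl, trdeg_residueField K X x⟩

theorem isDimFun_fdelta (c : X ⟶ Spec (CommRingCat.of K)) [LocallyOfFiniteType c] :
    Cyc.IsDimFun X (fdelta K c) := by
  letI : X.Over (Spec (CommRingCat.of K)) := ⟨c⟩
  haveI : LocallyOfFiniteType (X ↘ Spec (CommRingCat.of K)) := ‹LocallyOfFiniteType c›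
  intro x y hxy hne
  have hlt : y < x := lt_iff.2 ⟨hxy, hne⟩
  refine ⟨Nat.cast_lt.2 (dimPt_lt_of_lt K hlt), fun himm => ?_⟩
  have hcov : y ⋖ x := ⟨hlt, fun z h1 h2 => by
    rcases himm z h2.le h1.le with rfl | rfl
    · exact lt_irrefl _ h2
    · exact lt_irrefl _ h1⟩
  show ((dimPt K X x : ℤ)) = (dimPt K X y : ℤ) + 1
  exact_mod_cast dimPt_eq_add_one_of_covBy K hcov

theorem deltaCompat_fdelta (f : X ⟶ Y) (cX : X ⟶ Spec (CommRingCat.of K))
    (cY : Y ⟶ Spec (CommRingCat.of K)) [LocallyOfFiniteType cX] [LocallyOfFiniteType cY]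
    (h : f ≫ cY = cX) : Cyc.DeltaCompat f (fdelta K cX) (fdelta K cY) := by
  intro x
  obtain ⟨n, hn, hn'⟩ := trdeg_eq_fdelta K cX x
  obtain ⟨m, hm, hm'⟩ := trdeg_eq_fdelta K cY (f x)
  letI := (kMap K cX x).toAlgebra
  letI := (kMap K cY (f x)).toAlgebra
  letI := (f.residueFieldMap x).hom.toAlgebra
  haveI : IsScalarTower K (Y.residueField (f x)) (X.residueField x) :=
    IsScalarTower.of_algebraMap_eq fun a => by subst h; exact kMap_comp K f cY x a
  haveI : FaithfulSMul K (Y.residueField (f x)) :=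
    (faithfulSMul_iff_algebraMap_injective _ _).2 (algebraMap K _).injective
  haveI : FaithfulSMul (Y.residueField (f x)) (X.residueField x) :=
    (faithfulSMul_iff_algebraMap_injective _ _).2 (algebraMap (Y.residueField (f x)) _).injective
  have e := trdeg_add_eq K (Y.residueField (f x)) (A := X.residueField x)
  rw [hn', hm'] at e
  obtain ⟨j, hj⟩ : ∃ j : ℕ, Algebra.trdeg (Y.residueField (f x)) (X.residueField x) = j := by
    have hlt : Algebra.trdeg (Y.residueField (f x)) (X.residueField x) < Cardinal.aleph0 :=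
      lt_of_le_of_lt (le_add_self.trans e.le) (Cardinal.natCast_lt_aleph0)
    exact Cardinal.lt_aleph0.1 hlt
  refine ⟨j, hj, ?_⟩
  rw [hj] at e
  have e' : m + j = n := by exact_mod_cast e
  rw [hn, hm, ← e']
  push_cast
  ring

theorem fdelta_id (p : Spec (CommRingCat.of K)) : fdelta K (𝟙 (Spec (CommRingCat.of K))) p = 0 := by
  letI : (Spec (CommRingCat.of K)).Over (Spec (CommRingCat.of K)) := ⟨𝟙 _⟩
  haveI : LocallyOfFiniteType ((Spec (CommRingCat.of K)) ↘ Spec (CommRingCat.of K)) :=
    inferInstanceAs (LocallyOfFiniteType (𝟙 _))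
  have h : Order.height p = 0 := Order.height_eq_zero.2 fun q _ => (Subsingleton.elim q p).ge
  rw [height_eq_dimPt K p] at h
  show ((dimPt K _ p : ℕ) : ℤ) = 0
  exact_mod_cast h

theorem fdelta_eq_zero_iff (c : X ⟶ Spec (CommRingCat.of K)) [LocallyOfFiniteType c] (x : X) :
    fdelta K c x = 0 ↔ IsClosed ({x} : Set X) := by
  letI : X.Over (Spec (CommRingCat.of K)) := ⟨c⟩
  haveI : LocallyOfFiniteType (X ↘ Spec (CommRingCat.of K)) := ‹LocallyOfFiniteType c›
  show ((dimPt K X x : ℕ) : ℤ) = 0 ↔ _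
  rw [Nat.cast_eq_zero]
  constructor
  · intro h
    refine isClosed_singleton_of_isMin (Order.height_eq_zero.1 ?_)
    rw [height_eq_dimPt K x, h]; rfl
  · intro h
    have h0 : Order.height x = 0 := Order.height_eq_zero.2 fun q hq => by
      have hm : q ∈ closure ({x} : Set X) := specializes_iff_mem_closure.1 hq
      rw [h.closure_eq, Set.mem_singleton_iff] at hm
      exact hm.ge
    rw [height_eq_dimPt K x] at h0
    exact_mod_cast h0

theorem fdelta_genericPoint [IsIntegral X] (c : X ⟶ Spec (CommRingCat.of K)) [LocallyOfFiniteType c]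
    (hdim : topologicalKrullDim X = 1) : fdelta K c (genericPoint X) = 1 := by
  letI : X.Over (Spec (CommRingCat.of K)) := ⟨c⟩
  haveI : LocallyOfFiniteType (X ↘ Spec (CommRingCat.of K)) := ‹LocallyOfFiniteType c›
  show ((dimPt K X (genericPoint X) : ℕ) : ℤ) = 1
  exact_mod_cast dimPt_genericPoint_of_curve K hdim

end Groth.Agent.CycLib
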