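import Groth.Agent.CycLib.DivFun
import Mathlib.AlgebraicGeometry.Morphisms.FiniteType

/-!
Compatibility of `ordAt` and `divFun` with open immersions.
-/

set_option linter.style.haveILetI false
set_option maxHeartbeats 400000

namespace Groth.Agent.CycLib

open AlgebraicGeometry CategoryTheory TopologicalSpace Groth.Agent

universe u

theorem ordZ_congr {R R' : Type u} [CommRing R] [CommRing R'] (e : R ≃+* R') (a : R) :
    LenLib.ordZ a = LenLib.ordZ (e a) := by
  letI := e.toRingHom.toAlgebra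
  have hs : Function.Surjective (algebraMap R R') := e.surjective
  let E : (R ⧸ Ideal.span {a}) ≃ₗ[R] (R' ⧸ Ideal.span {e a}) :=
    (Ideal.quotientEquivAlg (R₁ := R) (Ideal.span {a}) (Ideal.span {e a})
      (AlgEquiv.ofRingEquiv (f := e) fun _ => rfl) (by rw [Ideal.map_span, Set.image_singleton]; rfl)).toLinearEquiv
  unfold LenLib.ordZ LenLib.lenZ
  rw [E.length_eq, Module.length_eq_of_surjective hs]

theorem ordFrac_congr {R R' K K' : Type u} [CommRing R] [CommRing R'] [IsDomain R] [IsDomain R']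
    [IsNoetherianRing R] [IsNoetherianRing R'] [Ring.KrullDimLE 1 R] [Ring.KrullDimLE 1 R']
    [Field K] [Field K'] [Algebra R K] [IsFractionRing R K] [Algebra R' K'] [IsFractionRing R' K']
    (e : R ≃+* R') (ψ : K ≃+* K') (h : ∀ r, ψ (algebraMap R K r) = algebraMap R' K' (e r))
    {x : K} (hx : x ≠ 0) : CycAlg.ordFrac R K x = CycAlg.ordFrac R' K' (ψ x) := by
  obtain ⟨a, b, hb, rfl⟩ := IsFractionRing.div_surjective (A := R) x
  have hb0 : b ≠ 0 := nonZeroDivisors.ne_zero hb
  have ha0 : a ≠ 0 := fun ha => hx (by simp [ha])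
  rw [map_div₀, h, h, LenLib.ordFrac_mk ha0 hb0,
    LenLib.ordFrac_mk ((map_ne_zero_iff _ e.injective).2 ha0) ((map_ne_zero_iff _ e.injective).2 hb0),
    ← ordZ_congr e a, ← ordZ_congr e b]

variable {U X : Scheme.{u}} (j : U ⟶ X) [IsOpenImmersion j]

theorem residueFieldMap_specMap {v ξ : U} (h : ξ ⤳ v) (c : X.presheaf.stalk (j v)) :
    (j.residueFieldMap ξ).hom (Cyc.specMap (j v) (j ξ) (h.map j.continuous) c) =
      Cyc.specMap v ξ h ((j.stalkMap v).hom c) := by
  have e1 := Scheme.Hom.stalkSpecializes_stalkMap_apply j ξ v h c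
  show j.residueFieldMap ξ (X.residue (j ξ) (X.presheaf.stalkSpecializes _ c)) =
    U.residue ξ (U.presheaf.stalkSpecializes h (j.stalkMap v c))
  rw [← e1]
  exact congr($(Scheme.residue_residueFieldMap j ξ) _)

theorem ordAt_openImmersion [IsLocallyNoetherian X] {δ : X → ℤ} (hd : Cyc.IsDimFun X δ)
    (hdU : Cyc.IsDimFun U fun v => δ (j v)) {v ξ : U} (h : ξ ⤳ v) (h1 : δ (j v) + 1 = δ (j ξ))
    {f : X.residueField (j ξ)} (hf : f ≠ 0) :
    Cyc.ordAt v ξ h ((j.residueFieldMap ξ).hom f) =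
      Cyc.ordAt (j v) (j ξ) (h.map j.continuous) f := by
  haveI : IsLocallyNoetherian U := LocallyOfFiniteType.isLocallyNoetherian j
  haveI := locQuot_isDomain v ξ h
  haveI := locQuot_isFractionRing v ξ h
  haveI := locQuot_isNoetherianRing v ξ h
  haveI := locQuot_krullDimLE_one hdU v ξ h h1
  haveI := locQuot_isDomain (j v) (j ξ) (h.map j.continuous)
  haveI := locQuot_isFractionRing (j v) (j ξ) (h.map j.continuous)
  haveI := locQuot_isNoetherianRing (j v) (j ξ) (h.map j.continuous)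
  haveI := locQuot_krullDimLE_one hd (j v) (j ξ) (h.map j.continuous) h1
  let σ := (asIso (j.stalkMap v)).commRingCatIsoToRingEquiv
  let ψ := (asIso (j.residueFieldMap ξ)).commRingCatIsoToRingEquiv
  have hker : RingHom.ker (Cyc.specMap v ξ h) =
      Ideal.map σ.toRingHom (RingHom.ker (Cyc.specMap (j v) (j ξ) (h.map j.continuous))) := by
    ext c
    obtain ⟨d, rfl⟩ := σ.surjective c
    rw [RingHom.mem_ker, Ideal.mem_map_iff_of_surjective σ.toRingHom σ.surjective]
    constructor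
    · intro hc
      refine ⟨d, ?_, rfl⟩
      rw [RingHom.mem_ker]
      exact ψ.injective (((residueFieldMap_specMap j h d).trans hc).trans (map_zero ψ).symm)
    · rintro ⟨d', hd', hdd⟩
      obtain rfl : d' = d := σ.injective hdd
      rw [RingHom.mem_ker] at hd'
      exact (residueFieldMap_specMap j h d').symm.trans ((congrArg _ hd').trans (map_zero _))
  let e : Cyc.LocQuot (j v) (j ξ) (h.map j.continuous) ≃+* Cyc.LocQuot v ξ h :=
    Ideal.quotientEquiv _ _ σ hker
  refine (ordFrac_congr e ψ (fun r => ?_) hf).symm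
  obtain ⟨c, rfl⟩ := Ideal.Quotient.mk_surjective r
  exact residueFieldMap_specMap j h c

theorem divFun_openImmersion [IsLocallyNoetherian X] {δ : X → ℤ} (hd : Cyc.IsDimFun X δ)
    (hdU : Cyc.IsDimFun U fun v => δ (j v)) (ξ : U) {f : X.residueField (j ξ)} (hf : f ≠ 0) (v : U) :
    Cyc.divFun δ (j ξ) f (j v) =
      Cyc.divFun (fun w => δ (j w)) ξ ((j.residueFieldMap ξ).hom f) v := by
  unfold Cyc.divFun
  by_cases h : ξ ⤳ v ∧ δ (j v) + 1 = δ (j ξ)
  · rw [dif_pos h, dif_pos ⟨h.1.map j.continuous, h.2⟩]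
    exact (ordAt_openImmersion j hd hdU h.1 h.2 hf).symm
  · rw [dif_neg h, dif_neg fun h' => h ⟨(j.isOpenEmbedding.isInducing.specializes_iff).1 h'.1, h'.2⟩]

omit [IsOpenImmersion j] in
theorem isDimFun_comp_openImmersion [IsOpenImmersion j] {δ : X → ℤ} (hd : Cyc.IsDimFun X δ) :
    Cyc.IsDimFun U fun v => δ (j v) := by
  intro x y hxy hne
  obtain ⟨h1, h2⟩ := hd (j x) (j y) (hxy.map j.continuous) (j.isOpenEmbedding.injective.ne hne)
  refine ⟨h1, fun himm => h2 fun z hz1 hz2 => ?_⟩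
  obtain ⟨w, rfl⟩ := hz2.mem_open j.isOpenEmbedding.isOpen_range ⟨y, rfl⟩
  rcases himm w (j.isOpenEmbedding.isInducing.specializes_iff.1 hz1)
    (j.isOpenEmbedding.isInducing.specializes_iff.1 hz2) with h | h
  · exact Or.inl (congrArg _ h)
  · exact Or.inr (congrArg _ h)

end Groth.Agent.CycLib
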