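import Groth.Agent.CycLib.DevPhi

/-!
Consequences for kernels, cokernels and homology.
-/

set_option autoImplicit false
set_option linter.style.haveILetI false

universe u

open CategoryTheory Limits AlgebraicGeometry
open scoped ZeroObject

namespace Groth.Agent.CycLib.Dev

variable {X : Scheme.{u}} {δ : X → ℤ} {k : ℤ}

theorem cohLe_of_mono [IsLocallyNoetherian X] {a : ℤ} {A B : X.Modules} (f : A ⟶ B) [Mono f] (hA : Coh.IsQCoh A)
    (hB : Cyc.CohLe δ a B) : Cyc.CohLe δ a A := by
  refine ⟨CohDev.isCoh_of_mono f hA hB.1, fun x hx => hB.2 x ?_⟩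
  have h := CohDev.support_subset_of_mono f (show x ∈ CohB1.support A from not_subsingleton_iff_nontrivial.2 hx)
  exact not_subsingleton_iff_nontrivial.1 h

theorem cohLe_of_epi {a : ℤ} {A B : X.Modules} (f : A ⟶ B) [Epi f] (hA : Cyc.CohLe δ a A) (hB : Coh.IsQCoh B) :
    Cyc.CohLe δ a B := by
  refine ⟨CohDev.isCoh_of_epi f hA.1 hB, fun x hx => hA.2 x ?_⟩
  have h := CohDev.support_subset_of_epi f (show x ∈ CohB1.support B from not_subsingleton_iff_nontrivial.2 hx)
  exact not_subsingleton_iff_nontrivial.1 h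

variable [IsLocallyNoetherian X] (hd : Cyc.IsDimFun X δ)

theorem phi_iso {A B : X.Modules} (e : A ≅ B) (hA : Cyc.CohLe δ (k + 1) A) : phi hd k A = phi hd k B := by
  have hz : IsZero (0 : X.Modules) := isZero_zero _
  let S := ShortComplex.mk e.hom (0 : B ⟶ (0 : X.Modules)) (hz.eq_of_tgt _ _)
  have hB : Cyc.CohLe δ (k + 1) B := cohLe_of_epi e.hom hA (CohDev.isCoh_of_iso e hA.1).1
  have hS : S.ShortExact :=
    { exact := (S.exact_iff_epi rfl).2 (inferInstanceAs (Epi e.hom))
      mono_f := inferInstanceAs (Mono e.hom)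
      epi_g := ⟨fun _ _ _ => hz.eq_of_src _ _⟩ }
  have h0 : Cyc.CohLe δ (k - 1) (0 : X.Modules) :=
    ⟨CohDev.isCoh_of_isZero hz, fun x hx => by
      have : Subsingleton ((0 : X.Modules).presheaf.stalk x) :=
        subsingleton_of_forall_eq 0 fun t => by
          obtain ⟨W, hxW, m, rfl⟩ := PullStalk.Sky.exists_germM_eq (0 : X.Modules) x t
          have : (𝟙 (0 : X.Modules)) = 0 := hz.eq_of_src _ _
          rw [show m = 0 from congrArg (fun ψ : (0 : X.Modules) ⟶ 0 => Scheme.Modules.Hom.app ψ W m) this]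
          exact map_zero _
      exact absurd hx (not_nontrivial_iff_subsingleton.2 this)⟩
  have := phi_add hd hS hA hB (cohLe_mono (by omega) h0)
  rw [phi_of_le_sub_one hd h0, add_zero] at this
  exact this.symm

/-- A morphism has the same invariant on source minus kernel as on target minus cokernel. -/
theorem phi_map {A B : X.Modules} (g : A ⟶ B) (hA : Cyc.CohLe δ (k + 1) A) (hB : Cyc.CohLe δ (k + 1) B) :
    phi hd k A - phi hd k (kernel g) = phi hd k B - phi hd k (cokernel g) := by
  have hK := cohLe_of_mono (kernel.ι g) (CohDev.isCoh_kernel g hA.1 hB.1.1).1 hA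
  have hC := cohLe_of_epi (cokernel.π g) hB (CohDev.isCoh_cokernel g hA.1.1 hB.1).1
  have hI := cohLe_of_mono (Abelian.image.ι g) (CohDev.isCoh_image g hA.1 hB.1.1).1 hB
  let S1 := ShortComplex.mk (kernel.ι g) (Abelian.factorThruImage g) (by
    rw [← cancel_mono (Abelian.image.ι g), zero_comp, Category.assoc, Abelian.image.fac, kernel.condition])
  have hS1 : S1.ShortExact :=
    { exact := by
        rw [ShortComplex.exact_iff_exact_up_to_refinements]
        intro Z z hz
        refine ⟨Z, 𝟙 Z, inferInstance, kernel.lift g z ?_, ?_⟩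
        · rw [← Abelian.image.fac g, ← Category.assoc]
          exact (congrArg (· ≫ Abelian.image.ι g) hz).trans zero_comp
        · rw [Category.id_comp]; exact (kernel.lift_ι _ _ _).symm
      mono_f := inferInstanceAs (Mono (kernel.ι g))
      epi_g := inferInstanceAs (Epi (Abelian.factorThruImage g)) }
  let S2 := ShortComplex.mk (kernel.ι (cokernel.π g)) (cokernel.π g) (kernel.condition _)
  have hS2 : S2.ShortExact :=
    { exact := S2.exact_of_f_is_kernel (kernelIsKernel _)
      mono_f := inferInstanceAs (Mono (kernel.ι (cokernel.π g)))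
      epi_g := inferInstanceAs (Epi (cokernel.π g)) }
  have e1 := phi_add hd hS1 hK hA hI
  have e2 := phi_add hd hS2 hI hB hC
  change phi hd k A = phi hd k (kernel g) + phi hd k (Abelian.image g) at e1
  change phi hd k B = phi hd k (Abelian.image g) + phi hd k (cokernel g) at e2
  rw [e1, e2]
  abel

/-- The homology of a complex, in terms of the kernels. -/
theorem phi_homology (S : ShortComplex X.Modules) (h₁ : Cyc.CohLe δ (k + 1) S.X₁) (h₂ : Cyc.CohLe δ (k + 1) S.X₂)
    (h₃ : Coh.IsQCoh S.X₃) :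
    Cyc.CohLe δ (k + 1) S.homology ∧
      phi hd k S.homology = phi hd k (kernel S.f) + phi hd k (kernel S.g) - phi hd k S.X₁ := by
  have hc : Cyc.CohLe δ (k + 1) (kernel S.g) :=
    cohLe_of_mono (kernel.ι S.g) (CohDev.isCoh_kernel S.g h₂.1 h₃).1 h₂
  let t : S.X₁ ⟶ kernel S.g := kernel.lift S.g S.f S.zero
  let e : cokernel t ≅ S.homology := S.homologyIsoCokernelLift.symm
  have hC := cohLe_of_epi (cokernel.π t) hc (CohDev.isCoh_cokernel t h₁.1.1 hc.1).1
  refine ⟨cohLe_of_epi e.hom hC (CohDev.isCoh_of_iso e hC.1).1, ?_⟩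
  have ek : kernel t ≅ kernel S.f :=
    (kernelCompMono t (kernel.ι S.g)).symm ≪≫ kernelIsoOfEq (kernel.lift_ι S.g S.f S.zero)
  have hkt : Cyc.CohLe δ (k + 1) (kernel t) := cohLe_of_mono (kernel.ι t) (CohDev.isCoh_kernel t h₁.1 hc.1.1).1 h₁
  have h := phi_map hd t h₁ hc
  rw [phi_iso hd e hC, phi_iso hd ek hkt] at h
  linear_combination (norm := abel) h

end Groth.Agent.CycLib.Dev
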