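import Groth.Agent.CycLib.GenSub
import Groth.Agent.CycLib.DevCycle
import Groth.Agent.CycLib.DevK0
import Groth.Agent.CohDev.Piece
import Groth.Agent.CohDev.Key
import Groth.Agent.ResK0.Basic

/-!
Classes in `K₀(Coh_{≤ a'}/Coh_{≤ a-1})`: modules with the same lengths at the points of dimension `a` have
the same class.
-/

set_option autoImplicit false
set_option linter.style.haveILetI false

universe u

open CategoryTheory Limits AlgebraicGeometry IsLocalRing

namespace Groth.Agent.CycLib.Dev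

open Groth.Agent.PullStalk.Sky Groth.Agent.PullStalk.Exact Groth.Agent.Props.SubMod Groth.Agent.Props.SubSheaf

section algebra

variable {R : Type u} [CommRing R] [IsLocalRing R]

theorem nonempty_linearEquiv_of_killed {V W : Type u} [AddCommGroup V] [Module R V] [AddCommGroup W] [Module R W]
    (hV : ∀ r ∈ maximalIdeal R, ∀ v : V, r • v = 0) (hW : ∀ r ∈ maximalIdeal R, ∀ v : W, r • v = 0)
    (h : Module.length R V = Module.length R W) (hfin : Module.length R V ≠ ⊤) : Nonempty (V ≃ₗ[R] W) := by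
  letI : Field (R ⧸ maximalIdeal R) := Ideal.Quotient.field _
  have hV' : Module.IsTorsionBySet R V (maximalIdeal R : Set R) := fun v r => hV r.1 r.2 v
  have hW' : Module.IsTorsionBySet R W (maximalIdeal R : Set R) := fun v r => hW r.1 r.2 v
  letI := hV'.module
  letI := hW'.module
  haveI : IsScalarTower R (R ⧸ maximalIdeal R) V := hV'.isScalarTower
  haveI : IsScalarTower R (R ⧸ maximalIdeal R) W := hW'.isScalarTower
  have key : ∀ (U : Type u) [AddCommGroup U] [Module R U] [Module (R ⧸ maximalIdeal R) U]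
      [IsScalarTower R (R ⧸ maximalIdeal R) U], Module.length (R ⧸ maximalIdeal R) U = Module.length R U := by
    intro U _ _ _ _
    let e : Submodule (R ⧸ maximalIdeal R) U ≃o Submodule R U :=
      RelIso.ofSurjective (Submodule.restrictScalarsEmbedding R (R ⧸ maximalIdeal R) U) fun P =>
        ⟨{ P.toAddSubmonoid with
            smul_mem' := fun c v hv => by
              obtain ⟨r, rfl⟩ := Ideal.Quotient.mk_surjective c
              show (algebraMap R (R ⧸ maximalIdeal R) r) • v ∈ P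
              rw [algebraMap_smul]
              exact P.smul_mem r hv }, rfl⟩
    rw [← WithBot.coe_inj, Module.coe_length, Module.coe_length]
    exact Order.krullDim_eq_of_orderIso e
  have finV : Module.Finite (R ⧸ maximalIdeal R) V := by
    have : IsFiniteLength (R ⧸ maximalIdeal R) V := Module.length_ne_top_iff.1 (by rw [key]; exact hfin)
    haveI := (isFiniteLength_iff_isNoetherian_isArtinian.1 this).1
    infer_instance
  have finW : Module.Finite (R ⧸ maximalIdeal R) W := by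
    have : IsFiniteLength (R ⧸ maximalIdeal R) W := Module.length_ne_top_iff.1 (by rw [key, ← h]; exact hfin)
    haveI := (isFiniteLength_iff_isNoetherian_isArtinian.1 this).1
    infer_instance
  have hr : Module.finrank (R ⧸ maximalIdeal R) V = Module.finrank (R ⧸ maximalIdeal R) W := by
    have := h
    rw [← key V, ← key W, Module.length_eq_finrank, Module.length_eq_finrank] at this
    exact_mod_cast this
  exact ⟨(LinearEquiv.ofFinrankEq V W hr).restrictScalars R⟩

end algebra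

section cls

variable {X : Scheme.{u}} {δ : X → ℤ}

/-- The class in the quotient of `K₀`. -/
noncomputable abbrev cl (δ : X → ℤ) (a a' : ℤ) (F : X.Modules) : Cyc.K0CohQuot δ a' (a - 1) :=
  Cyc.toK0CohQuot δ a' (a - 1) F

theorem cl_add {a a' : ℤ} {S : ShortComplex X.Modules} (hS : S.ShortExact) (h₁ : Cyc.CohLe δ a' S.X₁)
    (h₂ : Cyc.CohLe δ a' S.X₂) (h₃ : Cyc.CohLe δ a' S.X₃) : cl δ a a' S.X₂ = cl δ a a' S.X₁ + cl δ a a' S.X₃ :=
  congrArg QuotientAddGroup.mk (ResK0.Basic.clSub_add _ hS h₁ h₂ h₃)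

theorem cl_zero {a a' : ℤ} {F : X.Modules} (h : Cyc.CohLe δ (a - 1) F) : cl δ a a' F = 0 :=
  (QuotientAddGroup.eq_zero_iff _).2 (AddSubgroup.subset_closure ⟨F, h, rfl⟩)

theorem subsingleton_stalk_of_isZero {F : X.Modules} (h : IsZero F) (x : X) : Subsingleton (F.presheaf.stalk x) :=
  subsingleton_of_forall_eq 0 fun t => by
    obtain ⟨W, hxW, m, rfl⟩ := exists_germM_eq F x t
    rw [show m = 0 from congrArg (fun ψ : F ⟶ F => Scheme.Modules.Hom.app ψ W m)
      (show (𝟙 F) = 0 from h.eq_of_src _ _)]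
    exact map_zero _

theorem subsingleton_stalk_kernel {A B : X.Modules} (f : A ⟶ B) (y : X) (h : Function.Injective (stalkLin f y)) :
    Subsingleton ((kernel f).presheaf.stalk y) :=
  subsingleton_of_forall_eq 0 fun t => by
    refine CohDev.stalk_injective (kernel.ι f) y (h ?_)
    rw [← CohDev.stalkLin_comp_apply, kernel.condition, CohDev.stalkLin_zero_apply, map_zero, map_zero]

theorem subsingleton_stalk_cokernel {A B : X.Modules} (f : A ⟶ B) (y : X) (h : Function.Surjective (stalkLin f y)) :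
    Subsingleton ((cokernel f).presheaf.stalk y) :=
  subsingleton_of_forall_eq 0 fun t => by
    obtain ⟨b, rfl⟩ := stalk_surjective (cokernel.π f) y t
    obtain ⟨a, rfl⟩ := h b
    rw [← CohDev.stalkLin_comp_apply, cokernel.condition, CohDev.stalkLin_zero_apply]

variable [IsLocallyNoetherian X]

theorem cl_map {a a' : ℤ} {A B : X.Modules} (g : A ⟶ B) (hA : Cyc.CohLe δ a' A) (hB : Cyc.CohLe δ a' B) :
    cl δ a a' A - cl δ a a' (kernel g) = cl δ a a' B - cl δ a a' (cokernel g) := by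
  have hK := cohLe_of_mono (kernel.ι g) (CohDev.isCoh_kernel g hA.1 hB.1.1).1 hA
  have hC := cohLe_of_epi (cokernel.π g) hB (CohDev.isCoh_cokernel g hA.1.1 hB.1).1
  have hI := cohLe_of_mono (Abelian.image.ι g) (CohDev.isCoh_image g hA.1 hB.1.1).1 hB
  let S1 := ShortComplex.mk (kernel.ι g) (Abelian.factorThruImage g) (by
    rw [← cancel_mono (Abelian.image.ι g), zero_comp, Category.assoc, Abelian.image.fac, kernel.condition])
  have hS1 : S1.ShortExact :=
    { exact := by
        rw [ShortComplex.exact_iff_exact_up_to_refinements]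
        intro Z z hz
        refine ⟨Z, 𝟙 Z, inferInstance, kernel.lift g z ?_, ?_⟩
        · rw [← Abelian.image.fac g, ← Category.assoc]
          exact (congrArg (· ≫ Abelian.image.ι g) hz).trans zero_comp
        · rw [Category.id_comp]; exact (kernel.lift_ι _ _ _).symm
      mono_f := inferInstanceAs (Mono (kernel.ι g))
      epi_g := inferInstanceAs (Epi (Abelian.factorThruImage g)) }
  let S2 := ShortComplex.mk (kernel.ι (cokernel.π g)) (cokernel.π g) (kernel.condition _)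
  have hS2 : S2.ShortExact :=
    { exact := S2.exact_of_f_is_kernel (kernelIsKernel _)
      mono_f := inferInstanceAs (Mono (kernel.ι (cokernel.π g)))
      epi_g := inferInstanceAs (Epi (cokernel.π g)) }
  have e1 := cl_add (a := a) hS1 hK hA hI
  have e2 := cl_add (a := a) hS2 hI hB hC
  change cl δ a a' A = cl δ a a' (kernel g) + cl δ a a' (Abelian.image g) at e1
  change cl δ a a' B = cl δ a a' (Abelian.image g) + cl δ a a' (cokernel g) at e2
  rw [e1, e2]
  abel

theorem cohLe_biprod {a : ℤ} {A B : X.Modules} (hA : Cyc.CohLe δ a A) (hB : Cyc.CohLe δ a B) :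
    Cyc.CohLe δ a (A ⊞ B) := by
  refine ⟨CohDev.isCoh_biprod hA.1 hB.1, fun x hx => ?_⟩
  rcases CohDev.support_biprod_subset A B (show x ∈ CohB1.support (A ⊞ B) from not_subsingleton_iff_nontrivial.2 hx)
    with h | h
  · exact hA.2 x (not_subsingleton_iff_nontrivial.1 h)
  · exact hB.2 x (not_subsingleton_iff_nontrivial.1 h)

theorem cl_biprod {a a' : ℤ} {A B : X.Modules} (hA : Cyc.CohLe δ a' A) (hB : Cyc.CohLe δ a' B) :
    cl δ a a' (A ⊞ B) = cl δ a a' A + cl δ a a' B :=
  cl_add (ShortComplex.Splitting.ofHasBinaryBiproduct A B).shortExact hA (cohLe_biprod hA hB) hB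

variable (hd : Cyc.IsDimFun X δ)

theorem cl_eq_of_map {a a' : ℤ} (haa : a ≤ a') {A B : X.Modules} (g : A ⟶ B) (hA : Cyc.CohLe δ a A)
    (hB : Cyc.CohLe δ a B) (h : ∀ y, δ y = a → Function.Bijective (stalkLin g y)) :
    cl δ a a' A = cl δ a a' B := by
  have hK := cohLe_of_mono (kernel.ι g) (CohDev.isCoh_kernel g hA.1 hB.1.1).1 hA
  have hC := cohLe_of_epi (cokernel.π g) hB (CohDev.isCoh_cokernel g hA.1.1 hB.1).1
  have hK' : Cyc.CohLe δ (a - 1) (kernel g) := ⟨hK.1, fun y hy => by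
    have h1 := hK.2 y hy
    by_contra h2
    exact not_nontrivial_iff_subsingleton.2 (subsingleton_stalk_kernel g y (h y (by omega)).1) hy⟩
  have hC' : Cyc.CohLe δ (a - 1) (cokernel g) := ⟨hC.1, fun y hy => by
    have h1 := hC.2 y hy
    by_contra h2
    exact not_nontrivial_iff_subsingleton.2 (subsingleton_stalk_cokernel g y (h y (by omega)).2) hy⟩
  have := cl_map (a := a) g (cohLe_mono haa hA) (cohLe_mono haa hB)
  rwa [cl_zero hK', cl_zero hC', sub_zero, sub_zero] at this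

include hd in
theorem genPts_top {a : ℤ} {F : X.Modules} (hF : Cyc.CohLe δ a F) :
    GenPts F {ξ : X | δ ξ = a ∧ Nontrivial (F.presheaf.stalk ξ)} := by
  have hF' : Cyc.CohLe δ ((a - 1) + 1) F := by rw [sub_add_cancel]; exact hF
  refine ⟨fun U hU => ?_, fun ξ hξ ξ' hξ' h => eq_of_specializes hd h (by rw [hξ.1, hξ'.1]),
    fun ξ hξ => finiteLength_stalk hd hF' (by rw [hξ.1]; ring)⟩
  choose W hWo hW hfin using fun p => finite_top_dim_support F hd hF.1 hF'.2 p
  obtain ⟨t, ht⟩ := hU.isCompact.elim_finite_subcover W hWo fun p _ => Set.mem_iUnion.2 ⟨p, hW p⟩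
  refine (t.finite_toSet.biUnion fun p _ => (hfin p).image Subtype.val).subset fun ξ hξ => ?_
  obtain ⟨p, hp, hξW⟩ := Set.mem_iUnion₂.1 (ht hξ.1)
  exact Set.mem_biUnion hp ⟨⟨ξ, by rw [hξ.2.1]; ring, hξ.2.2⟩, ⟨ξ, subset_closure rfl, hξW⟩, rfl⟩

theorem GenPts.mono {M : X.Modules} {P P' : Set X} (h : GenPts M P) (hP : P' ⊆ P) : GenPts M P' :=
  ⟨fun U hU => (h.finite U hU).subset (Set.inter_subset_inter_right _ hP),
    fun ξ hξ ξ' hξ' => h.incomp ξ (hP hξ) ξ' (hP hξ'), fun ξ hξ => h.len ξ (hP hξ)⟩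

include hd in
/-- A coherent subsheaf of a direct sum inducing given isomorphisms of the generic stalks. -/
theorem exists_roof {a : ℤ} {A B : X.Modules} (hA : Cyc.CohLe δ a A) (hB : Cyc.CohLe δ a B)
    (θ : ∀ ξ : X, δ ξ = a → (A.presheaf.stalk ξ ≃ₗ[X.presheaf.stalk ξ] B.presheaf.stalk ξ)) :
    ∃ (H : X.Modules) (p : H ⟶ A) (q : H ⟶ B), Cyc.CohLe δ a H ∧
      (∀ ξ (hξ : δ ξ = a), Function.Bijective (stalkLin p ξ) ∧
        ∀ t, stalkLin q ξ t = θ ξ hξ (stalkLin p ξ t)) ∧
      (∀ (y : X) (t : H.presheaf.stalk y), stalkLin p y t = 0 → stalkLin q y t = 0 → t = 0) ∧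
      ∀ (H' : X.Modules) (p' : H' ⟶ A) (q' : H' ⟶ B),
        (∀ ξ (hξ : δ ξ = a) t, stalkLin q' ξ t = θ ξ hξ (stalkLin p' ξ t)) → ∃ h : H' ⟶ H, h ≫ p = p' ∧ h ≫ q = q' := by
  classical
  have hM := cohLe_biprod hA hB
  haveI := hM.1.1
  let W : ∀ ξ : X, Submodule (X.presheaf.stalk ξ) ((A ⊞ B).presheaf.stalk ξ) := fun ξ =>
    if hξ : δ ξ = a then LinearMap.range (stalkLin (biprod.inl : A ⟶ A ⊞ B) ξ +
      (stalkLin (biprod.inr : B ⟶ A ⊞ B) ξ).comp (θ ξ hξ).toLinearMap) else ⊥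
  have hP := genPts_top hd hM
  let S := genFam (A ⊞ B) {ξ : X | δ ξ = a ∧ Nontrivial ((A ⊞ B).presheaf.stalk ξ)} W
  refine ⟨sub S, incl S ≫ biprod.fst, incl S ≫ biprod.snd,
    cohLe_of_mono (incl S) (isCoh_genSub hM.1 hP).1 hM, fun ξ hξ => ?_, fun y t ht ht' => ?_, fun H' p' q' hpq' => ?_⟩
  rotate_left
  · refine CohDev.stalk_injective (incl S) y ?_
    rw [CohDev.stalkLin_comp_apply] at ht ht'
    rw [map_zero]
    rw [← CohDev.stalkLin_id_apply y (stalkLin (incl S) y t), ← biprod.total, CohDev.stalkLin_add_apply,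
      CohDev.stalkLin_comp_apply, CohDev.stalkLin_comp_apply, ht, ht', map_zero, map_zero, add_zero]
  · have hz : biprod.lift p' q' ≫ toQuot S = 0 := by
      refine Pi.hom_ext _ _ fun y => ?_
      rw [zero_comp, Category.assoc, toQuot, Pi.lift_π]
      ext U m
      funext hy
      refine (toSky_app (S y).mkQ U ((biprod.lift p' q').app U m) hy).trans ((Submodule.Quotient.mk_eq_zero _).2 ?_)
      intro ξ hξP hξy
      have hW : W ξ = LinearMap.range (stalkLin (biprod.inl : A ⟶ A ⊞ B) ξ +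
          (stalkLin (biprod.inr : B ⟶ A ⊞ B) ξ).comp (θ ξ hξP.1).toLinearMap) := dif_pos hξP.1
      rw [hW, ← stalkLin_germ, ← stalkLin_sp]
      generalize Ref1.sp H' hξy _ = t
      refine ⟨stalkLin p' ξ t, ?_⟩
      rw [LinearMap.add_apply, LinearMap.comp_apply, LinearEquiv.coe_coe, ← hpq' ξ hξP.1 t,
        ← CohDev.stalkLin_comp_apply, ← CohDev.stalkLin_comp_apply, ← CohDev.stalkLin_add_apply]
      congr 2
      refine biprod.hom_ext _ _ ?_ ?_ <;> simp
    have hl : (kernel.lift _ _ hz : H' ⟶ sub S) ≫ incl S = biprod.lift p' q' := kernel.lift_ι _ _ _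
    exact ⟨kernel.lift _ _ hz, (Category.assoc _ _ _).symm.trans ((congrArg (· ≫ biprod.fst) hl).trans (biprod.lift_fst _ _)),
      (Category.assoc _ _ _).symm.trans ((congrArg (· ≫ biprod.snd) hl).trans (biprod.lift_snd _ _))⟩
  have hrange : LinearMap.range (stalkLin (incl S) ξ) = W ξ := by
    rw [range_stalk_incl hP ξ]
    by_cases hn : Nontrivial ((A ⊞ B).presheaf.stalk ξ)
    · exact genFam_self hP ⟨hξ, hn⟩
    · haveI := not_nontrivial_iff_subsingleton.1 hn
      exact Subsingleton.elim _ _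
  have hWξ : W ξ = LinearMap.range (stalkLin (biprod.inl : A ⟶ A ⊞ B) ξ +
      (stalkLin (biprod.inr : B ⟶ A ⊞ B) ξ).comp (θ ξ hξ).toLinearMap) := dif_pos hξ
  rw [hWξ] at hrange
  have hfst : ∀ (x : A.presheaf.stalk ξ) (y : B.presheaf.stalk ξ),
      stalkLin (biprod.fst : A ⊞ B ⟶ A) ξ (stalkLin biprod.inl ξ x + stalkLin biprod.inr ξ y) = x := fun x y => by
    rw [map_add, ← CohDev.stalkLin_comp_apply, ← CohDev.stalkLin_comp_apply, biprod.inl_fst, biprod.inr_fst,
      CohDev.stalkLin_id_apply, CohDev.stalkLin_zero_apply, add_zero]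
  have hsnd : ∀ (x : A.presheaf.stalk ξ) (y : B.presheaf.stalk ξ),
      stalkLin (biprod.snd : A ⊞ B ⟶ B) ξ (stalkLin biprod.inl ξ x + stalkLin biprod.inr ξ y) = y := fun x y => by
    rw [map_add, ← CohDev.stalkLin_comp_apply, ← CohDev.stalkLin_comp_apply, biprod.inl_snd, biprod.inr_snd,
      CohDev.stalkLin_zero_apply, CohDev.stalkLin_id_apply, zero_add]
  have hgraph : ∀ t, ∃ x, stalkLin (incl S) ξ t =
      stalkLin biprod.inl ξ x + stalkLin biprod.inr ξ (θ ξ hξ x) := fun t => by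
    obtain ⟨x, hx⟩ : stalkLin (incl S) ξ t ∈ LinearMap.range (stalkLin (biprod.inl : A ⟶ A ⊞ B) ξ +
      (stalkLin (biprod.inr : B ⟶ A ⊞ B) ξ).comp (θ ξ hξ).toLinearMap) := hrange ▸ ⟨t, rfl⟩
    exact ⟨x, hx.symm⟩
  refine ⟨⟨fun s t e => ?_, fun x => ?_⟩, fun t => ?_⟩
  · obtain ⟨x, hx⟩ := hgraph s
    obtain ⟨y, hy⟩ := hgraph t
    rw [CohDev.stalkLin_comp_apply, CohDev.stalkLin_comp_apply, hx, hy, hfst, hfst] at e
    exact CohDev.stalk_injective (incl S) ξ (by rw [hx, hy, e])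
  · obtain ⟨t, ht⟩ : stalkLin biprod.inl ξ x + stalkLin biprod.inr ξ (θ ξ hξ x) ∈
        LinearMap.range (stalkLin (incl S) ξ) := hrange.symm ▸ ⟨x, rfl⟩
    exact ⟨t, by rw [CohDev.stalkLin_comp_apply, ht, hfst]⟩
  · obtain ⟨x, hx⟩ := hgraph t
    rw [CohDev.stalkLin_comp_apply, CohDev.stalkLin_comp_apply, hx, hfst, hsnd]

include hd in
theorem cl_eq_of_stalk_equiv {a a' : ℤ} (haa : a ≤ a') {A B : X.Modules} (hA : Cyc.CohLe δ a A)
    (hB : Cyc.CohLe δ a B)
    (h : ∀ ξ : X, δ ξ = a → Nonempty (A.presheaf.stalk ξ ≃ₗ[X.presheaf.stalk ξ] B.presheaf.stalk ξ)) :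
    cl δ a a' A = cl δ a a' B := by
  obtain ⟨H, p, q, hH, hpq, -, -⟩ := exists_roof hd hA hB fun ξ hξ => (h ξ hξ).some
  rw [← cl_eq_of_map haa p hH hA fun y hy => (hpq y hy).1, cl_eq_of_map haa q hH hB fun y hy => ?_]
  obtain ⟨hb, hq⟩ := hpq y hy
  rw [show ⇑(stalkLin q y) = ⇑((h y hy).some) ∘ ⇑(stalkLin p y) from funext hq]
  exact (LinearEquiv.bijective _).comp hb

end cls

end Groth.Agent.CycLib.Dev
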