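import Groth.Agent.CycLib.DevTwist
import Groth.Agent.CycLib.DevK0Class
import Groth.Agent.DefoShLib.Tensor

/-!
Naturality of twisting on stalks, and exchanging two twists.
-/

set_option autoImplicit false
set_option linter.style.haveILetI false
set_option maxHeartbeats 800000

universe u

open CategoryTheory Limits AlgebraicGeometry IsLocalRing
open scoped TensorProduct

namespace Groth.Agent.CycLib.Dev

open Groth.Agent.PullStalk.Sky Groth.Agent.PullStalk.Exact Groth.Agent.Props.SubMod Groth.Agent.Props.SubSheaf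
  Groth.Agent.KFlat.StalkTensor

variable {X : Scheme.{u}}

/-- The tensor of two sections. -/
noncomputable abbrev tm (F L : X.Modules) (U : X.Opens) (m : Γ(F, U)) (n : Γ(L, U)) : Γ(CohB1.tensorMod F L, U) :=
  SecTwist.tmul F L U m n

theorem mu_germ (F L : X.Modules) (U : X.Opens) {x : X} (hx : x ∈ U) (m : Γ(F, U)) (n : Γ(L, U)) :
    mu F (germM L U x hx n) (germM F U x hx m) = germM (CohB1.tensorMod F L) U x hx (tm F L U m n) :=
  fromTensor_germ U hx m n

/-- Naturality of `mu`. -/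
theorem mu_nat {F G : X.Modules} (L : X.Modules) (g : F ⟶ G) {x : X} (b : L.presheaf.stalk x)
    (m : F.presheaf.stalk x) :
    stalkLin (DefoShLib.T L g) x (mu F b m) = mu G b (stalkLin g x m) := by
  obtain ⟨U, hU, m, n, rfl, rfl⟩ := exists_rep m b
  rw [mu_germ, stalkLin_germ, stalkLin_germ, mu_germ]
  exact congrArg (germM (CohB1.tensorMod G L) U x hU) (DefoShLib.T_tmul g U m n)

theorem exists_local_bas {L : X.Modules} (hL : PicF.IsInvertible L) (x : X) :
    ∃ (U : X.Opens) (l : Γ(L, U)), x ∈ U ∧ ∀ (y : X) (hy : y ∈ U), IsBas (germM L U y hy l) := by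
  obtain ⟨U, e, hx, he⟩ := LFDesc.exists_frame_one hL x
  refine ⟨U, e 0, hx, fun y hy => ?_⟩
  let f := LinearEquiv.ofBijective _ (he.stalkComb_bijective y hy)
  have h : ∀ r : X.presheaf.stalk y, r • germM L U y hy (e 0) = f (fun _ => r) := fun r => by
    simp [f, LFFrame.stalkComb, Fintype.linearCombination_apply]
  constructor
  · intro r s e'
    have := f.injective ((h r).symm.trans (Eq.trans e' (h s)))
    exact congrFun this 0
  · intro v
    obtain ⟨w, rfl⟩ := f.surjective v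
    exact ⟨w 0, (h _).trans (congrArg f (funext fun i => congrArg w (Subsingleton.elim 0 i)))⟩

variable [IsLocallyNoetherian X]

theorem span_germ_eq_top {M : X.Modules} [M.IsQuasicoherent] {V : X.Opens} (hV : IsAffineOpen V)
    {T : Set Γ(M, V)} (hT : Submodule.span Γ(X, V) T = ⊤) {y : X} (hy : y ∈ V) : spanGerm T y hy = ⊤ := by
  refine eq_top_iff.2 fun t _ => ?_
  obtain ⟨m, s, hs, hst⟩ := CycLib.exists_smul_germ_eq M hV hy t
  have h := germ_mem_spanGerm_of_mem_span (hT.ge (Submodule.mem_top (x := m))) y hy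
  rw [← hst] at h
  obtain ⟨u, hu⟩ := hs
  rw [← hu] at h
  have := Submodule.smul_mem _ (↑u⁻¹ : X.presheaf.stalk y) h
  rwa [smul_smul, u.inv_mul, one_smul] at this

/-- Compatible isomorphisms of the stalks given locally by sections come from an isomorphism. -/
theorem exists_iso_of_stalks {M M' : X.Modules} (hM : Coh.IsCoh M) (hM' : Coh.IsCoh M')
    (e : ∀ y : X, M.presheaf.stalk y ≃ₗ[X.presheaf.stalk y] M'.presheaf.stalk y)
    (h : ∀ (x : X) (t : M.presheaf.stalk x), ∃ (U : X.Opens) (hx : x ∈ U) (m : Γ(M, U)) (m' : Γ(M', U)),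
      germM M U x hx m = t ∧ ∀ (y : X) (hy : y ∈ U), e y (germM M U y hy m) = germM M' U y hy m') :
    ∃ f : M ≅ M', ∀ y t, stalkLin f.hom y t = e y t := by
  classical
  have hMM := CohDev.isCoh_biprod hM hM'
  haveI : (M ⊞ M').IsQuasicoherent := hMM.1
  haveI : M.IsQuasicoherent := hM.1
  let S : StalkSub (M ⊞ M') := fun y => LinearMap.range (stalkLin (biprod.inl : M ⟶ M ⊞ M') y +
    (stalkLin (biprod.inr : M' ⟶ M ⊞ M') y).comp (e y).toLinearMap)
  have hS : FTOn S ⊤ := by
    intro x _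
    obtain ⟨V, hV, hxV, -⟩ := exists_isAffineOpen_mem_and_subset (X := X) (TopologicalSpace.Opens.mem_top x)
    have := CohDev.finite_sections hM hV
    obtain ⟨T, hT⟩ := Module.Finite.fg_top (R := Γ(X, V)) (M := Γ(M, V))
    have hgood : ∀ m : Γ(M, V), ∃ (U : X.Opens) (hU : U ≤ V) (m' : Γ(M', U)), x ∈ U ∧
        ∀ (y : X) (hy : y ∈ U), e y (germM M V y (hU hy) m) = germM M' U y hy m' := fun m => by
      obtain ⟨U, hx, m1, m', h1, h2⟩ := h x (germM M V x hxV m)
      obtain ⟨W, hxW, i, j, hW⟩ := M.presheaf.germ_eq x hx hxV m1 m h1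
      refine ⟨W, j.le, M'.presheaf.map i.op m', hxW, fun y hy => ?_⟩
      rw [show germM M' W y hy (M'.presheaf.map i.op m') = germM M' U y (i.le hy) m' from
        M'.presheaf.germ_res_apply i y hy m', ← h2 y (i.le hy)]
      congr 1
      exact ((M.presheaf.germ_res_apply i y hy m1).symm.trans ((congrArg (M.presheaf.germ W y hy) hW).trans
        (M.presheaf.germ_res_apply j y hy m))).symm
    choose U hU m' hxU hm' using hgood
    let U0 : X.Opens := V ⊓ (T.attach.inf fun m => U m.1)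
    obtain ⟨V', hV', hxV', hle⟩ := exists_isAffineOpen_mem_and_subset (X := X) (x := x) (U := U0) (by
      refine ⟨hxV, ?_⟩
      show x ∈ (T.attach.inf fun m => U m.1 : X.Opens)
      induction T.attach using Finset.induction_on with
      | empty => simp
      | insert a s ha ih => rw [Finset.inf_insert]; exact ⟨hxU _, ih⟩)
    have hleU : ∀ m : T, V' ≤ U m.1 := fun m y hy =>
      (Finset.inf_le (f := fun m : T => U m.1) (T.mem_attach m) : T.attach.inf (fun m : T => U m.1) ≤ U m.1) (hle hy).2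
    have hleV : V' ≤ V := fun y hy => (hle hy).1
    let s : Finset Γ(M ⊞ M', V') := T.attach.image fun m : T =>
      (biprod.inl : M ⟶ M ⊞ M').app V' (M.presheaf.map (homOfLE hleV).op m.1) +
      (biprod.inr : M' ⟶ M ⊞ M').app V' (M'.presheaf.map (homOfLE (hleU m)).op (m' m.1))
    refine ⟨V', hV', hxV', le_top, s, fun y hy => ?_⟩
    have hgerm : ∀ m : T, germM (M ⊞ M') V' y hy ((biprod.inl : M ⟶ M ⊞ M').app V' (M.presheaf.map (homOfLE hleV).op m.1) +
        (biprod.inr : M' ⟶ M ⊞ M').app V' (M'.presheaf.map (homOfLE (hleU m)).op (m' m.1))) =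
        stalkLin (biprod.inl : M ⟶ M ⊞ M') y (germM M V y (hleV hy) m.1) +
          stalkLin (biprod.inr : M' ⟶ M ⊞ M') y (e y (germM M V y (hleV hy) m.1)) := fun m => by
      refine (map_add ((M ⊞ M').presheaf.germ V' y hy).hom _ _).trans ?_
      rw [hm' m.1 y (hleU m hy)]
      refine congrArg₂ (· + ·) ?_ ?_
      · rw [show germM M V y (hleV hy) m.1 = germM M V' y hy (M.presheaf.map (homOfLE hleV).op m.1) from
          (M.presheaf.germ_res_apply _ y hy _).symm, stalkLin_germ]
      · rw [show germM M' (U m.1) y (hleU m hy) (m' m.1) = germM M' V' y hy (M'.presheaf.map (homOfLE (hleU m)).op (m' m.1)) from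
          (M'.presheaf.germ_res_apply _ y hy _).symm, stalkLin_germ]
    refine le_antisymm ?_ (Submodule.span_le.2 ?_)
    · rw [show S y = ((⊤ : Submodule (X.presheaf.stalk y) (M.presheaf.stalk y))).map (stalkLin (biprod.inl : M ⟶ M ⊞ M') y +
        (stalkLin (biprod.inr : M' ⟶ M ⊞ M') y).comp (e y).toLinearMap) from (Submodule.map_top _).symm,
        ← span_germ_eq_top hV hT (hleV hy), spanGerm, Submodule.map_span]
      refine Submodule.span_mono ?_
      rintro _ ⟨_, ⟨m, hm, rfl⟩, rfl⟩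
      exact ⟨_, Finset.mem_coe.2 (Finset.mem_image_of_mem _ (T.mem_attach ⟨m, hm⟩)), hgerm ⟨m, hm⟩⟩
    · rintro _ ⟨_, hm, rfl⟩
      obtain ⟨m, -, rfl⟩ := Finset.mem_image.1 (Finset.mem_coe.1 hm)
      exact ⟨_, (hgerm m).symm⟩
  haveI := isQuasicoherent_sub hS
  have hrange : ∀ y, LinearMap.range (stalkLin (incl S) y) = S y := fun y => by
    obtain ⟨V, hV, hy, -, s, hs⟩ := hS y trivial
    refine le_antisymm ?_ ?_
    · rintro _ ⟨a, rfl⟩
      obtain ⟨W, hyW, a, rfl⟩ := exists_germM_eq (sub S) y a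
      rw [stalkLin_germ]
      exact (mem_range_incl S _).1 ⟨a, rfl⟩ y hyW
    · rw [hs y hy]
      refine Submodule.span_le.2 ?_
      rintro _ ⟨m, hm, rfl⟩
      obtain ⟨a, ha⟩ := (mem_range_incl S m).2 fun z hz => by
        rw [hs z hz]
        exact Submodule.subset_span ⟨m, hm, rfl⟩
      exact ⟨germM _ V y hy a, by rw [stalkLin_germ, ha]⟩
  have hgr : ∀ y w, ∃ t, stalkLin (incl S) y w =
      stalkLin (biprod.inl : M ⟶ M ⊞ M') y t + stalkLin (biprod.inr : M' ⟶ M ⊞ M') y (e y t) := fun y w => by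
    obtain ⟨t, ht⟩ := (hrange y).le ⟨w, rfl⟩
    exact ⟨t, ht.symm⟩
  have hfst : ∀ y (a : M.presheaf.stalk y) (b : M'.presheaf.stalk y),
      stalkLin (biprod.fst : M ⊞ M' ⟶ M) y (stalkLin biprod.inl y a + stalkLin biprod.inr y b) = a := fun y a b => by
    rw [map_add, ← CohDev.stalkLin_comp_apply, ← CohDev.stalkLin_comp_apply, biprod.inl_fst, biprod.inr_fst,
      CohDev.stalkLin_id_apply, CohDev.stalkLin_zero_apply, add_zero]
  have hsnd : ∀ y (a : M.presheaf.stalk y) (b : M'.presheaf.stalk y),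
      stalkLin (biprod.snd : M ⊞ M' ⟶ M') y (stalkLin biprod.inl y a + stalkLin biprod.inr y b) = b := fun y a b => by
    rw [map_add, ← CohDev.stalkLin_comp_apply, ← CohDev.stalkLin_comp_apply, biprod.inl_snd, biprod.inr_snd,
      CohDev.stalkLin_zero_apply, CohDev.stalkLin_id_apply, zero_add]
  have hb : ∀ y, Function.Bijective (stalkLin (incl S ≫ biprod.fst) y) := fun y => by
    refine ⟨fun v w hvw => ?_, fun t => ?_⟩
    · obtain ⟨a, ha⟩ := hgr y v
      obtain ⟨b, hb⟩ := hgr y w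
      rw [CohDev.stalkLin_comp_apply, CohDev.stalkLin_comp_apply, ha, hb, hfst, hfst] at hvw
      exact CohDev.stalk_injective (incl S) y (by rw [ha, hb, hvw])
    · obtain ⟨w, hw⟩ := (hrange y).ge (show stalkLin (biprod.inl : M ⟶ M ⊞ M') y t +
        stalkLin (biprod.inr : M' ⟶ M ⊞ M') y (e y t) ∈ S y from ⟨t, rfl⟩)
      exact ⟨w, by rw [CohDev.stalkLin_comp_apply, hw, hfst]⟩
  haveI : IsIso (incl S ≫ biprod.fst) := Omega.Stalks.isIso_of_stalk hb
  let f : M ⟶ M' := inv (incl S ≫ biprod.fst) ≫ incl S ≫ biprod.snd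
  have hf : ∀ y t, stalkLin f y t = e y t := fun y t => by
    obtain ⟨w, rfl⟩ := (hb y).2 t
    rw [← CohDev.stalkLin_comp_apply, IsIso.hom_inv_id_assoc, CohDev.stalkLin_comp_apply,
      CohDev.stalkLin_comp_apply]
    obtain ⟨a, ha⟩ := hgr y w
    rw [ha, hfst, hsnd]
  haveI : IsIso f := Omega.Stalks.isIso_of_stalk fun y => by
    rw [show ⇑(stalkLin f y) = ⇑(e y) from funext (hf y)]
    exact (e y).bijective
  exact ⟨asIso f, hf⟩

/-- Exchanging two twists. -/
theorem exists_twist_swap {A L N : X.Modules} (hA : Coh.IsCoh A) (hL : PicF.IsInvertible L)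
    (hN : PicF.IsInvertible N) (hM : Coh.IsCoh (CohB1.tensorMod (CohB1.tensorMod A L) N))
    (hM' : Coh.IsCoh (CohB1.tensorMod (CohB1.tensorMod A N) L)) :
    ∃ f : CohB1.tensorMod (CohB1.tensorMod A L) N ≅ CohB1.tensorMod (CohB1.tensorMod A N) L,
      ∀ (y : X) (l : L.presheaf.stalk y) (n : N.presheaf.stalk y) (a : A.presheaf.stalk y),
        stalkLin f.hom y (mu _ n (mu A l a)) = mu _ l (mu A n a) := by
  choose l0 hl0 using fun y => exists_isBas hL y
  choose n0 hn0 using fun y => exists_isBas hN y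
  let e : ∀ y : X, (CohB1.tensorMod (CohB1.tensorMod A L) N).presheaf.stalk y ≃ₗ[X.presheaf.stalk y]
      (CohB1.tensorMod (CohB1.tensorMod A N) L).presheaf.stalk y := fun y =>
    ((LinearEquiv.ofBijective _ (mu_bijective A (hl0 y))).trans
      (LinearEquiv.ofBijective _ (mu_bijective (CohB1.tensorMod A L) (hn0 y)))).symm.trans
      ((LinearEquiv.ofBijective _ (mu_bijective A (hn0 y))).trans
        (LinearEquiv.ofBijective _ (mu_bijective (CohB1.tensorMod A N) (hl0 y))))
  have he : ∀ y (l : L.presheaf.stalk y) (n : N.presheaf.stalk y) (a : A.presheaf.stalk y),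
      e y (mu _ n (mu A l a)) = mu _ l (mu A n a) := fun y l n a => by
    obtain ⟨c, rfl⟩ := (hl0 y).2 l
    obtain ⟨d, rfl⟩ := (hn0 y).2 n
    show e y (mu _ (d • n0 y) (mu A (c • l0 y) a)) = mu _ (c • l0 y) (mu A (d • n0 y) a)
    rw [mu_smul, mu_smul, mu_smul, mu_smul, ← map_smul, smul_smul, ← map_smul, smul_smul, mul_comm c d]
    simp only [e, LinearEquiv.trans_apply]
    rw [show mu (CohB1.tensorMod A L) (n0 y) (mu A (l0 y) ((d * c) • a)) =
      ((LinearEquiv.ofBijective _ (mu_bijective A (hl0 y))).trans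
        (LinearEquiv.ofBijective _ (mu_bijective (CohB1.tensorMod A L) (hn0 y)))) ((d * c) • a) from rfl,
      LinearEquiv.symm_apply_apply]
    rfl
  obtain ⟨f, hf⟩ := exists_iso_of_stalks hM hM' e fun x t => by
    obtain ⟨U1, l, hx1, hl⟩ := exists_local_bas hL x
    obtain ⟨U2, n, hx2, hn⟩ := exists_local_bas hN x
    obtain ⟨v, rfl⟩ := (mu_bijective _ (hn x hx2)).2 t
    obtain ⟨a, rfl⟩ := (mu_bijective A (hl x hx1)).2 v
    obtain ⟨U3, hx3, a, rfl⟩ := exists_germM_eq A x a
    let U := U1 ⊓ U2 ⊓ U3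
    let l' := L.presheaf.map (homOfLE (inf_le_left.trans inf_le_left : U ≤ U1)).op l
    let n' := N.presheaf.map (homOfLE (inf_le_left.trans inf_le_right : U ≤ U2)).op n
    let a' := A.presheaf.map (homOfLE (inf_le_right : U ≤ U3)).op a
    have hxU : x ∈ U := ⟨⟨hx1, hx2⟩, hx3⟩
    refine ⟨U, hxU, tm _ _ U (tm A L U a' l') n', tm _ _ U (tm A N U a' n') l', ?_, fun y hy => ?_⟩
    · rw [← mu_germ, ← mu_germ]
      simp only [germM, l', n', a']
      rw [L.presheaf.germ_res_apply, N.presheaf.germ_res_apply, A.presheaf.germ_res_apply]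
    · rw [← mu_germ, ← mu_germ, ← mu_germ, ← mu_germ, he]
  exact ⟨f, fun y l n a => (hf y _).trans (he y l n a)⟩

end Groth.Agent.CycLib.Dev
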