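import Groth.Agent.CycLib.DevDelta
import Groth.Agent.CycLib.DevTensorStalk

/-!
The operation `c₁(L) ∩ -` on cycles: linearity, independence of choices, and compatibility with rational
equivalence.
-/

set_option autoImplicit false
set_option linter.style.haveILetI false
set_option maxHeartbeats 800000

universe u

open CategoryTheory Limits AlgebraicGeometry IsLocalRing

namespace Groth.Agent.CycLib.Dev

open ModIdx Groth.Agent.PullStalk.Sky Groth.Agent.PullStalk.Exact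

variable {X : Scheme.{u}}

/-- A coefficient function of a cycle in dimension `m`. -/
structure IsCyc (δ : X → ℤ) (m : ℤ) (a : X → ℤ) : Prop where
  finite : ∀ U : X.Opens, IsAffineOpen U → ((U : Set X) ∩ Function.support a).Finite
  zero : ∀ x, δ x ≠ m → a x = 0

theorem IsCyc.of_cycle {δ : X → ℤ} {m : ℤ} (α : AlgebraicCycle X ℤ) (hα : α ∈ Cyc.Zk X δ m) : IsCyc δ m ⇑α :=
  ⟨finite_inter_cycle α, hα⟩

theorem IsCyc.sub {δ : X → ℤ} {m : ℤ} {a b : X → ℤ} (ha : IsCyc δ m a) (hb : IsCyc δ m b) : IsCyc δ m (a - b) :=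
  ⟨fun U hU => ((ha.finite U hU).union (hb.finite U hU)).subset fun x hx => by
    by_contra h
    simp only [Set.mem_union, Set.mem_inter_iff, hx.1, true_and, Function.mem_support, not_or, not_not] at h
    exact hx.2 (by simp [h.1, h.2]), fun x hx => by simp [ha.zero x hx, hb.zero x hx]⟩

theorem IsCyc.exists_cycle {δ : X → ℤ} {m : ℤ} {a : X → ℤ} (ha : IsCyc δ m a) :
    ∃ α : AlgebraicCycle X ℤ, α ∈ Cyc.Zk X δ m ∧ ⇑α = a := by
  refine ⟨⟨a, fun _ _ => trivial, fun x _ => ?_⟩, ha.zero, rfl⟩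
  obtain ⟨U, hU, hxU, -⟩ := exists_isAffineOpen_mem_and_subset (x := x) (U := ⊤) trivial
  exact ⟨U, U.2.mem_nhds hxU, ha.finite U hU⟩

variable [IsLocallyNoetherian X] {δ : X → ℤ} {k : ℤ} (hd : Cyc.IsDimFun X δ)

include hd in
theorem isCyc_sheafFun {m : ℤ} {A : X.Modules} (hA : Cyc.CohLe δ m A) : IsCyc δ m (Cyc.sheafFun δ m A) :=
  ⟨fun U hU => ((genPts_top hd hA).finite U hU).subset fun y hy => by
    refine ⟨hy.1, ?_⟩
    have h := hy.2
    rw [Function.mem_support, Cyc.sheafFun] at h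
    split_ifs at h with h1
    · exact ⟨h1, not_subsingleton_iff_nontrivial.1 fun hs => h (by rw [Module.length_eq_zero]; rfl)⟩
    · exact absurd rfl h, fun _ hx => if_neg hx⟩

variable {L : X.Modules} (hL : PicF.IsInvertible L)

include hd hL in
/-- The divisor of a rational section, in terms of a local generator. -/
theorem secDivFun_of_bas {x ξ : X} (h : ξ ⤳ x) (hx : δ x = k) (hξ : δ ξ = k + 1) {σ : L.presheaf.stalk ξ}
    (hσ : IsBas σ) {t : L.presheaf.stalk x} (ht : IsBas t) {c : X.presheaf.stalk ξ}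
    (htc : Ref1.sp L h t = c • σ) :
    Cyc.secDivFun δ L ξ (Submodule.Quotient.mk σ) x = -Cyc.divFun δ ξ (X.residue ξ c) x := by
  have h1 : δ x + 1 = δ ξ := by omega
  obtain ⟨t0, c0, a, b, ht0, htc0, ha, hb, hab, e⟩ := secDivFun_eq hL hd h hx hξ σ hσ
  obtain ⟨v, hv⟩ := ht0.2 t
  obtain ⟨w, hw⟩ := ht.2 t0
  replace hv : v • t0 = t := hv
  replace hw : w • t = t0 := hw
  have hvu : IsUnit v := isUnit_iff_exists_inv'.2 ⟨w, ht0.1 (show (w * v) • t0 = (1 : X.presheaf.stalk x) • t0 by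
    rw [mul_smul, hv, hw, one_smul])⟩
  have hc : c = Ref1.spR h v * c0 := hσ.1 (show c • σ = (Ref1.spR h v * (c0 : X.presheaf.stalk ξ)) • σ by
    rw [mul_smul, ← htc0, ← Ref1.sp_smul, hv, htc])
  have hsa : Cyc.specMap x ξ h a ≠ 0 := fun h0 => ha h0
  have hsb : Cyc.specMap x ξ h b ≠ 0 := fun h0 => hb h0
  have hsv : Cyc.specMap x ξ h v ≠ 0 := (hvu.map (Cyc.specMap x ξ h)).ne_zero
  have hres : X.residue ξ (c0 : X.presheaf.stalk ξ) = Cyc.specMap x ξ h a / Cyc.specMap x ξ h b := by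
    rw [eq_div_iff hsb]
    show X.residue ξ _ * X.residue ξ (Ref1.spR h b) = X.residue ξ (Ref1.spR h a)
    rw [← map_mul, hab]
  rw [e, hc, map_mul, show X.residue ξ (Ref1.spR h v) = Cyc.specMap x ξ h v from rfl,
    divFun_mul hd hsv (c0.isUnit.map (X.residue ξ).hom).ne_zero, Pi.add_apply, hres, Cyc.divFun,
    dif_pos ⟨h, h1⟩, Cyc.divFun, dif_pos ⟨h, h1⟩, ordAt_specMap hd h h1 hsv, ordAt_div hd h h1 hsa hsb,
    LenLib.ordZ_of_isUnit (hvu.map _), ← length_quot_prime h a, ← length_quot_prime h b]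
  ring

include hd hL in
theorem finite_secDiv_inter {ξ : X} {s : Cyc.secFibre L ξ} (hs : s ≠ 0) {U : X.Opens} (hU : IsAffineOpen U) :
    ((U : Set X) ∩ Function.support (Cyc.secDivFun δ L ξ s)).Finite := by
  obtain ⟨σ, hσ, rfl⟩ := exists_isBas_lift hL s hs
  have hloc : ∀ x : X, ∃ W : X.Opens, x ∈ W ∧
      ((W : Set X) ∩ Function.support (Cyc.secDivFun δ L ξ (Submodule.Quotient.mk σ))).Finite := by
    intro x
    obtain ⟨V, l, hxV, hl⟩ := exists_local_bas hL x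
    obtain ⟨W, hW, hxW, hWV⟩ := exists_isAffineOpen_mem_and_subset (x := x) (U := V) hxV
    refine ⟨W, hxW, ?_⟩
    by_cases hξV : ξ ∈ V
    swap
    · refine Set.finite_empty.subset fun y hy => hy.2 (dif_neg fun h => hξV (h.1.mem_open V.2 (hWV hy.1)))
    obtain ⟨c, hc⟩ := hσ.2 (germM L V ξ hξV l)
    replace hc : c • σ = germM L V ξ hξV l := hc
    obtain ⟨d, hd'⟩ := (hl ξ hξV).2 σ
    replace hd' : d • germM L V ξ hξV l = σ := hd'
    have hcu : IsUnit c := isUnit_iff_exists_inv'.2 ⟨d, hσ.1 (show (d * c) • σ = (1 : X.presheaf.stalk ξ) • σ by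
      rw [mul_smul, hc, hd', one_smul])⟩
    refine (finite_support_divFun_inter hd ξ (hcu.map (X.residue ξ).hom).ne_zero hW).subset fun y hy => ⟨hy.1, ?_⟩
    obtain ⟨hyW, hne⟩ := hy
    rw [Function.mem_support] at hne ⊢
    by_cases hy' : ξ ⤳ y ∧ δ y + 1 = δ ξ
    · rw [secDivFun_of_bas (k := δ y) hd hL hy'.1 rfl hy'.2.symm hσ (hl y (hWV hyW)) (c := c)
        ((Ref1.sp_germ L hy'.1 (hWV hyW) l).trans hc.symm)] at hne
      exact fun h0 => hne (by rw [h0, neg_zero])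
    · exact absurd (dif_neg hy') hne
  choose W hxW hWf using hloc
  obtain ⟨t, ht⟩ := hU.isCompact.elim_finite_subcover (fun x => (W x : Set X)) (fun x => (W x).2)
    fun x _ => Set.mem_iUnion.2 ⟨x, hxW x⟩
  refine (t.finite_toSet.biUnion fun x _ => hWf x).subset fun y hy => ?_
  obtain ⟨x, hxt, hyx⟩ := Set.mem_iUnion₂.1 (ht hy.1)
  exact Set.mem_biUnion hxt ⟨hyx, hy.2⟩

theorem secDivFun_ne_zero {ξ x : X} {s : Cyc.secFibre L ξ} (h : Cyc.secDivFun δ L ξ s x ≠ 0) :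
    ξ ⤳ x ∧ δ x + 1 = δ ξ := by
  by_contra h'
  exact h (dif_neg h')

omit [IsLocallyNoetherian X] in
theorem finite_c1_term {m : ℤ} {a : X → ℤ} (ha : IsCyc δ m a) (s : (ξ : X) → Cyc.secFibre L ξ) (x : X) :
    (Function.support fun ξ => a ξ * Cyc.secDivFun δ L ξ (s ξ) x).Finite := by
  obtain ⟨U, hU, hxU, -⟩ := exists_isAffineOpen_mem_and_subset (x := x) (U := ⊤) trivial
  refine (ha.finite U hU).subset fun ξ hξ => ?_
  rw [Function.mem_support, mul_ne_zero_iff] at hξ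
  refine ⟨?_, hξ.1⟩
  have := hξ.2
  rw [Cyc.secDivFun] at this
  split_ifs at this with h
  · exact h.1.mem_open U.2 hxU
  · exact absurd rfl this

omit [IsLocallyNoetherian X] in
theorem c1_sub {m : ℤ} {a b : X → ℤ} (ha : IsCyc δ m a) (hb : IsCyc δ m b) (s : (ξ : X) → Cyc.secFibre L ξ) :
    Cyc.c1CapFun δ L (a - b) s = Cyc.c1CapFun δ L a s - Cyc.c1CapFun δ L b s := by
  funext x
  simp only [Cyc.c1CapFun, Pi.sub_apply, sub_mul]
  exact finsum_sub_distrib (finite_c1_term ha s x) (finite_c1_term hb s x)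

include hd hL in
theorem isCyc_c1 {a : X → ℤ} (ha : IsCyc δ (k + 1) a) (s : (ξ : X) → Cyc.secFibre L ξ) (hs : ∀ ξ, s ξ ≠ 0) :
    IsCyc δ k (Cyc.c1CapFun δ L a s) := by
  refine ⟨fun U hU => ((ha.finite U hU).biUnion fun ξ _ => finite_secDiv_inter hd hL (hs ξ) hU).subset fun x hx => ?_,
    fun x hx => finsum_eq_zero_of_forall_eq_zero fun ξ => ?_⟩
  · obtain ⟨ξ, hξ⟩ : ∃ ξ, a ξ * Cyc.secDivFun δ L ξ (s ξ) x ≠ 0 := by
      by_contra h
      push Not at h
      exact hx.2 (finsum_eq_zero_of_forall_eq_zero h)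
    rw [mul_ne_zero_iff] at hξ
    exact Set.mem_biUnion ⟨(secDivFun_ne_zero hξ.2).1.mem_open U.2 hx.1, hξ.1⟩ ⟨hx.1, hξ.2⟩
  · by_cases hξ : δ ξ = k + 1
    · by_contra h
      have := (secDivFun_ne_zero (mul_ne_zero_iff.1 h).2).2
      exact hx (by omega)
    · rw [ha.zero ξ hξ, zero_mul]

include hd hL in
/-- The twisting operation on classes. -/
theorem exists_twist_hom (hl : ∀ {S : ShortComplex X.Modules}, S.ShortExact →
      (S.map ((DCoh.tensorBi (X := X)).flip.obj L)).ShortExact) (k : ℤ) :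
    ∃ T : Cyc.K0CohQuot δ (k + 1) (k - 1) →+ Cyc.K0CohQuot δ (k + 1) (k - 1),
      ∀ F, Cyc.CohLe δ (k + 1) F → T (cl δ k (k + 1) F) = cl δ k (k + 1) (CohB1.tensorMod F L) := by
  let f : KZero.K0sub (Cyc.CohLe (X := X) δ (k + 1)) →+ Cyc.K0CohQuot δ (k + 1) (k - 1) := QuotientAddGroup.lift _
    (FreeAbelianGroup.lift fun F : Subtype (Cyc.CohLe (X := X) δ (k + 1)) => cl δ k (k + 1) (CohB1.tensorMod F.1 L))
    ((AddSubgroup.closure_le _).2 (by
      rintro _ ⟨S, h₁, h₂, h₃, hS, rfl⟩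
      rw [SetLike.mem_coe, AddMonoidHom.mem_ker, map_sub, map_sub, FreeAbelianGroup.lift_apply_of,
        FreeAbelianGroup.lift_apply_of, FreeAbelianGroup.lift_apply_of]
      dsimp only
      rw [show cl δ k (k + 1) (CohB1.tensorMod S.X₂ L) = cl δ k (k + 1) (CohB1.tensorMod S.X₁ L) +
        cl δ k (k + 1) (CohB1.tensorMod S.X₃ L) from
        cl_add (hl hS) (cohLe_tensor hL h₁) (cohLe_tensor hL h₂) (cohLe_tensor hL h₃)]
      abel))
  have hf : ∀ F, Cyc.CohLe δ (k + 1) F →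
      f (KZero.clSub (Cyc.CohLe δ (k + 1)) F) = cl δ k (k + 1) (CohB1.tensorMod F L) := fun F hF => by
    rw [KZero.clSub, dif_pos hF]
    exact FreeAbelianGroup.lift_apply_of _ _
  refine ⟨QuotientAddGroup.lift _ f ((AddSubgroup.closure_le _).2 ?_), hf⟩
  rintro _ ⟨F, hF, rfl⟩
  rw [SetLike.mem_coe, AddMonoidHom.mem_ker, hf F (cohLe_mono (by omega) hF)]
  have h : Cyc.CohLe δ (k - 1) (CohB1.tensorMod F L) := by
    have := cohLe_tensor (k := k - 2) hL (show Cyc.CohLe δ (k - 2 + 1) F by rwa [show k - 2 + 1 = k - 1 by ring])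
    rwa [show k - 2 + 1 = k - 1 by ring] at this
  exact cl_zero h

include hd in
/-- The coefficients in dimension `k + 1` on classes. -/
theorem exists_funHom (k : ℤ) : ∃ S : Cyc.K0CohQuot δ (k + 1) (k - 1) →+ (X → ℤ),
    ∀ F : X.Modules, Cyc.CohLe δ (k + 1) F → S (cl δ k (k + 1) F) = Cyc.sheafFun δ (k + 1) F := by
  let f : KZero.K0sub (Cyc.CohLe (X := X) δ (k + 1)) →+ (X → ℤ) := QuotientAddGroup.lift _
    (FreeAbelianGroup.lift fun F : Subtype (Cyc.CohLe (X := X) δ (k + 1)) => Cyc.sheafFun δ (k + 1) F.1)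
    ((AddSubgroup.closure_le _).2 (by
      rintro _ ⟨S, h₁, h₂, h₃, hS, rfl⟩
      rw [SetLike.mem_coe, AddMonoidHom.mem_ker, map_sub, map_sub, FreeAbelianGroup.lift_apply_of,
        FreeAbelianGroup.lift_apply_of, FreeAbelianGroup.lift_apply_of, sheafFun_add hd hS h₁ h₂ h₃]
      abel))
  have hf : ∀ F, Cyc.CohLe δ (k + 1) F →
      f (KZero.clSub (Cyc.CohLe δ (k + 1)) F) = Cyc.sheafFun δ (k + 1) F := fun F hF => by
    rw [KZero.clSub, dif_pos hF]
    exact FreeAbelianGroup.lift_apply_of _ _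
  refine ⟨QuotientAddGroup.lift _ f ((AddSubgroup.closure_le _).2 ?_), hf⟩
  rintro _ ⟨F, hF, rfl⟩
  rw [SetLike.mem_coe, AddMonoidHom.mem_ker, hf F (cohLe_mono (by omega) hF), sheafFun_eq_zero (by omega) hF]

include hd hL in
/-- The invariant of a twisted class. -/
theorem phiHom_twist (Φ : Cyc.K0CohQuot δ (k + 1) (k - 1) →+ (X → ℤ) ⧸ prin hd k)
    (hΦ : ∀ F : X.Modules, Cyc.CohLe δ (k + 1) F → Φ (Cyc.toK0CohQuot δ (k + 1) (k - 1) F) = phi hd k F)
    (T : Cyc.K0CohQuot δ (k + 1) (k - 1) →+ Cyc.K0CohQuot δ (k + 1) (k - 1))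
    (hT : ∀ F, Cyc.CohLe δ (k + 1) F → T (cl δ k (k + 1) F) = cl δ k (k + 1) (CohB1.tensorMod F L))
    (S : Cyc.K0CohQuot δ (k + 1) (k - 1) →+ (X → ℤ))
    (hS : ∀ F : X.Modules, Cyc.CohLe δ (k + 1) F → S (cl δ k (k + 1) F) = Cyc.sheafFun δ (k + 1) F)
    (D : Cyc.K0CohQuot δ (k + 1) (k - 1)) (s : (ξ : X) → Cyc.secFibre L ξ) (hs : ∀ ξ, s ξ ≠ 0) :
    Φ (T D - D) = QuotientAddGroup.mk (Cyc.c1CapFun δ L (S D) s) := by
  obtain ⟨A, B, hA, hB, rfl⟩ := exists_cl_sub hd k (k + 1) D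
  rw [map_sub S, hS A hA, hS B hB, c1_sub (isCyc_sheafFun hd hA) (isCyc_sheafFun hd hB) s,
    QuotientAddGroup.mk_sub, map_sub T, hT A hA, hT B hB]
  simp only [map_sub]
  rw [show Φ (cl δ k (k + 1) (CohB1.tensorMod A L)) = _ from hΦ _ (cohLe_tensor hL hA),
    show Φ (cl δ k (k + 1) A) = _ from hΦ _ hA,
    show Φ (cl δ k (k + 1) (CohB1.tensorMod B L)) = _ from hΦ _ (cohLe_tensor hL hB),
    show Φ (cl δ k (k + 1) B) = _ from hΦ _ hB, phi_tensor hL hd hA s hs, phi_tensor hL hd hB s hs]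
  abel

include hd hL in
/-- Independence of the rational sections. -/
theorem c1_sub_mem {a : X → ℤ} (ha : IsCyc δ (k + 1) a) (s s' : (ξ : X) → Cyc.secFibre L ξ) (hs : ∀ ξ, s ξ ≠ 0)
    (hs' : ∀ ξ, s' ξ ≠ 0) : Cyc.c1CapFun δ L a s - Cyc.c1CapFun δ L a s' ∈ prin hd k := by
  obtain ⟨α, hαk, rfl⟩ := ha.exists_cycle
  obtain ⟨h1, h2, e⟩ := cycleSheaf_spec hd α hαk
  refine QuotientAddGroup.eq_iff_sub_mem.1 ?_
  rw [← e, c1_sub (isCyc_sheafFun hd h1) (isCyc_sheafFun hd h2) s,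
    c1_sub (isCyc_sheafFun hd h1) (isCyc_sheafFun hd h2) s', QuotientAddGroup.mk_sub, QuotientAddGroup.mk_sub]
  have e1 := phi_tensor hL hd h1 s hs
  have e1' := phi_tensor hL hd h1 s' hs'
  have e2 := phi_tensor hL hd h2 s hs
  have e2' := phi_tensor hL hd h2 s' hs'
  rw [e1] at e1'
  rw [e2] at e2'
  rw [add_left_cancel e1', add_left_cancel e2']

end Groth.Agent.CycLib.Dev
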