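import Groth.Prelude.Def_Cyc
import Mathlib.AlgebraicGeometry.AlgebraicCycle.Basic
import Mathlib.RingTheory.AlgebraicIndependent.TranscendenceBasis

/-!
Coefficients of push-forwards of cycles.
-/

set_option autoImplicit false
set_option linter.style.haveILetI false

universe u

open CategoryTheory AlgebraicGeometry Algebra

namespace Groth.Agent.CycLib

variable {X Y : Scheme.{u}}

theorem finite_fibre_support (h : X ⟶ Y) [QuasiCompact h] (α : AlgebraicCycle X ℤ) (z : Y) :
    {x : X | h x = z ∧ α x ≠ 0}.Finite := by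
  obtain ⟨U, hU, hzU, -⟩ := (PrespectralSpace.isTopologicalBasis (X := Y)).exists_subset_of_mem_open
    (by simp : z ∈ (Set.univ : Set Y)) isOpen_univ
  refine (α.locallyFiniteSupport.finite_inter_support_of_isCompact
    (h.isSpectralMap.2 hU.1 hU.2)).subset ?_
  rintro x ⟨hx, hα⟩
  exact ⟨by show h x ∈ U; rw [hx]; exact hzU, hα⟩

theorem map_apply_eq_sum (f : X ⟶ Y) [QuasiCompact f] (δX : X → ℤ) (δY : Y → ℤ)
    (α : AlgebraicCycle X ℤ) (y : Y) (S : Finset X) (hS : ∀ x, f x = y → α x ≠ 0 → x ∈ S)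
    [DecidablePred fun x => f x = y] :
    AlgebraicCycle.map f δX δY α y =
      ∑ x ∈ S with f x = y, α x * (AlgebraicCycle.mapCoeff f δX δY x : ℤ) := by
  refine finsum_mem_eq_sum_of_inter_support_eq _ ?_
  ext x
  simp only [Set.mem_inter_iff, Set.mem_preimage, Set.mem_singleton_iff, Function.mem_support,
    Finset.coe_filter, Set.mem_setOf_eq]
  exact ⟨fun ⟨h1, h2⟩ => ⟨⟨hS x h1 (left_ne_zero_of_mul h2), h1⟩, h2⟩,
    fun ⟨⟨_, h1⟩, h2⟩ => ⟨h1, h2⟩⟩

theorem residueDegree_eq_one (f : X ⟶ Y) (x : X) (h : Function.Surjective (f.residueFieldMap x).hom) :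
    f.residueDegree x = 1 := by
  letI := (f.residueFieldMap x).hom.toAlgebra
  refine ((LinearEquiv.ofBijective (Algebra.linearMap (Y.residueField (f x)) (X.residueField x))
    ⟨(f.residueFieldMap x).hom.injective, h⟩).finrank_eq).symm.trans ?_
  exact Module.finrank_self _

theorem delta_eq_of_surjective (f : X ⟶ Y) {δX : X → ℤ} {δY : Y → ℤ} (hδ : Cyc.DeltaCompat f δX δY)
    (x : X) (h : Function.Surjective (f.residueFieldMap x).hom) : δX x = δY (f x) := by
  obtain ⟨n, hn, he⟩ := hδ x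
  letI := (f.residueFieldMap x).hom.toAlgebra
  haveI : Algebra.IsAlgebraic (Y.residueField (f x)) (X.residueField x) :=
    ⟨fun z => by obtain ⟨c, rfl⟩ := h z; exact isAlgebraic_algebraMap c⟩
  rw [trdeg_eq_zero (R := Y.residueField (f x)) (A := X.residueField x)] at hn
  rw [he, show n = 0 from by exact_mod_cast hn.symm]
  simp

end Groth.Agent.CycLib

namespace Groth.Agent.CycLib

theorem residueDegree_comp {X Y Z : Scheme.{u}} (f : X ⟶ Y) (g : Y ⟶ Z) (x : X) :
    (f ≫ g).residueDegree x = f.residueDegree x * g.residueDegree (f x) := by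
  unfold Scheme.Hom.residueDegree
  letI i₁ := (f.residueFieldMap x).hom.toAlgebra
  letI i₂ := (g.residueFieldMap (f x)).hom.toAlgebra
  letI i₃ : Algebra (Z.residueField (g (f x))) (X.residueField x) :=
    ((f.residueFieldMap x).hom.comp (g.residueFieldMap (f x)).hom).toAlgebra
  haveI : IsScalarTower (Z.residueField (g (f x))) (Y.residueField (f x)) (X.residueField x) :=
    IsScalarTower.of_algebraMap_eq' rfl
  rw [mul_comm, Module.finrank_mul_finrank (Z.residueField (g (f x))) (Y.residueField (f x))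
    (X.residueField x)]
  show @Module.finrank (Z.residueField (g (f x))) (X.residueField x) _ _
    (RingHom.toAlgebra ((f ≫ g).residueFieldMap x).hom).toModule = _
  rw [Scheme.residueFieldMap_comp f g x]
  rfl

theorem map_map_of_deltaCompat {X Y Z : Scheme.{u}} {δX : X → ℤ} {δY : Y → ℤ} {δZ : Z → ℤ} (f : X ⟶ Y)
    (g : Y ⟶ Z) [QuasiCompact f] [QuasiCompact g] (hf : Cyc.DeltaCompat f δX δY)
    (hg : Cyc.DeltaCompat g δY δZ) (α : AlgebraicCycle X ℤ) :
    AlgebraicCycle.map g δY δZ (AlgebraicCycle.map f δX δY α) = AlgebraicCycle.map (f ≫ g) δX δZ α := by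
  classical
  ext z
  let S : Finset X := (finite_fibre_support (f ≫ g) α z).toFinset
  have hSz : ∀ x ∈ S, g (f x) = z := fun x hx => ((Set.Finite.mem_toFinset _).1 hx).1
  have hmem : ∀ x, g (f x) = z → α x ≠ 0 → x ∈ S := fun x h1 h2 =>
    (Set.Finite.mem_toFinset _).2 ⟨h1, h2⟩
  rw [map_apply_eq_sum (f ≫ g) δX δZ α z S (fun x h1 h2 => hmem x h1 h2),
    map_apply_eq_sum g δY δZ (AlgebraicCycle.map f δX δY α) z (S.image f) ?_]
  swap
  · intro y hy hne
    obtain ⟨x, hx, hne'⟩ := exists_ne_zero_of_finsum_mem_ne_zero hne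
    exact Finset.mem_image.2 ⟨x, hmem x (by rw [show f x = y from hx, hy]) (left_ne_zero_of_mul hne'), hx⟩
  rw [Finset.filter_true_of_mem (fun y hy => by
      obtain ⟨x, hx, rfl⟩ := Finset.mem_image.1 hy; exact hSz x hx),
    Finset.filter_true_of_mem (s := S) (p := fun x => (f ≫ g) x = z)
      (fun x hx => by rw [Scheme.Hom.comp_apply]; exact hSz x hx)]
  rw [Finset.sum_congr rfl (fun y hy => by
    rw [map_apply_eq_sum f δX δY α y S (fun x h1 h2 => hmem x (by
      obtain ⟨x', hx', rfl⟩ := Finset.mem_image.1 hy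
      rw [h1]; exact hSz x' hx') h2), Finset.sum_mul])]
  rw [← Finset.sum_fiberwise_of_maps_to (g := f) (t := S.image f)
    (fun x hx => Finset.mem_image_of_mem f hx)
    (fun x => α x * (AlgebraicCycle.mapCoeff (f ≫ g) δX δZ x : ℤ))]
  refine Finset.sum_congr rfl fun y _ => Finset.sum_congr rfl fun x hx => ?_
  obtain rfl : f x = y := (Finset.mem_filter.1 hx).2
  obtain ⟨n, -, hn⟩ := hf x
  obtain ⟨m, -, hm⟩ := hg (f x)
  rw [mul_assoc]
  congr 1
  unfold AlgebraicCycle.mapCoeff
  rw [residueDegree_comp]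
  show _ = ((if δX x = δZ (g (f x)) then _ else 0 : ℕ) : ℤ)
  by_cases h : n = 0 ∧ m = 0
  · rw [if_pos (by omega), if_pos (by omega), if_pos (by omega)]
    push_cast; rfl
  · by_cases h1 : n = 0
    · rw [if_neg (show ¬ δY (f x) = δZ (g (f x)) by omega),
        if_neg (show ¬ δX x = δZ (g (f x)) by omega)]
      simp
    · rw [if_neg (show ¬ δX x = δY (f x) by omega),
        if_neg (show ¬ δX x = δZ (g (f x)) by omega)]
      simp

end Groth.Agent.CycLib
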