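import Groth.Agent.CycLib.CurveDeg
import Mathlib.AlgebraicGeometry.Fiber

/-!
Proper push-forward of principal divisors when the dimension drops is zero.
-/

set_option autoImplicit false
set_option linter.style.haveILetI false
set_option maxHeartbeats 800000

universe u

open CategoryTheory AlgebraicGeometry Algebra

namespace Groth.Agent.CycLib

variable {X Y Z : Scheme.{u}}

theorem deltaCompat_comp {f : X ⟶ Y} {g : Y ⟶ Z} {δX : X → ℤ} {δY : Y → ℤ} {δZ : Z → ℤ}
    (hf : Cyc.DeltaCompat f δX δY) (hg : Cyc.DeltaCompat g δY δZ) : Cyc.DeltaCompat (f ≫ g) δX δZ := by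
  intro x
  obtain ⟨n, hn, hn'⟩ := hf x
  obtain ⟨m, hm, hm'⟩ := hg (f x)
  refine ⟨m + n, ?_, ?_⟩
  · letI i₁ := (f.residueFieldMap x).hom.toAlgebra
    letI i₂ := (g.residueFieldMap (f x)).hom.toAlgebra
    letI i₃ : Algebra (Z.residueField (g (f x))) (X.residueField x) :=
      ((f.residueFieldMap x).hom.comp (g.residueFieldMap (f x)).hom).toAlgebra
    haveI : IsScalarTower (Z.residueField (g (f x))) (Y.residueField (f x)) (X.residueField x) :=
      IsScalarTower.of_algebraMap_eq' rfl
    haveI : FaithfulSMul (Z.residueField (g (f x))) (Y.residueField (f x)) :=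
      (faithfulSMul_iff_algebraMap_injective _ _).2 (algebraMap (Z.residueField (g (f x))) _).injective
    haveI : FaithfulSMul (Y.residueField (f x)) (X.residueField x) :=
      (faithfulSMul_iff_algebraMap_injective _ _).2 (algebraMap (Y.residueField (f x)) _).injective
    have e := trdeg_add_eq (Z.residueField (g (f x))) (Y.residueField (f x)) (A := X.residueField x)
    rw [hn, hm] at e
    show @Algebra.trdeg (Z.residueField (g (f x))) (X.residueField x) _ _
      (RingHom.toAlgebra ((f ≫ g).residueFieldMap x).hom) = _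
    rw [Scheme.residueFieldMap_comp f g x]
    push_cast
    exact e.symm
  · show δX x = δZ (g (f x)) + _
    rw [hn', hm']
    push_cast
    ring

theorem deltaCompat_eq {f : X ⟶ Y} {δ₁ δ₂ : X → ℤ} {δY : Y → ℤ} (h₁ : Cyc.DeltaCompat f δ₁ δY)
    (h₂ : Cyc.DeltaCompat f δ₂ δY) : δ₁ = δ₂ := by
  funext x
  obtain ⟨n, hn, hn'⟩ := h₁ x
  obtain ⟨m, hm, hm'⟩ := h₂ x
  have : n = m := by exact_mod_cast hn.symm.trans hm
  rw [hn', hm', this]

theorem deltaCompat_preimmersion (i : X ⟶ Y) [IsPreimmersion i] (δY : Y → ℤ) :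
    Cyc.DeltaCompat i (fun x => δY (i x)) δY := fun x => by
  refine ⟨0, ?_, by simp⟩
  letI := (i.residueFieldMap x).hom.toAlgebra
  haveI : Algebra.IsAlgebraic (Y.residueField (i x)) (X.residueField x) :=
    ⟨fun z => by obtain ⟨c, rfl⟩ := (residueFieldMap_bijective_closedImmersion i x).2 z; exact isAlgebraic_algebraMap c⟩
  rw [trdeg_eq_zero (R := Y.residueField (i x)) (A := X.residueField x), Nat.cast_zero]

theorem residueDegree_congr {f f' : X ⟶ Y} (h : f = f') (x : X) : f.residueDegree x = f'.residueDegree x := by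
  rw [h]

variable (p : X ⟶ Y) [IsProper p]

/-- `p_* div (ξ, g) = 0` when `δ (p ξ) < δ ξ`. -/
theorem map_divFun_eq_zero [IsLocallyNoetherian X] {δX : X → ℤ} {δY : Y → ℤ}
    (hdX : Cyc.IsDimFun X δX) (hdY : Cyc.IsDimFun Y δY) (hδ : Cyc.DeltaCompat p δX δY) (ξ : X)
    (hlt : δY (p ξ) < δX ξ) {g : X.residueField ξ} (hg : g ≠ 0)
    (α : AlgebraicCycle X ℤ) (hα : ⇑α = Cyc.divFun δX ξ g) (y : Y) :
    AlgebraicCycle.map p δX δY α y = 0 := by
  classical
  have hsupp : ∀ x, α x ≠ 0 → ξ ⤳ x ∧ δX x + 1 = δX ξ := fun x hx => by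
    by_contra hn
    exact hx (by rw [hα]; exact dif_neg hn)
  by_cases hy : y = p ξ ∧ δX ξ = δY y + 1
  swap
  · rw [map_apply_eq_sum p δX δY α y (finite_fibre_support p α y).toFinset
      (fun x h1 h2 => (Set.Finite.mem_toFinset _).2 ⟨h1, h2⟩)]
    refine Finset.sum_eq_zero fun x hx => ?_
    obtain ⟨hx1, hx2⟩ := Finset.mem_filter.1 hx
    obtain ⟨h1, h2⟩ := hsupp x ((Set.Finite.mem_toFinset _).1 hx1).2
    rw [AlgebraicCycle.mapCoeff, if_neg fun he => hy ?_, Nat.cast_zero, mul_zero]
    have hs : p ξ ⤳ y := hx2 ▸ h1.map p.continuous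
    have he' : δX x = δY y := he.trans (congrArg δY hx2)
    by_cases hne : p ξ = y
    · exact ⟨hne.symm, by omega⟩
    · have := (hdY _ _ hs hne).1
      omega
  obtain ⟨hyξ, hyd⟩ := hy
  obtain ⟨ξ', rfl⟩ : ξ ∈ Set.range (p.fiberι y) := by
    rw [p.range_fiberι]; exact hyξ.symm
  let ι := p.fiberι y
  let K : Type u := Y.residueField y
  let c : p.fiber y ⟶ Spec (CommRingCat.of K) := p.fiberToSpecResidueField y
  haveI : IsProper c := inferInstanceAs (IsProper (Limits.pullback.snd p (Y.fromSpecResidueField y)))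
  let η : Spec (CommRingCat.of K) ⟶ Y := Y.fromSpecResidueField y
  have hη : ∀ z, η z = y := Scheme.fromSpecResidueField_apply y
  have hsq : ι ≫ p = c ≫ η := p.fiber_fac y
  have e1 : Cyc.DeltaCompat η (fun z => fdelta K (𝟙 (Spec (CommRingCat.of K))) z + δY y) δY := by
    have := deltaCompat_preimmersion η δY
    convert this using 2 with z
    rw [fdelta_id, hη, zero_add]
  have e2 : Cyc.DeltaCompat c (fun x => fdelta K c x + δY y)
      (fun z => fdelta K (𝟙 (Spec (CommRingCat.of K))) z + δY y) := fun x => by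
    obtain ⟨n, hn, hn'⟩ := deltaCompat_fdelta K c c (𝟙 _) (Category.comp_id c) x
    exact ⟨n, hn, by simp only [hn']; ring⟩
  have e3 := deltaCompat_comp e2 e1
  have e4 := deltaCompat_comp (deltaCompat_preimmersion ι δX) hδ
  rw [← hsq] at e3
  have hshift : ∀ x, δX (ι x) = fdelta K c x + δY y := congrFun (deltaCompat_eq e4 e3)
  have hdeg : ∀ x, p.residueDegree (ι x) = c.residueDegree x := fun x => by
    have := residueDegree_congr hsq x
    rw [residueDegree_comp, residueDegree_comp, residueDegree_closedImmersion ι x,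
      residueDegree_closedImmersion η (c x)] at this
    simpa using this
  haveI : IsLocallyNoetherian (p.fiber y) := LocallyOfFiniteType.isLocallyNoetherian c
  have hg' : ι.residueFieldMap ξ' g ≠ 0 := (map_ne_zero _).2 hg
  obtain ⟨β, hβ⟩ := exists_cycle_finsum_divFun (isDimFun_fdelta K c) (fun _ : PUnit.{u + 1} => ξ')
    (fun _ => ι.residueFieldMap ξ' g) (fun _ => hg')
    (fun x => ⟨Set.univ, isOpen_univ, trivial, Set.toFinite _⟩)
  replace hβ : ⇑β = Cyc.divFun (fdelta K c) ξ' (ι.residueFieldMap ξ' g) :=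
    funext fun x => (hβ x).trans (finsum_unique _)
  have hval : ∀ x, α (ι x) = β x := fun x => by
    rw [hα, hβ, Cyc.divFun, Cyc.divFun]
    by_cases hc : ξ' ⤳ x ∧ fdelta K c x + 1 = fdelta K c ξ'
    · have h2 : δX (ι x) + 1 = δX (ι ξ') := by rw [hshift, hshift]; omega
      rw [dif_pos hc, dif_pos ⟨hc.1.map ι.continuous, h2⟩]
      exact (ordAt_closedImmersion hdX ι hc.1 h2 hg).symm
    · rw [dif_neg hc, dif_neg fun h => hc ⟨ι.isEmbedding.isInducing.specializes_iff.1 h.1, ?_⟩]
      have := h.2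
      change δX (ι x) + 1 = δX (ι ξ') at this
      rw [hshift, hshift] at this
      omega
  have h1 : fdelta K c ξ' = 1 := by
    have := hshift ξ'
    change δX (p.fiberι y ξ') = _ at this
    omega
  let z : Spec (CommRingCat.of K) := (default : PrimeSpectrum K)
  have hz : ∀ x, c x = z := fun x => Subsingleton.elim (α := PrimeSpectrum K) _ _
  have key := map_divFun_eq_zero_of_field K c ξ' h1 hg' β hβ z
  let S := (finite_fibre_support c β z).toFinset
  have hS : ∀ x, β x ≠ 0 → x ∈ S := fun x h2 => (Set.Finite.mem_toFinset _).2 ⟨hz x, h2⟩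
  rw [map_apply_eq_sum c _ _ β z S (fun x _ h2 => hS x h2),
    Finset.filter_true_of_mem fun x _ => hz x] at key
  have hp : ∀ x, p (ι x) = y := fun x => by
    show (ι ≫ p) x = y
    rw [hsq]
    exact hη _
  rw [map_apply_eq_sum p δX δY α y (S.image ι) fun x hx hne => ?_,
    Finset.filter_true_of_mem (fun x hx => by
      obtain ⟨x', -, rfl⟩ := Finset.mem_image.1 hx; exact hp x'),
    Finset.sum_image fun a _ b _ e => ι.isEmbedding.injective e, ← key]
  · refine Finset.sum_congr rfl fun x _ => ?_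
    rw [hval, AlgebraicCycle.mapCoeff, AlgebraicCycle.mapCoeff, hdeg x]
    congr 2
    refine if_congr ?_ rfl rfl
    rw [hshift, hp, fdelta_id]
    omega
  · obtain ⟨x', rfl⟩ : x ∈ Set.range (p.fiberι y) := by rw [p.range_fiberι]; exact hx
    exact Finset.mem_image.2 ⟨x', hS x' (by rw [← hval]; exact hne), rfl⟩

end Groth.Agent.CycLib
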