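import Groth.Agent.CycLib.DimFun
import Groth.Agent.CycLib.FibreDim
import Mathlib.RingTheory.KrullDimension.Basic
import Mathlib.AlgebraicGeometry.Stalk

/-!
Chains between two comparable points have the length predicted by a dimension function.
-/

set_option autoImplicit false
set_option linter.style.haveILetI false
set_option maxHeartbeats 400000

universe u

open AlgebraicGeometry CategoryTheory IsLocalRing

namespace Groth.Agent.CycLib

variable {X : Scheme.{u}} {δ : X → ℤ}

theorem exists_series (h : Cyc.IsDimFun X δ) {ξ : X} : ∀ (n : ℕ) (z : X), ξ ⤳ z → δ ξ = δ z + n →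
    ∃ s : LTSeries X, s.length = n ∧ s.head = z ∧ s.last = ξ := by
  intro n
  induction n using Nat.strong_induction_on with
  | h n ih =>
    intro z hz hd
    rcases Nat.eq_zero_or_pos n with rfl | hn
    · obtain rfl := eq_of_specializes h hz (by omega)
      exact ⟨RelSeries.singleton _ ξ, rfl, rfl, rfl⟩
    classical
    have hex : ∃ k : ℕ, ∃ w, ξ ⤳ w ∧ w ⤳ z ∧ w ≠ z ∧ δ w = δ z + k :=
      ⟨n, ξ, specializes_rfl, hz, fun he => by rw [he] at hd; omega, hd⟩
    obtain ⟨w, hξw, hwz, hwne, hwd⟩ := Nat.find_spec hex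
    have himm : δ w = δ z + 1 := (h w z hwz hwne).2 fun v hwv hvz => by
      by_contra hv
      rw [not_or] at hv
      obtain ⟨hv1, hv2⟩ := hv
      have h3 := (h w v hwv fun he => hv1 he.symm).1
      have h4 := (h v z hvz hv2).1
      exact Nat.find_min hex (m := (δ v - δ z).toNat) (by omega) ⟨v, hξw.trans hwv, hvz, hv2, by omega⟩
    obtain ⟨s, hl, hh, hlast⟩ := ih (n - 1) (by omega) w hξw (by push_cast [show 1 ≤ n from hn]; omega)
    exact ⟨s.cons z (hh ▸ lt_iff.2 ⟨hwz, hwne⟩), by simp [hl]; omega, by simp, by simp [hlast]⟩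

theorem height_eq [JacobsonSpace X] (h : Cyc.IsDimFun X δ) (h0 : ∀ x : X, IsClosed ({x} : Set X) → δ x = 0)
    (ξ : X) : 0 ≤ δ ξ ∧ Order.height ξ = (δ ξ).toNat := by
  have key : ∀ x : X, ∃ z : X, x ⤳ z ∧ IsClosed ({z} : Set X) := fun x => by
    have hne : ((closure {x} : Set X) ∩ closedPoints X).Nonempty := by
      rw [Set.nonempty_iff_ne_empty]
      intro he
      have := JacobsonSpace.closure_inter_closedPoints (Z := closure ({x} : Set X)) isClosed_closure
      rw [he, closure_empty] at this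
      exact (this ▸ subset_closure rfl : x ∈ (∅ : Set X))
    obtain ⟨z, hz, hzc⟩ := hne
    exact ⟨z, specializes_iff_mem_closure.2 hz, hzc⟩
  have nonneg : ∀ x : X, 0 ≤ δ x := fun x => by
    obtain ⟨z, hz, hzc⟩ := key x
    linarith [h0 z hzc, le_of_specializes h hz]
  refine ⟨nonneg ξ, le_antisymm (Order.height_le fun p hp => ?_) ?_⟩
  · have h1 := length_le h p
    rw [hp] at h1
    have := nonneg p.head
    exact_mod_cast (show (p.length : ℤ) ≤ (δ ξ).toNat by omega)
  · obtain ⟨z, hz, hzc⟩ := key ξ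
    obtain ⟨s, hl, -, hlast⟩ := exists_series h (δ ξ).toNat z hz (by rw [h0 z hzc]; have := nonneg ξ; omega)
    rw [← hl]
    exact Order.length_le_height hlast.le

theorem krullDim_zeroLocus_eq (h : Cyc.IsDimFun X δ) {ξ z : X} (hz : ξ ⤳ z) {R : Type u} [CommRing R]
    (φ : PrimeSpectrum R → X) (hinj : Function.Injective φ)
    (hle : ∀ P Q : PrimeSpectrum R, P ≤ Q ↔ φ P ⤳ φ Q) (hrange : ∀ w : X, w ∈ Set.range φ ↔ w ⤳ z)
    (p : PrimeSpectrum R) (hp : φ p = ξ) :
    Order.krullDim (PrimeSpectrum.zeroLocus (p.asIdeal : Set R)) = ((δ ξ - δ z).toNat : WithBot ℕ∞) := by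
  let Y := {w : X // ξ ⤳ w ∧ w ⤳ z}
  have hmem : ∀ P : PrimeSpectrum.zeroLocus (p.asIdeal : Set R), ξ ⤳ φ P.1 ∧ φ P.1 ⤳ z := fun P =>
    ⟨hp ▸ (hle p P.1).1 ((PrimeSpectrum.mem_zeroLocus _ _).1 P.2), (hrange _).1 ⟨P.1, rfl⟩⟩
  let F : PrimeSpectrum.zeroLocus (p.asIdeal : Set R) → Yᵒᵈ :=
    fun P => OrderDual.toDual (⟨φ P.1, hmem P⟩ : Y)
  have hF : Function.Bijective F := by
    refine ⟨fun P Q he => Subtype.ext (hinj (congrArg (fun w : Yᵒᵈ => (OrderDual.ofDual w).1) he)), fun w => ?_⟩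
    obtain ⟨⟨w, hw1, hw2⟩, rfl⟩ := OrderDual.toDual.surjective w
    obtain ⟨P, rfl⟩ := (hrange w).2 hw2
    exact ⟨⟨P, (PrimeSpectrum.mem_zeroLocus _ _).2 ((hle p P).2 (hp.symm ▸ hw1))⟩, rfl⟩
  let e : PrimeSpectrum.zeroLocus (p.asIdeal : Set R) ≃o Yᵒᵈ :=
    { toEquiv := Equiv.ofBijective F hF
      map_rel_iff' := fun {a b} => (hle a.1 b.1).symm }
  rw [Order.krullDim_eq_of_orderIso e, Order.krullDim_orderDual]
  refine le_antisymm (iSup_le fun s => ?_) ?_
  · let t : LTSeries X := s.map Subtype.val fun a b hab => hab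
    have h1 := length_le h t
    have h2 : δ t.last ≤ δ ξ := le_of_specializes h s.last.2.1
    have h3 : δ z ≤ δ t.head := le_of_specializes h s.head.2.2
    have ht : t.length = s.length := rfl
    exact_mod_cast (show s.length ≤ (δ ξ - δ z).toNat by omega)
  · obtain ⟨s, hl, hh, hlast⟩ := exists_series h (δ ξ - δ z).toNat z hz
      (by have := le_of_specializes h hz; omega)
    let t : LTSeries Y :=
      { length := s.length
        toFun := fun i => ⟨s i, hlast ▸ (s.monotone (Fin.le_last i)), hh ▸ (s.monotone (Fin.zero_le i))⟩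
        step := fun i => s.step i }
    exact le_of_eq_of_le (by rw [← hl]) (le_iSup (fun p : LTSeries Y => (p.length : WithBot ℕ∞)) t)

theorem ringKrullDim_locQuot (h : Cyc.IsDimFun X δ) {ξ z : X} (hz : ξ ⤳ z) :
    ringKrullDim (Cyc.LocQuot z ξ hz) = ((δ ξ - δ z).toNat : WithBot ℕ∞) := by
  let p : PrimeSpectrum (X.presheaf.stalk z) := PrimeSpectrum.comap (X.presheaf.stalkSpecializes hz).hom
    (closedPoint (X.presheaf.stalk ξ))
  have hker : RingHom.ker (Cyc.specMap z ξ hz) = p.asIdeal := by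
    ext a
    show X.residue ξ ((X.presheaf.stalkSpecializes hz) a) = 0 ↔
      (X.presheaf.stalkSpecializes hz) a ∈ maximalIdeal (X.presheaf.stalk ξ)
    exact IsLocalRing.residue_eq_zero_iff _
  have hpξ : X.fromSpecStalk z p = ξ := by
    have e := Scheme.SpecMap_stalkSpecializes_fromSpecStalk (X := X) hz
    calc X.fromSpecStalk z p
        = (Spec.map (X.presheaf.stalkSpecializes hz) ≫ X.fromSpecStalk z) (closedPoint _) := rfl
      _ = ξ := by rw [e]; exact Scheme.fromSpecStalk_closedPoint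
  have hrange : ∀ w : X, w ∈ Set.range (X.fromSpecStalk z) ↔ w ⤳ z := fun w => by
    rw [Scheme.range_fromSpecStalk]; rfl
  rw [ringKrullDim_quotient, hker]
  exact krullDim_zeroLocus_eq h hz (fun P => X.fromSpecStalk z P) (X.fromSpecStalk z).isEmbedding.injective
    (fun P Q => (PrimeSpectrum.le_iff_specializes P Q).trans
      (X.fromSpecStalk z).isEmbedding.isInducing.specializes_iff.symm) hrange p hpξ

end Groth.Agent.CycLib
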