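import Groth.Agent.CycLib.LocQuotHom
import Groth.Agent.LenLib.NormOrder
import Mathlib.AlgebraicGeometry.Morphisms.Finite

/-!
The norm formula for a morphism which is finite near a point.
-/

set_option autoImplicit false
set_option linter.style.haveILetI false
set_option maxHeartbeats 400000

universe u

open CategoryTheory AlgebraicGeometry IsLocalRing

namespace Groth.Agent.CycLib

variable {Z Y : Scheme.{u}}

/-- `ord_y (Nm g) = ∑_{z ↦ y} [κ(z) : κ(y)] ord_z g` when `q` is finite near `y`. -/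
theorem ordAt_norm_eq_sum [IsIntegral Z] [IsLocallyNoetherian Z] [IsLocallyNoetherian Y] (q : Z ⟶ Y)
    {y : Y} (h : q (genericPoint Z) ⤳ y) {V : Y.Opens} (hV : IsAffineOpen V) (hy : y ∈ V)
    (hW : IsAffineOpen (q ⁻¹ᵁ V)) (hfin : (q.app V).hom.Finite)
    (hK : (q.residueFieldMap (genericPoint Z)).hom.Finite)
    (hdimR : ringKrullDim (Cyc.LocQuot y (q (genericPoint Z)) h) = 1)
    (hdimS : ∀ z : Z, q z = y →
      Ring.KrullDimLE 1 (Cyc.LocQuot z (genericPoint Z) (genericPoint_specializes z)))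
    (T : Finset Z) (hT : ∀ z, z ∈ T ↔ q z = y) {g : Z.residueField (genericPoint Z)} (hg : g ≠ 0) :
    Cyc.ordAt y (q (genericPoint Z)) h (Cyc.normGen q (genericPoint Z) g) =
      ∑ z ∈ T, (q.residueDegree z : ℤ) *
        Cyc.ordAt z (genericPoint Z) (genericPoint_specializes z) g := by
  classical
  let ζ := genericPoint Z
  let R := Cyc.LocQuot y (q ζ) h
  haveI : IsDomain R := locQuot_isDomain y (q ζ) h
  haveI : IsFractionRing R (Y.residueField (q ζ)) := locQuot_isFractionRing y (q ζ) h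
  haveI : IsNoetherianRing R := locQuot_isNoetherianRing y (q ζ) h
  haveI : IsLocalRing R := IsLocalRing.of_surjective' (Ideal.Quotient.mk _) Ideal.Quotient.mk_surjective
  letI : Algebra (Y.residueField (q ζ)) (Z.residueField ζ) := (q.residueFieldMap ζ).hom.toAlgebra
  letI : Algebra R (Z.residueField ζ) := (baseToField q h).toAlgebra
  haveI : IsScalarTower R (Y.residueField (q ζ)) (Z.residueField ζ) :=
    IsScalarTower.of_algebraMap_eq fun _ => rfl
  haveI : FiniteDimensional (Y.residueField (q ζ)) (Z.residueField ζ) := hK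
  have hζ : ∀ z : Z, ζ ⤳ z := genericPoint_specializes
  haveI : ∀ z : T, IsDomain (Cyc.LocQuot z.1 ζ (hζ z.1)) := fun z => locQuot_isDomain _ _ _
  haveI : ∀ z : T, IsFractionRing (Cyc.LocQuot z.1 ζ (hζ z.1)) (Z.residueField ζ) :=
    fun z => locQuot_isFractionRing _ _ _
  haveI : ∀ z : T, IsNoetherianRing (Cyc.LocQuot z.1 ζ (hζ z.1)) := fun z => locQuot_isNoetherianRing _ _ _
  haveI : ∀ z : T, IsLocalRing (Cyc.LocQuot z.1 ζ (hζ z.1)) := fun z =>
    IsLocalRing.of_surjective' (Ideal.Quotient.mk _) Ideal.Quotient.mk_surjective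
  haveI : ∀ z : T, Ring.KrullDimLE 1 (Cyc.LocQuot z.1 ζ (hζ z.1)) := fun z => hdimS z.1 ((hT _).1 z.2)
  choose φ hφloc hφ using fun z : T => exists_locQuotHom q ((hT z.1).1 z.2) (hζ z.1) h
  letI : ∀ z : T, Algebra R (Cyc.LocQuot z.1 ζ (hζ z.1)) := fun z => (φ z).toAlgebra
  haveI : ∀ z : T, IsLocalHom (algebraMap R (Cyc.LocQuot z.1 ζ (hζ z.1))) := hφloc
  haveI : ∀ z : T, IsScalarTower R (Cyc.LocQuot z.1 ζ (hζ z.1)) (Z.residueField ζ) := fun z =>
    IsScalarTower.of_algebraMap_eq fun r => (RingHom.congr_fun (hφ z) r).symm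
  have hyW : ∀ z : Z, q z = y → z ∈ q ⁻¹ᵁ V := fun z hz => show q z ∈ V from hz ▸ hy
  have hζW : ζ ∈ q ⁻¹ᵁ V := show q ζ ∈ V from h.mem_open V.2 hy
  let ev : Γ(Z, q ⁻¹ᵁ V) →+* Z.residueField ζ := (Z.evaluation (q ⁻¹ᵁ V) ζ hζW).hom
  let j : Γ(Y, V) →+* R := (Ideal.Quotient.mk _).comp (Y.presheaf.germ V y hy).hom
  have hcomm : ev.comp (q.app V).hom = (algebraMap R (Z.residueField ζ)).comp j := by
    refine RingHom.ext fun a => ?_
    show Z.evaluation (q ⁻¹ᵁ V) ζ hζW (q.app V a) =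
      q.residueFieldMap ζ (Cyc.specMap y (q ζ) h (Y.presheaf.germ V y hy a))
    rw [specMap_germ h hy a]
    exact (Scheme.evaluation_naturality_apply q ζ hζW a).symm
  have hint : ∀ b, IsIntegral R (ev b) := by
    intro b
    obtain ⟨P, hP, hev⟩ := hfin.to_isIntegral b
    refine ⟨P.map j, hP.map j, ?_⟩
    rw [Polynomial.eval₂_map, ← hcomm, ← Polynomial.hom_eval₂, hev, map_zero]
  obtain ⟨G, hG⟩ : ∃ G : Finset Γ(Z, q ⁻¹ᵁ V),
      ∀ b, ev b ∈ Algebra.adjoin R (ev '' (G : Set Γ(Z, q ⁻¹ᵁ V))) := by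
    letI := (q.app V).hom.toAlgebra
    haveI : Module.Finite Γ(Y, V) Γ(Z, q ⁻¹ᵁ V) := hfin
    obtain ⟨G, hG⟩ := Module.Finite.fg_top (R := Γ(Y, V)) (M := Γ(Z, q ⁻¹ᵁ V))
    refine ⟨G, fun b => ?_⟩
    have hb : b ∈ Submodule.span Γ(Y, V) (G : Set Γ(Z, q ⁻¹ᵁ V)) := hG ▸ Submodule.mem_top
    induction hb using Submodule.span_induction with
    | mem x hx => exact Algebra.subset_adjoin ⟨x, hx, rfl⟩
    | zero => rw [map_zero]; exact zero_mem _
    | add x x' _ _ hx hx' => rw [map_add]; exact add_mem hx hx'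
    | smul a x _ hx =>
      rw [Algebra.smul_def, map_mul, show ev (algebraMap Γ(Y, V) Γ(Z, q ⁻¹ᵁ V) a) =
        algebraMap R (Z.residueField ζ) (j a) from RingHom.congr_fun hcomm a]
      exact mul_mem (Subalgebra.algebraMap_mem _ _) hx
  let ψ : ∀ z : T, Γ(Z, q ⁻¹ᵁ V) →+* Cyc.LocQuot z.1 ζ (hζ z.1) := fun z =>
    (Ideal.Quotient.mk _).comp (Z.presheaf.germ (q ⁻¹ᵁ V) z.1 (hyW _ ((hT _).1 z.2))).hom
  have hψu : ∀ (z : T) (b : Γ(Z, q ⁻¹ᵁ V)), ψ z b ∈ maximalIdeal (Cyc.LocQuot z.1 ζ (hζ z.1)) ↔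
      b ∈ (hW.primeIdealOf ⟨z.1, hyW _ ((hT _).1 z.2)⟩).asIdeal := by
    intro z b
    letI := TopCat.Presheaf.algebra_section_stalk Z.presheaf (⟨z.1, hyW _ ((hT _).1 z.2)⟩ : q ⁻¹ᵁ V)
    haveI := hW.isLocalization_stalk ⟨z.1, hyW _ ((hT _).1 z.2)⟩
    haveI : IsLocalHom (Ideal.Quotient.mk (RingHom.ker (Cyc.specMap z.1 ζ (hζ z.1)))) :=
      IsLocalHom.of_surjective _ Ideal.Quotient.mk_surjective
    rw [← IsLocalization.AtPrime.to_map_mem_maximal_iff (Z.presheaf.stalk z.1) _ b]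
    exact ⟨fun hm hu => hm (hu.map (Ideal.Quotient.mk _)), fun hm hu => hm (IsUnit.of_map (Ideal.Quotient.mk (RingHom.ker (Cyc.specMap z.1 ζ (hζ z.1)))) _ hu)⟩
  have key := LenLib.ordFrac_norm_family (R := R) (K := Y.residueField (q ζ)) (L := Z.residueField ζ)
    hdimR ev hint G hG (fun z => evaluation_surj hW hζW z |>.imp fun a ⟨b, hb⟩ => ⟨b, hb⟩)
    (fun z : T => Cyc.LocQuot z.1 ζ (hζ z.1)) ψ
    (fun z b => specMap_germ (hζ z.1) (hyW _ ((hT _).1 z.2)) b) ?_ ?_ ?_ hg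
  · refine key.trans ?_
    rw [← Finset.sum_coe_sort T]
    refine Finset.sum_congr rfl fun z _ => ?_
    rw [length_residueField_locQuot q ((hT z.1).1 z.2) (hζ z.1) h (hφ z)]
    rfl
  · intro z s
    obtain ⟨c, rfl⟩ := Ideal.Quotient.mk_surjective s
    letI := TopCat.Presheaf.algebra_section_stalk Z.presheaf (⟨z.1, hyW _ ((hT _).1 z.2)⟩ : q ⁻¹ᵁ V)
    haveI := hW.isLocalization_stalk ⟨z.1, hyW _ ((hT _).1 z.2)⟩
    obtain ⟨⟨a, b⟩, e⟩ := IsLocalization.surj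
      (hW.primeIdealOf ⟨z.1, hyW _ ((hT _).1 z.2)⟩).asIdeal.primeCompl c
    exact ⟨a, b.1, (IsLocalization.map_units (Z.presheaf.stalk z.1) b).map (Ideal.Quotient.mk _),
      (map_mul _ _ _).symm.trans (congrArg _ e)⟩
  · intro z z' he
    have e : hW.primeIdealOf ⟨z.1, hyW _ ((hT _).1 z.2)⟩ = hW.primeIdealOf ⟨z'.1, hyW _ ((hT _).1 z'.2)⟩ := by
      refine PrimeSpectrum.ext (Ideal.ext fun b => ?_)
      rw [← hψu z b, ← hψu z' b]
      exact SetLike.ext_iff.1 he b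
    exact Subtype.ext (by rw [← hW.fromSpec_primeIdealOf ⟨z.1, hyW _ ((hT _).1 z.2)⟩, e,
      hW.fromSpec_primeIdealOf])
  · intro B hB n hn hnm
    let ev' : Γ(Z, q ⁻¹ᵁ V) →+* B := ev.codRestrict B hB
    haveI := hn.isPrime
    let Q : PrimeSpectrum Γ(Z, q ⁻¹ᵁ V) := PrimeSpectrum.comap ev' ⟨n, hn.isPrime⟩
    have hQW : hW.fromSpec Q ∈ q ⁻¹ᵁ V := (Set.ext_iff.1 hW.range_fromSpec _).1 ⟨Q, rfl⟩
    have hQ : hW.primeIdealOf ⟨hW.fromSpec Q, hQW⟩ = Q :=
      hW.fromSpec.isOpenEmbedding.injective (hW.fromSpec_primeIdealOf _)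
    have hcomap : PrimeSpectrum.comap (q.app V).hom Q = hV.primeIdealOf ⟨y, hy⟩ := by
      refine PrimeSpectrum.ext (Ideal.ext fun a => ?_)
      show ev' (q.app V a) ∈ n ↔ _
      rw [show ev' (q.app V a) = algebraMap R B (j a) from Subtype.ext (RingHom.congr_fun hcomm a),
        ← Ideal.mem_comap, hnm]
      letI := TopCat.Presheaf.algebra_section_stalk Y.presheaf (⟨y, hy⟩ : V)
      haveI := hV.isLocalization_stalk ⟨y, hy⟩
      haveI : IsLocalHom (Ideal.Quotient.mk (RingHom.ker (Cyc.specMap y (q ζ) h))) :=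
        IsLocalHom.of_surjective _ Ideal.Quotient.mk_surjective
      rw [← IsLocalization.AtPrime.to_map_mem_maximal_iff (Y.presheaf.stalk y) _ a]
      exact ⟨fun hm hu => hm (hu.map (Ideal.Quotient.mk _)), fun hm hu => hm (IsUnit.of_map (Ideal.Quotient.mk (RingHom.ker (Cyc.specMap y (q ζ) h))) _ hu)⟩
    have hqy : q (hW.fromSpec Q) = y := by
      have e := hV.SpecMap_appLE_fromSpec q hW (le_refl (q ⁻¹ᵁ V))
      rw [Scheme.Hom.appLE_eq_app] at e
      have e' : (Spec.map (q.app V) ≫ hV.fromSpec) Q = (hW.fromSpec ≫ q) Q := congrArg (fun m : Spec _ ⟶ Y => m Q) e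
      refine Eq.trans e'.symm ?_
      show hV.fromSpec (PrimeSpectrum.comap (q.app V).hom Q) = y
      rw [hcomap, hV.fromSpec_primeIdealOf]
    refine ⟨⟨_, (hT _).2 hqy⟩, fun b => ?_⟩
    rw [hψu]
    exact (SetLike.ext_iff.1 (congrArg PrimeSpectrum.asIdeal hQ) b).symm

end Groth.Agent.CycLib
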