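import Groth.Agent.CycLib.PullDiv
import Mathlib.RingTheory.Spectrum.Prime.Topology

/-!
Consequences of the formula for the pullback of a principal divisor.
-/

set_option autoImplicit false
set_option linter.style.haveILetI false
set_option maxHeartbeats 400000

universe u

open CategoryTheory AlgebraicGeometry IsLocalRing

namespace Groth.Agent.CycLib

variable {X Y : Scheme.{u}}

theorem maximalIdeal_stalk_eq_bot [IsIntegral Y] {y : Y} (hy : y = genericPoint Y) :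
    maximalIdeal (Y.presheaf.stalk y) = ⊥ := by
  subst hy
  exact IsLocalRing.isField_iff_maximalIdeal_eq.1 (Field.toIsField Y.functionField)

theorem length_quot_map_bot {A C : Type u} [CommRing A] [CommRing C] (φ : A →+* C) {J : Ideal A}
    (hJ : J = ⊥) : Module.length C (C ⧸ J.map φ) = Module.length C C :=
  (Submodule.quotEquivOfEqBot (J.map φ) (by rw [hJ]; exact Ideal.map_bot)).length_eq

theorem fibLen_of_eq_genericPoint [IsIntegral Y] (f : X ⟶ Y) {x : X} (h : f x = genericPoint Y) :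
    fibLen f x = (Module.length (X.presheaf.stalk x) (X.presheaf.stalk x)).toNat := by
  rw [fibLen, length_quot_map_bot _ (maximalIdeal_stalk_eq_bot h)]

theorem length_stalk_genericPoint [IsIntegral X] :
    Module.length (X.presheaf.stalk (genericPoint X)) (X.presheaf.stalk (genericPoint X)) = 1 := by
  let hF : IsField (X.presheaf.stalk (genericPoint X)) := Field.toIsField X.functionField
  letI := hF.toField
  exact Module.length_eq_one (R := X.presheaf.stalk (genericPoint X)) (M := X.presheaf.stalk (genericPoint X))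

theorem divFun_pow [IsLocallyNoetherian X] {δ : X → ℤ} (hd : Cyc.IsDimFun X δ) {ξ : X}
    {f : X.residueField ξ} (hf : f ≠ 0) (n : ℕ) (x : X) :
    Cyc.divFun δ ξ (f ^ n) x = n * Cyc.divFun δ ξ f x := by
  induction n with
  | zero =>
    rw [pow_zero, Cyc.divFun]
    split_ifs with h
    · rw [ordAt_one hd h.1 h.2]; simp
    · simp
  | succ n ih =>
    rw [pow_succ, divFun_mul hd (pow_ne_zero _ hf) hf, Pi.add_apply, ih]
    push_cast
    ring

/-- Only finitely many generic points of a fibre meet an affine open. -/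
theorem finite_fibGen_inter [IsLocallyNoetherian X] (f : X ⟶ Y) (ξ : Y) {W : X.Opens}
    (hW : IsAffineOpen W) : {ζ : FibGen f ξ | ζ.1 ∈ W}.Finite := by
  haveI : IsNoetherianRing Γ(X, W) := IsLocallyNoetherian.component_noetherian ⟨W, hW⟩
  obtain ⟨I, hI⟩ := (PrimeSpectrum.isClosed_iff_zeroLocus_ideal _).1
    ((isClosed_closure (s := ({ξ} : Set Y))).preimage (hW.fromSpec ≫ f).continuous)
  have hfin : ((fun Q : PrimeSpectrum Γ(X, W) => Q.asIdeal) ⁻¹' I.minimalPrimes).Finite :=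
    (Ideal.finite_minimalPrimes_of_isNoetherianRing _ I).preimage fun a _ b _ e => PrimeSpectrum.ext e
  refine ((hfin.image hW.fromSpec).preimage (f := fun ζ : FibGen f ξ => ζ.1)
    (fun a _ b _ e => Subtype.ext e)).subset fun ζ hζ => ?_
  have he := hW.fromSpec_primeIdealOf ⟨ζ.1, hζ⟩
  refine ⟨hW.primeIdealOf ⟨ζ.1, hζ⟩, ?_, he⟩
  have hmem : ∀ Q : PrimeSpectrum Γ(X, W), I ≤ Q.asIdeal ↔ ξ ⤳ f (hW.fromSpec Q) := fun Q => by
    rw [specializes_iff_mem_closure]
    exact ((PrimeSpectrum.mem_zeroLocus _ _).symm.trans (Set.ext_iff.1 hI Q).symm)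
  refine ⟨⟨(hW.primeIdealOf _).2, (hmem _).2 (by rw [he, ζ.2.2])⟩, fun J hJ hle => ?_⟩
  have h1 : hW.fromSpec ⟨J, hJ.1⟩ ⤳ ζ.1 := by
    have := (primeIdealOf_le_iff hW ⟨J, hJ.1⟩ (hW.primeIdealOf ⟨ζ.1, hζ⟩)).1 hle
    rwa [he] at this
  have h2 : f (hW.fromSpec ⟨J, hJ.1⟩) = f ζ.1 :=
    ((h1.map f.continuous).antisymm (by rw [ζ.2.2]; exact (hmem _).1 hJ.2)).eq
  have h3 : hW.fromSpec ⟨J, hJ.1⟩ = hW.fromSpec (hW.primeIdealOf ⟨ζ.1, hζ⟩) := by
    rw [he]; exact ζ.2.1 _ h2 h1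
  exact (congrArg PrimeSpectrum.asIdeal (hW.fromSpec.isOpenEmbedding.injective h3)).ge

/-- Flat pullback preserves rational equivalence to zero. -/
theorem ratEquivZero_pull (f : X ⟶ Y) [Flat f] [LocallyOfFiniteType f] {δX : X → ℤ} {δY : Y → ℤ}
    (hX : Cyc.IsSetup X δX) (hY : Cyc.IsSetup Y δY) (hδ : Cyc.DeltaCompat f δX δY) {r : ℕ}
    (hr : Cyc.HasRelDim f r) {k : ℤ} {γ : AlgebraicCycle Y ℤ} (h : Cyc.RatEquivZero δY k γ)
    (γ' : AlgebraicCycle X ℤ) (hγ' : ∀ x, γ' x = Cyc.pullFun f δX δY r ⇑γ x) :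
    Cyc.RatEquivZero δX (k + r) γ' := by
  classical
  haveI := hX.1
  obtain ⟨ι, ξ, g, hξ, hg, hlf, hsum⟩ := h
  let F : (p : Σ i, FibGen f (ξ i)) → X.residueField p.2.1 := fun p =>
    (f.residueFieldMap p.2.1 ((Y.residueFieldCongr p.2.2.2.symm).hom (g p.1))) ^ fibLen f p.2.1
  have hne : ∀ p : Σ i, FibGen f (ξ i),
      f.residueFieldMap p.2.1 ((Y.residueFieldCongr p.2.2.2.symm).hom (g p.1)) ≠ 0 := fun p =>
    (map_ne_zero _).2 ((map_ne_zero _).2 (hg p.1))
  have hloc : ∀ x : X, ∃ (W : X.Opens) (A : Finset ι) (B : ∀ i, Finset (FibGen f (ξ i))), x ∈ W ∧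
      (∀ i, (closure {ξ i} ∩ f '' (W : Set X)).Nonempty → i ∈ A) ∧
      ∀ p : Σ i, FibGen f (ξ i), (closure {p.2.1} ∩ (W : Set X)).Nonempty → p ∈ A.sigma B := by
    intro x
    obtain ⟨U, hUo, hxU, hfin⟩ := hlf (f x)
    obtain ⟨W, hW, hxW, hWU⟩ := exists_isAffineOpen_mem_and_subset (x := x)
      (U := ⟨f ⁻¹' U, hUo.preimage f.continuous⟩) hxU
    refine ⟨W, hfin.toFinset, fun i => (finite_fibGen_inter f (ξ i) hW).toFinset, hxW, ?_, ?_⟩
    · rintro i ⟨_, hz, w, hw, rfl⟩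
      exact hfin.mem_toFinset.2 ⟨f w, hz, hWU hw⟩
    · rintro ⟨i, ζ⟩ ⟨w, hw, hwW⟩
      have hs : ζ.1 ⤳ w := specializes_iff_mem_closure.2 hw
      refine Finset.mem_sigma.2 ⟨hfin.mem_toFinset.2 ⟨f w, ?_, hWU hwW⟩, ?_⟩
      · exact specializes_iff_mem_closure.1 (ζ.2.2 ▸ hs.map f.continuous)
      · exact (Set.Finite.mem_toFinset _).2 (hs.mem_open W.2 hwW)
  refine ⟨Σ i, FibGen f (ξ i), fun p => p.2.1, F, fun p => ?_, fun p => pow_ne_zero _ (hne p),
    fun x => ?_, fun x => ?_⟩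
  · rw [delta_eq_of_generic f hδ hr _ p.2.2.1, p.2.2.2, hξ]
    ring
  · obtain ⟨W, A, B, hxW, -, hp⟩ := hloc x
    exact ⟨W, W.2, hxW, (A.sigma B).finite_toSet.subset fun p hq => hp p hq⟩
  · obtain ⟨W, A, B, hxW, hA, hp⟩ := hloc x
    have hzero : ∀ (i : ι) (ζ : FibGen f (ξ i)), ⟨i, ζ⟩ ∉ A.sigma B →
        pullTerm f δX (ξ i) (g i) x ζ = 0 := fun i ζ hn => by
      by_contra hz
      refine hn (hp ⟨i, ζ⟩ ⟨x, specializes_iff_mem_closure.1 ?_, hxW⟩)
      by_contra hns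
      refine hz ?_
      rw [pullTerm, Cyc.divFun, dif_neg fun hc => hns hc.1, mul_zero]
    have hF : ∀ p : Σ i, FibGen f (ξ i),
        Cyc.divFun δX p.2.1 (F p) x = pullTerm f δX (ξ p.1) (g p.1) x p.2 := fun p =>
      divFun_pow hX.2.2 (hne p) _ x
    rw [finsum_congr hF, finsum_eq_sum_of_support_subset _ (s := A.sigma B) (fun p hq => by
      by_contra hn
      exact hq (hzero p.1 p.2 hn)), Finset.sum_sigma]
    have hs : γ (f x) = ∑ i ∈ A, Cyc.divFun δY (ξ i) (g i) (f x) := by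
      rw [hsum, finsum_eq_sum_of_support_subset _ (s := A) ?_]
      intro i hi
      refine hA i ⟨f x, specializes_iff_mem_closure.1 ?_, x, hxW, rfl⟩
      by_contra hns
      exact hi (dif_neg fun hc => hns hc.1)
    have hlin : Cyc.pullFun f δX δY r ⇑γ x =
        ∑ i ∈ A, Cyc.pullFun f δX δY r (Cyc.divFun δY (ξ i) (g i)) x := by
      simp only [Cyc.pullFun]
      split_ifs with hc
      · rw [hs, Finset.sum_mul]
      · rw [Finset.sum_const_zero]
    rw [hγ', hlin]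
    refine Finset.sum_congr rfl fun i hi => ?_
    rw [pullFun_divFun f hX hY hδ hr (ξ i) (g i) (hg i) x,
      finsum_eq_sum_of_support_subset _ (s := B i) fun ζ hζ => ?_]
    by_contra hn
    exact hζ (hzero i ζ fun hm => hn (Finset.mem_sigma.1 hm).2)

end Groth.Agent.CycLib
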