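import Mathlib.AlgebraicGeometry.ZariskisMainTheorem
import Mathlib.AlgebraicGeometry.Morphisms.Proper
import Groth.Agent.GenFinite.Basic
import Groth.Agent.CycLib.PullDivApp

/-!
A proper morphism is finite near a point with finite fibre; fibres without specializations are finite.
-/

set_option autoImplicit false
set_option linter.style.haveILetI false
set_option maxHeartbeats 400000

universe u

open CategoryTheory AlgebraicGeometry

namespace Groth.Agent.CycLib

variable {X Y : Scheme.{u}}

theorem exists_affine_isFinite_of_finite_fibre (f : X ⟶ Y) [IsProper f] (y : Y)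
    (hfin : (f ⁻¹' {y}).Finite) :
    ∃ V : Y.Opens, IsAffineOpen V ∧ y ∈ V ∧ IsFinite (f ∣_ V) := by
  have hcl : IsClosed (f '' (f.quasiFiniteLocus : Set X)ᶜ) :=
    f.isClosedMap _ f.quasiFiniteLocus.2.isClosed_compl
  have hy : y ∉ f '' (f.quasiFiniteLocus : Set X)ᶜ := by
    rintro ⟨x, hx, rfl⟩
    exact hx (GenFinite.quasiFiniteAt_of_finite_fibre f hfin rfl)
  obtain ⟨V, hV, hyV, hVc⟩ := exists_isAffineOpen_mem_and_subset (x := y)
    (U := ⟨_, hcl.isOpen_compl⟩) hy
  refine ⟨V, hV, hyV, ?_⟩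
  set g := f ∣_ V with hg
  haveI : IsProper g := IsZariskiLocalAtTarget.restrict (inferInstance : IsProper f) V
  haveI : LocallyQuasiFinite g := by
    rw [← Scheme.Hom.quasiFiniteLocus_eq_top_iff]
    ext x
    have : f.QuasiFiniteAt ((f ⁻¹ᵁ V).ι x) := by
      by_contra hn
      exact hVc (show f ((f ⁻¹ᵁ V).ι x) ∈ V from x.2) ⟨_, hn, rfl⟩
    rw [← Scheme.Hom.quasiFiniteAt_comp_iff_of_isOpenImmersion, ← morphismRestrict_ι,
      Scheme.Hom.quasiFiniteAt_comp_iff] at this
    simpa
  exact IsFinite.of_isProper_of_locallyQuasiFinite g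

/-- A subset of a fibre closed under generization in it and without specializations is finite. -/
theorem finite_fibre_of_discrete [IsLocallyNoetherian X] (f : X ⟶ Y) [QuasiCompact f] (y : Y)
    (h : ∀ x x' : X, f x = y → f x' = y → x' ⤳ x → x' = x) : {x : X | f x = y}.Finite := by
  obtain ⟨U, hU, hyU, -⟩ := exists_isAffineOpen_mem_and_subset (TopologicalSpace.Opens.mem_top y)
  choose W hW hxW hWsub using fun x : X => exists_isAffineOpen_mem_and_subset
    (TopologicalSpace.Opens.mem_top x)
  obtain ⟨t, ht⟩ := (f.isSpectralMap.2 U.2 hU.isCompact).elim_finite_subcover (fun x => (W x : Set X))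
    (fun x => (W x).2) fun x _ => Set.mem_iUnion.2 ⟨x, hxW x⟩
  refine (t.finite_toSet.biUnion fun a _ =>
    ((finite_fibGen_inter f y (hW a)).image (fun ζ => ζ.1))).subset fun x hx => ?_
  obtain ⟨a, ha, hxa⟩ := Set.mem_iUnion₂.1 (ht (show f x ∈ U from hx ▸ hyU))
  exact Set.mem_biUnion ha ⟨⟨x, fun x' hx' hs => h x x' hx (hx'.trans hx) hs, hx⟩, hxa, rfl⟩

end Groth.Agent.CycLib
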