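import Groth.Agent.CycLib.ClosedPt
import Groth.Agent.CycLib.NormDiv
import Groth.Agent.CycLib.ProperFinite
import Groth.Agent.CycLib.MapLib
import Groth.Agent.CycLib.Residue
import Groth.Agent.CycLib.Interval
import Mathlib.RingTheory.Norm.Transitivity

/-!
Proper push-forward of a principal divisor when the dimension does not drop: the norm formula.
-/

set_option autoImplicit false
set_option linter.style.haveILetI false
set_option maxHeartbeats 400000

universe u

open CategoryTheory AlgebraicGeometry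

namespace Groth.Agent.CycLib

variable {Z X Y : Scheme.{u}}

theorem norm_map_equiv {k K L : Type u} [Field k] [Field K] [Field L] [Algebra k K] [Algebra k L]
    (e : K →+* L) (he : Function.Bijective e) (h : ∀ c, e (algebraMap k K c) = algebraMap k L c) (z : K) :
    Algebra.norm k (e z) = Algebra.norm k z :=
  (Algebra.norm_eq_of_algEquiv (AlgEquiv.ofBijective ({ e with commutes' := h } : K →ₐ[k] L) he) z)

theorem residueDegree_closedImmersion (i : Z ⟶ X) [IsPreimmersion i] (z : Z) :
    i.residueDegree z = 1 :=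
  residueDegree_eq_one i z (residueFieldMap_bijective_closedImmersion i z).2

theorem residueFieldMap_comp_apply (i : Z ⟶ X) (p : X ⟶ Y) (z : Z) (c : Y.residueField (p (i z))) :
    (i ≫ p).residueFieldMap z c = i.residueFieldMap z (p.residueFieldMap (i z) c) := by
  rw [Scheme.residueFieldMap_comp i p z]
  rfl

theorem normGen_closedImmersion (i : Z ⟶ X) [IsClosedImmersion i] (p : X ⟶ Y) (z : Z)
    (g : X.residueField (i z)) :
    Cyc.normGen (i ≫ p) z (i.residueFieldMap z g) = Cyc.normGen p (i z) g := by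
  unfold Cyc.normGen
  letI iX : Algebra (Y.residueField (p (i z))) (X.residueField (i z)) := (p.residueFieldMap (i z)).hom.toAlgebra
  letI iZ : Algebra (Y.residueField (p (i z))) (Z.residueField z) := ((i ≫ p).residueFieldMap z).hom.toAlgebra
  exact norm_map_equiv (k := Y.residueField (p (i z))) (i.residueFieldMap z).hom
    (residueFieldMap_bijective_closedImmersion i z) (fun c => (residueFieldMap_comp_apply i p z c).symm) g

theorem finite_residueFieldMap_comp (i : Z ⟶ X) [IsClosedImmersion i] (p : X ⟶ Y) (z : Z)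
    (h : (p.residueFieldMap (i z)).hom.Finite) : ((i ≫ p).residueFieldMap z).hom.Finite := by
  rw [Scheme.residueFieldMap_comp i p z]
  exact (RingHom.Finite.of_surjective _ (residueFieldMap_bijective_closedImmersion i z).2).comp h

theorem finite_app_of_restrict (q : X ⟶ Y) {V : Y.Opens} [IsAffine (V : Scheme.{u})]
    (h : IsFinite (q ∣_ V)) : (q.app V).hom.Finite := by
  have h2 := (q ∣_ V).finite_appTop
  rw [morphismRestrict_appTop] at h2
  have key : ∀ {A B C : CommRingCat.{u}} (f : A ⟶ B) (g : B ⟶ C) [IsIso g],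
      (f ≫ g).hom.Finite → f.hom.Finite := fun f g _ hf => by
    have h3 := (RingHom.Finite.of_surjective (inv g).hom (ConcreteCategory.bijective_of_isIso _).2).comp hf
    rw [← CommRingCat.hom_comp, Category.assoc, IsIso.hom_inv_id, Category.comp_id] at h3
    exact h3
  have h3 := @key _ _ _ _ _ (Functor.map_isIso _ _) h2
  have hV : ∀ V' : Y.Opens, V' = V → (q.app V').hom.Finite → (q.app V).hom.Finite := by
    rintro V' rfl hf
    exact hf
  exact hV _ (Scheme.Opens.ι_image_top V) h3

variable (p : X ⟶ Y) [IsProper p]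

/-- `p_* div (ξ, g) = div (p ξ, Nm g)` when `δ (p ξ) = δ ξ`. -/
theorem map_divFun_eq' [IsLocallyNoetherian X] [IsLocallyNoetherian Y] {δX : X → ℤ} {δY : Y → ℤ}
    (hdX : Cyc.IsDimFun X δX) (hdY : Cyc.IsDimFun Y δY)
    (hδ : Cyc.DeltaCompat p δX δY) (ξ : X) (hd : δX ξ = δY (p ξ)) {g : X.residueField ξ} (hg : g ≠ 0)
    (α : AlgebraicCycle X ℤ) (hα : ⇑α = Cyc.divFun δX ξ g) (y : Y) :
    AlgebraicCycle.map p δX δY α y = Cyc.divFun δY (p ξ) (Cyc.normGen p ξ g) y := by
  classical
  have hsupp : ∀ x, α x ≠ 0 → ξ ⤳ x ∧ δX x + 1 = δX ξ := fun x hx => by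
    by_contra hn
    exact hx (by rw [hα]; exact dif_neg hn)
  by_cases hc : p ξ ⤳ y ∧ δY y + 1 = δY (p ξ)
  swap
  · have hR : Cyc.divFun δY (p ξ) (Cyc.normGen p ξ g) y = 0 := dif_neg hc
    rw [hR, map_apply_eq_sum p δX δY α y (finite_fibre_support p α y).toFinset
      (fun x h1 h2 => (Set.Finite.mem_toFinset _).2 ⟨h1, h2⟩), Finset.sum_eq_zero fun x hx => ?_]
    obtain ⟨hx1, hx2⟩ := Finset.mem_filter.1 hx
    obtain ⟨h1, h2⟩ := hsupp x ((Set.Finite.mem_toFinset _).1 hx1).2
    rw [AlgebraicCycle.mapCoeff, if_neg fun he => hc ⟨hx2 ▸ h1.map p.continuous, ?_⟩, Nat.cast_zero, mul_zero]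
    rw [← hx2, ← he]
    omega
  obtain ⟨hsp, hy⟩ := hc
  rw [Cyc.divFun, dif_pos ⟨hsp, hy⟩]
  obtain ⟨Z, _, i, _, hiξ, hrange⟩ := exists_closure_subscheme ξ
  subst hiξ
  haveI : IsLocallyNoetherian Z := LocallyOfFiniteType.isLocallyNoetherian i
  let q := i ≫ p
  have hδx : ∀ x : X, p x = y → i (genericPoint Z) ⤳ x → δX x = δY y ∧ δX x + 1 = δX (i (genericPoint Z)) := by
    intro x hpx hs
    have h1 := le_delta p hδ x
    rw [hpx] at h1
    have hne : i (genericPoint Z) ≠ x := fun e => by
      rw [e, hpx] at hd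
      rw [e, hpx] at hy
      omega
    have h2 := (hdX _ _ hs hne).1
    omega
  have hspz : ∀ z : Z, i (genericPoint Z) ⤳ i z := fun z => (genericPoint_specializes z).map i.continuous
  haveI : IsProper q := MorphismProperty.comp_mem _ i p inferInstance inferInstance
  have hfib : {z : Z | q z = y}.Finite := finite_fibre_of_discrete q y fun z z' hz hz' hs => by
    have h1 := (hδx (i z) hz (hspz z)).1
    have h2 := (hδx (i z') hz' (hspz z')).1
    exact i.isClosedEmbedding.injective
      (eq_of_specializes hdX (hs.map i.continuous) (by omega))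
  obtain ⟨V, hV, hyV, hVfin⟩ := exists_affine_isFinite_of_finite_fibre q y hfib
  haveI := hVfin
  have hW : IsAffineOpen (q ⁻¹ᵁ V) := by
    haveI : IsAffine (V : Scheme.{u}) := hV
    exact isAffine_of_isAffineHom (q ∣_ V)
  have hfinapp : (q.app V).hom.Finite := by
    haveI : IsAffine (V : Scheme.{u}) := hV
    exact finite_app_of_restrict q hVfin
  have hdimR : ringKrullDim (Cyc.LocQuot y (q (genericPoint Z)) hsp) = 1 := by
    have e := ringKrullDim_locQuot hdY hsp
    rw [show (δY (p (i (genericPoint Z))) - δY y).toNat = 1 by omega] at e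
    exact e
  have hdimS : ∀ z : Z, q z = y →
      Ring.KrullDimLE 1 (Cyc.LocQuot z (genericPoint Z) (genericPoint_specializes z)) := fun z hz =>
    krullDimLE_locQuot_closedImmersion hdX i _ (hδx (i z) hz (hspz z)).2
  have hK := finite_residueFieldMap_comp i p (genericPoint Z) (residueFieldMap_finite_of_delta_eq p hδ _ hd)
  have hg' : i.residueFieldMap (genericPoint Z) g ≠ 0 := (map_ne_zero _).2 hg
  have key := ordAt_norm_eq_sum q hsp hV hyV hW hfinapp hK hdimR hdimS hfib.toFinset
    (fun z => hfib.mem_toFinset) hg'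
  refine Eq.trans ?_ (key.symm.trans
    (congrArg (Cyc.ordAt y (p (i (genericPoint Z))) hsp) (normGen_closedImmersion i p (genericPoint Z) g)))
  rw [map_apply_eq_sum p δX δY α y (hfib.toFinset.image i) (fun x h1 h2 => ?_)]
  swap
  · obtain ⟨z, rfl⟩ := (hrange x).2 (hsupp x h2).1
    exact Finset.mem_image.2 ⟨z, hfib.mem_toFinset.2 h1, rfl⟩
  rw [Finset.filter_true_of_mem (fun x hx => by
      obtain ⟨z, hz, rfl⟩ := Finset.mem_image.1 hx
      exact hfib.mem_toFinset.1 hz),
    Finset.sum_image fun a _ b _ e => i.isClosedEmbedding.injective e]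
  refine Finset.sum_congr rfl fun z hz => ?_
  have hzy : p (i z) = y := hfib.mem_toFinset.1 hz
  obtain ⟨h1, h2⟩ := hδx (i z) hzy (hspz z)
  rw [AlgebraicCycle.mapCoeff, if_pos (h1.trans (congrArg δY hzy.symm)), hα, Cyc.divFun,
    dif_pos ⟨hspz z, h2⟩, residueDegree_comp i p z, residueDegree_closedImmersion i z, one_mul,
    ordAt_closedImmersion hdX i (genericPoint_specializes z) h2 hg, mul_comm]

/-- `p_* div (ξ, g) = div (p ξ, Nm g)` when `δ (p ξ) = δ ξ`. -/
theorem map_divFun_eq {δX : X → ℤ} {δY : Y → ℤ} (hX : Cyc.IsSetup X δX) (hY : Cyc.IsSetup Y δY)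
    (hδ : Cyc.DeltaCompat p δX δY) (ξ : X) (hd : δX ξ = δY (p ξ)) {g : X.residueField ξ} (hg : g ≠ 0)
    (α : AlgebraicCycle X ℤ) (hα : ⇑α = Cyc.divFun δX ξ g) (y : Y) :
    AlgebraicCycle.map p δX δY α y = Cyc.divFun δY (p ξ) (Cyc.normGen p ξ g) y := by
  haveI := hX.1
  haveI := hY.1
  exact map_divFun_eq' p hX.2.2 hY.2.2 hδ ξ hd hg α hα y

end Groth.Agent.CycLib
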