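import Groth.Agent.CycLib.DevC1Comm
import Groth.Agent.Props.AmpleFrames
import Groth.Prelude.Def_Omega3

/-!
Additivity of `c₁` in the invertible module.
-/

set_option autoImplicit false
set_option linter.style.haveILetI false
set_option maxHeartbeats 800000

universe u

open CategoryTheory Limits AlgebraicGeometry IsLocalRing

namespace Groth.Agent.CycLib.Dev

open ModIdx Groth.Agent.PullStalk.Sky Groth.Agent.PullStalk.Exact

variable {X : Scheme.{u}}

theorem isBas_map {L M : X.Modules} {x : X} {t : L.presheaf.stalk x} (ht : IsBas t)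
    (f : L.presheaf.stalk x →ₗ[X.presheaf.stalk x] M.presheaf.stalk x) (hf : Function.Bijective f) :
    IsBas (f t) := by
  rw [IsBas, show LinearMap.toSpanSingleton (X.presheaf.stalk x) (M.presheaf.stalk x) (f t) =
    f.comp (LinearMap.toSpanSingleton _ _ t) from LinearMap.ext fun r => (f.map_smul r t).symm]
  exact hf.comp ht

theorem mk_ne_zero_of_isBas {L : X.Modules} {ξ : X} {σ : L.presheaf.stalk ξ} (hσ : IsBas σ) :
    (Submodule.Quotient.mk σ : Cyc.secFibre L ξ) ≠ 0 := by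
  intro h
  rw [Submodule.Quotient.mk_eq_zero] at h
  have key : ∀ n ∈ maximalIdeal (X.presheaf.stalk ξ) • (⊤ : Submodule (X.presheaf.stalk ξ) (L.presheaf.stalk ξ)),
      ∃ y ∈ maximalIdeal (X.presheaf.stalk ξ), y • σ = n := by
    intro n0 hn0
    refine Submodule.smul_induction_on hn0 (fun r hr n _ => ?_) ?_
    · obtain ⟨c, rfl⟩ := hσ.2 n
      exact ⟨r * c, Ideal.mul_mem_right _ _ hr, mul_smul r c σ⟩
    · rintro a b ⟨ya, ha, rfl⟩ ⟨yb, hb, rfl⟩
      exact ⟨ya + yb, add_mem ha hb, add_smul ya yb σ⟩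
  obtain ⟨y, hy⟩ := key σ h
  exact (Ideal.ne_top_iff_one _).1 (IsLocalRing.maximalIdeal.isMaximal _).ne_top
    ((hσ.1 (show y • σ = (1 : X.presheaf.stalk ξ) • σ by rw [hy.2, one_smul])) ▸ hy.1)

variable [IsLocallyNoetherian X] {δ : X → ℤ} {k : ℤ} (hd : Cyc.IsDimFun X δ)
variable {L N : X.Modules} (hL : PicF.IsInvertible L) (hN : PicF.IsInvertible N)

include hd hL hN in
theorem secDiv_mu {ξ : X} {σ : L.presheaf.stalk ξ} (hσ : IsBas σ) {τ : N.presheaf.stalk ξ} (hτ : IsBas τ) (x : X) :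
    Cyc.secDivFun δ (CohB1.tensorMod L N) ξ (Submodule.Quotient.mk (mu L τ σ)) x =
      Cyc.secDivFun δ L ξ (Submodule.Quotient.mk σ) x + Cyc.secDivFun δ N ξ (Submodule.Quotient.mk τ) x := by
  by_cases hx : ξ ⤳ x ∧ δ x + 1 = δ ξ
  swap
  · rw [Cyc.secDivFun, dif_neg hx, Cyc.secDivFun, dif_neg hx, Cyc.secDivFun, dif_neg hx, add_zero]
  obtain ⟨h, h1⟩ := hx
  obtain ⟨t, ht⟩ := exists_isBas hL x
  obtain ⟨t', ht'⟩ := exists_isBas hN x
  obtain ⟨c, hc⟩ := hσ.2 (Ref1.sp L h t)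
  replace hc : c • σ = Ref1.sp L h t := hc
  obtain ⟨c', hc'⟩ := hτ.2 (Ref1.sp N h t')
  replace hc' : c' • τ = Ref1.sp N h t' := hc'
  have unit : ∀ {M : X.Modules}, PicF.IsInvertible M → ∀ {s : M.presheaf.stalk ξ} {u : M.presheaf.stalk x}
      {a : X.presheaf.stalk ξ}, IsBas u → IsBas s → a • s = Ref1.sp M h u → IsUnit a := by
    intro M hM s u a hu hs ha
    obtain ⟨b, hb⟩ := (isBas_sp hM h hu).2 s
    replace hb : b • Ref1.sp M h u = s := hb
    exact isUnit_iff_exists_inv'.2 ⟨b, hs.1 (show (b * a) • s = (1 : X.presheaf.stalk ξ) • s by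
      rw [mul_smul, ha, hb, one_smul])⟩
  have hT := AmpleLib.isInvertible_tensorMod hL hN
  rw [secDivFun_of_bas hd hT h rfl h1.symm (isBas_map hσ _ (mu_bijective L hτ))
      (isBas_map ht _ (mu_bijective L ht')) (c := c * c')
      (by rw [sp_mu, ← hc, ← hc', mu_smul, map_smul, map_smul, smul_smul, mul_comm]),
    secDivFun_of_bas hd hL h rfl h1.symm hσ ht hc.symm, secDivFun_of_bas hd hN h rfl h1.symm hτ ht' hc'.symm,
    map_mul, divFun_mul hd ((unit hL ht hσ hc).map (X.residue ξ).hom).ne_zero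
      ((unit hN ht' hτ hc').map (X.residue ξ).hom).ne_zero, Pi.add_apply, neg_add]

include hd hL hN in
/-- `c₁` is additive. -/
theorem c1_add_tensor {a : X → ℤ} (ha : IsCyc δ (k + 1) a) (sL : (ξ : X) → Cyc.secFibre L ξ) (hsL : ∀ ξ, sL ξ ≠ 0)
    (sN : (ξ : X) → Cyc.secFibre N ξ) (hsN : ∀ ξ, sN ξ ≠ 0)
    (sT : (ξ : X) → Cyc.secFibre (CohB1.tensorMod L N) ξ) (hsT : ∀ ξ, sT ξ ≠ 0) :
    Cyc.c1CapFun δ L a sL + Cyc.c1CapFun δ N a sN - Cyc.c1CapFun δ (CohB1.tensorMod L N) a sT ∈ prin hd k := by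
  choose σ hσ hσe using fun ξ => exists_isBas_lift hL (sL ξ) (hsL ξ)
  choose τ hτ hτe using fun ξ => exists_isBas_lift hN (sN ξ) (hsN ξ)
  let s : (ξ : X) → Cyc.secFibre (CohB1.tensorMod L N) ξ := fun ξ => Submodule.Quotient.mk (mu L (τ ξ) (σ ξ))
  have e : Cyc.c1CapFun δ L a sL + Cyc.c1CapFun δ N a sN = Cyc.c1CapFun δ (CohB1.tensorMod L N) a s := by
    funext x
    rw [Pi.add_apply, Cyc.c1CapFun, Cyc.c1CapFun, Cyc.c1CapFun,
      ← finsum_add_distrib (finite_c1_term ha sL x) (finite_c1_term ha sN x)]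
    refine finsum_congr fun ξ => ?_
    rw [secDiv_mu hd hL hN (hσ ξ) (hτ ξ) x, hσe, hτe, mul_add]
  rw [e]
  exact c1_sub_mem hd (AmpleLib.isInvertible_tensorMod hL hN) ha s sT
    (fun ξ => mk_ne_zero_of_isBas (isBas_map (hσ ξ) _ (mu_bijective L (hτ ξ)))) hsT

end Groth.Agent.CycLib.Dev

namespace Groth.Agent.CycLib.Dev

open Groth.Agent.PullStalk.Sky

variable {X : Scheme.{u}}

/-- The germ of `1` in the structure sheaf. -/
noncomputable def oneGerm (x : X) : (Coh.structureModule X).presheaf.stalk x :=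
  germM (Coh.structureModule X) ⊤ x trivial (OmegaSh.strSect X ⊤ 1)

theorem sp_oneGerm {x ξ : X} (h : ξ ⤳ x) : Ref1.sp (Coh.structureModule X) h (oneGerm x) = oneGerm ξ :=
  Ref1.sp_germ (Coh.structureModule X) h (U := ⊤) trivial _

theorem isBas_oneGerm (x : X) : IsBas (oneGerm x) := by
  have hO := LFFrame.isInvertible_structureModule X
  obtain ⟨b, hb⟩ := exists_isBas hO x
  have gen : ∀ t, ∃ r : X.presheaf.stalk x, r • oneGerm x = t := by
    intro t
    obtain ⟨U, hx, m, rfl⟩ := exists_germM_eq _ x t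
    let r : Γ(X, U) := m
    refine ⟨X.presheaf.germ U x hx r, ?_⟩
    have e1 : oneGerm x = germM (Coh.structureModule X) U x hx (OmegaSh.strSect X U 1) := by
      refine ((Coh.structureModule X).presheaf.germ_res_apply (homOfLE le_top) x hx _).symm.trans ?_
      exact congrArg (germM (Coh.structureModule X) U x hx) (map_one (X.presheaf.map (homOfLE le_top).op).hom)
    rw [e1, ← germM_smul]
    exact congrArg (germM (Coh.structureModule X) U x hx) (mul_one r)
  obtain ⟨q, hq⟩ := hb.2 (oneGerm x)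
  replace hq : q • b = oneGerm x := hq
  obtain ⟨r, hr⟩ := gen b
  rw [← hq]
  exact isBas_smul hb (isUnit_iff_exists_inv'.2 ⟨r, hb.1 (show (r * q) • b = (1 : X.presheaf.stalk x) • b by
    rw [mul_smul, hq, hr, one_smul])⟩)

variable [IsLocallyNoetherian X] {δ : X → ℤ} {k : ℤ} (hd : Cyc.IsDimFun X δ)

include hd in
/-- `c₁` of the structure sheaf vanishes. -/
theorem c1_one {a : X → ℤ} (ha : IsCyc δ (k + 1) a) (s : (ξ : X) → Cyc.secFibre (Coh.structureModule X) ξ)
    (hs : ∀ ξ, s ξ ≠ 0) : Cyc.c1CapFun δ (Coh.structureModule X) a s ∈ prin hd k := by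
  have hO := LFFrame.isInvertible_structureModule X
  let s1 : (ξ : X) → Cyc.secFibre (Coh.structureModule X) ξ := fun ξ => Submodule.Quotient.mk (oneGerm ξ)
  have e : Cyc.c1CapFun δ (Coh.structureModule X) a s1 = 0 := by
    funext x
    refine finsum_eq_zero_of_forall_eq_zero fun ξ => ?_
    by_cases hx : ξ ⤳ x ∧ δ x + 1 = δ ξ
    · obtain ⟨h, h1⟩ := hx
      rw [secDivFun_of_bas hd hO h rfl h1.symm (isBas_oneGerm ξ) (isBas_oneGerm x) (c := 1)
        (by rw [one_smul, sp_oneGerm]), map_one]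
      have := divFun_mul (ξ := ξ) hd (one_ne_zero (α := X.residueField ξ)) (one_ne_zero (α := X.residueField ξ))
      rw [one_mul] at this
      have := congrFun this x
      simp only [Pi.add_apply] at this
      rw [show Cyc.divFun δ ξ (1 : X.residueField ξ) x = 0 by omega, neg_zero, mul_zero]
    · rw [show Cyc.secDivFun δ _ ξ (s1 ξ) x = 0 from dif_neg hx, mul_zero]
  have := c1_sub_mem hd hO ha s s1 hs fun ξ => mk_ne_zero_of_isBas (isBas_oneGerm ξ)
  rwa [e, sub_zero] at this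

end Groth.Agent.CycLib.Dev
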