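import Groth.Agent.CycLib.FibreDeg

/-!
Proper push-forward preserves rational equivalence.
-/

set_option autoImplicit false
set_option linter.style.haveILetI false
set_option maxHeartbeats 800000

universe u

open CategoryTheory AlgebraicGeometry

namespace Groth.Agent.CycLib

theorem normGen_ne_zero' {X Y : Scheme.{u}} (p : X ⟶ Y) [LocallyOfFiniteType p] {δX : X → ℤ} {δY : Y → ℤ}
    (hδ : Cyc.DeltaCompat p δX δY) (ξ : X) (hd : δX ξ = δY (p ξ)) {g : X.residueField ξ} (hg : g ≠ 0) :
    Cyc.normGen p ξ g ≠ 0 := by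
  have hfin := residueFieldMap_finite_of_delta_eq p hδ ξ hd
  unfold Cyc.normGen
  letI := (p.residueFieldMap ξ).hom.toAlgebra
  haveI : Module.Finite (Y.residueField (p ξ)) (X.residueField ξ) := hfin
  exact Algebra.norm_ne_zero_iff.2 hg

theorem map_divFun_ite {X Y : Scheme.{u}} (p : X ⟶ Y) [IsProper p] [IsLocallyNoetherian X] [IsLocallyNoetherian Y]
    {δX : X → ℤ} {δY : Y → ℤ}
    (hdX : Cyc.IsDimFun X δX) (hdY : Cyc.IsDimFun Y δY) (hδ : Cyc.DeltaCompat p δX δY) (ξ : X)
    {g : X.residueField ξ} (hg : g ≠ 0) (α : AlgebraicCycle X ℤ) (hα : ⇑α = Cyc.divFun δX ξ g) (y : Y) :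
    AlgebraicCycle.map p δX δY α y =
      if δY (p ξ) = δX ξ then Cyc.divFun δY (p ξ) (Cyc.normGen p ξ g) y else 0 := by
  split_ifs with h
  · exact map_divFun_eq' p hdX hdY hδ ξ h.symm hg α hα y
  · obtain ⟨n, -, hn⟩ := hδ ξ
    exact map_divFun_eq_zero p hdX hdY hδ ξ (by omega) hg α hα y

/-- `S1855` without the catenary hypotheses. -/
theorem ratEquiv_map {X Y : Scheme.{u}} [IsLocallyNoetherian X] [IsLocallyNoetherian Y] (δX : X → ℤ) (δY : Y → ℤ)
    (hdX : Cyc.IsDimFun X δX) (hdY : Cyc.IsDimFun Y δY) (p : X ⟶ Y) [IsProper p]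
    (hδ : Cyc.DeltaCompat p δX δY) (k : ℤ) (α β : AlgebraicCycle X ℤ) (h : Cyc.RatEquiv δX k α β) :
    Cyc.RatEquiv δY k (AlgebraicCycle.map p δX δY α) (AlgebraicCycle.map p δX δY β) := by
  classical
  obtain ⟨ι, ξ, f, hξ, hf, hlf, hsum⟩ := h
  let I' := {i : ι // δY (p (ξ i)) = k + 1}
  -- only finitely many `i` matter over a quasi-compact open of `Y`
  have hfinV : ∀ V : Y.Opens, IsAffineOpen V →
      {i | (closure {ξ i} ∩ (p ⁻¹ᵁ V : Set X)).Nonempty}.Finite := by
    intro V hV
    have hK : IsCompact (p ⁻¹ᵁ V : Set X) := p.isCompact_preimage hV.isCompact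
    choose U hUo hxU hUfin using hlf
    obtain ⟨t, ht⟩ := hK.elim_finite_subcover U hUo fun x _ => Set.mem_iUnion.2 ⟨x, hxU x⟩
    refine (t.finite_toSet.biUnion fun x _ => hUfin x).subset fun i hi => ?_
    obtain ⟨z, hz1, hz2⟩ := hi
    obtain ⟨x, hx, hzx⟩ := Set.mem_iUnion₂.1 (ht hz2)
    exact Set.mem_biUnion hx ⟨z, hz1, hzx⟩
  refine ⟨I', fun i => p (ξ i.1), fun i => Cyc.normGen p (ξ i.1) (f i.1), fun i => i.2, fun i => ?_,
    fun y => ?_, fun y => ?_⟩
  · exact normGen_ne_zero' p hδ _ (by rw [hξ, i.2]) (hf i.1)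
  · obtain ⟨V, hV, hyV, -⟩ := exists_isAffineOpen_mem_and_subset (x := y) (U := ⊤) trivial
    refine ⟨V, V.2, hyV, ((hfinV V hV).preimage Subtype.val_injective.injOn).subset fun i hi => ?_⟩
    obtain ⟨z, hz1, hz2⟩ := hi
    exact ⟨ξ i.1, subset_closure rfl, (specializes_iff_mem_closure.2 hz1).mem_open V.2 hz2⟩
  · obtain ⟨V, hV, hyV, -⟩ := exists_isAffineOpen_mem_and_subset (x := y) (U := ⊤) trivial
    have hK : IsCompact (p ⁻¹ᵁ V : Set X) := p.isCompact_preimage hV.isCompact
    let F := (hfinV V hV).toFinset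
    have hzero : ∀ i ∉ F, ∀ x, p x = y → Cyc.divFun δX (ξ i) (f i) x = 0 := fun i hi x hx => by
      by_contra hne
      refine hi ((hfinV V hV).mem_toFinset.2 ⟨x, specializes_iff_mem_closure.1 ?_, ?_⟩)
      · by_contra hn
        exact hne (dif_neg fun h => hn h.1)
      · show p x ∈ V
        rw [hx]; exact hyV
    choose D hD using fun i => exists_cycle_finsum_divFun hdX (fun _ : PUnit.{u + 1} => ξ i) (fun _ => f i)
      (fun _ => hf i) (fun x => ⟨Set.univ, isOpen_univ, trivial, Set.toFinite _⟩)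
    replace hD : ∀ i, ⇑(D i) = Cyc.divFun δX (ξ i) (f i) := fun i => funext fun x => (hD i x).trans (finsum_unique _)
    let S := (finite_fibre_support p α y).toFinset ∪ (finite_fibre_support p β y).toFinset ∪
      F.biUnion fun i => (finite_fibre_support p (D i) y).toFinset
    have hS : ∀ (γ : AlgebraicCycle X ℤ), (finite_fibre_support p γ y).toFinset ⊆ S →
        ∀ x, p x = y → γ x ≠ 0 → x ∈ S :=
      fun γ hsub x h1 h2 => hsub ((Set.Finite.mem_toFinset _).2 ⟨h1, h2⟩)
    rw [finsum_eq_sum_of_support_subset (s := F.subtype fun i => δY (p (ξ i)) = k + 1) _ fun i hi => ?_]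
    · show AlgebraicCycle.map p δX δY α y - AlgebraicCycle.map p δX δY β y = _
      rw [map_apply_eq_sum p δX δY α y S (hS α (Finset.subset_union_left.trans Finset.subset_union_left)),
        map_apply_eq_sum p δX δY β y S (hS β (Finset.subset_union_right.trans Finset.subset_union_left)),
        ← Finset.sum_sub_distrib, Finset.sum_subtype_eq_sum_filter
          (f := fun i => Cyc.divFun δY (p (ξ i)) (Cyc.normGen p (ξ i) (f i)) y), Finset.sum_filter (s := F)]
      calc _ = ∑ x ∈ S with p x = y, ∑ i ∈ F, D i x * (AlgebraicCycle.mapCoeff p δX δY x : ℤ) := by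
              refine Finset.sum_congr rfl fun x hx => ?_
              rw [← sub_mul, ← Finset.sum_mul]
              congr 1
              refine (hsum x).trans ((finsum_eq_sum_of_support_subset _ (s := F) fun i hi => ?_).trans
                (Finset.sum_congr rfl fun i _ => (congrFun (hD i) x).symm))
              by_contra hn
              exact hi (hzero i hn x (Finset.mem_filter.1 hx).2)
        _ = ∑ i ∈ F, AlgebraicCycle.map p δX δY (D i) y := by
              rw [Finset.sum_comm]
              refine Finset.sum_congr rfl fun i hi => (map_apply_eq_sum p δX δY (D i) y S (hS (D i) ?_)).symm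
              exact (Finset.subset_biUnion_of_mem (fun i => (finite_fibre_support p (D i) y).toFinset) hi).trans
                Finset.subset_union_right
        _ = _ := Finset.sum_congr rfl fun i _ => by
              rw [map_divFun_ite p hdX hdY hδ (ξ i) (hf i) (D i) (hD i) y]
              simp only [hξ]
    · refine Finset.mem_coe.2 (Finset.mem_subtype.2 ?_)
      by_contra hn
      refine hi ?_
      show Cyc.divFun δY (p (ξ i.1)) _ y = 0
      refine dif_neg fun h => hn ((hfinV V hV).mem_toFinset.2 ⟨ξ i.1, subset_closure rfl, ?_⟩)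
      exact h.1.mem_open V.2 hyV

end Groth.Agent.CycLib
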