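import Groth.Agent.CycLib.DevGysin
import Groth.Agent.CycLib.DevC1Tensor
import Groth.Agent.CycLib.RatMap
import Groth.Agent.CycLib.PullDivApp

/-!
The projection formula for `c₁`.
-/

set_option autoImplicit false
set_option linter.style.haveILetI false
set_option maxHeartbeats 800000

universe u

open CategoryTheory Limits AlgebraicGeometry IsLocalRing

namespace Groth.Agent.CycLib.Dev

open ModIdx Groth.Agent.PullStalk.Basic Groth.Agent.PullStalk.Sky

variable {X Y : Scheme.{u}} (p : X ⟶ Y) [IsLocallyNoetherian X] {δX : X → ℤ} (hdX : Cyc.IsDimFun X δX)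
  {L : Y.Modules} (hL : PicF.IsInvertible L) (hM : PicF.IsInvertible ((Scheme.Modules.pullback p).obj L))

include hdX hL hM in
/-- The divisor of a pulled back rational section. -/
theorem secDiv_unit {ξ x : X} (h : ξ ⤳ x) (h1 : δX x + 1 = δX ξ) {σ : L.presheaf.stalk (p ξ)} (hσ : IsBas σ)
    {y : Y} (hy : p x = y) (hY : p ξ ⤳ y) {t : L.presheaf.stalk y} (ht : IsBas t) {c : Y.presheaf.stalk (p ξ)}
    (hc : Ref1.sp L hY t = c • σ) :
    Cyc.secDivFun δX ((Scheme.Modules.pullback p).obj L) ξ (Submodule.Quotient.mk (unitStalkHom p L ξ σ)) x =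
      -Cyc.divFun δX ξ ((p.residueFieldMap ξ).hom (Y.residue (p ξ) c)) x := by
  subst hy
  rw [secDivFun_of_bas hdX hM h rfl h1.symm (isBas_unit p hL hM ξ hσ) (isBas_unit p hL hM x ht)
    (c := p.stalkMap ξ c) ((sp_unit p L h t).trans (by rw [hc, unitStalkHom_smul]))]
  have e : X.residue ξ (p.stalkMap ξ c) = (p.residueFieldMap ξ).hom (Y.residue (p ξ) c) :=
    (congr($(Scheme.residue_residueFieldMap p ξ) c)).symm
  rw [e]

variable [IsLocallyNoetherian Y] [IsProper p] {δY : Y → ℤ} (hdY : Cyc.IsDimFun Y δY) (hδ : Cyc.DeltaCompat p δX δY)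

include hdX hdY hδ hL hM in
/-- The push-forward of the divisor of a pulled back section at a point. -/
theorem sum_secDiv_unit (ξ : X) {σ : L.presheaf.stalk (p ξ)} (hσ : IsBas σ) (y : Y) (S : Finset X)
    (hS : ∀ x, p x = y → Cyc.secDivFun δX ((Scheme.Modules.pullback p).obj L) ξ
      (Submodule.Quotient.mk (unitStalkHom p L ξ σ)) x ≠ 0 → x ∈ S) [DecidablePred fun x => p x = y] :
    ∑ x ∈ S with p x = y, Cyc.secDivFun δX ((Scheme.Modules.pullback p).obj L) ξ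
        (Submodule.Quotient.mk (unitStalkHom p L ξ σ)) x * (AlgebraicCycle.mapCoeff p δX δY x : ℤ) =
      (AlgebraicCycle.mapCoeff p δX δY ξ : ℤ) * Cyc.secDivFun δY L (p ξ) (Submodule.Quotient.mk σ) y := by
  classical
  by_cases hY : p ξ ⤳ y
  swap
  · rw [show Cyc.secDivFun δY L (p ξ) (Submodule.Quotient.mk σ) y = 0 from dif_neg fun h => hY h.1, mul_zero]
    refine Finset.sum_eq_zero fun x hx => ?_
    by_cases h0 : Cyc.secDivFun δX ((Scheme.Modules.pullback p).obj L) ξ (Submodule.Quotient.mk (unitStalkHom p L ξ σ)) x = 0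
    · rw [h0, zero_mul]
    · exact absurd ((secDivFun_ne_zero h0).1.map p.continuous) (by rw [(Finset.mem_filter.1 hx).2]; exact hY)
  obtain ⟨t, ht⟩ := exists_isBas hL y
  obtain ⟨c, hc⟩ := hσ.2 (Ref1.sp L hY t)
  replace hc : c • σ = Ref1.sp L hY t := hc
  obtain ⟨d, hd'⟩ := (isBas_sp hL hY ht).2 σ
  replace hd' : d • Ref1.sp L hY t = σ := hd'
  have hcu : IsUnit c := isUnit_iff_exists_inv'.2 ⟨d, hσ.1 (show (d * c) • σ = (1 : Y.presheaf.stalk (p ξ)) • σ by
    rw [mul_smul, hc, hd', one_smul])⟩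
  have hr : Y.residue (p ξ) c ≠ 0 := (hcu.map (Y.residue (p ξ)).hom).ne_zero
  have hg : (p.residueFieldMap ξ).hom (Y.residue (p ξ) c) ≠ 0 := (map_ne_zero _).2 hr
  obtain ⟨D, hD⟩ := exists_cycle_finsum_divFun hdX (fun _ : PUnit.{u + 1} => ξ)
    (fun _ => (p.residueFieldMap ξ).hom (Y.residue (p ξ) c)) (fun _ => hg)
    (fun x => ⟨Set.univ, isOpen_univ, trivial, Set.toFinite _⟩)
  replace hD : ⇑D = Cyc.divFun δX ξ ((p.residueFieldMap ξ).hom (Y.residue (p ξ) c)) :=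
    funext fun x => (hD x).trans (finsum_unique _)
  have hterm : ∀ x, p x = y → Cyc.secDivFun δX ((Scheme.Modules.pullback p).obj L) ξ
      (Submodule.Quotient.mk (unitStalkHom p L ξ σ)) x = -D x := fun x hx => by
    rw [hD]
    by_cases h : ξ ⤳ x ∧ δX x + 1 = δX ξ
    · exact secDiv_unit p hdX hL hM h.1 h.2 hσ hx hY ht hc.symm
    · rw [Cyc.secDivFun, dif_neg h, Cyc.divFun, dif_neg h, neg_zero]
  have e := map_apply_eq_sum p δX δY D y S fun x h1 h2 => hS x h1 (by rw [hterm x h1]; exact neg_ne_zero.2 h2)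
  rw [map_divFun_ite p hdX hdY hδ ξ hg D hD y] at e
  calc _ = -∑ x ∈ S with p x = y, D x * (AlgebraicCycle.mapCoeff p δX δY x : ℤ) := by
        rw [← Finset.sum_neg_distrib]
        exact Finset.sum_congr rfl fun x hx => by rw [hterm x (Finset.mem_filter.1 hx).2, neg_mul]
    _ = _ := by
      rw [← e, AlgebraicCycle.mapCoeff]
      by_cases hdeg : δY (p ξ) = δX ξ
      swap
      · rw [if_neg hdeg, if_neg (fun h => hdeg h.symm), Nat.cast_zero, zero_mul, neg_zero]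
      rw [if_pos hdeg, if_pos hdeg.symm]
      have hn : Cyc.normGen p ξ ((p.residueFieldMap ξ).hom (Y.residue (p ξ) c)) =
          Y.residue (p ξ) c ^ p.residueDegree ξ := by
        unfold Cyc.normGen Scheme.Hom.residueDegree
        letI := (p.residueFieldMap ξ).hom.toAlgebra
        exact Algebra.norm_algebraMap (Y.residue (p ξ) c)
      rw [hn, divFun_pow hdY hr]
      by_cases hy' : p ξ ⤳ y ∧ δY y + 1 = δY (p ξ)
      swap
      · simp [Cyc.secDivFun, Cyc.divFun, hy']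
      rw [secDivFun_of_bas hdY hL hY rfl hy'.2.symm hσ ht hc.symm]
      simp

include hdX hdY hδ hL hM in
/-- The projection formula on functions, for pulled back sections. -/
theorem map_c1_unit {k : ℤ} (α γ : AlgebraicCycle X ℤ) (hα : α ∈ Cyc.Zk X δX (k + 1))
    (σ : (η : Y) → L.presheaf.stalk η) (hσ : ∀ η, IsBas (σ η))
    (hγ : ⇑γ = Cyc.c1CapFun δX ((Scheme.Modules.pullback p).obj L) ⇑α
      fun ξ => Submodule.Quotient.mk (unitStalkHom p L ξ (σ (p ξ)))) :
    ⇑(AlgebraicCycle.map p δX δY γ) = Cyc.c1CapFun δY L ⇑(AlgebraicCycle.map p δX δY α)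
      fun η => Submodule.Quotient.mk (σ η) := by
  classical
  funext y
  set u := fun ξ : X => (Submodule.Quotient.mk (unitStalkHom p L ξ (σ (p ξ))) :
    Cyc.secFibre ((Scheme.Modules.pullback p).obj L) ξ) with hu
  obtain ⟨V, hV, hyV, -⟩ := exists_isAffineOpen_mem_and_subset (x := y) (U := ⊤) trivial
  have hK : IsCompact (p ⁻¹ᵁ V : Set X) := p.isCompact_preimage hV.isCompact
  have hFfin : {ξ : X | p ξ ∈ V ∧ α ξ ≠ 0}.Finite :=
    (α.locallyFiniteSupport.finite_inter_support_of_isCompact hK).subset fun ξ h => ⟨h.1, h.2⟩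
  let F := hFfin.toFinset
  have hFmem : ∀ ξ x, p x = y → α ξ * Cyc.secDivFun δX ((Scheme.Modules.pullback p).obj L) ξ (u ξ) x ≠ 0 → ξ ∈ F :=
    fun ξ x hx h => hFfin.mem_toFinset.2
      ⟨((secDivFun_ne_zero (mul_ne_zero_iff.1 h).2).1.map p.continuous).mem_open V.2 (by rw [hx]; exact hyV),
        (mul_ne_zero_iff.1 h).1⟩
  have hu0 : ∀ ξ, u ξ ≠ 0 := fun ξ => mk_ne_zero_of_isBas (isBas_unit p hL hM ξ (hσ (p ξ)))
  have hfin : ∀ ξ, {x : X | p x = y ∧ Cyc.secDivFun δX ((Scheme.Modules.pullback p).obj L) ξ (u ξ) x ≠ 0}.Finite := by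
    intro ξ
    obtain ⟨t, ht⟩ := hK.elim_finite_subcover (fun W : X.affineOpens => (W.1 : Set X)) (fun W => W.1.2) fun x _ => by
      obtain ⟨W, hW, hxW, -⟩ := exists_isAffineOpen_mem_and_subset (x := x) (U := ⊤) trivial
      exact Set.mem_iUnion.2 ⟨⟨W, hW⟩, hxW⟩
    refine (t.finite_toSet.biUnion fun W _ => finite_secDiv_inter hdX hM (hu0 ξ) W.2).subset fun x hx => ?_
    obtain ⟨W, hWt, hxW⟩ := Set.mem_iUnion₂.1 (ht (show x ∈ (p ⁻¹ᵁ V : Set X) by
      show p x ∈ V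
      rw [hx.1]; exact hyV))
    exact Set.mem_biUnion hWt ⟨hxW, hx.2⟩
  let S := (finite_fibre_support p γ y).toFinset ∪ F.biUnion fun ξ => (hfin ξ).toFinset
  rw [map_apply_eq_sum p δX δY γ y S fun x h1 h2 =>
    Finset.mem_union_left _ ((Set.Finite.mem_toFinset _).2 ⟨h1, h2⟩)]
  calc _ = ∑ x ∈ S with p x = y, ∑ ξ ∈ F, α ξ *
        (Cyc.secDivFun δX ((Scheme.Modules.pullback p).obj L) ξ (u ξ) x * (AlgebraicCycle.mapCoeff p δX δY x : ℤ)) := by
        refine Finset.sum_congr rfl fun x hx => ?_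
        rw [hγ, Cyc.c1CapFun, finsum_eq_sum_of_support_subset (s := F) _ fun ξ hξ =>
          Finset.mem_coe.2 (hFmem ξ x (Finset.mem_filter.1 hx).2 hξ), Finset.sum_mul]
        exact Finset.sum_congr rfl fun ξ _ => mul_assoc _ _ _
    _ = ∑ ξ ∈ F, α ξ * (AlgebraicCycle.mapCoeff p δX δY ξ : ℤ) *
        Cyc.secDivFun δY L (p ξ) (Submodule.Quotient.mk (σ (p ξ))) y := by
        rw [Finset.sum_comm]
        refine Finset.sum_congr rfl fun ξ hξ => ?_
        rw [← Finset.mul_sum, sum_secDiv_unit p hdX hL hM hdY hδ ξ (hσ (p ξ)) y S fun x h1 h2 =>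
          Finset.mem_union_right _ (Finset.mem_biUnion.2 ⟨ξ, hξ, (hfin ξ).mem_toFinset.2 ⟨h1, h2⟩⟩)]
        ring
    _ = _ := by
        rw [Cyc.c1CapFun, finsum_eq_sum_of_support_subset (s := F.image p)]
        · rw [← Finset.sum_fiberwise_of_maps_to (g := p) (t := F.image p) fun ξ hξ => Finset.mem_image_of_mem _ hξ]
          refine Finset.sum_congr rfl fun η hη => ?_
          obtain ⟨ξ0, hξ0, rfl⟩ := Finset.mem_image.1 hη
          rw [map_apply_eq_sum p δX δY α (p ξ0) F fun x h1 h2 =>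
            hFfin.mem_toFinset.2 ⟨by rw [h1]; exact (hFfin.mem_toFinset.1 hξ0).1, h2⟩, Finset.sum_mul]
          refine Finset.sum_congr rfl fun ξ hξ => ?_
          rw [(Finset.mem_filter.1 hξ).2]
        · intro η hη
          obtain ⟨h1, h2⟩ := mul_ne_zero_iff.1 hη
          obtain ⟨x, hx, h3⟩ := exists_ne_zero_of_finsum_mem_ne_zero h1
          refine Finset.mem_coe.2 (Finset.mem_image.2 ⟨x, hFfin.mem_toFinset.2 ⟨?_, left_ne_zero_of_mul h3⟩, hx⟩)
          rw [show p x = η from hx]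
          exact (secDivFun_ne_zero h2).1.mem_open V.2 hyV

include hdX hdY hδ hL hM in
/-- The projection formula for `c₁`. -/
theorem ratEquiv_map_c1 {k : ℤ} (α : AlgebraicCycle X ℤ) (hα : α ∈ Cyc.Zk X δX (k + 1))
    (u : (ξ : X) → Cyc.secFibre ((Scheme.Modules.pullback p).obj L) ξ) (hu : ∀ ξ, u ξ ≠ 0)
    (v : (η : Y) → Cyc.secFibre L η) (hv : ∀ η, v η ≠ 0) (γ : AlgebraicCycle X ℤ)
    (hγ : ⇑γ = Cyc.c1CapFun δX ((Scheme.Modules.pullback p).obj L) ⇑α u) (γ' : AlgebraicCycle Y ℤ)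
    (hγ' : ⇑γ' = Cyc.c1CapFun δY L ⇑(AlgebraicCycle.map p δX δY α) v) :
    Cyc.RatEquiv δY k (AlgebraicCycle.map p δX δY γ) γ' := by
  choose σ hσ hσe using fun η : Y => exists_isBas_lift hL (v η) (hv η)
  let u0 := fun ξ : X => (Submodule.Quotient.mk (unitStalkHom p L ξ (σ (p ξ))) :
    Cyc.secFibre ((Scheme.Modules.pullback p).obj L) ξ)
  have hu0 : ∀ ξ, u0 ξ ≠ 0 := fun ξ => mk_ne_zero_of_isBas (isBas_unit p hL hM ξ (hσ (p ξ)))
  have ha := IsCyc.of_cycle α hα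
  obtain ⟨γ0, -, hγ0⟩ := (isCyc_c1 hdX hM ha u0 hu0).exists_cycle
  have h1 : Cyc.RatEquiv δX k γ γ0 := by
    rw [Cyc.RatEquiv, ratEquivZero_iff hdX, show ⇑(γ - γ0) = ⇑γ - ⇑γ0 from rfl, hγ, hγ0]
    exact c1_sub_mem hdX hM ha u u0 hu hu0
  have h2 := ratEquiv_map δX δY hdX hdY p hδ k γ γ0 h1
  have e : AlgebraicCycle.map p δX δY γ0 = γ' := by
    ext y
    rw [map_c1_unit p hdX hL hM hdY hδ α γ0 hα σ hσ hγ0, hγ']
    simp only [hσe]
  rwa [e] at h2

end Groth.Agent.CycLib.Dev
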