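import Groth.Agent.CycLib.PullDivApp
import Groth.Agent.CycLib.FlatLength

/-!
Flat pullback of principal divisors and of rational equivalence along morphisms shifting the dimension
functions by a constant at the generic points of the fibres (no finiteness assumption on the morphism).
-/

set_option autoImplicit false
set_option linter.style.haveILetI false
set_option maxHeartbeats 800000

universe u

open CategoryTheory AlgebraicGeometry IsLocalRing TensorProduct Classical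

namespace Groth.Agent.CycLib

variable {X Y : Scheme.{u}}

/-- `δX` is `δY` shifted by `r` at the generic points of the fibres of `f`. -/
def ShiftBy (f : X ⟶ Y) (δX : X → ℤ) (δY : Y → ℤ) (r : ℤ) : Prop :=
  ∀ x : X, (∀ x' : X, f x' = f x → x' ⤳ x → x' = x) → δX x = δY (f x) + r

theorem ShiftBy.le [IsLocallyNoetherian X] {f : X ⟶ Y} {δX : X → ℤ} {δY : Y → ℤ} {r : ℤ}
    (hs : ShiftBy f δX δY r) (hd : Cyc.IsDimFun X δX) (x : X) : δX x ≤ δY (f x) + r := by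
  obtain ⟨x0, hx0, hf, hmax⟩ := exists_generic_fibre f x
  have h := le_of_specializes hd hx0
  rw [hs x0 hmax, hf] at h
  exact h

theorem ShiftBy.gen [IsLocallyNoetherian X] {f : X ⟶ Y} {δX : X → ℤ} {δY : Y → ℤ} {r : ℤ}
    (hs : ShiftBy f δX δY r) (hd : Cyc.IsDimFun X δX) (x : X) (h : δX x = δY (f x) + r) :
    ∀ x' : X, f x' = f x → x' ⤳ x → x' = x := fun x' hf hsp => by
  refine eq_of_specializes hd hsp ?_
  rw [h, ← hf]
  exact hs.le hd x'

theorem pullTerm_eq_zero_of_shift {f : X ⟶ Y} {δX : X → ℤ} {δY : Y → ℤ} {r : ℤ}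
    (hs : ShiftBy f δX δY r) (ξ : Y) (g : Y.residueField ξ) (x : X) (ζ : FibGen f ξ)
    (h : ¬ (ζ.1 ⤳ x ∧ δX x + 1 = δY ξ + r)) : pullTerm f δX ξ g x ζ = 0 := by
  have hz := hs ζ.1 ζ.2.1
  rw [ζ.2.2] at hz
  rw [pullTerm, Cyc.divFun, dif_neg (fun hc => h ⟨hc.1, hc.2.trans hz⟩), mul_zero]

variable (f : X ⟶ Y) [Flat f]

/-- The multiplicity identity at a point of codimension one. -/
theorem ordZ_mul_fibLen_shift [IsLocallyNoetherian X] [IsLocallyNoetherian Y] {δX : X → ℤ} {δY : Y → ℤ}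
    (hdX : Cyc.IsDimFun X δX) (hdY : Cyc.IsDimFun Y δY) {r : ℤ} (hδs : ShiftBy f δX δY r) {x : X} {ξ : Y} (h : ξ ⤳ f x) (hy : δY (f x) + 1 = δY ξ)
    (hx : δX x = δY (f x) + r) :
    ∃ S : Finset X, (∀ ζ, ζ ∈ S ↔ ζ ⤳ x ∧ f ζ = ξ) ∧
      (∀ ζ ∈ S, (∀ x' : X, f x' = f ζ → x' ⤳ ζ → x' = ζ) ∧ δX x + 1 = δX ζ) ∧
      ∀ a : Y.presheaf.stalk (f x), Cyc.specMap (f x) ξ h a ≠ 0 →
        LenLib.ordZ (Ideal.Quotient.mk (RingHom.ker (Cyc.specMap (f x) ξ h)) a) * (fibLen f x : ℤ) =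
          ∑ ζ ∈ S, if hζ : ζ ⤳ x then (fibLen f ζ : ℤ) *
            LenLib.ordZ (Ideal.Quotient.mk (RingHom.ker (Cyc.specMap x ζ hζ)) (f.stalkMap x a)) else 0 := by
  classical
  have hgx := hδs.gen hdX x hx
  letI := (f.stalkMap x).hom.toAlgebra
  haveI : Module.Flat (Y.presheaf.stalk (f x)) (X.presheaf.stalk x) := Flat.stalkMap f x
  haveI : IsLocalHom (algebraMap (Y.presheaf.stalk (f x)) (X.presheaf.stalk x)) :=
    inferInstanceAs (IsLocalHom (f.stalkMap x).hom)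
  haveI hp : (RingHom.ker (Cyc.specMap (f x) ξ h)).IsPrime := RingHom.ker_isPrime _
  haveI : Ring.KrullDimLE 1 (Y.presheaf.stalk (f x) ⧸ RingHom.ker (Cyc.specMap (f x) ξ h)) :=
    locQuot_krullDimLE_one hdY (f x) ξ h hy
  let I : Ideal (X.presheaf.stalk x) :=
    (RingHom.ker (Cyc.specMap (f x) ξ h)).map (algebraMap (Y.presheaf.stalk (f x)) (X.presheaf.stalk x))
  have hle : ∀ (ζ : X) (hζ : ζ ⤳ x), I ≤ RingHom.ker (Cyc.specMap x ζ hζ) ↔ ξ ⤳ f ζ := fun ζ hζ => by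
    rw [Ideal.map_le_iff_le_comap]
    show _ ≤ (RingHom.ker (Cyc.specMap x ζ hζ)).comap (f.stalkMap x).hom ↔ _
    rw [comap_ker_specMap]
    exact ptPrime_le_iff h _
  have hmax : ∀ (ζ : X) (hζ : ζ ⤳ x),
      (ptPrime x ζ hζ).asIdeal = maximalIdeal (X.presheaf.stalk x) ↔ ζ = x := fun ζ hζ => by
    constructor
    · intro e
      have e' : ptPrime x ζ hζ = closedPoint (X.presheaf.stalk x) := PrimeSpectrum.ext e
      rw [← fromSpecStalk_ptPrime x ζ hζ, e']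
      exact Scheme.fromSpecStalk_closedPoint
    · rintro rfl
      have e : ptPrime ζ ζ hζ = closedPoint (X.presheaf.stalk ζ) :=
        (X.fromSpecStalk ζ).isEmbedding.injective
          ((fromSpecStalk_ptPrime ζ ζ hζ).trans Scheme.fromSpecStalk_closedPoint.symm)
      exact congrArg PrimeSpectrum.asIdeal e
  have hclass : ∀ ζ : X, ζ ⤳ x → ξ ⤳ f ζ → ζ = x ∨ (f ζ = ξ ∧ δX x + 1 = δX ζ) := by
    intro ζ hs hxi
    have h1 := le_of_specializes hdY (hs.map f.continuous)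
    have h2 := le_of_specializes hdY hxi
    by_cases he : δY (f ζ) = δY (f x)
    · exact Or.inl (hgx _ (eq_of_specializes hdY (hs.map f.continuous) he.le) hs)
    · have e : f ζ = ξ := (eq_of_specializes hdY hxi (by omega)).symm
      refine Or.inr ⟨e, ?_⟩
      have h3 := hδs.le hdX ζ
      have h4 : ζ ≠ x := fun h0 => he (by rw [h0])
      have h5 := (hdX _ _ hs h4).1
      rw [e] at h3
      omega
  have hne : ξ ≠ f x := fun e => by rw [e] at hy; omega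
  let T' : Set (PrimeSpectrum (X.presheaf.stalk x)) :=
    {Q | I ≤ Q.asIdeal ∧ Q.asIdeal ≠ maximalIdeal (X.presheaf.stalk x)}
  have hmin : ∀ Q ∈ T', ∀ Q' : PrimeSpectrum (X.presheaf.stalk x), I ≤ Q'.asIdeal →
      Q'.asIdeal ≤ Q.asIdeal → Q' = Q := by
    intro Q hQ Q' hQ' hQQ'
    obtain ⟨ζ, hs, rfl⟩ := exists_ptPrime x Q
    obtain ⟨ζ', hs', rfl⟩ := exists_ptPrime x Q'
    have hsp : ζ' ⤳ ζ := (ptPrime_le_iff hs' hs).1 hQQ'
    have hζx : ζ ≠ x := fun e => hQ.2 ((hmax ζ hs).2 e)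
    have h1 := (hclass ζ hs ((hle ζ hs).1 hQ.1)).resolve_left hζx
    rcases hclass ζ' hs' ((hle ζ' hs').1 hQ') with h2 | h2
    · subst h2
      exact absurd (eq_of_specializes hdX hs (le_of_specializes hdX hsp)) hζx
    · obtain rfl := eq_of_specializes hdX hsp (le_of_eq (h2.2.symm.trans h1.2))
      rfl
  have hfinT : T'.Finite := by
    refine ((I.finite_minimalPrimes_of_isNoetherianRing _).preimage
      (fun a _ b _ e => PrimeSpectrum.ext e)).subset fun Q hQ => ?_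
    refine ⟨⟨Q.2, hQ.1⟩, fun J hJ hJQ => ?_⟩
    exact (congrArg PrimeSpectrum.asIdeal (hmin Q hQ ⟨J, hJ.1⟩ hJ.2 hJQ)).ge
  have hTiff : ∀ (ζ : X) (hs : ζ ⤳ x), ptPrime x ζ hs ∈ T' ↔ f ζ = ξ := fun ζ hs => by
    constructor
    · intro hQ
      exact ((hclass ζ hs ((hle ζ hs).1 hQ.1)).resolve_left fun e => hQ.2 ((hmax ζ hs).2 e)).1
    · intro e
      exact ⟨(hle ζ hs).2 (e ▸ specializes_rfl), fun e' => hne (by rw [← e, (hmax ζ hs).1 e'])⟩
  let pt : PrimeSpectrum (X.presheaf.stalk x) → X := fun Q => X.fromSpecStalk x Q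
  have hpt : ∀ Q, ∃ hs : pt Q ⤳ x, ptPrime x (pt Q) hs = Q := fun Q => by
    obtain ⟨ζ, hs, rfl⟩ := exists_ptPrime x Q
    have e : pt (ptPrime x ζ hs) = ζ := fromSpecStalk_ptPrime x ζ hs
    exact ⟨e.symm ▸ hs, (X.fromSpecStalk x).isEmbedding.injective (fromSpecStalk_ptPrime _ _ _)⟩
  have hinj : Function.Injective pt := (X.fromSpecStalk x).isEmbedding.injective
  refine ⟨hfinT.toFinset.image pt, fun ζ => ?_, fun ζ hζ => ?_, fun a ha => ?_⟩
  · rw [Finset.mem_image]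
    constructor
    · rintro ⟨Q, hQ, rfl⟩
      obtain ⟨hs, e⟩ := hpt Q
      exact ⟨hs, (hTiff _ hs).1 (e.symm ▸ hfinT.mem_toFinset.1 hQ)⟩
    · rintro ⟨hs, hfζ⟩
      exact ⟨_, hfinT.mem_toFinset.2 ((hTiff ζ hs).2 hfζ), fromSpecStalk_ptPrime x ζ hs⟩
  · obtain ⟨Q, hQ, rfl⟩ := Finset.mem_image.1 hζ
    obtain ⟨hs, e⟩ := hpt Q
    have hQ' : ptPrime x (pt Q) hs ∈ T' := e.symm ▸ hfinT.mem_toFinset.1 hQ
    obtain ⟨e1, e2⟩ := (hclass _ hs ((hle _ hs).1 hQ'.1)).resolve_left fun e => hQ'.2 ((hmax _ hs).2 e)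
    refine ⟨hδs.gen hdX _ ?_, e2⟩
    rw [e1]
    omega
  · obtain ⟨ζ₀, hζ₀, hfζ₀⟩ := Flat.generalizingMap f h
    have key := flat_quot_decomp (C := X.presheaf.stalk x) (RingHom.ker (Cyc.specMap (f x) ξ h))
      hfinT.toFinset (fun Q => hfinT.mem_toFinset)
      ⟨_, hfinT.mem_toFinset.2 ((hTiff ζ₀ hζ₀).2 hfζ₀)⟩
      (fun Q hQ => hmin Q (hfinT.mem_toFinset.1 hQ)) (length_fibre_ne_top f x hgx) (a := a)
      (fun e => ha (RingHom.mem_ker.1 e))
    rw [Finset.sum_image fun a _ b _ e => hinj e]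
    refine key.trans (Finset.sum_congr rfl fun Q hQ => ?_)
    obtain ⟨hs, e⟩ := hpt Q
    rw [dif_pos hs]
    generalize hζe : pt Q = ζ at hs e ⊢
    subst e
    congr 2
    letI := (X.presheaf.stalkSpecializes hs).hom.toAlgebra
    haveI : IsLocalization.AtPrime (X.presheaf.stalk ζ) (ptPrime x ζ hs).asIdeal :=
      isLocalization_stalkSpecializes hs
    rw [locLen_eq _ _ (X.presheaf.stalk ζ)]
    exact length_quot_map_eq f hs h ((hTiff ζ hs).1 (hfinT.mem_toFinset.1 hQ))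

/-- `f^* div (ξ, g) = ∑_ζ len(O_ζ / m_ξ O_ζ) • div (ζ, g|ζ)`. -/
theorem pullFun_divFun_shift [IsLocallyNoetherian X] [IsLocallyNoetherian Y] {δX : X → ℤ} {δY : Y → ℤ}
    (hdX : Cyc.IsDimFun X δX) (hdY : Cyc.IsDimFun Y δY)
    {r : ℤ} (hδs : ShiftBy f δX δY r) (ξ : Y) (g : Y.residueField ξ)
    (hg : g ≠ 0) (x : X) :
    Cyc.pullFun f δX δY r (Cyc.divFun δY ξ g) x = ∑ᶠ ζ : FibGen f ξ, pullTerm f δX ξ g x ζ := by
  classical
  have hz : ¬ (ξ ⤳ f x ∧ δX x + 1 = δY ξ + r) →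
      Cyc.pullFun f δX δY r (Cyc.divFun δY ξ g) x = 0 ∧ ∀ ζ, pullTerm f δX ξ g x ζ = 0 := by
    intro hn
    refine ⟨?_, fun ζ => pullTerm_eq_zero_of_shift hδs ξ g x ζ fun hc =>
      hn ⟨ζ.2.2 ▸ hc.1.map f.continuous, hc.2⟩⟩
    rw [Cyc.pullFun]
    split_ifs with h1
    · rw [Cyc.divFun, dif_neg (fun hc => hn ⟨hc.1, by omega⟩), zero_mul]
    · rfl
  by_cases hc : ξ ⤳ f x ∧ δX x + 1 = δY ξ + r
  swap
  · rw [(hz hc).1, finsum_congr (hz hc).2, finsum_zero]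
  obtain ⟨hsp, hxd⟩ := hc
  have h1 := hδs.le hdX x
  have h2 := le_of_specializes hdY hsp
  haveI := locQuot_isFractionRing (f x) ξ hsp
  obtain ⟨a', b', hb', hab⟩ := IsFractionRing.div_surjective (Cyc.LocQuot (f x) ξ hsp) g
  obtain ⟨a, rfl⟩ := Ideal.Quotient.mk_surjective a'
  obtain ⟨b, rfl⟩ := Ideal.Quotient.mk_surjective b'
  rw [locQuot_algebraMap, locQuot_algebraMap] at hab
  subst hab
  obtain ⟨ha, hb⟩ := div_ne_zero_iff.1 hg
  by_cases hyξ : δY (f x) = δY ξ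
  · have hfx : f x = ξ := (eq_of_specializes hdY hsp hyξ.ge).symm
    rw [Cyc.pullFun, Cyc.divFun]
    rw [dif_neg (fun hc => by omega)]
    rw [zero_mul, ite_self, finsum_congr (g := fun _ => 0) fun ζ => ?_, finsum_zero]
    rw [pullTerm, Cyc.divFun]
    split_ifs with hc
    · have hu : ∀ c : Y.presheaf.stalk (f x), Cyc.specMap (f x) ξ hsp c ≠ 0 → IsUnit (f.stalkMap x c) := by
        intro c hcne
        refine IsUnit.map (f.stalkMap x).hom ?_
        by_contra hn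
        refine hcne (RingHom.mem_ker.1 ?_)
        have e : RingHom.ker (Cyc.specMap (f x) ξ hsp) = maximalIdeal (Y.presheaf.stalk (f x)) := by
          subst hfx
          rw [ker_specMap_eq_comap, TopCat.Presheaf.stalkSpecializes_refl]
          exact Ideal.comap_id _
        rw [e]
        exact hn
      rw [lift_eq f ζ.2.2 hc.1 hsp a b,
        ordAt_div hdX hc.1 hc.2 ((hu a ha).map _).ne_zero ((hu b hb).map _).ne_zero,
        LenLib.ordZ_of_isUnit ((hu a ha).map _), LenLib.ordZ_of_isUnit ((hu b hb).map _),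
        sub_self, mul_zero]
    · rw [mul_zero]
  have hy : δY (f x) + 1 = δY ξ := by omega
  have hxe : δX x = δY (f x) + r := by omega
  rw [Cyc.pullFun, if_pos hxe, Cyc.divFun, dif_pos ⟨hsp, hy⟩, ordAt_div hdY hsp hy ha hb]
  obtain ⟨S, hS, hSg, hsum⟩ := ordZ_mul_fibLen_shift f hdX hdY hδs hsp hy hxe
  show _ * (fibLen f x : ℤ) = _
  rw [sub_mul, hsum a ha, hsum b hb, ← Finset.sum_sub_distrib]
  let G : X → ℤ := fun ζ => if h : (∀ x' : X, f x' = f ζ → x' ⤳ ζ → x' = ζ) ∧ f ζ = ξ then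
    pullTerm f δX ξ (Cyc.specMap (f x) ξ hsp a / Cyc.specMap (f x) ξ hsp b) x ⟨ζ, h⟩ else 0
  have hG : (∑ᶠ ζ : FibGen f ξ, pullTerm f δX ξ (Cyc.specMap (f x) ξ hsp a / Cyc.specMap (f x) ξ hsp b) x ζ) =
      ∑ᶠ ζ : X, G ζ := by
    rw [finsum_congr (g := fun ζ : FibGen f ξ => G ζ.1) fun ζ => (dif_pos ζ.2).symm,
      finsum_subtype_eq_finsum_cond]
    refine finsum_congr fun ζ => ?_
    by_cases h : (∀ x' : X, f x' = f ζ → x' ⤳ ζ → x' = ζ) ∧ f ζ = ξ
    · exact finsum_eq_if.trans (if_pos h)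
    · rw [finsum_eq_if, if_neg h, show G ζ = 0 from dif_neg h]
  rw [hG, finsum_eq_sum_of_support_subset G (s := S) ?_]
  · refine Finset.sum_congr rfl fun ζ hζ => ?_
    obtain ⟨hs, hf⟩ := (hS ζ).1 hζ
    obtain ⟨hgen, hd⟩ := hSg ζ hζ
    rw [dif_pos hs, dif_pos hs, show G ζ = _ from dif_pos ⟨hgen, hf⟩, pullTerm, Cyc.divFun,
      dif_pos ⟨hs, hd⟩, lift_eq f hf hs hsp a b, ordAt_div hdX hs hd
        (specMap_stalkMap_ne_zero f hf hs hsp ha) (specMap_stalkMap_ne_zero f hf hs hsp hb), mul_sub]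
  · intro ζ hζ
    by_contra hn
    refine hζ ?_
    show G ζ = 0
    by_cases h : (∀ x' : X, f x' = f ζ → x' ⤳ ζ → x' = ζ) ∧ f ζ = ξ
    · rw [show G ζ = _ from dif_pos h]
      exact pullTerm_eq_zero_of_shift hδs ξ _ x ⟨ζ, h⟩ fun hc => hn ((hS ζ).2 ⟨hc.1, h.2⟩)
    · exact dif_neg h

theorem ratEquivZero_pull_shift {δX : X → ℤ} {δY : Y → ℤ}
    (hX : Cyc.IsSetup X δX) (hY : Cyc.IsSetup Y δY) {r : ℤ} (hδs : ShiftBy f δX δY r) {k : ℤ} {γ : AlgebraicCycle Y ℤ} (h : Cyc.RatEquivZero δY k γ)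
    (γ' : AlgebraicCycle X ℤ) (hγ' : ∀ x, γ' x = Cyc.pullFun f δX δY r ⇑γ x) :
    Cyc.RatEquivZero δX (k + r) γ' := by
  classical
  haveI := hX.1
  haveI := hY.1
  obtain ⟨ι, ξ, g, hξ, hg, hlf, hsum⟩ := h
  let F : (p : Σ i, FibGen f (ξ i)) → X.residueField p.2.1 := fun p =>
    (f.residueFieldMap p.2.1 ((Y.residueFieldCongr p.2.2.2.symm).hom (g p.1))) ^ fibLen f p.2.1
  have hne : ∀ p : Σ i, FibGen f (ξ i),
      f.residueFieldMap p.2.1 ((Y.residueFieldCongr p.2.2.2.symm).hom (g p.1)) ≠ 0 := fun p =>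
    (map_ne_zero _).2 ((map_ne_zero _).2 (hg p.1))
  have hloc : ∀ x : X, ∃ (W : X.Opens) (A : Finset ι) (B : ∀ i, Finset (FibGen f (ξ i))), x ∈ W ∧
      (∀ i, (closure {ξ i} ∩ f '' (W : Set X)).Nonempty → i ∈ A) ∧
      ∀ p : Σ i, FibGen f (ξ i), (closure {p.2.1} ∩ (W : Set X)).Nonempty → p ∈ A.sigma B := by
    intro x
    obtain ⟨U, hUo, hxU, hfin⟩ := hlf (f x)
    obtain ⟨W, hW, hxW, hWU⟩ := exists_isAffineOpen_mem_and_subset (x := x)
      (U := ⟨f ⁻¹' U, hUo.preimage f.continuous⟩) hxU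
    refine ⟨W, hfin.toFinset, fun i => (finite_fibGen_inter f (ξ i) hW).toFinset, hxW, ?_, ?_⟩
    · rintro i ⟨_, hz, w, hw, rfl⟩
      exact hfin.mem_toFinset.2 ⟨f w, hz, hWU hw⟩
    · rintro ⟨i, ζ⟩ ⟨w, hw, hwW⟩
      have hs : ζ.1 ⤳ w := specializes_iff_mem_closure.2 hw
      refine Finset.mem_sigma.2 ⟨hfin.mem_toFinset.2 ⟨f w, ?_, hWU hwW⟩, ?_⟩
      · exact specializes_iff_mem_closure.1 (ζ.2.2 ▸ hs.map f.continuous)
      · exact (Set.Finite.mem_toFinset _).2 (hs.mem_open W.2 hwW)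
  refine ⟨Σ i, FibGen f (ξ i), fun p => p.2.1, F, fun p => ?_, fun p => pow_ne_zero _ (hne p),
    fun x => ?_, fun x => ?_⟩
  · rw [hδs _ p.2.2.1, p.2.2.2, hξ]
    ring
  · obtain ⟨W, A, B, hxW, -, hp⟩ := hloc x
    exact ⟨W, W.2, hxW, (A.sigma B).finite_toSet.subset fun p hq => hp p hq⟩
  · obtain ⟨W, A, B, hxW, hA, hp⟩ := hloc x
    have hzero : ∀ (i : ι) (ζ : FibGen f (ξ i)), ⟨i, ζ⟩ ∉ A.sigma B →
        pullTerm f δX (ξ i) (g i) x ζ = 0 := fun i ζ hn => by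
      by_contra hz
      refine hn (hp ⟨i, ζ⟩ ⟨x, specializes_iff_mem_closure.1 ?_, hxW⟩)
      by_contra hns
      refine hz ?_
      rw [pullTerm, Cyc.divFun, dif_neg fun hc => hns hc.1, mul_zero]
    have hF : ∀ p : Σ i, FibGen f (ξ i),
        Cyc.divFun δX p.2.1 (F p) x = pullTerm f δX (ξ p.1) (g p.1) x p.2 := fun p =>
      divFun_pow hX.2.2 (hne p) _ x
    rw [finsum_congr hF, finsum_eq_sum_of_support_subset _ (s := A.sigma B) (fun p hq => by
      by_contra hn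
      exact hq (hzero p.1 p.2 hn)), Finset.sum_sigma]
    have hs : γ (f x) = ∑ i ∈ A, Cyc.divFun δY (ξ i) (g i) (f x) := by
      rw [hsum, finsum_eq_sum_of_support_subset _ (s := A) ?_]
      intro i hi
      refine hA i ⟨f x, specializes_iff_mem_closure.1 ?_, x, hxW, rfl⟩
      by_contra hns
      exact hi (dif_neg fun hc => hns hc.1)
    have hlin : Cyc.pullFun f δX δY r ⇑γ x =
        ∑ i ∈ A, Cyc.pullFun f δX δY r (Cyc.divFun δY (ξ i) (g i)) x := by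
      simp only [Cyc.pullFun]
      split_ifs with hc
      · rw [hs, Finset.sum_mul]
      · rw [Finset.sum_const_zero]
    rw [hγ', hlin]
    refine Finset.sum_congr rfl fun i hi => ?_
    rw [pullFun_divFun_shift f hX.2.2 hY.2.2 hδs (ξ i) (g i) (hg i) x,
      finsum_eq_sum_of_support_subset _ (s := B i) fun ζ hζ => ?_]
    by_contra hn
    exact hζ (hzero i ζ fun hm => hn (Finset.mem_sigma.1 hm).2)

end Groth.Agent.CycLib

namespace Groth.Agent.CycLib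

open CategoryTheory AlgebraicGeometry IsLocalRing Classical

variable {X Y Z : Scheme.{u}}

/-- Composition of shift-zero pullbacks. -/
theorem pullFun_comp_shift [IsLocallyNoetherian X] [IsLocallyNoetherian Y] (f : X ⟶ Y) [Flat f] (g : Y ⟶ Z)
    {δX : X → ℤ} {δY : Y → ℤ} {δZ : Z → ℤ} (hdX : Cyc.IsDimFun X δX) (hdY : Cyc.IsDimFun Y δY)
    (hf : ShiftBy f δX δY 0) (hg : ShiftBy g δY δZ 0) (α : Z → ℤ) :
    Cyc.pullFun f δX δY 0 (Cyc.pullFun g δY δZ 0 α) = Cyc.pullFun (f ≫ g) δX δZ 0 α := by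
  funext x
  have h1 := hf.le hdX x
  have h2 := hg.le hdY (f x)
  show (if δX x = δY (f x) + 0 then (if δY (f x) = δZ (g (f x)) + 0 then _ else 0) * _ else 0) =
    (if δX x = δZ (g (f x)) + 0 then α (g (f x)) * _ else 0)
  by_cases hc : δX x = δZ (g (f x)) + 0
  · rw [if_pos hc, if_pos (show δX x = δY (f x) + 0 by omega),
      if_pos (show δY (f x) = δZ (g (f x)) + 0 by omega)]
    rw [mul_assoc]
    congr 1
    letI : Algebra (Y.presheaf.stalk (f x)) (X.presheaf.stalk x) := (f.stalkMap x).hom.toAlgebra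
    haveI : IsLocalHom (algebraMap (Y.presheaf.stalk (f x)) (X.presheaf.stalk x)) :=
      inferInstanceAs (IsLocalHom (f.stalkMap x).hom)
    haveI : Module.Flat (Y.presheaf.stalk (f x)) (X.presheaf.stalk x) := Flat.stalkMap f x
    rw [← Nat.cast_mul, ← ENat.toNat_mul, ← RingHom.algebraMap_toAlgebra (f.stalkMap x).hom,
      ← length_quotient_map, Ideal.map_map]
    rw [RingHom.algebraMap_toAlgebra, ← CommRingCat.hom_comp, ← Scheme.Hom.stalkMap_comp]
    rfl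
  · rw [if_neg hc]
    by_cases ha : δX x = δY (f x) + 0
    · rw [if_pos ha, if_neg (show ¬ δY (f x) = δZ (g (f x)) + 0 by omega), zero_mul]
    · rw [if_neg ha]

/-- Shifted pullbacks of cycles with finite support have finite support. -/
theorem exists_pull_cycle [CompactSpace X] [CompactSpace Y] [IsLocallyNoetherian X] (f : X ⟶ Y) {δX : X → ℤ}
    {δY : Y → ℤ} {r : ℤ} (hdX : Cyc.IsDimFun X δX) (hf : ShiftBy f δX δY r) (α : AlgebraicCycle Y ℤ) :
    ∃ β : AlgebraicCycle X ℤ, ⇑β = Cyc.pullFun f δX δY r ⇑α := by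
  have hα := finite_support_of_compact α
  obtain ⟨t, ht⟩ := isCompact_univ.elim_finite_subcover
    (fun W : X.affineOpens => (W.1 : Set X)) (fun W => W.1.2) (fun x _ => by
      obtain ⟨W, hW, hx, -⟩ := exists_isAffineOpen_mem_and_subset (x := x) (U := ⊤) trivial
      exact Set.mem_iUnion.2 ⟨⟨W, hW⟩, hx⟩)
  have hfin : (Function.support (Cyc.pullFun f δX δY r ⇑α)).Finite := by
    refine (t.finite_toSet.biUnion fun W _ => hα.biUnion fun z _ =>
      (finite_fibGen_inter f z W.2).image (fun ζ : FibGen f z => ζ.1)).subset fun x hx => ?_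
    have hne : δX x = δY (f x) + r ∧ α (f x) ≠ 0 := by
      by_contra hn
      refine hx ?_
      rw [Cyc.pullFun]
      split_ifs with h
      · rw [not_not.1 fun h0 => hn ⟨h, h0⟩, zero_mul]
      · rfl
    obtain ⟨W, hW, hxW⟩ := Set.mem_iUnion₂.1 (ht (Set.mem_univ x))
    refine Set.mem_biUnion hW (Set.mem_biUnion (Function.mem_support.2 hne.2) ?_)
    exact ⟨⟨x, hf.gen hdX x hne.1, rfl⟩, hxW, rfl⟩
  exact ⟨{ toFun := Cyc.pullFun f δX δY r ⇑α
           supportWithinDomain' := Set.subset_univ _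
           supportLocallyFiniteWithinDomain' := fun z _ =>
             ⟨Set.univ, Filter.univ_mem, by rwa [Set.univ_inter]⟩ }, rfl⟩

/-- The residue class `g` at `x` comes from the target of `f`. -/
def Reached (f : X ⟶ Y) (x : X) (g : X.residueField x) : Prop :=
  ∃ a : Y.residueField (f x), f.residueFieldMap x a = g

theorem Reached.of_comp {f : X ⟶ Y} {g : Y ⟶ Z} {x : X} {c : X.residueField x} (h : Reached (f ≫ g) x c) :
    Reached f x c := by
  obtain ⟨a, rfl⟩ := h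
  exact ⟨g.residueFieldMap (f x) a, (congr($(Scheme.residueFieldMap_comp f g x) a)).symm⟩

end Groth.Agent.CycLib
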