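import Groth.Agent.S1868
import Groth.Agent.CycLib.Residue
import Groth.Agent.CycLib.ShiftPull
import Groth.Agent.CycLib.FlatLength
import Groth.Agent.CycLib.MapLib
import Groth.Agent.CycLib.NormMap

/-!
Flat base change for push-forwards of cycles.
-/

set_option autoImplicit false
set_option linter.style.haveILetI false
set_option maxHeartbeats 800000

universe u

open CategoryTheory AlgebraicGeometry Limits IsLocalRing TensorProduct

namespace Groth.Agent.CycLib.FlatBC

/-- The multiplicity `length(O_x / m_{f x} O_x)`. -/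
noncomputable def len {X Y : Scheme.{u}} (f : X ⟶ Y) (x : X) : ℕ :=
  (Module.length (X.presheaf.stalk x) (X.presheaf.stalk x ⧸
    (maximalIdeal (Y.presheaf.stalk (f x))).map (f.stalkMap x).hom)).toNat

theorem length_fiberι {X Y : Scheme.{u}} (f : X ⟶ Y) (y : Y) (z : f.fiber y) :
    len f (f.fiberι y z) =
      (Module.length ((f.fiber y).presheaf.stalk z) ((f.fiber y).presheaf.stalk z)).toNat :=
  congrArg ENat.toNat (S1868.length_stalk_eq ((f.fiberι y).stalkMap z).hom
    ((f.fiberι y).stalkMap_surjective z) _ (FlatMor.FibreStalk.ker_stalkMap_fiberι f y z))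

theorem residueDegree_fiberι {X Y : Scheme.{u}} (f : X ⟶ Y) (y : Y) (z : f.fiber y) :
    (f.fiberToSpecResidueField y).residueDegree z = f.residueDegree (f.fiberι y z) := by
  have h1 := residueDegree_comp (f.fiberι y) f z
  have h2 := residueDegree_comp (f.fiberToSpecResidueField y) (Y.fromSpecResidueField y) z
  rw [residueDegree_closedImmersion (f.fiberι y) z, one_mul] at h1
  rw [residueDegree_closedImmersion (Y.fromSpecResidueField y), mul_one] at h2
  rw [← h1, ← h2, f.fiber_fac y]

/-- The degree formula on the fibre of a finite flat morphism. -/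
theorem exists_fibre_sum {W G : Scheme.{u}} (π : W ⟶ G) [IsFinite π] [Flat π] (g : G) :
    ∃ S : Finset W, (∀ u, u ∈ S ↔ π u = g) ∧
      π.finrank g = ∑ u ∈ S, len π u * π.residueDegree u := by
  classical
  let η := G.fromSpecResidueField g
  let c : π.fiber g ⟶ Spec (CommRingCat.of (G.residueField g)) := π.fiberToSpecResidueField g
  haveI : IsFinite c := inferInstanceAs (IsFinite (pullback.snd π η))
  haveI : Flat c := BddFibLib.flat_of_isFinite c
  haveI := BddFibLib.finite_points c
  haveI := Fintype.ofFinite (π.fiber g)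
  let v : Spec (CommRingCat.of (G.residueField g)) := (default : PrimeSpectrum (G.residueField g))
  have h1 : c.finrank v = π.finrank g :=
    (Scheme.Hom.finrank_pullback_snd π η v).trans (congrArg _ (Scheme.fromSpecResidueField_apply g v))
  refine ⟨Finset.univ.image (π.fiberι g), fun u => ?_, ?_⟩
  · refine ⟨fun hu => ?_, fun hu => ?_⟩
    · obtain ⟨z, -, rfl⟩ := Finset.mem_image.1 hu
      have hz : π.fiberι g z ∈ π ⁻¹' {g} := by rw [← π.range_fiberι]; exact ⟨z, rfl⟩
      exact hz
    · obtain ⟨z, rfl⟩ : u ∈ Set.range (π.fiberι g) := by rw [π.range_fiberι]; exact hu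
      exact Finset.mem_image_of_mem _ (Finset.mem_univ _)
  · rw [← h1, (S1868.finrank_sections c v).2, S1868.sum_length_mul_residueDegree c,
      Finset.sum_image fun a _ b _ e => (π.fiberι g).isEmbedding.injective e]
    refine Finset.sum_congr rfl fun z _ => ?_
    rw [length_fiberι, ← residueDegree_fiberι]

theorem length_stalk_flat {W G : Scheme.{u}} (π : W ⟶ G) [Flat π] (u : W) :
    (Module.length (W.presheaf.stalk u) (W.presheaf.stalk u)).toNat =
      (Module.length (G.presheaf.stalk (π u)) (G.presheaf.stalk (π u))).toNat * len π u := by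
  letI := (π.stalkMap u).hom.toAlgebra
  haveI : Module.Flat (G.presheaf.stalk (π u)) (W.presheaf.stalk u) := Flat.stalkMap π u
  haveI : IsLocalHom (algebraMap (G.presheaf.stalk (π u)) (W.presheaf.stalk u)) :=
    inferInstanceAs (IsLocalHom (π.stalkMap u).hom)
  have h := length_tensor (A := G.presheaf.stalk (π u)) (B := W.presheaf.stalk u)
    (G.presheaf.stalk (π u))
  rw [(AlgebraTensorModule.rid (G.presheaf.stalk (π u)) (W.presheaf.stalk u)
    (W.presheaf.stalk u)).length_eq] at h
  rw [h, ENat.toNat_mul]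
  rfl

variable {X X' Y : Scheme.{u}} (f : Y ⟶ X) (p : X' ⟶ X)

theorem flat_isFinite_SpecMap (y : Y) (h : (f.residueFieldMap y).hom.Finite) :
    IsFinite (Spec.map (f.residueFieldMap y)) ∧ Flat (Spec.map (f.residueFieldMap y)) ∧
      ∀ v, (Spec.map (f.residueFieldMap y)).finrank v = f.residueDegree y := by
  have hfl : (f.residueFieldMap y).hom.Flat := by
    letI := (f.residueFieldMap y).hom.toAlgebra
    exact inferInstanceAs (Module.Flat (X.residueField (f y)) (Y.residueField y))
  refine ⟨(IsFinite.SpecMap_iff _).2 h, (Flat.SpecMap_iff).2 hfl, fun v => ?_⟩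
  rw [Scheme.Hom.finrank_SpecMap_eq_finrank h hfl]
  letI := (f.residueFieldMap y).hom.toAlgebra
  rw [← RingHom.algebraMap_toAlgebra (f.residueFieldMap y).hom, RingHom.finrank_algebraMap,
    Module.rankAtStalk_eq_finrank_of_free]
  rfl

/-- The points of `Y ×_X X'` over a pair `(y, x')` with `κ(y)` finite over `κ(f y)`. -/
theorem exists_pair_sum' {Y' : Scheme.{u}} {q : Y' ⟶ Y} {f' : Y' ⟶ X'} (hp : IsPullback f' q p f) (y : Y) (x' : X') (hxy : p x' = f y)
    (h : (f.residueFieldMap y).hom.Finite) :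
    ∃ S : Finset Y',
      (∀ u, u ∈ S ↔ q u = y ∧ f' u = x') ∧
      (∀ u ∈ S, (f').residueDegree u ≠ 0) ∧
      f.residueDegree y * len p x' =
        ∑ u ∈ S, len (q) u * (f').residueDegree u := by
  classical
  obtain ⟨hfin, hflat, hrk⟩ := flat_isFinite_SpecMap f y h
  obtain ⟨π, hπι, hsq⟩ : ∃ π : q.fiber y ⟶ p.fiber (f y), π ≫ p.fiberι (f y) = q.fiberι y ≫ f' ∧
      IsPullback π (q.fiberToSpecResidueField y) (p.fiberToSpecResidueField (f y))
        (Spec.map (f.residueFieldMap y)) :=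
    ⟨_, pullback.lift_fst _ _ _, isPullback_fiberToSpecResidueField_of_isPullback hp y⟩
  haveI : IsFinite π := MorphismProperty.of_isPullback (P := @IsFinite) hsq.flip hfin
  haveI : Flat π := MorphismProperty.of_isPullback (P := @Flat) hsq.flip hflat
  obtain ⟨g, hg⟩ : x' ∈ Set.range (p.fiberι (f y)) := by rw [p.range_fiberι]; exact hxy
  obtain ⟨S, hS, hsum⟩ := exists_fibre_sum π g
  have hinj := (p.fiberι (f y)).isEmbedding.injective
  have hf' : ∀ u, f' (q.fiberι y u) = p.fiberι (f y) (π u) := fun u => by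
    show (q.fiberι y ≫ f') u = (π ≫ p.fiberι (f y)) u
    rw [hπι]
  have hdeg : ∀ u, f'.residueDegree (q.fiberι y u) = π.residueDegree u := fun u => by
    have h1 := residueDegree_comp (q.fiberι y) f' u
    have h2 := residueDegree_comp π (p.fiberι (f y)) u
    rw [residueDegree_closedImmersion (q.fiberι y) u, one_mul] at h1
    rw [residueDegree_closedImmersion (p.fiberι (f y)), mul_one] at h2
    rw [← h1, ← h2, hπι]
  refine ⟨S.image (q.fiberι y), fun u => ?_, fun u hu => ?_, ?_⟩
  · refine ⟨fun hu => ?_, fun hu => ?_⟩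
    · obtain ⟨z, hz, rfl⟩ := Finset.mem_image.1 hu
      refine ⟨?_, ?_⟩
      · have hz' : q.fiberι y z ∈ q ⁻¹' {y} := by rw [← q.range_fiberι]; exact ⟨z, rfl⟩
        exact hz'
      · exact ((hf' z).trans (by rw [(hS z).1 hz, hg]))
    · obtain ⟨z, rfl⟩ : u ∈ Set.range (q.fiberι y) := by rw [q.range_fiberι]; exact hu.1
      exact Finset.mem_image_of_mem _ ((hS z).2 (hinj ((hf' z).symm.trans (hu.2.trans hg.symm))))
  · obtain ⟨z, -, rfl⟩ := Finset.mem_image.1 hu
    rw [hdeg]
    let c : π.fiber (π z) ⟶ Spec (CommRingCat.of ((p.fiber (f y)).residueField (π z))) :=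
      π.fiberToSpecResidueField (π z)
    haveI : IsFinite c :=
      inferInstanceAs (IsFinite (pullback.snd π ((p.fiber (f y)).fromSpecResidueField (π z))))
    letI := (π.residueFieldMap z).hom.toAlgebra
    haveI : Module.Finite ((p.fiber (f y)).residueField (π z)) ((q.fiber y).residueField z) :=
      (EtStruct.isClosed_asFiber_iff_finite π z).mp
        (BddFibLib.isClosed_singleton c _)
    exact (Module.finrank_pos (R := (p.fiber (f y)).residueField (π z))
      (M := (q.fiber y).residueField z)).ne'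
  · rw [Finset.sum_image fun a _ b _ e => (q.fiberι y).isEmbedding.injective e]
    have hd : π.finrank g = f.residueDegree y :=
      (Scheme.Hom.finrank_of_isPullback _ _ (Spec.map (f.residueFieldMap y)) _ hsq.flip g).trans (hrk _)
    rw [← hd, hsum, ← hg, Finset.sum_mul, length_fiberι]
    refine Finset.sum_congr rfl fun u hu => ?_
    rw [length_fiberι, hdeg, length_stalk_flat π u, (hS u).1 hu]
    ring

/-- The points of `Y ×_X X'` over a pair `(y, x')` with `κ(y)` finite over `κ(f y)`. -/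
theorem exists_pair_sum (y : Y) (x' : X') (hxy : p x' = f y)
    (h : (f.residueFieldMap y).hom.Finite) :
    ∃ S : Finset ↥(pullback f p),
      (∀ u, u ∈ S ↔ pullback.fst f p u = y ∧ pullback.snd f p u = x') ∧
      (∀ u ∈ S, (pullback.snd f p).residueDegree u ≠ 0) ∧
      f.residueDegree y * len p x' =
        ∑ u ∈ S, len (pullback.fst f p) u * (pullback.snd f p).residueDegree u :=
  exists_pair_sum' f p (IsPullback.of_hasPullback f p).flip y x' hxy h

theorem map_apply_eq_sum' {Z T : Scheme.{u}} (h : Z ⟶ T) [QuasiCompact h] (δZ : Z → ℤ) (δT : T → ℤ)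
    (α : AlgebraicCycle Z ℤ) (t : T) (S : Finset Z) (hSt : ∀ z ∈ S, h z = t)
    (hS : ∀ z, h z = t → α z * (AlgebraicCycle.mapCoeff h δZ δT z : ℤ) ≠ 0 → z ∈ S) :
    AlgebraicCycle.map h δZ δT α t = ∑ z ∈ S, α z * (AlgebraicCycle.mapCoeff h δZ δT z : ℤ) := by
  refine finsum_mem_eq_sum_of_inter_support_eq _ ?_
  ext z
  simp only [Set.mem_inter_iff, Set.mem_preimage, Set.mem_singleton_iff, Function.mem_support,
    Finset.mem_coe]
  exact ⟨fun ⟨h1, h2⟩ => ⟨hS z h1 h2, h2⟩, fun ⟨h1, h2⟩ => ⟨hSt z h1, h2⟩⟩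

/-- Flat base change `p^* f_* = f'_* q^*` for cycles. -/
theorem main_of_isPullback {Y' : Scheme.{u}} {q : Y' ⟶ Y} {f' : Y' ⟶ X'} (hsq : IsPullback f' q p f)
    [IsProper f] [Flat p] [QuasiCompact f'] [IsLocallyNoetherian X'] {δ : X → ℤ} {δ' : X' → ℤ} {δY : Y → ℤ}
    {δY' : Y' → ℤ} (hd' : Cyc.IsDimFun X' δ') (hf : Cyc.DeltaCompat f δY δ)
    (hf' : Cyc.DeltaCompat f' δY' δ') {c : ℤ} (hc : ShiftBy p δ' δ c)
    (α : AlgebraicCycle Y ℤ) (α' : AlgebraicCycle Y' ℤ)
    (hα' : ⇑α' = Cyc.pullFun q δY' δY c ⇑α) :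
    Cyc.pullFun p δ' δ c ⇑(AlgebraicCycle.map f δY δ α) =
      ⇑(AlgebraicCycle.map f' δY' δ' α') := by
  classical
  funext x'
  have hle := hc.le hd' x'
  have hcomm : ∀ u, f (q u) = p (f' u) := fun u => by
    show (q ≫ f) u = (f' ≫ p) u
    rw [hsq.w]
  have key : ∀ u, f' u = x' → α' u * (AlgebraicCycle.mapCoeff f' δY' δ' u : ℤ) ≠ 0 →
      δ' x' = δ (p x') + c ∧ δY (q u) = δ (f (q u)) ∧ α (q u) ≠ 0 := fun u hu hne => by
    obtain ⟨h1, h2⟩ := mul_ne_zero_iff.1 hne
    have e2 : δY' u = δ' (f' u) := by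
      by_contra hh
      exact h2 (by simp [AlgebraicCycle.mapCoeff, hh])
    rw [hα', Cyc.pullFun] at h1
    split_ifs at h1 with e1
    · have e3 := le_delta f hf (q u)
      have e4 : δY' u = δY (q u) + c := e1
      rw [hcomm, hu] at e3
      rw [hu] at e2
      refine ⟨by omega, ?_, left_ne_zero_of_mul h1⟩
      rw [hcomm, hu]; omega
    · exact absurd rfl h1
  rw [Cyc.pullFun]
  split_ifs with hx
  · let S0 : Finset Y := ((finite_fibre_support f α (p x')).toFinset).filter fun y => δY y = δ (f y)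
    have hS0 : ∀ y, y ∈ S0 ↔ (f y = p x' ∧ α y ≠ 0) ∧ δY y = δ (f y) := fun y => by
      simp [S0, Finset.mem_filter]
    have hT : ∀ y : {y // y ∈ S0}, ∃ T : Finset Y',
        (∀ u, u ∈ T ↔ q u = y.1 ∧ f' u = x') ∧ (∀ u ∈ T, f'.residueDegree u ≠ 0) ∧
        f.residueDegree y.1 * len p x' = ∑ u ∈ T, len q u * f'.residueDegree u := fun y =>
      exists_pair_sum' f p hsq y.1 x' ((hS0 _).1 y.2).1.1.symm
        (residueFieldMap_finite_of_delta_eq f hf _ ((hS0 _).1 y.2).2)
    choose T hT hT0 hTs using hT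
    rw [map_apply_eq_sum' f δY δ α (p x') S0 (fun y hy => ((hS0 y).1 hy).1.1)
        (fun y hy hne => (hS0 y).2 ⟨⟨hy, left_ne_zero_of_mul hne⟩, by
          by_contra hh
          exact hne (by simp [AlgebraicCycle.mapCoeff, hh])⟩),
      map_apply_eq_sum' f' δY' δ' α' x' (S0.attach.biUnion T) (fun u hu => by
          obtain ⟨y, -, hy⟩ := Finset.mem_biUnion.1 hu
          exact ((hT y u).1 hy).2)
        (fun u hu hne => by
          obtain ⟨-, k1, k2⟩ := key u hu hne
          have hy : q u ∈ S0 := (hS0 _).2 ⟨⟨by rw [hcomm, hu], k2⟩, k1⟩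
          exact Finset.mem_biUnion.2 ⟨⟨_, hy⟩, Finset.mem_attach _ _, (hT _ u).2 ⟨rfl, hu⟩⟩),
      Finset.sum_biUnion (fun a _ b _ hab => Finset.disjoint_left.2 fun u hua hub => hab
        (Subtype.ext (((hT a u).1 hua).1.symm.trans ((hT b u).1 hub).1))),
      ← Finset.sum_attach S0, Finset.sum_mul]
    refine Finset.sum_congr rfl fun y _ => ?_
    have hy := (hS0 _).1 y.2
    rw [AlgebraicCycle.mapCoeff, if_pos hy.2]
    change α y.1 * (f.residueDegree y.1 : ℤ) * (len p x' : ℤ) = _
    rw [mul_assoc, ← Nat.cast_mul, hTs y, Nat.cast_sum, Finset.mul_sum]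
    refine Finset.sum_congr rfl fun u hu => ?_
    obtain ⟨huy, hux⟩ := (hT y u).1 hu
    have e : δY' u = δ' (f' u) := by
      obtain ⟨n, hn, he⟩ := hf' u
      letI := (f'.residueFieldMap u).hom.toAlgebra
      haveI : Module.Finite (X'.residueField (f' u)) (Y'.residueField u) :=
        Module.finite_of_finrank_pos (Nat.pos_of_ne_zero (hT0 y u hu))
      rw [trdeg_eq_zero (R := X'.residueField (f' u)) (A := Y'.residueField u)] at hn
      rw [he, show n = 0 from by exact_mod_cast hn.symm]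
      simp
    have e' : δY' u = δY (q u) + c := by
      rw [e, hux, hx, huy, hy.2, hy.1.1]
    rw [hα', AlgebraicCycle.mapCoeff, if_pos e, Cyc.pullFun, if_pos e']
    change _ = α (q u) * (len q u : ℤ) * (f'.residueDegree u : ℤ)
    rw [huy]
    push_cast
    ring
  · symm
    refine (map_apply_eq_sum' f' δY' δ' α' x' ∅ (by simp) fun u hu hne =>
      absurd (key u hu hne).1 hx).trans Finset.sum_empty

/-- Flat base change `p^* f_* = f'_* q^*` for cycles. -/
theorem main [IsProper f] [Flat p] [IsLocallyNoetherian X'] {δ : X → ℤ} {δ' : X' → ℤ} {δY : Y → ℤ}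
    {δY' : ↥(pullback f p) → ℤ} (hd' : Cyc.IsDimFun X' δ') (hf : Cyc.DeltaCompat f δY δ)
    (hf' : Cyc.DeltaCompat (pullback.snd f p) δY' δ') {c : ℤ} (hc : ShiftBy p δ' δ c)
    (α : AlgebraicCycle Y ℤ) (α' : AlgebraicCycle (pullback f p) ℤ)
    (hα' : ⇑α' = Cyc.pullFun (pullback.fst f p) δY' δY c ⇑α) :
    Cyc.pullFun p δ' δ c ⇑(AlgebraicCycle.map f δY δ α) =
      ⇑(AlgebraicCycle.map (pullback.snd f p) δY' δ' α') :=
  main_of_isPullback f p (IsPullback.of_hasPullback f p).flip hd' hf hf' hc α α' hα'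

end Groth.Agent.CycLib.FlatBC
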