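import Groth.Agent.CycLib.FibreDim

/-!
`HasRelDim` from transcendence degrees at the generic points of fibres.
-/

set_option autoImplicit false
set_option linter.style.haveILetI false
set_option maxHeartbeats 400000

universe u

open AlgebraicGeometry CategoryTheory Groth.Agent.VarDim

namespace Groth.Agent.CycLib

variable {X Y : Scheme.{u}} (f : X ⟶ Y) [LocallyOfFiniteType f]

theorem hasRelDim_of_trdeg {r : ℕ}
    (h : ∀ x : X, (∀ x' : X, f x' = f x → x' ⤳ x → x' = x) →
      @Algebra.trdeg (Y.residueField (f x)) (X.residueField x) _ _ (f.residueFieldMap x).hom.toAlgebra = r) :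
    Cyc.HasRelDim f r := by
  intro y T hT
  obtain ⟨z, hz⟩ := QuasiSober.sober hT.1 (isClosed_of_mem_irreducibleComponents T hT)
  have hgen : ∀ w : f.fiber y, w ⤳ z → w = z := fun w hw => by
    have hsub : T ⊆ closure {w} := by
      rw [← hz.def]
      exact isClosed_closure.closure_subset_iff.2 (Set.singleton_subset_iff.2 (specializes_iff_mem_closure.1 hw))
    have hwT : w ∈ T := hT.2 isIrreducible_singleton.closure hsub (subset_closure rfl)
    exact (hw.antisymm (hz.specializes hwT)).eq
  have hy : ∀ w : f.fiber y, f (f.fiberι y w) = y := fun w => by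
    have := Set.mem_range_self (f := f.fiberι y) w
    rwa [Scheme.Hom.range_fiberι] at this
  have hx := h (f.fiberι y z) fun x' hx' hsp => by
    have hmem : x' ∈ Set.range (f.fiberι y) := by
      rw [Scheme.Hom.range_fiberι]
      exact hx'.trans (hy z)
    obtain ⟨w, rfl⟩ := hmem
    rw [hgen w ((f.fiberι y).isEmbedding.isInducing.specializes_iff.1 hsp)]
  letI := f.fiberOverSpecResidueField y
  haveI : LocallyOfFiniteType ((f.fiber y) ↘ Spec (CommRingCat.of (Y.residueField y))) :=
    locallyOfFiniteType_fiberToSpecResidueField f y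
  rw [trdeg_fibre f y z] at hx
  rw [← hz.def, topologicalKrullDim_closure, height_eq_dimPt (Y.residueField y)]
  exact_mod_cast hx

end Groth.Agent.CycLib
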