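import Groth.Agent.CycLib.DevPullC1
import Groth.Agent.CycLib.ShiftPull

/-!
`c₁` commutes with flat base change along morphisms shifting the dimension functions.
-/

set_option autoImplicit false
set_option linter.style.haveILetI false
set_option maxHeartbeats 800000

universe u

open CategoryTheory Limits AlgebraicGeometry IsLocalRing

namespace Groth.Agent.CycLib.ShiftC1

open Dev ModIdx Groth.Agent.PullStalk.Basic Groth.Agent.PullStalk.Sky

variable {X Y : Scheme.{u}} (f : X ⟶ Y)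
  [IsLocallyNoetherian X] {δX : X → ℤ} {δY : Y → ℤ} (hdX : Cyc.IsDimFun X δX)
  {r : ℤ} (hs : ShiftBy f δX δY r)

include hdX hs in
/-- The flat pullback of a cycle is a cycle. -/
theorem isCyc_pull {m : ℤ} {a : Y → ℤ} (ha : IsCyc δY m a) : IsCyc δX (m + r) (Cyc.pullFun f δX δY r a) := by
  classical
  refine ⟨fun U hU => ?_, fun x hx => ?_⟩
  · have hK : IsCompact (f '' (U : Set X)) := hU.isCompact.image f.continuous
    obtain ⟨t, ht⟩ := hK.elim_finite_subcover (fun V : Y.affineOpens => (V.1 : Set Y)) (fun V => V.1.2) fun y _ => by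
      obtain ⟨V, hV, hyV, -⟩ := exists_isAffineOpen_mem_and_subset (x := y) (U := ⊤) trivial
      exact Set.mem_iUnion.2 ⟨⟨V, hV⟩, hyV⟩
    refine (t.finite_toSet.biUnion fun V _ => (ha.finite V.1 V.2).biUnion fun η _ =>
      (finite_fibGen_inter f η hU).image (fun ζ => ζ.1)).subset fun x hx => ?_
    obtain ⟨hxU, hne⟩ := hx
    obtain ⟨V, hVt, hxV⟩ := Set.mem_iUnion₂.1 (ht (Set.mem_image_of_mem _ hxU))
    rw [Function.mem_support, Cyc.pullFun] at hne
    split_ifs at hne with h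
    · exact Set.mem_biUnion hVt (Set.mem_biUnion ⟨hxV, left_ne_zero_of_mul hne⟩
        ⟨⟨x, hs.gen hdX x h, rfl⟩, hxU, rfl⟩)
    · exact absurd rfl hne
  · rw [Cyc.pullFun]
    split_ifs with h
    · rw [ha.zero _ fun h' => hx (by omega), zero_mul]
    · rfl

variable [Flat f] [IsLocallyNoetherian Y] (hdY : Cyc.IsDimFun Y δY)
  {L : Y.Modules} (hL : PicF.IsInvertible L) (hM : PicF.IsInvertible ((Scheme.Modules.pullback f).obj L))

include hdX hdY hs hL hM in
/-- The pullback of the divisor of a rational section. -/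
theorem pull_secDiv (σ : (η : Y) → L.presheaf.stalk η) (hσ : ∀ η, IsBas (σ η)) (η : Y) (x : X) :
    Cyc.pullFun f δX δY r (Cyc.secDivFun δY L η (Submodule.Quotient.mk (σ η))) x =
      ∑ᶠ ζ : FibGen f η, (fibLen f ζ.1 : ℤ) * Cyc.secDivFun δX ((Scheme.Modules.pullback f).obj L) ζ.1
        (Submodule.Quotient.mk (unitStalkHom f L ζ.1 (σ (f ζ.1)))) x := by
  classical
  by_cases hy : η ⤳ f x
  swap
  · rw [finsum_eq_zero_of_forall_eq_zero fun ζ => ?_]
    · rw [Cyc.pullFun]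
      split_ifs
      · rw [Cyc.secDivFun, dif_neg fun h => hy h.1, zero_mul]
      · rfl
    · rw [Cyc.secDivFun, dif_neg fun h => hy (ζ.2.2 ▸ h.1.map f.continuous), mul_zero]
  obtain ⟨t, ht⟩ := exists_isBas hL (f x)
  obtain ⟨c, hc⟩ := (hσ η).2 (Ref1.sp L hy t)
  replace hc : c • σ η = Ref1.sp L hy t := hc
  obtain ⟨e, heu, hee⟩ : ∃ e : Y.presheaf.stalk η, IsUnit e ∧ Ref1.sp L hy t = e • σ η := by
    obtain ⟨d, hd'⟩ := (isBas_sp hL hy ht).2 (σ η)
    replace hd' : d • Ref1.sp L hy t = σ η := hd'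
    exact ⟨c, isUnit_iff_exists_inv'.2 ⟨d, (hσ η).1 (show (d * c) • σ η = (1 : Y.presheaf.stalk η) • σ η by
      rw [mul_smul, hc, hd', one_smul])⟩, hc.symm⟩
  have hg : Y.residue η e ≠ 0 := (heu.map (Y.residue η).hom).ne_zero
  have h1 : Cyc.pullFun f δX δY r (Cyc.secDivFun δY L η (Submodule.Quotient.mk (σ η))) x =
      -Cyc.pullFun f δX δY r (Cyc.divFun δY η (Y.residue η e)) x := by
    simp only [Cyc.pullFun]
    split_ifs
    · rw [← neg_mul]
      congr 1
      by_cases h : η ⤳ f x ∧ δY (f x) + 1 = δY η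
      · exact secDivFun_of_bas hdY hL hy rfl h.2.symm (hσ η) ht hee
      · rw [Cyc.secDivFun, dif_neg h, Cyc.divFun, dif_neg h, neg_zero]
    · rfl
  rw [h1, pullFun_divFun_shift f hdX hdY hs η _ hg x, ← finsum_neg_distrib]
  refine finsum_congr fun ⟨ζ, hζgen, hζ⟩ => ?_
  subst hζ
  rw [pullTerm, ← mul_neg]
  congr 1
  simp only [Scheme.residueFieldCongr_refl, Iso.refl_hom, CommRingCat.id_apply]
  by_cases h : ζ ⤳ x ∧ δX x + 1 = δX ζ
  · exact (secDiv_unit f hdX hL hM h.1 h.2 (hσ (f ζ)) rfl hy ht hee).symm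
  · rw [Cyc.secDivFun, dif_neg h, Cyc.divFun, dif_neg h, neg_zero]

include hdX hdY hs hL hM in
/-- `c₁` commutes with flat pullback, on functions. -/
theorem pull_c1_unit {m : ℤ} {a : Y → ℤ} (ha : IsCyc δY m a) (σ : (η : Y) → L.presheaf.stalk η)
    (hσ : ∀ η, IsBas (σ η)) :
    Cyc.pullFun f δX δY r (Cyc.c1CapFun δY L a fun η => Submodule.Quotient.mk (σ η)) =
      Cyc.c1CapFun δX ((Scheme.Modules.pullback f).obj L) (Cyc.pullFun f δX δY r a)
        (fun ζ => Submodule.Quotient.mk (unitStalkHom f L ζ (σ (f ζ)))) := by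
  classical
  funext x
  obtain ⟨V, hV, hxV, -⟩ := exists_isAffineOpen_mem_and_subset (x := f x) (U := ⊤) trivial
  obtain ⟨W, hW, hxW, -⟩ := exists_isAffineOpen_mem_and_subset (x := x) (U := ⊤) trivial
  let A := (ha.finite V hV).toFinset
  let B := fun η : Y => (finite_fibGen_inter f η hW).toFinset
  set u := fun ζ : X => (Submodule.Quotient.mk (unitStalkHom f L ζ (σ (f ζ))) :
    Cyc.secFibre ((Scheme.Modules.pullback f).obj L) ζ) with hu
  have hlin : Cyc.pullFun f δX δY r (Cyc.c1CapFun δY L a fun η => Submodule.Quotient.mk (σ η)) x =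
      ∑ η ∈ A, a η * Cyc.pullFun f δX δY r (Cyc.secDivFun δY L η (Submodule.Quotient.mk (σ η))) x := by
    simp only [Cyc.pullFun]
    split_ifs
    · rw [Cyc.c1CapFun, finsum_eq_sum_of_support_subset (s := A) _ fun η hη => ?_, Finset.sum_mul]
      · exact Finset.sum_congr rfl fun η _ => mul_assoc _ _ _
      · obtain ⟨h1, h2⟩ := mul_ne_zero_iff.1 hη
        exact (Set.Finite.mem_toFinset _).2 ⟨(secDivFun_ne_zero h2).1.mem_open V.2 hxV, h1⟩
    · simp
  rw [hlin, Cyc.c1CapFun]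
  have hinj : ∀ p ∈ (A.sigma B : Set (Σ η, FibGen f η)), ∀ q ∈ (A.sigma B : Set (Σ η, FibGen f η)),
      p.2.1 = q.2.1 → p = q := by
    rintro ⟨η, ζ⟩ - ⟨η', ζ'⟩ - h
    obtain rfl : η = η' := by rw [← ζ.2.2, ← ζ'.2.2]; exact congrArg _ h
    obtain rfl : ζ = ζ' := Subtype.ext h
    rfl
  rw [finsum_eq_sum_of_support_subset (s := (A.sigma B).image fun p => p.2.1) _ ?_, Finset.sum_image hinj,
    Finset.sum_sigma]
  · refine Finset.sum_congr rfl fun η _ => ?_
    rw [pull_secDiv f hdX hs hdY hL hM σ hσ η x, finsum_eq_sum_of_support_subset (s := B η) _ ?_, Finset.mul_sum]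
    · refine Finset.sum_congr rfl fun ζ _ => ?_
      rw [Cyc.pullFun, if_pos (hs _ ζ.2.1)]
      show a η * ((fibLen f ζ.1 : ℤ) * _) = a (f ζ.1) * (fibLen f ζ.1 : ℤ) * _
      rw [show a (f ζ.1) = a η from congrArg a ζ.2.2]
      ring
    · intro ζ hζ
      exact Finset.mem_coe.2 ((Set.Finite.mem_toFinset _).2
        ((secDivFun_ne_zero (mul_ne_zero_iff.1 hζ).2).1.mem_open W.2 hxW))
  · intro ζ hζ
    obtain ⟨h1, h2⟩ := mul_ne_zero_iff.1 hζ
    rw [Cyc.pullFun] at h1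
    split_ifs at h1 with h
    · refine Finset.mem_coe.2 (Finset.mem_image.2 ⟨⟨f ζ, ζ, hs.gen hdX ζ h, rfl⟩,
        Finset.mem_sigma.2 ⟨(Set.Finite.mem_toFinset _).2 ⟨?_, left_ne_zero_of_mul h1⟩, ?_⟩, rfl⟩)
      · exact ((secDivFun_ne_zero h2).1.map f.continuous).mem_open V.2 hxV
      · exact (Set.Finite.mem_toFinset _).2 ((secDivFun_ne_zero h2).1.mem_open W.2 hxW)
    · exact absurd rfl h1

include hdX hdY hs hL hM in
/-- `c₁` commutes with flat pullback. -/
theorem pull_c1_mem {m : ℤ} {a : Y → ℤ} (ha : IsCyc δY (m + 1) a) (v : (η : Y) → Cyc.secFibre L η)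
    (hv : ∀ η, v η ≠ 0) (u : (ξ : X) → Cyc.secFibre ((Scheme.Modules.pullback f).obj L) ξ) (hu : ∀ ξ, u ξ ≠ 0) :
    Cyc.pullFun f δX δY r (Cyc.c1CapFun δY L a v) -
      Cyc.c1CapFun δX ((Scheme.Modules.pullback f).obj L) (Cyc.pullFun f δX δY r a) u ∈ prin hdX (m + r) := by
  choose σ hσ hσe using fun η : Y => exists_isBas_lift hL (v η) (hv η)
  have e := pull_c1_unit f hdX hs hdY hL hM ha σ hσ
  simp only [hσe] at e
  rw [e]
  refine c1_sub_mem hdX hM ?_ _ _ (fun ζ => mk_ne_zero_of_isBas (isBas_unit f hL hM ζ (hσ (f ζ)))) hu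
  rw [show m + r + 1 = m + 1 + r by ring]
  exact isCyc_pull f hdX hs ha

end Groth.Agent.CycLib.ShiftC1
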