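import Groth.Agent.CycLib.ShiftPull
import Groth.Agent.CycLib.FlatLength
import Mathlib.AlgebraicGeometry.Morphisms.Flat

/-!
Composition of flat pullbacks along morphisms shifting the dimension functions.
-/

set_option autoImplicit false
set_option linter.style.haveILetI false
set_option maxHeartbeats 800000

universe u

open CategoryTheory AlgebraicGeometry IsLocalRing

namespace Groth.Agent.CycLib

theorem ShiftBy.comp {X Y Z : Scheme.{u}} {f : X ⟶ Y} {g : Y ⟶ Z} [Flat f] {δX : X → ℤ} {δY : Y → ℤ}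
    {δZ : Z → ℤ} {r s : ℤ} (hf : ShiftBy f δX δY r) (hg : ShiftBy g δY δZ s) :
    ShiftBy (f ≫ g) δX δZ (s + r) := by
  intro x hx
  have h1 := hf x fun x' h hs => hx x' (by
    show g (f x') = g (f x)
    rw [h]) hs
  have h2 := hg (f x) fun y hy hs => by
    obtain ⟨x', hx', rfl⟩ := Flat.generalizingMap f hs
    rw [hx x' hy hx']
  rw [Scheme.Hom.comp_apply, h1, h2]
  ring

theorem pullFun_comp_shifts {X Y Z : Scheme.{u}} (f : X ⟶ Y) (g : Y ⟶ Z) [Flat f] [IsLocallyNoetherian X]
    [IsLocallyNoetherian Y] {δX : X → ℤ} {δY : Y → ℤ} {δZ : Z → ℤ} (hdX : Cyc.IsDimFun X δX)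
    (hdY : Cyc.IsDimFun Y δY) {r s : ℤ} (hf : ShiftBy f δX δY r) (hg : ShiftBy g δY δZ s) (a : Z → ℤ) :
    Cyc.pullFun (f ≫ g) δX δZ (s + r) a = Cyc.pullFun f δX δY r (Cyc.pullFun g δY δZ s a) := by
  funext x
  have h1 := hf.le hdX x
  have h2 := hg.le hdY (f x)
  simp only [Cyc.pullFun, Scheme.Hom.comp_apply]
  by_cases hx : δX x = δZ (g (f x)) + (s + r)
  · rw [if_pos hx, if_pos (by omega), if_pos (by omega), mul_assoc, ← Nat.cast_mul, ← ENat.toNat_mul]
    congr 3
    letI := (f.stalkMap x).hom.toAlgebra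
    haveI : Module.Flat (Y.presheaf.stalk (f x)) (X.presheaf.stalk x) := Flat.stalkMap f x
    haveI : IsLocalHom (algebraMap (Y.presheaf.stalk (f x)) (X.presheaf.stalk x)) :=
      inferInstanceAs (IsLocalHom (f.stalkMap x).hom)
    rw [← RingHom.algebraMap_toAlgebra (f.stalkMap x).hom,
      ← length_quotient_map (A := Y.presheaf.stalk (f x)) (B := X.presheaf.stalk x), Ideal.map_map,
      RingHom.algebraMap_toAlgebra, ← CommRingCat.hom_comp, ← Scheme.Hom.stalkMap_comp]
    rfl
  · rw [if_neg hx]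
    by_cases h3 : δX x = δY (f x) + r
    · rw [if_pos h3, if_neg (by omega), zero_mul]
    · rw [if_neg h3]

end Groth.Agent.CycLib
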