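import Groth.Agent.CycLib.SpecPt
import Groth.Agent.CycLib.DivRestrict
import Groth.Agent.S16188
import Groth.Agent.RedSub.Basic

/-!
`ordAt` along closed immersions and preimmersions; the reduced closure of a point.
-/

set_option autoImplicit false
set_option linter.style.haveILetI false
set_option maxHeartbeats 400000

universe u

open CategoryTheory AlgebraicGeometry TopologicalSpace

namespace Groth.Agent.CycLib

variable {Z X : Scheme.{u}}

theorem residueFieldMap_bijective_closedImmersion (i : Z ⟶ X) [IsPreimmersion i] (z : Z) :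
    Function.Bijective (i.residueFieldMap z) := by
  refine ⟨(i.residueFieldMap z).hom.injective, fun w => ?_⟩
  obtain ⟨c, rfl⟩ := Scheme.residue_surjective Z z w
  obtain ⟨d, rfl⟩ := i.stalkMap_surjective z c
  exact ⟨X.residue _ d, congr($(Scheme.residue_residueFieldMap i z) d)⟩

theorem exists_locQuot_equiv (i : Z ⟶ X) [IsPreimmersion i] {z ζ : Z} (h : ζ ⤳ z) :
    ∃ e : Cyc.LocQuot (i z) (i ζ) (h.map i.continuous) ≃+* Cyc.LocQuot z ζ h,
      ∀ r, i.residueFieldMap ζ (algebraMap _ (X.residueField (i ζ)) r) =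
        algebraMap (Cyc.LocQuot z ζ h) (Z.residueField ζ) (e r) := by
  refine ⟨RingEquiv.ofBijective (Ideal.quotientMap _ (i.stalkMap z).hom (comap_ker_specMap i h).ge)
    ⟨Ideal.quotientMap_injective' (comap_ker_specMap i h).le,
      Ideal.quotientMap_surjective (i.stalkMap_surjective z)⟩, fun r => ?_⟩
  obtain ⟨c, rfl⟩ := Ideal.Quotient.mk_surjective r
  exact residueFieldMap_specMap' i h c

theorem krullDimLE_locQuot_closedImmersion [IsLocallyNoetherian X] {δ : X → ℤ}
    (hd : Cyc.IsDimFun X δ) (i : Z ⟶ X) [IsPreimmersion i] {z ζ : Z} (h : ζ ⤳ z)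
    (h1 : δ (i z) + 1 = δ (i ζ)) : Ring.KrullDimLE 1 (Cyc.LocQuot z ζ h) := by
  haveI := locQuot_krullDimLE_one hd (i z) (i ζ) (h.map i.continuous) h1
  obtain ⟨e, -⟩ := exists_locQuot_equiv i h
  rw [Ring.krullDimLE_iff, ← ringKrullDim_eq_of_ringEquiv e]
  exact Ring.krullDimLE_iff.1 inferInstance

theorem ordAt_closedImmersion [IsLocallyNoetherian X] {δ : X → ℤ}
    (hd : Cyc.IsDimFun X δ) (i : Z ⟶ X) [IsPreimmersion i] {z ζ : Z} (h : ζ ⤳ z)
    (h1 : δ (i z) + 1 = δ (i ζ)) {f : X.residueField (i ζ)} (hf : f ≠ 0) :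
    Cyc.ordAt z ζ h (i.residueFieldMap ζ f) = Cyc.ordAt (i z) (i ζ) (h.map i.continuous) f := by
  haveI := locQuot_isDomain z ζ h
  haveI := locQuot_isFractionRing z ζ h
  haveI := krullDimLE_locQuot_closedImmersion hd i h h1
  haveI := locQuot_isNoetherianRing (i z) (i ζ) (h.map i.continuous)
  obtain ⟨e₀, -⟩ := exists_locQuot_equiv i h
  haveI : IsNoetherianRing (Cyc.LocQuot z ζ h) := isNoetherianRing_of_ringEquiv _ e₀
  haveI := locQuot_isDomain (i z) (i ζ) (h.map i.continuous)
  haveI := locQuot_isFractionRing (i z) (i ζ) (h.map i.continuous)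
  haveI := locQuot_isNoetherianRing (i z) (i ζ) (h.map i.continuous)
  haveI := locQuot_krullDimLE_one hd (i z) (i ζ) (h.map i.continuous) h1
  obtain ⟨e, he⟩ := exists_locQuot_equiv i h
  let ψ := RingEquiv.ofBijective (i.residueFieldMap ζ).hom (residueFieldMap_bijective_closedImmersion i ζ)
  exact (ordFrac_congr e ψ he hf).symm

/-- The closure of a point as an integral closed subscheme. -/
theorem exists_closure_subscheme (ξ : X) :
    ∃ (Z : Scheme.{u}) (_ : IsIntegral Z) (i : Z ⟶ X) (_ : IsClosedImmersion i),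
      i (genericPoint Z) = ξ ∧ ∀ x, x ∈ Set.range i ↔ ξ ⤳ x := by
  let C : Closeds X := ⟨closure {ξ}, isClosed_closure⟩
  haveI : IsIntegral (Scheme.IdealSheafData.vanishingIdeal C).subscheme :=
    S16188.isIntegral_subscheme C isIrreducible_singleton.closure
  let i := (Scheme.IdealSheafData.vanishingIdeal C).subschemeι
  have hr : ∀ x, x ∈ Set.range i ↔ ξ ⤳ x := fun x => by
    rw [show Set.range i = (C : Set X) from RedSub.range_vanishingIdeal_subschemeι C]
    exact specializes_iff_mem_closure.symm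
  refine ⟨_, ‹_›, i, inferInstance, ?_, hr⟩
  obtain ⟨z, hz⟩ := (hr ξ).2 specializes_rfl
  have h1 : i (genericPoint _) ⤳ ξ := hz ▸ (genericPoint_specializes z).map i.continuous
  exact (h1.antisymm ((hr _).1 ⟨_, rfl⟩)).eq

end Groth.Agent.CycLib
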