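import Groth.Agent.CycLib.LineFib
import Groth.Agent.CycLib.FibreDeg
import Mathlib.Algebra.MvPolynomial.Equiv
import Mathlib.AlgebraicGeometry.AffineSpace

/-!
Affine spaces kill cycles on fibres; transfer from charts.
-/

set_option autoImplicit false
set_option linter.style.haveILetI false
set_option maxHeartbeats 800000

universe u

open CategoryTheory AlgebraicGeometry IsLocalRing Classical

namespace Groth.Agent.CycLib

theorem deltaCompat_cancel {X M Z : Scheme.{u}} (f : X ⟶ M) (g : M ⟶ Z) {δX : X → ℤ} {δM : M → ℤ} {δZ : Z → ℤ}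
    (hfg : Cyc.DeltaCompat (f ≫ g) δX δZ) (hg : Cyc.DeltaCompat g δM δZ) : Cyc.DeltaCompat f δX δM := by
  intro x
  obtain ⟨n, hn, hn'⟩ := hfg x
  obtain ⟨m, hm, hm'⟩ := hg (f x)
  letI i₁ := (f.residueFieldMap x).hom.toAlgebra
  letI i₂ := (g.residueFieldMap (f x)).hom.toAlgebra
  letI i₃ : Algebra (Z.residueField (g (f x))) (X.residueField x) :=
    ((f.residueFieldMap x).hom.comp (g.residueFieldMap (f x)).hom).toAlgebra
  haveI : IsScalarTower (Z.residueField (g (f x))) (M.residueField (f x)) (X.residueField x) :=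
    IsScalarTower.of_algebraMap_eq' rfl
  haveI : FaithfulSMul (Z.residueField (g (f x))) (M.residueField (f x)) :=
    (faithfulSMul_iff_algebraMap_injective _ _).2 (algebraMap (Z.residueField (g (f x))) _).injective
  haveI : FaithfulSMul (M.residueField (f x)) (X.residueField x) :=
    (faithfulSMul_iff_algebraMap_injective _ _).2 (algebraMap (M.residueField (f x)) _).injective
  have e := trdeg_add_eq (Z.residueField (g (f x))) (M.residueField (f x)) (A := X.residueField x)
  have hn2 : Algebra.trdeg (Z.residueField (g (f x))) (X.residueField x) = n := by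
    rw [← hn]
    congr 1
    show RingHom.toAlgebra _ = RingHom.toAlgebra ((f ≫ g).residueFieldMap x).hom
    rw [Scheme.residueFieldMap_comp f g x]
    rfl
  rw [hn2, hm] at e
  obtain ⟨j, hj⟩ : ∃ j : ℕ, Algebra.trdeg (M.residueField (f x)) (X.residueField x) = j :=
    Cardinal.lt_aleph0.1 (lt_of_le_of_lt (le_add_self.trans e.le) (Cardinal.natCast_lt_aleph0))
  refine ⟨j, hj, ?_⟩
  rw [hj] at e
  have e' : m + j = n := by exact_mod_cast e
  change δX x = δZ (g (f x)) + n at hn'
  omega

theorem map_maximalIdeal_of_surjective {A B : Type u} [CommRing A] [IsLocalRing A] [CommRing B] [IsLocalRing B]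
    (φ : A →+* B) [IsLocalHom φ] (h : Function.Surjective φ) :
    (maximalIdeal A).map φ = maximalIdeal B := by
  refine le_antisymm (map_maximalIdeal_le φ) fun b hb => ?_
  obtain ⟨a, rfl⟩ := h b
  refine Ideal.mem_map_of_mem _ ?_
  rw [mem_maximalIdeal, mem_nonunits_iff] at hb ⊢
  exact fun hu => hb (hu.map φ)

theorem fibLen_eq_one_of_map_eq {X Z : Scheme.{u}} (f : X ⟶ Z) (x : X)
    (h : (maximalIdeal (Z.presheaf.stalk (f x))).map (f.stalkMap x).hom = maximalIdeal (X.presheaf.stalk x)) :
    fibLen f x = 1 := by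
  haveI : IsSimpleModule (X.presheaf.stalk x) (X.presheaf.stalk x ⧸ (maximalIdeal (Z.presheaf.stalk (f x))).map (f.stalkMap x).hom) :=
    isSimpleModule_iff_isCoatom.2 (Ideal.isMaximal_def.1 (h ▸ maximalIdeal.isMaximal _))
  rw [fibLen, Module.length_eq_one]
  rfl

theorem map_eq_comp {X M Z : Scheme.{u}} (f : X ⟶ M) (g : M ⟶ Z) (x : X) :
    (maximalIdeal (Z.presheaf.stalk ((f ≫ g) x))).map ((f ≫ g).stalkMap x).hom =
      ((maximalIdeal (Z.presheaf.stalk (g (f x)))).map (g.stalkMap (f x)).hom).map (f.stalkMap x).hom := by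
  rw [Scheme.Hom.stalkMap_comp, Ideal.map_map]
  rfl

section affine

variable (R : Type u) [CommRing R] (B : Type u) [CommRing B] [Algebra R B]

/-- `Spec B → Spec R`. -/
noncomputable abbrev algMap : Spec (CommRingCat.of B) ⟶ Spec (CommRingCat.of R) :=
  Spec.map (CommRingCat.ofHom (algebraMap R B))

end affine

theorem kills_affineSpace : ∀ (r : ℕ) (R : Type u) [CommRing R] [IsNoetherianRing R] (B : Type u) [CommRing B]
    [Algebra R B] (_ : MvPolynomial (Fin r) R ≃ₐ[R] B) {Y : Scheme.{u}} (δY : Y → ℤ),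
    Cyc.IsSetup Y δY → ∀ (c : Spec (CommRingCat.of R) ⟶ Y) [LocallyOfFiniteType c]
      (δ0 : Spec (CommRingCat.of R) → ℤ), Cyc.DeltaCompat c δ0 δY →
    ∀ (δ : Spec (CommRingCat.of B) → ℤ), Cyc.DeltaCompat (algMap R B) δ δ0 →
      FibKills (algMap R B) δ δ0 r ∧ FibOne (algMap R B) δ δ0 r ∧ Cyc.HasRelDim (algMap R B) r ∧
        Flat (algMap R B) ∧ LocallyOfFiniteType (algMap R B) ∧ ∀ x, δ x ≤ δ0 (algMap R B x) + r := by
  intro r
  induction r with
  | zero =>
    intro R _ _ B _ _ e Y δY hY c _ δ0 hc δ hδ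
    have hbij : Function.Bijective (algebraMap R B) := by
      have h1 : (algebraMap R B : R → B) = e ∘ (MvPolynomial.isEmptyRingEquiv R (Fin 0)).symm := by
        funext a
        exact (e.commutes a).symm
      rw [h1]
      exact e.bijective.comp (RingEquiv.bijective _)
    haveI : IsIso (CommRingCat.ofHom (algebraMap R B)) := (ConcreteCategory.isIso_iff_bijective _).2 hbij
    haveI : IsIso (algMap R B) := inferInstance
    have hd : ∀ x, δ x = δ0 (algMap R B x) := fun x =>
      delta_eq_of_surjective _ hδ x (residueFieldMap_bijective_closedImmersion (algMap R B) x).2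
    have hinj : Function.Injective (algMap R B) := (algMap R B).isOpenEmbedding.injective
    refine ⟨fun ξ hξ => absurd hξ (by rw [hd]; simp), fun x _ => ⟨fibLen_eq_one_of_map_eq _ x
        (map_maximalIdeal_of_surjective _ (ConcreteCategory.bijective_of_isIso ((algMap R B).stalkMap x)).2),
        fun x' hx' _ => hinj hx'⟩, hasRelDim_of_trdeg _ fun x _ => ?_, inferInstance, inferInstance,
      fun x => by rw [hd]; simp⟩
    obtain ⟨n, hn, hn'⟩ := hδ x
    rw [hd] at hn'
    rw [hn, show n = 0 by omega]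
  | succ r ih =>
    intro R _ _ B _ _ e Y δY hY c _ δ0 hc δ hδ
    haveI := hY.1
    let ψ : MvPolynomial (Fin r) (Polynomial R) ≃ₐ[R] B :=
      ((MvPolynomial.optionEquivRight R (Fin r)).symm.trans
        (MvPolynomial.renameEquiv R (finSuccEquiv r).symm)).trans e
    letI : Algebra (Polynomial R) B := (ψ.toRingEquiv.toRingHom.comp MvPolynomial.C).toAlgebra
    let e' : MvPolynomial (Fin r) (Polynomial R) ≃ₐ[Polynomial R] B :=
      AlgEquiv.ofRingEquiv (f := ψ.toRingEquiv) fun _ => rfl
    have hcomp : algMap (Polynomial R) B ≫ lineMap R = algMap R B := by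
      rw [algMap, algMap, lineMap, ← Spec.map_comp]
      congr 1
      refine CommRingCat.hom_ext (RingHom.ext fun a => ?_)
      exact ψ.commutes a
    -- the zero section
    let σ : B →+* Polynomial R := (MvPolynomial.eval₂Hom (RingHom.id _) fun _ => 0).comp ψ.symm.toRingEquiv.toRingHom
    have hσ : σ.comp (algebraMap (Polynomial R) B) = RingHom.id _ := by
      refine RingHom.ext fun a => ?_
      show MvPolynomial.eval₂Hom (RingHom.id _) (fun _ => 0) (ψ.symm (ψ (MvPolynomial.C a))) = a
      rw [AlgEquiv.symm_apply_apply, MvPolynomial.eval₂Hom_C]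
      rfl
    let s : Spec (CommRingCat.of (Polynomial R)) ⟶ Spec (CommRingCat.of B) := Spec.map (CommRingCat.ofHom σ)
    haveI : IsClosedImmersion s := IsClosedImmersion.spec_of_surjective (CommRingCat.ofHom σ)
      fun a => ⟨algebraMap (Polynomial R) B a, RingHom.congr_fun hσ a⟩
    have hs : s ≫ algMap (Polynomial R) B = 𝟙 _ := by
      rw [algMap, ← Spec.map_comp, ← CommRingCat.ofHom_comp, hσ]
      exact Spec.map_id _
    let δM : Spec (CommRingCat.of (Polynomial R)) → ℤ := fun m => δ (s m)
    rw [← hcomp] at hδ ⊢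
    have hM : Cyc.DeltaCompat (lineMap R) δM δ0 := by
      have := deltaCompat_comp (deltaCompat_preimmersion s δ) hδ
      rwa [← Category.assoc, hs, Category.id_comp] at this
    have hf : Cyc.DeltaCompat (algMap (Polynomial R) B) δ δM := deltaCompat_cancel _ _ hδ hM
    haveI : LocallyOfFiniteType (lineMap R ≫ c) := inferInstance
    obtain ⟨hk, ho, hr, hflat, hlft, hle⟩ := ih (Polynomial R) B e' δY hY (lineMap R ≫ c) δM
      (deltaCompat_comp hM hc) δ hf
    haveI := hflat
    haveI := hlft
    haveI : Flat (lineMap R) := by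
      rw [HasRingHomProperty.Spec_iff (P := @Flat)]
      exact (RingHom.flat_algebraMap_iff (R := R) (S := Polynomial R)).2 inferInstance
    haveI : IsLocallyNoetherian (Spec (CommRingCat.of (Polynomial R))) :=
      LocallyOfFiniteType.isLocallyNoetherian (lineMap R ≫ c)
    haveI : IsLocallyNoetherian (Spec (CommRingCat.of B)) :=
      LocallyOfFiniteType.isLocallyNoetherian (algMap (Polynomial R) B)
    have hdM : Cyc.IsDimFun _ δM :=
      isDimFun_of_deltaCompat (lineMap R ≫ c) hY.2.1 hY.2.2 (deltaCompat_comp hM hc)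
    have hdX : Cyc.IsDimFun _ δ := isDimFun_of_deltaCompat (algMap (Polynomial R) B ≫ lineMap R ≫ c)
      hY.2.1 hY.2.2 (deltaCompat_comp hf (deltaCompat_comp hM hc))
    have hline := delta_line hM hdM
    have hle' : ∀ x, δ x ≤ δ0 (lineMap R (algMap (Polynomial R) B x)) + (r + 1) := fun x => by
      have := hle x
      have := (hline (algMap (Polynomial R) B x)).2.1
      omega
    refine ⟨?_, ?_, hasRelDim_of_trdeg _ fun x hx => ?_, inferInstance, inferInstance, ?_⟩
    · have := FibKills.comp (algMap (Polynomial R) B) (lineMap R) hdX hdM hf (fun m => (hline m).1) hr hk ho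
        (s := 1) (fibKills_line hM hdM)
      simpa using this
    · have := FibOne.comp (algMap (Polynomial R) B) (lineMap R) hdX hf hr (s := 1) (fun m => (hline m).2.1) ho
        (fibOne_line hM hdM)
      simpa using this
    · -- generic points of the fibres
      have h1 : ∀ x', algMap (Polynomial R) B x' = algMap (Polynomial R) B x → x' ⤳ x → x' = x :=
        fun x' h h' => hx x' (congrArg (lineMap R) h) h'
      have h2 : ∀ m', lineMap R m' = lineMap R (algMap (Polynomial R) B x) → m' ⤳ algMap (Polynomial R) B x →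
          m' = algMap (Polynomial R) B x := fun m' h h' => by
        obtain ⟨x', h3, h4⟩ := Flat.generalizingMap (algMap (Polynomial R) B) h'
        rw [← h4, hx x' (by simp only [Scheme.Hom.comp_apply, h4, h]) h3]
      obtain ⟨n, hn, hn'⟩ := hδ x
      change δ x = δ0 (lineMap R (algMap (Polynomial R) B x)) + n at hn'
      have e1 := delta_eq_of_generic _ hf hr x h1
      have e2 := delta_eq_of_generic _ hM hasRelDim_line _ h2
      rw [hn, show n = r + 1 by omega]
    · intro x
      exact_mod_cast hle' x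

section transfer

variable {X Y U V : Scheme.{u}} (f : X ⟶ Y) (J : U ⟶ X) [IsOpenImmersion J] (f0 : U ⟶ V) (c : V ⟶ Y)
  [IsOpenImmersion c] {δX : X → ℤ} {δY : Y → ℤ} {r : ℤ}

theorem fibKills_of_chart [IsLocallyNoetherian X] (hd : Cyc.IsDimFun X δX) (h : J ≫ f = f0 ≫ c)
    (hJ : ∀ x, f x ∈ Set.range c → x ∈ Set.range J)
    (hk : FibKills f0 (fun u => δX (J u)) (fun v => δY (c v)) r)
    (ho : FibOne f0 (fun u => δX (J u)) (fun v => δY (c v)) r) :
    ∀ ξ, f ξ ∈ Set.range c → (δX ξ < δY (f ξ) + r → Killed f δX (δX ξ) (f ξ) (pointFun ξ)) ∧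
      (δX ξ = δY (f ξ) + r → fibLen f ξ = 1 ∧ ∀ x', f x' = f ξ → δX x' = δX ξ → x' = ξ) := by
  intro ξ hξ
  obtain ⟨u, rfl⟩ := hJ ξ hξ
  have hu : ∀ u, f (J u) = c (f0 u) := fun u => by
    show (J ≫ f) u = (f0 ≫ c) u
    rw [h]
  have hfib : ∀ x, f x = f (J u) → ∃ u', J u' = x ∧ f0 u' = f0 u := fun x hx => by
    obtain ⟨u', rfl⟩ := hJ x (by rw [hx, hu]; exact ⟨_, rfl⟩)
    exact ⟨u', rfl, c.isOpenEmbedding.injective (by rw [← hu, ← hu, hx])⟩
  refine ⟨fun hlt => ?_, fun he => ?_⟩
  · obtain ⟨ι, i₁, ζ, g, cc, hζ, hval⟩ := hk u (by rw [hu] at hlt; exact hlt)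
    choose g' hg' using fun i => (residueFieldMap_bijective_closedImmersion J (ζ i)).2 (g i)
    refine ⟨ι, i₁, fun i => J (ζ i), g', cc, fun i => ⟨by rw [hu, hu, (hζ i).1], (hζ i).2.1, fun h0 => ?_⟩,
      fun x hx => ?_⟩
    · exact (hζ i).2.2 (by rw [← hg' i, h0, map_zero])
    · obtain ⟨u', rfl, hu'⟩ := hfib x hx
      have e := hval u' hu'
      rw [show pointFun (J u) (J u') = pointFun u u' by
        simp only [pointFun, J.isOpenEmbedding.injective.eq_iff], e]
      refine Finset.sum_congr rfl fun i _ => ?_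
      rw [divFun_openImmersion J hd (isDimFun_comp_openImmersion J hd) (ζ i) (f := g' i)
        (fun h0 => (hζ i).2.2 (by rw [← hg' i, h0, map_zero])) u', hg' i]
  · obtain ⟨hl, huniq⟩ := ho u (by rw [hu] at he; exact he)
    refine ⟨?_, fun x hx hd' => ?_⟩
    · have h1 : fibLen (f0 ≫ c) u = 1 := by
        refine fibLen_eq_one_of_map_eq _ u ((map_eq_comp f0 c u).trans ?_)
        rw [map_maximalIdeal_of_surjective (c.stalkMap (f0 u)).hom (c.stalkMap_surjective _)]
        exact fibLen_eq_one_map_eq f0 u hl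
      rw [← h] at h1
      have h2 := (map_eq_comp J f u).symm.trans (fibLen_eq_one_map_eq _ u h1)
      refine fibLen_eq_one_of_map_eq f (J u) ?_
      have hbij := ConcreteCategory.bijective_of_isIso (J.stalkMap u)
      refine (Ideal.comap_map_of_bijective _ hbij).symm.trans ?_
      rw [h2]
      exact maximalIdeal_comap (J.stalkMap u).hom
    · obtain ⟨u', rfl, hu'⟩ := hfib x hx
      rw [huniq u' hu' hd']

end transfer

end Groth.Agent.CycLib
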