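import Groth.Agent.CycLib.FibreDeg

/-!
Push-forward of locally finite sums of cycles; lifts of points with trivial residue extension.
-/

set_option autoImplicit false
set_option linter.style.haveILetI false
set_option maxHeartbeats 800000

universe u

open CategoryTheory AlgebraicGeometry IsLocalRing

namespace Groth.Agent.CycLib

variable {X Y : Scheme.{u}}

theorem exists_single_divFun [IsLocallyNoetherian X] {δ : X → ℤ} (hd : Cyc.IsDimFun X δ) (ξ : X)
    {g : X.residueField ξ} (hg : g ≠ 0) :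
    ∃ D : AlgebraicCycle X ℤ, ⇑D = Cyc.divFun δ ξ g := by
  obtain ⟨D, hD⟩ := exists_cycle_finsum_divFun hd (fun _ : PUnit.{u + 1} => ξ) (fun _ => g) (fun _ => hg)
    (fun x => ⟨Set.univ, isOpen_univ, trivial, Set.toFinite _⟩)
  exact ⟨D, funext fun x => (hD x).trans (finsum_unique _)⟩

theorem map_finsum (p : X ⟶ Y) [QuasiCompact p] {δX : X → ℤ} {δY : Y → ℤ} (D : AlgebraicCycle X ℤ)
    {ι : Type*} (Di : ι → AlgebraicCycle X ℤ) (y : Y)
    (hfin : {i | ∃ x, p x = y ∧ Di i x ≠ 0}.Finite) (hD : ∀ x, p x = y → D x = ∑ᶠ i, Di i x) :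
    AlgebraicCycle.map p δX δY D y = ∑ᶠ i, AlgebraicCycle.map p δX δY (Di i) y := by
  classical
  let S := (finite_fibre_support p D y).toFinset ∪
    hfin.toFinset.biUnion fun i => (finite_fibre_support p (Di i) y).toFinset
  have hS : ∀ i, ∀ x, p x = y → Di i x ≠ 0 → x ∈ S := fun i x h1 h2 =>
    Finset.mem_union_right _ (Finset.mem_biUnion.2
      ⟨i, hfin.mem_toFinset.2 ⟨x, h1, h2⟩, (Set.Finite.mem_toFinset _).2 ⟨h1, h2⟩⟩)
  rw [map_apply_eq_sum p δX δY D y S fun x h1 h2 =>
      Finset.mem_union_left _ ((Set.Finite.mem_toFinset _).2 ⟨h1, h2⟩),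
    finsum_eq_sum_of_support_subset _ (s := hfin.toFinset) fun i hi => ?_]
  · rw [Finset.sum_congr rfl fun x hx => by
      rw [hD x (Finset.mem_filter.1 hx).2,
        finsum_eq_sum_of_support_subset _ (s := hfin.toFinset) (fun i hi => hfin.mem_toFinset.2
          ⟨x, (Finset.mem_filter.1 hx).2, hi⟩), Finset.sum_mul], Finset.sum_comm]
    exact Finset.sum_congr rfl fun i _ => (map_apply_eq_sum p δX δY (Di i) y S (hS i)).symm
  · refine hfin.mem_toFinset.2 ?_
    by_contra hn
    refine hi ?_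
    show AlgebraicCycle.map p δX δY (Di i) y = 0
    rw [map_apply_eq_sum p δX δY (Di i) y ∅ fun x h1 h2 => absurd ⟨x, h1, h2⟩ hn]
    simp

theorem map_sub_apply (p : X ⟶ Y) [QuasiCompact p] (δX : X → ℤ) (δY : Y → ℤ) (α β : AlgebraicCycle X ℤ) (y : Y) :
    AlgebraicCycle.map p δX δY (α - β) y =
      AlgebraicCycle.map p δX δY α y - AlgebraicCycle.map p δX δY β y := by
  classical
  let S := (finite_fibre_support p α y).toFinset ∪ (finite_fibre_support p β y).toFinset
  have h1 : ∀ x, p x = y → α x ≠ 0 → x ∈ S := fun x h1 h2 =>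
    Finset.mem_union_left _ ((Set.Finite.mem_toFinset _).2 ⟨h1, h2⟩)
  have h2 : ∀ x, p x = y → β x ≠ 0 → x ∈ S := fun x h1 h2 =>
    Finset.mem_union_right _ ((Set.Finite.mem_toFinset _).2 ⟨h1, h2⟩)
  rw [map_apply_eq_sum p δX δY α y S h1, map_apply_eq_sum p δX δY β y S h2,
    map_apply_eq_sum p δX δY (α - β) y S fun x hx hne => ?_, ← Finset.sum_sub_distrib]
  · exact Finset.sum_congr rfl fun x _ => sub_mul (α x) (β x) _
  · by_contra hn
    exact hne (show α x - β x = 0 by
      rw [not_not.1 (mt (h1 x hx) hn), not_not.1 (mt (h2 x hx) hn), sub_zero])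

theorem surjective_residueFieldMap_of_lift {W : Scheme.{u}} (a : W ⟶ X) {ξ : X}
    (w0 : Spec (X.residueField ξ) ⟶ W) (h : w0 ≫ a = X.fromSpecResidueField ξ) :
    a (w0 (closedPoint (X.residueField ξ))) = ξ ∧
      Function.Surjective (a.residueFieldMap (w0 (closedPoint (X.residueField ξ)))).hom := by
  set w := w0 (closedPoint (X.residueField ξ))
  have haw : a w = ξ := by
    show (w0 ≫ a) (closedPoint (X.residueField ξ)) = ξ
    rw [h]
    exact Scheme.fromSpecResidueField_apply _ _
  refine ⟨haw, ?_⟩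
  let r := W.descResidueField (K := X.residueField ξ) (Scheme.stalkClosedPointTo w0)
  have hr : Spec.map r ≫ W.fromSpecResidueField w = w0 :=
    Scheme.descResidueField_stalkClosedPointTo_fromSpecResidueField (X.residueField ξ) _ w0
  have hra : a.residueFieldMap w ≫ r = (Scheme.residueFieldCongr haw).hom := by
    refine residueFieldCongr_unique haw _ ?_
    rw [Spec.map_comp, Category.assoc, a.SpecMap_residueFieldMap_fromSpecResidueField w,
      ← Category.assoc, hr, h]
  intro z
  obtain ⟨z', hz'⟩ := (ConcreteCategory.bijective_of_isIso (Scheme.residueFieldCongr haw).hom).2 (r z)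
  refine ⟨z', r.hom.injective ?_⟩
  rw [← hz', ← hra]
  rfl

theorem exists_section (f : X ⟶ Y) {x : X} {y : Y} (hxy : f x = y)
    (hs : Function.Surjective (f.residueFieldMap x).hom) :
    ∃ σ : Spec (Y.residueField y) ⟶ X, σ ≫ f = Y.fromSpecResidueField y ∧
      ∀ q, σ q = x := by
  subst hxy
  haveI : IsIso (f.residueFieldMap x) :=
    (ConcreteCategory.isIso_iff_bijective _).2 ⟨(f.residueFieldMap x).hom.injective, hs⟩
  refine ⟨Spec.map (inv (f.residueFieldMap x)) ≫ X.fromSpecResidueField x, ?_, fun q => ?_⟩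
  · rw [Category.assoc, ← f.SpecMap_residueFieldMap_fromSpecResidueField x, ← Category.assoc,
      ← Spec.map_comp, IsIso.hom_inv_id, Spec.map_id, Category.id_comp]
  · exact Scheme.fromSpecResidueField_apply x _

end Groth.Agent.CycLib
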