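import Groth.Agent.CycLib.ChartKills
import Groth.Agent.CycLib.RatPush

/-!
Flat pullback is surjective modulo rational equivalence when the fibres kill small cycles.
-/

set_option autoImplicit false
set_option linter.style.haveILetI false
set_option maxHeartbeats 800000

universe u

open CategoryTheory AlgebraicGeometry Classical

namespace Groth.Agent.CycLib

variable {X Y : Scheme.{u}}

theorem ordAt_inv [IsLocallyNoetherian X] {δ : X → ℤ} (hd : Cyc.IsDimFun X δ) {x ξ : X} (h : ξ ⤳ x)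
    (h1 : δ x + 1 = δ ξ) {g : X.residueField ξ} (hg : g ≠ 0) :
    Cyc.ordAt x ξ h g⁻¹ = - Cyc.ordAt x ξ h g := by
  have e := ordAt_mul hd h h1 hg (inv_ne_zero hg)
  rw [mul_inv_cancel₀ hg, ordAt_one hd h h1] at e
  omega

theorem divFun_inv [IsLocallyNoetherian X] {δ : X → ℤ} (hd : Cyc.IsDimFun X δ) {ξ : X}
    {g : X.residueField ξ} (hg : g ≠ 0) (x : X) :
    Cyc.divFun δ ξ g⁻¹ x = - Cyc.divFun δ ξ g x := by
  unfold Cyc.divFun
  split_ifs with h
  · exact ordAt_inv hd h.1 h.2 hg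
  · simp

theorem divFun_zpow [IsLocallyNoetherian X] {δ : X → ℤ} (hd : Cyc.IsDimFun X δ) {ξ : X}
    {g : X.residueField ξ} (hg : g ≠ 0) (n : ℤ) (x : X) :
    Cyc.divFun δ ξ (g ^ n) x = n * Cyc.divFun δ ξ g x := by
  obtain ⟨m, rfl | rfl⟩ := n.eq_nat_or_neg
  · rw [zpow_natCast, divFun_pow hd hg]
  · rw [zpow_neg, zpow_natCast, divFun_inv hd (pow_ne_zero _ hg), divFun_pow hd hg, neg_mul]

variable (f : X ⟶ Y) (δX : X → ℤ) (δY : Y → ℤ) (r k : ℤ)

/-- `φ` is a pullback modulo rational equivalence, everything lying over `C`. -/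
def PullGood (C : Set Y) (φ : X → ℤ) : Prop :=
  ∃ α : AlgebraicCycle Y ℤ, α ∈ Cyc.Zk Y δY k ∧ (∀ y, α y ≠ 0 → y ∈ C) ∧
    ∃ (ι : Type u) (ζ : ι → X) (g : (i : ι) → X.residueField (ζ i)),
      (∀ i, δX (ζ i) = k + r + 1 ∧ g i ≠ 0 ∧ f (ζ i) ∈ C) ∧
      (∀ x : X, ∃ U : Set X, IsOpen U ∧ x ∈ U ∧ {i | (closure {ζ i} ∩ U).Nonempty}.Finite) ∧
      ∀ x, φ x = Cyc.pullFun f δX δY r ⇑α x + ∑ᶠ i, Cyc.divFun δX (ζ i) (g i) x

theorem pullFun_sum {ι : Type*} (s : Finset ι) (φ : ι → Y → ℤ) (ψ : Y → ℤ) (x : X)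
    (h : ψ (f x) = ∑ i ∈ s, φ i (f x)) :
    Cyc.pullFun f δX δY r ψ x = ∑ i ∈ s, Cyc.pullFun f δX δY r (φ i) x := by
  simp only [Cyc.pullFun]
  split_ifs
  · rw [h, Finset.sum_mul]
  · simp

theorem pullGood_finsum {J : Type u} (C : J → Set Y) (D : Set Y) (hCD : ∀ j, C j ⊆ D)
    (hlf : ∀ y : Y, ∃ V : Set Y, IsOpen V ∧ y ∈ V ∧ {j | (C j ∩ V).Nonempty}.Finite)
    (φ : J → X → ℤ) (h : ∀ j, PullGood f δX δY r k (C j) (φ j)) :
    PullGood f δX δY r k D (fun x => ∑ᶠ j, φ j x) := by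
  choose α hαk hαC ι ζ g hζ hloc hval using h
  choose V hV hyV hVfin using hlf
  have hαV : ∀ y z j, z ∈ V y → α j z ≠ 0 → j ∈ (hVfin y).toFinset := fun y z j hz hne =>
    (Set.Finite.mem_toFinset _).2 ⟨z, hαC j z hne, hz⟩
  have hsum : ∀ y z, z ∈ V y → ∑ᶠ j, α j z = ∑ j ∈ (hVfin y).toFinset, α j z := fun y z hz =>
    finsum_eq_sum_of_support_subset _ fun j hj => hαV y z j hz hj
  let A : AlgebraicCycle Y ℤ := ⟨fun z => ∑ᶠ j, α j z, by simp, fun y _ => by
    choose t ht htfin using fun j => (α j).locallyFiniteSupport y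
    refine ⟨V y ∩ ⋂ j ∈ (hVfin y).toFinset, t j, Filter.inter_mem ((hV y).mem_nhds (hyV y))
      ((Filter.biInter_finset_mem _).2 fun j _ => ht j),
      ((hVfin y).toFinset.finite_toSet.biUnion fun j _ => htfin j).subset ?_⟩
    rintro z ⟨⟨hzV, hzt⟩, hz⟩
    rw [Function.mem_support, hsum y z hzV] at hz
    obtain ⟨j, hj, hjz⟩ := Finset.exists_ne_zero_of_sum_ne_zero hz
    exact Set.mem_biUnion hj ⟨Set.mem_iInter₂.1 hzt j hj, hjz⟩⟩
  have hA : ∀ z, A z = ∑ᶠ j, α j z := fun _ => rfl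
  refine ⟨A, fun z hz => ?_, fun z hz => ?_, Σ j, ι j, fun p => ζ p.1 p.2, fun p => g p.1 p.2,
    fun p => ⟨(hζ p.1 p.2).1, (hζ p.1 p.2).2.1, hCD _ (hζ p.1 p.2).2.2⟩, fun x => ?_, fun x => ?_⟩
  · rw [hA, finsum_eq_zero_of_forall_eq_zero]
    exact fun j => hαk j z hz
  · rw [hA] at hz
    by_contra hn
    exact hz (finsum_eq_zero_of_forall_eq_zero fun j => by
      by_contra hne
      exact hn (hCD j (hαC j z hne)))
  · choose U hU hxU hUfin using fun j => hloc j x
    refine ⟨f ⁻¹' V (f x) ∩ ⋂ j ∈ (hVfin (f x)).toFinset, U j, ((hV _).preimage f.continuous).inter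
      (isOpen_biInter_finset fun j _ => hU j), ⟨hyV _, Set.mem_iInter₂.2 fun j _ => hxU j⟩,
      ((hVfin (f x)).toFinset.sigma fun j => (hUfin j).toFinset).finite_toSet.subset ?_⟩
    rintro ⟨j, i⟩ ⟨z, hz, hzV, hzU⟩
    have hj : j ∈ (hVfin (f x)).toFinset := (Set.Finite.mem_toFinset _).2
      ⟨f (ζ j i), (hζ j i).2.2, ((specializes_iff_mem_closure.2 hz).map f.continuous).mem_open (hV _) hzV⟩
    exact Finset.mem_sigma.2 ⟨hj, (Set.Finite.mem_toFinset _).2 ⟨z, hz, Set.mem_iInter₂.1 hzU j hj⟩⟩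
  · set S := (hVfin (f x)).toFinset
    have hdiv : ∀ j i, Cyc.divFun δX (ζ j i) (g j i) x ≠ 0 → ζ j i ⤳ x := fun j i hne => by
      by_contra hn
      exact hne (dif_neg fun h => hn h.1)
    have hj : ∀ j, j ∉ S → ∀ i, Cyc.divFun δX (ζ j i) (g j i) x = 0 := fun j hj i => by
      by_contra hne
      exact hj ((Set.Finite.mem_toFinset _).2
        ⟨f (ζ j i), (hζ j i).2.2, ((hdiv j i hne).map f.continuous).mem_open (hV _) (hyV _)⟩)
    have hjα : ∀ j, j ∉ S → α j (f x) = 0 := fun j hj => by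
      by_contra hne
      exact hj (hαV _ _ j (hyV _) hne)
    choose U hU hxU hUfin using fun j => hloc j x
    have hfam : ∀ j, ∑ᶠ i, Cyc.divFun δX (ζ j i) (g j i) x =
        ∑ i ∈ (hUfin j).toFinset, Cyc.divFun δX (ζ j i) (g j i) x := fun j =>
      finsum_eq_sum_of_support_subset _ fun i hi => (Set.Finite.mem_toFinset _).2
        ⟨x, specializes_iff_mem_closure.1 (hdiv j i hi), hxU j⟩
    show ∑ᶠ j, φ j x = _ + ∑ᶠ p : Σ j, ι j, Cyc.divFun δX (ζ p.1 p.2) (g p.1 p.2) x
    rw [finsum_eq_sum_of_support_subset _ (s := S) fun j hne => ?_,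
      finsum_eq_sum_of_support_subset (fun p : Σ j, ι j => Cyc.divFun δX (ζ p.1 p.2) (g p.1 p.2) x)
        (s := S.sigma fun j => (hUfin j).toFinset) fun p hne => ?_,
      Finset.sum_sigma, pullFun_sum f δX δY r S (fun j => ⇑(α j)) ⇑A x (hsum _ _ (hyV _)), ← Finset.sum_add_distrib]
    · exact Finset.sum_congr rfl fun j _ => (hval j x).trans (by rw [hfam])
    · refine Finset.mem_sigma.2 ⟨?_, (Set.Finite.mem_toFinset _).2
        ⟨x, specializes_iff_mem_closure.1 (hdiv p.1 p.2 hne), hxU p.1⟩⟩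
      by_contra hn
      exact hne (hj p.1 hn p.2)
    · by_contra hn
      refine hne ?_
      show φ j x = 0
      rw [hval, finsum_eq_zero_of_forall_eq_zero (hj j hn), add_zero]
      simp only [Cyc.pullFun, hjα j hn]
      simp

theorem PullGood.congr {C : Set Y} {φ ψ : X → ℤ} (h : PullGood f δX δY r k C φ) (he : ∀ x, ψ x = φ x) :
    PullGood f δX δY r k C ψ := by
  obtain ⟨α, h1, h2, ι, ζ, g, h3, h4, h5⟩ := h
  exact ⟨α, h1, h2, ι, ζ, g, h3, h4, fun x => (he x).trans (h5 x)⟩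

variable [QuasiCompact f]

theorem finite_closure_meeting (R : AlgebraicCycle X ℤ) (y : Y) :
    ∃ V : Set Y, IsOpen V ∧ y ∈ V ∧
      {z : {z : X // R z ≠ 0} | (closure {f z.1} ∩ V).Nonempty}.Finite := by
  obtain ⟨V, hV, hyV, -⟩ := exists_isAffineOpen_mem_and_subset (x := y) (U := ⊤) trivial
  refine ⟨V, V.2, hyV, ((R.locallyFiniteSupport.finite_inter_support_of_isCompact
    (f.isCompact_preimage hV.isCompact)).preimage Subtype.val_injective.injOn).subset ?_⟩
  rintro z ⟨w, hw, hwV⟩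
  exact ⟨(specializes_iff_mem_closure.2 hw).mem_open V.2 hwV, z.2⟩

theorem pullGood_point [IsLocallyNoetherian X] [LocallyOfFiniteType f] (hdX : Cyc.IsDimFun X δX)
    (hdY : Cyc.IsDimFun Y δY) (hle : ∀ x, δX x ≤ δY (f x) + r)
    (hk : FibKills f δX δY r) (ho : FibOne f δX δY r) :
    ∀ (ξ : X) (n : ℤ), δX ξ = k + r → PullGood f δX δY r k (closure {f ξ}) (fun x => n * pointFun ξ x) := by
  suffices key : ∀ (m : ℕ) (ξ : X) (n : ℤ), (δY (f ξ) - k).toNat = m → δX ξ = k + r →
      PullGood f δX δY r k (closure {f ξ}) (fun x => n * pointFun ξ x) from fun ξ n => key _ ξ n rfl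
  intro m
  induction m using Nat.strong_induction_on with
  | h m ih =>
    intro ξ n hm hξ
    have hge : k ≤ δY (f ξ) := by have := hle ξ; omega
    rcases hge.lt_or_eq with hlt | heq
    · obtain ⟨ι, i₁, ζ, g, c, hζ, hval⟩ := hk ξ (by omega)
      choose Di hDi using fun i => exists_single_divFun hdX (ζ i) (zpow_ne_zero (n * c i) (hζ i).2.2)
      let R : AlgebraicCycle X ℤ := ⟨fun x => n * pointFun ξ x - ∑ i, Di i x, by simp, fun z _ => by
        choose t ht htfin using fun i => (Di i).locallyFiniteSupport z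
        refine ⟨⋂ i, t i, Filter.iInter_mem.2 ht,
          ((Set.finite_singleton ξ).union (Set.finite_iUnion htfin)).subset ?_⟩
        rintro x ⟨hx1, hx2⟩
        by_cases hxξ : x = ξ
        · exact Or.inl hxξ
        · refine Or.inr ?_
          simp only [Function.mem_support, pointFun, if_neg hxξ, mul_zero, zero_sub, neg_ne_zero] at hx2
          obtain ⟨i, -, hi⟩ := Finset.exists_ne_zero_of_sum_ne_zero hx2
          exact Set.mem_iUnion.2 ⟨i, Set.mem_iInter.1 hx1 i, hi⟩⟩
      have hRdef : ∀ x, R x = n * pointFun ξ x - ∑ i, Di i x := fun _ => rfl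
      have hDz : ∀ i x, Di i x = n * (c i * Cyc.divFun δX (ζ i) (g i) x) := fun i x => by
        rw [hDi, divFun_zpow hdX (hζ i).2.2, mul_assoc]
      have hR : ∀ x, R x ≠ 0 → f ξ ⤳ f x ∧ f x ≠ f ξ ∧ δX x = k + r := by
        intro x hx
        have h0 : f x ≠ f ξ := fun e => hx (by
          rw [hRdef, hval x e, Finset.mul_sum, sub_eq_zero]
          exact Finset.sum_congr rfl fun i _ => (hDz i x).symm)
        have hxξ : x ≠ ξ := fun e => h0 (by rw [e])
        rw [hRdef, pointFun, if_neg hxξ, mul_zero, zero_sub, neg_ne_zero] at hx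
        obtain ⟨i, -, hi⟩ := Finset.exists_ne_zero_of_sum_ne_zero hx
        have hc : ζ i ⤳ x ∧ δX x + 1 = δX (ζ i) := by
          by_contra hn
          exact hi (by rw [hDi]; exact dif_neg hn)
        exact ⟨(hζ i).1 ▸ hc.1.map f.continuous, h0, by have := (hζ i).2.1; omega⟩
      have hRgood : PullGood f δX δY r k (closure {f ξ}) ⇑R := by
        refine (pullGood_finsum f δX δY r k (J := {z : X // R z ≠ 0}) (fun z => closure {f z.1}) _
          (fun z => closure_minimal (Set.singleton_subset_iff.2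
            (specializes_iff_mem_closure.1 (hR z.1 z.2).1)) isClosed_closure)
          (finite_closure_meeting f R) (fun z x => R z.1 * pointFun z.1 x) fun z => ?_).congr f δX δY r k
          fun x => ?_
        · obtain ⟨hs, hne, hd⟩ := hR z.1 z.2
          have := (hdY _ _ hs (Ne.symm hne)).1
          exact ih _ (by omega) z.1 (R z.1) rfl hd
        · by_cases hx : R x = 0
          · rw [hx, finsum_eq_zero_of_forall_eq_zero]
            intro z
            rw [pointFun, if_neg (fun e : x = z.1 => z.2 (e ▸ hx)), mul_zero]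
          · rw [finsum_eq_single _ (⟨x, hx⟩ : {z : X // R z ≠ 0}) fun z hz => by
              rw [pointFun, if_neg (fun e : x = z.1 => hz (Subtype.ext e.symm)), mul_zero]]
            simp [pointFun]
      obtain ⟨α, hαk, hαC, ι', ζ', g', hζ', hlf', hval'⟩ := hRgood
      refine ⟨α, hαk, hαC, ι ⊕ ι', Sum.elim ζ ζ',
        fun p => match p with | .inl a => g a ^ (n * c a) | .inr a => g' a, ?_, fun x => ?_, fun x => ?_⟩
      · rintro (a | a)
        · exact ⟨by show δX (ζ a) = _; rw [(hζ a).2.1, hξ], zpow_ne_zero _ (hζ a).2.2,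
            by show f (ζ a) ∈ _; rw [(hζ a).1]; exact subset_closure rfl⟩
        · exact hζ' a
      · obtain ⟨U, hU, hxU, hfin⟩ := hlf' x
        refine ⟨U, hU, hxU, ((Set.finite_range (Sum.inl : ι → ι ⊕ ι')).union (hfin.image Sum.inr)).subset ?_⟩
        rintro (a | a) ha
        · exact Or.inl ⟨a, rfl⟩
        · exact Or.inr ⟨a, ha, rfl⟩
      · obtain ⟨U, hU, hxU, hfin⟩ := hlf' x
        have e : ∑ᶠ p : ι ⊕ ι', Cyc.divFun δX (Sum.elim ζ ζ' p)
            (match p with | .inl a => g a ^ (n * c a) | .inr a => g' a) x =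
            (∑ i, Di i x) + ∑ᶠ a, Cyc.divFun δX (ζ' a) (g' a) x := by
          have hs : ∀ a, Cyc.divFun δX (ζ' a) (g' a) x ≠ 0 → a ∈ hfin.toFinset := fun a ha => by
            refine hfin.mem_toFinset.2 ⟨x, specializes_iff_mem_closure.1 ?_, hxU⟩
            by_contra hn
            exact ha (dif_neg fun h => hn h.1)
          rw [finsum_eq_sum_of_support_subset (s := Finset.univ.disjSum hfin.toFinset) _ ?_,
            Finset.sum_disjSum, finsum_eq_sum_of_support_subset _ hs]
          · exact congrArg (· + _) (Finset.sum_congr rfl fun i _ => (congrFun (hDi i) x).symm)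
          · rintro (a | a) ha
            · exact Finset.inl_mem_disjSum.2 (Finset.mem_univ a)
            · exact Finset.inr_mem_disjSum.2 (hs a ha)
        refine Eq.trans ?_ (congrArg (Cyc.pullFun f δX δY r ⇑α x + ·) e).symm
        have h5 := hval' x
        rw [hRdef] at h5
        show n * pointFun ξ x = _
        omega
    · obtain ⟨hl, huniq⟩ := ho ξ (by omega)
      let α : AlgebraicCycle Y ℤ := ⟨fun y => n * pointFun (f ξ) y, by simp, fun y _ =>
        ⟨Set.univ, Filter.univ_mem, (Set.finite_singleton (f ξ)).subset fun z hz => by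
          by_contra hne
          exact hz.2 (show n * pointFun (f ξ) z = 0 by
            rw [pointFun, if_neg (fun e : z = f ξ => hne (Set.mem_singleton_iff.2 e)), mul_zero])⟩⟩
      refine ⟨α, fun y hy => ?_, fun y hy => ?_, PEmpty, fun i => i.elim, fun i => i.elim, fun i => i.elim,
        fun x => ⟨Set.univ, isOpen_univ, trivial, Set.toFinite _⟩, fun x => ?_⟩
      · show n * pointFun (f ξ) y = 0
        rw [pointFun, if_neg (fun e => hy (by rw [e, heq])), mul_zero]
      · by_contra hne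
        refine hy ?_
        show n * pointFun (f ξ) y = 0
        rw [pointFun, if_neg (fun e : y = f ξ => hne (specializes_iff_mem_closure.1 (e ▸ specializes_rfl))), mul_zero]
      · rw [finsum_of_isEmpty, add_zero]
        show n * pointFun ξ x = if δX x = δY (f x) + r then n * pointFun (f ξ) (f x) * (fibLen f x : ℤ) else 0
        by_cases hxξ : x = ξ
        · subst hxξ
          rw [if_pos (by omega), pointFun, pointFun, if_pos rfl, if_pos rfl, hl]
          simp
        · rw [pointFun, if_neg hxξ, mul_zero]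
          split_ifs with h1
          · rw [pointFun, if_neg (fun e => hxξ (huniq x e (by rw [h1, e]; omega))), mul_zero, zero_mul]
          · rfl

theorem exists_pull_ratEquiv [IsLocallyNoetherian X] [LocallyOfFiniteType f] (hdX : Cyc.IsDimFun X δX)
    (hdY : Cyc.IsDimFun Y δY) (hle : ∀ x, δX x ≤ δY (f x) + r)
    (hk : FibKills f δX δY r) (ho : FibOne f δX δY r) (β : AlgebraicCycle X ℤ)
    (hβ : β ∈ Cyc.Zk X δX (k + r)) :
    ∃ (α : AlgebraicCycle Y ℤ) (β' : AlgebraicCycle X ℤ), α ∈ Cyc.Zk Y δY k ∧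
      ⇑β' = Cyc.pullFun f δX δY r ⇑α ∧ Cyc.RatEquiv δX (k + r) β β' := by
  obtain ⟨α, hαk, -, ι, ζ, g, hζ, hlf, hval⟩ :=
    (pullGood_finsum f δX δY r k (J := {z : X // β z ≠ 0}) (fun z => closure {f z.1}) Set.univ
      (fun _ => Set.subset_univ _) (finite_closure_meeting f β) (fun z x => β z.1 * pointFun z.1 x)
      fun z => pullGood_point f δX δY r k hdX hdY hle hk ho z.1 (β z.1) (by
        by_contra hn; exact z.2 (hβ _ hn))).congr f δX δY r k (ψ := ⇑β) fun x => by
      by_cases hx : β x = 0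
      · rw [hx, finsum_eq_zero_of_forall_eq_zero]
        intro z
        rw [pointFun, if_neg (fun e : x = z.1 => z.2 (e ▸ hx)), mul_zero]
      · rw [finsum_eq_single _ (⟨x, hx⟩ : {z : X // β z ≠ 0}) fun z hz => by
          rw [pointFun, if_neg (fun e : x = z.1 => hz (Subtype.ext e.symm)), mul_zero]]
        simp [pointFun]
  obtain ⟨D, hD⟩ := exists_cycle_finsum_divFun hdX ζ g (fun i => (hζ i).2.1) hlf
  refine ⟨α, β - D, hαk, funext fun x => ?_, ι, ζ, g, fun i => (hζ i).1, fun i => (hζ i).2.1, hlf, fun x => ?_⟩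
  · show β x - D x = _
    rw [hval x, hD x, add_sub_cancel_right]
  · show β x - (β x - D x) = _
    rw [hD x, sub_sub_cancel]

end Groth.Agent.CycLib
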