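import Groth.Agent.CycLib.ShiftPull
import Groth.Agent.CycLib.ChartKills
import Groth.Agent.FBase.BC
import Mathlib.AlgebraicGeometry.Geometrically.Integral
import Mathlib.RingTheory.Ideal.KrullsHeightTheorem

/-!
Flat morphisms of integral schemes with integral fibres: the generic points of the fibres.
-/

set_option autoImplicit false
set_option linter.style.haveILetI false
set_option maxHeartbeats 800000

universe u

open CategoryTheory AlgebraicGeometry IsLocalRing Limits

namespace Groth.Agent.CycLib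

/-- The stalk map of a base change of a preimmersion is surjective with the expected kernel. -/
theorem ker_stalkMap_isPullback_pre {W Z X P : Scheme.{u}} {a : W ⟶ Z} {b : W ⟶ X} {i : Z ⟶ P} {s : X ⟶ P}
    [IsPreimmersion s] [IsPreimmersion a] (h : IsPullback a b i s) (w : W)
    (hsp : s (b w) ⤳ i (a w)) :
    RingHom.ker (a.stalkMap w).hom =
      ((RingHom.ker (s.stalkMap (b w)).hom).comap (P.presheaf.stalkSpecializes hsp).hom).map
        (i.stalkMap (a w)).hom := by
  set e := P.presheaf.stalkSpecializes hsp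
  set J := ((RingHom.ker (s.stalkMap (b w)).hom).comap e.hom).map (i.stalkMap (a w)).hom
  have hw : i.stalkMap (a w) ≫ a.stalkMap w = e ≫ s.stalkMap (b w) ≫ b.stalkMap w := by
    apply Spec.map_injective
    rw [← cancel_mono (P.fromSpecStalk (i (a w)))]
    simp only [Spec.map_comp, Category.assoc, e, Scheme.SpecMap_stalkSpecializes_fromSpecStalk hsp,
      Scheme.SpecMap_stalkMap_fromSpecStalk, Scheme.SpecMap_stalkMap_fromSpecStalk_assoc, h.w]
  have hge : J ≤ RingHom.ker (a.stalkMap w).hom := by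
    refine Ideal.map_le_iff_le_comap.2 fun c hc => ?_
    show a.stalkMap w (i.stalkMap (a w) c) = 0
    rw [← CommRingCat.comp_apply, hw, CommRingCat.comp_apply, CommRingCat.comp_apply,
      show s.stalkMap (b w) (e c) = 0 from hc, map_zero]
  refine le_antisymm ?_ hge
  have hJ : J ≠ ⊤ := fun hJ => (RingHom.ker_ne_top (a.stalkMap w).hom) (top_le_iff.1 (hJ ▸ hge))
  haveI : Nontrivial (Z.presheaf.stalk (a w) ⧸ J) := Ideal.Quotient.nontrivial_iff.2 hJ
  let D : CommRingCat.{u} := CommRingCat.of (Z.presheaf.stalk (a w) ⧸ J)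
  let mk : Z.presheaf.stalk (a w) ⟶ D := CommRingCat.ofHom (Ideal.Quotient.mk J)
  haveI : IsLocalRing D := IsLocalRing.of_surjective' (Ideal.Quotient.mk J) Ideal.Quotient.mk_surjective
  haveI : IsLocalHom mk.hom := isLocalHom_mk J hJ
  obtain ⟨ψ, hψ⟩ : ∃ ψ : X.presheaf.stalk (b w) ⟶ D,
      e ≫ s.stalkMap (b w) ≫ ψ = i.stalkMap (a w) ≫ mk := by
    have hs : Function.Surjective (e ≫ s.stalkMap (b w)).hom := by
      intro c
      obtain ⟨d, rfl⟩ := s.stalkMap_surjective (b w) c
      have hsp' : i (a w) ⤳ s (b w) := by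
        have e' : i (a w) = s (b w) := by
          show (a ≫ i) w = (b ≫ s) w
          rw [h.w]
        rw [e']
      refine ⟨P.presheaf.stalkSpecializes hsp' d, ?_⟩
      show s.stalkMap (b w) (e (P.presheaf.stalkSpecializes hsp' d)) = s.stalkMap (b w) d
      refine congrArg _ ?_
      show (P.presheaf.stalkSpecializes hsp' ≫ P.presheaf.stalkSpecializes hsp) d = d
      simp
    obtain ⟨φ, hφ⟩ : ∃ φ : X.presheaf.stalk (b w) →+* D,
        φ.comp (e ≫ s.stalkMap (b w)).hom = (i.stalkMap (a w) ≫ mk).hom :=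
      ⟨_, RingHom.liftOfRightInverse_comp _ _ (Function.rightInverse_surjInv hs)
        ⟨(i.stalkMap (a w) ≫ mk).hom, fun c hc => Ideal.Quotient.eq_zero_iff_mem.2 (Ideal.mem_map_of_mem _ hc)⟩⟩
    refine ⟨CommRingCat.ofHom φ, ?_⟩
    exact CommRingCat.hom_ext hφ
  have hsq : (Spec.map mk ≫ Z.fromSpecStalk (a w)) ≫ i = (Spec.map ψ ≫ X.fromSpecStalk (b w)) ≫ s := by
    simp only [Category.assoc]
    rw [← Scheme.SpecMap_stalkMap_fromSpecStalk, ← Scheme.SpecMap_stalkMap_fromSpecStalk,
      ← Spec.map_comp_assoc, ← hψ]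
    simp only [Spec.map_comp, Category.assoc, e, Scheme.SpecMap_stalkSpecializes_fromSpecStalk hsp]
  let L := h.lift _ _ hsq
  have hL : L ≫ a = Spec.map mk ≫ Z.fromSpecStalk (a w) := h.lift_fst _ _ _
  have hq : a (L (closedPoint D)) = a w := by
    show (L ≫ a) (closedPoint D) = a w
    rw [hL]
    show Z.fromSpecStalk (a w) (Spec.map mk (closedPoint D)) = a w
    rw [Spec_closedPoint]
    exact Scheme.fromSpecStalk_closedPoint
  have hqw : L (closedPoint D) = w := a.isEmbedding.injective hq
  have hqs : L (closedPoint D) ⤳ w := by rw [hqw]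
  let lam : W.presheaf.stalk w ⟶ D :=
    W.presheaf.stalkSpecializes hqs ≫ Scheme.stalkClosedPointTo L
  have hlam : a.stalkMap w ≫ lam = mk := by
    apply Spec.map_injective
    rw [← cancel_mono (Z.fromSpecStalk (a w)), ← hL]
    simp only [lam, Spec.map_comp, Category.assoc, Scheme.SpecMap_stalkMap_fromSpecStalk,
      Scheme.SpecMap_stalkSpecializes_fromSpecStalk_assoc hqs,
      Scheme.Spec_stalkClosedPointTo_fromSpecStalk_assoc]
  intro c hc
  refine Ideal.Quotient.eq_zero_iff_mem.1 ?_
  show mk c = 0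
  rw [← hlam, CommRingCat.comp_apply, show a.stalkMap w c = 0 from hc, map_zero]


variable {P X : Scheme.{u}} (p : P ⟶ X) [GeometricallyIntegral p]

/-- The generic point of a fibre. -/
noncomputable def fibPt (x : X) : P := p.fiberι x (genericPoint (p.fiber x))

theorem apply_fibPt (x : X) : p (fibPt p x) = x := by
  have h : fibPt p x ∈ Set.range (p.fiberι x) := ⟨_, rfl⟩
  rwa [p.range_fiberι x] at h

theorem fibPt_specializes (w : P) : fibPt p (p w) ⤳ w := by
  have h : w ∈ Set.range (p.fiberι (p w)) := by rw [p.range_fiberι]; rfl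
  obtain ⟨v, hv⟩ := h
  nth_rw 2 [← hv]
  exact (genericPoint_specializes v).map (p.fiberι (p w)).continuous

theorem eq_fibPt_iff (w : P) : w = fibPt p (p w) ↔ ∀ w', p w' = p w → w' ⤳ w → w' = w := by
  refine ⟨fun h w' hw hs => ?_, fun h => (h _ (apply_fibPt p _) (fibPt_specializes p w)).symm⟩
  have h1 := fibPt_specializes p w'
  rw [hw, ← h] at h1
  exact (hs.antisymm h1).eq

theorem fibPt_generic (x : X) : ∀ w', p w' = p (fibPt p x) → w' ⤳ fibPt p x → w' = fibPt p x :=
  (eq_fibPt_iff p _).1 (by rw [apply_fibPt])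

theorem comap_maximalIdeal_of_eq {Y : Scheme.{u}} {a b : Y} (e : a = b) (h : a ⤳ b) :
    (maximalIdeal (Y.presheaf.stalk a)).comap (Y.presheaf.stalkSpecializes h).hom =
      maximalIdeal (Y.presheaf.stalk b) := by
  subst e
  rw [show Y.presheaf.stalkSpecializes h = 𝟙 _ from TopCat.Presheaf.stalk_hom_ext _ fun U hU => by simp]
  exact Ideal.comap_id _

theorem map_maximalIdeal_fibPt (x : X) :
    (maximalIdeal (X.presheaf.stalk (p (fibPt p x)))).map (p.stalkMap (fibPt p x)).hom =
      maximalIdeal (P.presheaf.stalk (fibPt p x)) := by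
  set s := X.fromSpecResidueField x
  set η := genericPoint (p.fiber x)
  have hb : s (p.fiberToSpecResidueField x η) = x :=
    Scheme.fromSpecResidueField_apply x _
  have hm : s (p.fiberToSpecResidueField x η) = p (fibPt p x) := hb.trans (apply_fibPt p x).symm
  have hker : RingHom.ker ((p.fiberι x).stalkMap η).hom =
      ((RingHom.ker (s.stalkMap (p.fiberToSpecResidueField x η)).hom).comap
        (X.presheaf.stalkSpecializes (specializes_of_eq hm)).hom).map (p.stalkMap (fibPt p x)).hom :=
    ker_stalkMap_isPullback_pre (IsPullback.of_hasPullback p s) η (specializes_of_eq hm)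
  have hks : RingHom.ker (s.stalkMap (p.fiberToSpecResidueField x η)).hom = maximalIdeal _ := by
    refine IsLocalRing.eq_maximalIdeal (Ideal.Quotient.maximal_of_isField _ ?_)
    refine (RingHom.quotientKerEquivOfSurjective (s.stalkMap_surjective _)).toMulEquiv.isField ?_
    rw [show p.fiberToSpecResidueField x η = genericPoint (Spec (X.residueField x)) from Subsingleton.elim _ _]
    exact Field.toIsField (Spec (X.residueField x)).functionField
  have hF : IsField ((p.fiber x).presheaf.stalk η) := Field.toIsField (p.fiber x).functionField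
  letI := hF.toField
  have hka : RingHom.ker ((p.fiberι x).stalkMap η).hom = maximalIdeal (P.presheaf.stalk (fibPt p x)) :=
    IsLocalRing.eq_maximalIdeal (Ideal.Quotient.maximal_of_isField _
      ((RingHom.quotientKerEquivOfSurjective ((p.fiberι x).stalkMap_surjective η)).toMulEquiv.isField hF))
  rw [← hka, hker, hks]
  exact congrArg (Ideal.map _) (comap_maximalIdeal_of_eq hm _).symm

theorem fibLen_fibPt (x : X) : fibLen p (fibPt p x) = 1 :=
  fibLen_eq_one_of_map_eq p _ (map_maximalIdeal_fibPt p x)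

variable [Flat p] [IsLocallyNoetherian X] [IsLocallyNoetherian P] [IsIntegral X] [IsIntegral P]

theorem shiftBy_of_integral {δP : P → ℤ} {δX : X → ℤ} (hdP : Cyc.IsDimFun P δP) (hdX : Cyc.IsDimFun X δX) :
    ShiftBy p δP δX (δP (genericPoint P) - δX (genericPoint X)) := by
  intro w hw
  obtain ⟨n, hn, hn'⟩ := ringKrullDim_stalk hdP w
  obtain ⟨m, hm, hm'⟩ := ringKrullDim_stalk hdX (p w)
  letI := (p.stalkMap w).hom.toAlgebra
  haveI : Module.Flat (X.presheaf.stalk (p w)) (P.presheaf.stalk w) := Flat.stalkMap p w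
  haveI : (maximalIdeal (P.presheaf.stalk w)).LiesOver (maximalIdeal (X.presheaf.stalk (p w))) :=
    ⟨((((IsLocalRing.local_hom_TFAE (p.stalkMap w).hom).out 0 4 :
      IsLocalHom (p.stalkMap w).hom ↔ (maximalIdeal _).comap (p.stalkMap w).hom = maximalIdeal _)).1 inferInstance).symm⟩
  have h := Ideal.height_eq_height_add_of_liesOver_of_hasGoingDown (maximalIdeal (X.presheaf.stalk (p w)))
    (maximalIdeal (P.presheaf.stalk w))
  have hmap : (maximalIdeal (X.presheaf.stalk (p w))).map (p.stalkMap w).hom =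
      maximalIdeal (P.presheaf.stalk w) := by
    obtain ⟨x, hx⟩ : ∃ x, w = fibPt p x := ⟨_, (eq_fibPt_iff p w).2 hw⟩
    subst hx
    exact map_maximalIdeal_fibPt p x
  have h0 : ((maximalIdeal (P.presheaf.stalk w)).map (Ideal.Quotient.mk
      ((maximalIdeal (X.presheaf.stalk (p w))).map (algebraMap (X.presheaf.stalk (p w)) (P.presheaf.stalk w))))).height = 0 := by
    haveI : Nontrivial (P.presheaf.stalk w ⧸
        (maximalIdeal (X.presheaf.stalk (p w))).map (algebraMap (X.presheaf.stalk (p w)) (P.presheaf.stalk w))) :=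
      Ideal.Quotient.nontrivial_iff.2 (by
        rw [show algebraMap (X.presheaf.stalk (p w)) (P.presheaf.stalk w) = (p.stalkMap w).hom from rfl, hmap]
        exact (maximalIdeal.isMaximal _).ne_top)
    rw [show ((maximalIdeal (P.presheaf.stalk w)).map (Ideal.Quotient.mk _)) = ⊥ from
      (Ideal.map_eq_bot_iff_le_ker _).2 (by rw [Ideal.mk_ker]; exact hmap.ge)]
    refine Ideal.height_bot
  rw [h0, add_zero] at h
  have hnm : n = m := by
    have e : ringKrullDim (P.presheaf.stalk w) = ringKrullDim (X.presheaf.stalk (p w)) := by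
      rw [← IsLocalRing.maximalIdeal_height_eq_ringKrullDim, ← IsLocalRing.maximalIdeal_height_eq_ringKrullDim, h]
    rw [hn', hm'] at e
    exact_mod_cast e
  omega

variable {δP : P → ℤ} {δX : X → ℤ} {e : ℤ}

open Classical in
/-- The pullback sees only the generic points of the fibres. -/
theorem pullFun_eq_ite (hdP : Cyc.IsDimFun P δP) (hs : ShiftBy p δP δX e) (α : X → ℤ) (w : P) :
    Cyc.pullFun p δP δX e α w = if w = fibPt p (p w) then α (p w) else 0 := by
  rw [Cyc.pullFun]
  by_cases h : w = fibPt p (p w)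
  · rw [if_pos h, if_pos (hs w ((eq_fibPt_iff p w).1 h))]
    have hl : fibLen p w = 1 := by rw [h]; exact fibLen_fibPt p _
    show α (p w) * (fibLen p w : ℤ) = _
    rw [hl, Nat.cast_one, mul_one]
  · rw [if_neg h, if_neg fun hd => h ((eq_fibPt_iff p w).2 (hs.gen hdP w hd))]

theorem pullFun_divFun_fibPt (hdP : Cyc.IsDimFun P δP) (hdX : Cyc.IsDimFun X δX) (hs : ShiftBy p δP δX e)
    (v : P) (hv : v = fibPt p (p v)) {g : X.residueField (p v)} (hg : g ≠ 0) (w : P) :
    Cyc.pullFun p δP δX e (Cyc.divFun δX (p v) g) w = Cyc.divFun δP v (p.residueFieldMap v g) w := by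
  rw [pullFun_divFun_shift p hdP hdX hs (p v) g hg w]
  let ζ0 : FibGen p (p v) := ⟨v, (eq_fibPt_iff p v).1 hv, rfl⟩
  rw [finsum_eq_single _ ζ0 fun ζ hne => absurd ?_ hne]
  · rw [pullTerm, show fibLen p ζ0.1 = 1 by show fibLen p v = 1; rw [hv]; exact fibLen_fibPt p _,
      Nat.cast_one, one_mul, Scheme.residueFieldCongr_refl]
    rfl
  · obtain ⟨ζ, hζ, hζη⟩ := ζ
    refine Subtype.ext (((eq_fibPt_iff p ζ).2 hζ).trans ?_)
    rw [hζη]
    exact hv.symm

end Groth.Agent.CycLib
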