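import Groth.Agent.CycLib.DevC1
import Groth.Agent.ProjTwist.Tensor

/-!
`c₁(L) ∩ -` respects rational equivalence, and two such operations commute.
-/

set_option autoImplicit false
set_option linter.style.haveILetI false
set_option maxHeartbeats 800000

universe u

open CategoryTheory Limits AlgebraicGeometry IsLocalRing

namespace Groth.Agent.CycLib.Dev

open ModIdx Groth.Agent.PullStalk.Sky Groth.Agent.PullStalk.Exact

variable {X : Scheme.{u}} [IsLocallyNoetherian X] {δ : X → ℤ} {k : ℤ} (hd : Cyc.IsDimFun X δ) {L : X.Modules}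
  (hL : PicF.IsInvertible L)

theorem shortExact_T {S : ShortComplex X.Modules} (hS : S.ShortExact) (hL : PicF.IsInvertible L) :
    (S.map ((DCoh.tensorBi (X := X)).flip.obj L)).ShortExact :=
  ProjTwist.shortExact_tensor hL hS

omit [IsLocallyNoetherian X] in
theorem flip_map {A B : X.Modules} (g : A ⟶ B) :
    ((DCoh.tensorBi (X := X)).flip.obj L).map g = DefoShLib.T L g :=
  KoszTw.tensorBi_map_app g L

include hL in
theorem gBij_T {a : ℤ} {A B : X.Modules} {g : A ⟶ B} (hg : GBij δ a g) : GBij δ a (DefoShLib.T L g) := fun y hy => by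
  obtain ⟨b, hb⟩ := exists_isBas hL y
  have h : ⇑(stalkLin (DefoShLib.T L g) y) ∘ ⇑(mu A b) = ⇑(mu B b) ∘ ⇑(stalkLin g y) :=
    funext fun m => mu_nat L g b m
  have := (mu_bijective B hb).comp (hg y hy)
  rw [← h] at this
  exact (Function.Bijective.of_comp_iff _ (mu_bijective A hb)).1 this

include hL in
/-- Twisting commutes with the difference of cokernel and kernel. -/
theorem dmap_T (T : Cyc.K0CohQuot δ (k + 1) (k - 1) →+ Cyc.K0CohQuot δ (k + 1) (k - 1))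
    (hT : ∀ F, Cyc.CohLe δ (k + 1) F → T (cl δ k (k + 1) F) = cl δ k (k + 1) (CohB1.tensorMod F L))
    {A B : X.Modules} (hA : Cyc.CohLe δ (k + 1 + 1) A) (hB : Cyc.CohLe δ (k + 1 + 1) B) {g : A ⟶ B}
    (hg : GBij δ (k + 1 + 1) g) : dmap δ k (DefoShLib.T L g) = T (dmap δ k g) := by
  obtain ⟨hK, hC⟩ := cohLe_ker_coker g hA hB hg
  let I := Abelian.image g
  let e : A ⟶ I := Abelian.factorThruImage g
  let i : I ⟶ B := Abelian.image.ι g
  have hI : Cyc.CohLe δ (k + 1 + 1) I := cohLe_of_mono i (CohDev.isCoh_image g hA.1 hB.1.1).1 hB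
  have hfac : e ≫ i = g := Abelian.image.fac g
  have hi : GBij δ (k + 1 + 1) i := fun y hy => ⟨CohDev.stalk_injective i y, fun t => by
    obtain ⟨a, rfl⟩ := (hg y hy).2 t
    exact ⟨stalkLin e y a, by rw [← CohDev.stalkLin_comp_apply, hfac]⟩⟩
  have he : GBij δ (k + 1 + 1) e := GBij.of_comp_right (by rw [hfac]; exact hg) hi
  have key1 : dmap δ k (DefoShLib.T L i) = T (cl δ k (k + 1) (cokernel g)) := by
    let S := ShortComplex.mk i (cokernel.π g) (kernel.condition _)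
    have hS : S.ShortExact :=
      { exact := S.exact_of_f_is_kernel (kernelIsKernel _)
        mono_f := inferInstanceAs (Mono i)
        epi_g := inferInstanceAs (Epi (cokernel.π g)) }
    have hST := shortExact_T hS hL
    haveI := hST.mono_f
    haveI := hST.epi_g
    haveI : Mono (DefoShLib.T L i) := by rw [← flip_map]; exact hST.mono_f
    have e1 : cokernel ((S.map ((DCoh.tensorBi (X := X)).flip.obj L)).f) ≅ CohB1.tensorMod (cokernel g) L :=
      IsColimit.coconePointUniqueUpToIso (cokernelIsCokernel _) hST.gIsCokernel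
    rw [hT _ hC, dmap, cl_zero (cohLe_of_subsingleton
        (CohDev.isCoh_kernel _ (cohLe_tensor hL hI).1 (cohLe_tensor hL hB).1.1)
        (fun y => subsingleton_stalk_kernel _ y (CohDev.stalk_injective _ y)) _), sub_zero]
    exact cl_iso (cokernelIsoOfEq (flip_map (L := L) i).symm ≪≫ e1)
      (cohLe_ker_coker _ (cohLe_tensor hL hI) (cohLe_tensor hL hB) (gBij_T hL hi)).2
  have key2 : dmap δ k (DefoShLib.T L e) = -T (cl δ k (k + 1) (kernel g)) := by
    let S := ShortComplex.mk (kernel.ι g) e (by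
      rw [← cancel_mono i, zero_comp, Category.assoc, hfac, kernel.condition])
    have hS : S.ShortExact :=
      { exact := by
          rw [ShortComplex.exact_iff_exact_up_to_refinements]
          intro Z z hz
          refine ⟨Z, 𝟙 Z, inferInstance, kernel.lift g z ?_, ?_⟩
          · rw [← hfac, ← Category.assoc]
            exact (congrArg (· ≫ i) hz).trans zero_comp
          · rw [Category.id_comp]; exact (kernel.lift_ι _ _ _).symm
        mono_f := inferInstanceAs (Mono (kernel.ι g))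
        epi_g := inferInstanceAs (Epi e) }
    have hST := shortExact_T hS hL
    haveI := hST.mono_f
    haveI : Epi (DefoShLib.T L e) := by rw [← flip_map]; exact hST.epi_g
    have e1 : kernel ((S.map ((DCoh.tensorBi (X := X)).flip.obj L)).g) ≅ CohB1.tensorMod (kernel g) L :=
      IsLimit.conePointUniqueUpToIso (kernelIsKernel _) hST.fIsKernel
    rw [hT _ hK, dmap, cl_zero (cohLe_of_subsingleton
        (CohDev.isCoh_cokernel _ (cohLe_tensor hL hA).1.1 (cohLe_tensor hL hI).1)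
        (fun y => subsingleton_stalk_cokernel _ y (stalk_surjective _ y)) _), zero_sub, neg_inj]
    exact cl_iso (kernelIsoOfEq (flip_map (L := L) e).symm ≪≫ e1)
      (cohLe_ker_coker _ (cohLe_tensor hL hA) (cohLe_tensor hL hI) (gBij_T hL he)).1
  have hTfac : DefoShLib.T L g = DefoShLib.T L e ≫ DefoShLib.T L i := by rw [← DefoShLib.T_comp, hfac]
  rw [hTfac, dmap_comp (cohLe_tensor hL hA) (cohLe_tensor hL hI) (cohLe_tensor hL hB) (gBij_T hL he) (gBij_T hL hi),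
    key1, key2, dmap, map_sub]
  abel

/-- The identification of a module with its twist given by local generators. -/
noncomputable def gmu {a : ℤ} (σ : (ξ : X) → L.presheaf.stalk ξ) (hσ : ∀ ξ, IsBas (σ ξ)) (A : X.Modules) :
    GIso δ a A (CohB1.tensorMod A L) :=
  fun ξ _ => LinearEquiv.ofBijective (mu A (σ ξ)) (mu_bijective A (hσ ξ))

/-- The difference of a module and its twist. -/
noncomputable def jTw (δ : X → ℤ) (k : ℤ) (σ : (ξ : X) → L.presheaf.stalk ξ) (hσ : ∀ ξ, IsBas (σ ξ))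
    (A : X.Modules) : Cyc.K0CohQuot δ (k + 1) (k - 1) :=
  dgen (δ := δ) (k := k) (gmu σ hσ A)

include hd hL in
theorem jTw_nat (T : Cyc.K0CohQuot δ (k + 1) (k - 1) →+ Cyc.K0CohQuot δ (k + 1) (k - 1))
    (hT : ∀ F, Cyc.CohLe δ (k + 1) F → T (cl δ k (k + 1) F) = cl δ k (k + 1) (CohB1.tensorMod F L))
    (σ : (ξ : X) → L.presheaf.stalk ξ) (hσ : ∀ ξ, IsBas (σ ξ)) {A B : X.Modules}
    (hA : Cyc.CohLe δ (k + 1 + 1) A) (hB : Cyc.CohLe δ (k + 1 + 1) B) {g : A ⟶ B} (hg : GBij δ (k + 1 + 1) g) :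
    T (dmap δ k g) - dmap δ k g = jTw δ k σ hσ B - jTw δ k σ hσ A := by
  let θg : GIso δ (k + 1 + 1) A B := fun ξ hξ => LinearEquiv.ofBijective _ (hg ξ hξ)
  let θT : GIso δ (k + 1 + 1) (CohB1.tensorMod A L) (CohB1.tensorMod B L) :=
    fun ξ hξ => LinearEquiv.ofBijective _ (gBij_T hL hg ξ hξ)
  have hA' := cohLe_tensor hL hA
  have hB' := cohLe_tensor hL hB
  have e1 := dgen_trans hd hA hA' hB' (gmu σ hσ A) θT
  have e2 := dgen_trans hd hA hB hB' θg (gmu σ hσ B)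
  have heq : (fun ξ hξ => (gmu (δ := δ) (a := k + 1 + 1) σ hσ A ξ hξ).trans (θT ξ hξ)) =
      fun ξ hξ => (θg ξ hξ).trans (gmu σ hσ B ξ hξ) :=
    funext fun ξ => funext fun hξ => LinearEquiv.ext fun m => mu_nat L g (σ ξ) m
  rw [heq, e2, dgen_map hd hA hB g fun _ _ _ => rfl, dgen_map hd hA' hB' (DefoShLib.T L g) fun _ _ _ => rfl,
    dmap_T hL T hT hA hB hg] at e1
  change dmap δ k g + jTw δ k σ hσ B = jTw δ k σ hσ A + T (dmap δ k g) at e1
  linear_combination (norm := abel) -e1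

include hd hL in
/-- `c₁(L) ∩ -` of a principal cycle is principal. -/
theorem c1_mem_of_ratEquivZero {a : X → ℤ} (ha : IsCyc δ (k + 1) a) (h : a ∈ prin hd (k + 1))
    (s : (ξ : X) → Cyc.secFibre L ξ) (hs : ∀ ξ, s ξ ≠ 0) : Cyc.c1CapFun δ L a s ∈ prin hd k := by
  obtain ⟨α, hαk, rfl⟩ := ha.exists_cycle
  obtain ⟨A, B, p, q, hA, hB, hp, hq, hl⟩ := exists_maps_of_ratEquivZero hd α h
  choose σ hσ using exists_isBas hL
  obtain ⟨Φ, hΦ⟩ := exists_phiHom hd (k := k)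
  obtain ⟨T, hT⟩ := exists_twist_hom hd hL (fun hS => shortExact_T hS hL) k
  obtain ⟨S, hS⟩ := exists_funHom hd k
  obtain ⟨hKp, hCp⟩ := cohLe_ker_coker p hA hB hp
  obtain ⟨hKq, hCq⟩ := cohLe_ker_coker q hA hB hq
  have hSD : S (dmap δ k q - dmap δ k p) = ⇑α := by
    simp only [dmap, map_sub, hS _ hKp, hS _ hKq, hS _ hCp, hS _ hCq]
    funext y
    by_cases hy : δ y = k + 1
    · obtain ⟨hk, hl⟩ := hl y hy
      simp only [Pi.sub_apply, Cyc.sheafFun, if_pos hy, length_stalk_kernel, length_stalk_cokernel,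
        (LinearEquiv.ofEq _ _ hk).length_eq]
      omega
    · simp only [Pi.sub_apply, Cyc.sheafFun, if_neg hy, hαk y hy, sub_self]
  have hz : T (dmap δ k q - dmap δ k p) - (dmap δ k q - dmap δ k p) = 0 := by
    have e1 := jTw_nat hd hL T hT σ hσ hA hB hp
    have e2 := jTw_nat hd hL T hT σ hσ hA hB hq
    rw [map_sub]
    linear_combination (norm := abel) e2 - e1
  have := phiHom_twist hd hL Φ hΦ T hT S hS (dmap δ k q - dmap δ k p) s hs
  rw [hz, map_zero, hSD] at this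
  exact (QuotientAddGroup.eq_zero_iff _).1 this.symm

include hd hL in
/-- The class of a twist in top dimension. -/
theorem sheafFun_jTw (S : Cyc.K0CohQuot δ (k + 1) (k - 1) →+ (X → ℤ))
    (hS : ∀ F : X.Modules, Cyc.CohLe δ (k + 1) F → S (cl δ k (k + 1) F) = Cyc.sheafFun δ (k + 1) F)
    {A : X.Modules} (hA : Cyc.CohLe δ (k + 1 + 1) A) (s : (ξ : X) → Cyc.secFibre L ξ) (hs : ∀ ξ, s ξ ≠ 0)
    (σ : (ξ : X) → L.presheaf.stalk ξ) (hσ : ∀ ξ, IsBas (σ ξ)) :
    S (jTw δ k σ hσ A) - Cyc.c1CapFun δ L (Cyc.sheafFun δ (k + 1 + 1) A) s ∈ prin hd (k + 1) ∧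
      IsCyc δ (k + 1) (S (jTw δ k σ hσ A)) := by
  have hA' := cohLe_tensor hL hA
  obtain ⟨H, p, q, h⟩ := exists_isRoof hd hA hA' (gmu σ hσ A)
  obtain ⟨hKp, hCp⟩ := cohLe_ker_coker p h.coh hA h.bij
  obtain ⟨hKq, hCq⟩ := cohLe_ker_coker q h.coh hA' h.bij'
  have hj : S (jTw δ k σ hσ A) = (Cyc.sheafFun δ (k + 1) (cokernel q) - Cyc.sheafFun δ (k + 1) (kernel q)) -
      (Cyc.sheafFun δ (k + 1) (cokernel p) - Cyc.sheafFun δ (k + 1) (kernel p)) := by
    rw [jTw, dgen_eq hd hA hA' h]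
    simp only [dmap, map_sub, hS _ hKp, hS _ hKq, hS _ hCp, hS _ hCq]
  refine ⟨QuotientAddGroup.eq_iff_sub_mem.1 ?_, hj ▸ ((isCyc_sheafFun hd hCq).sub (isCyc_sheafFun hd hKq)).sub
    ((isCyc_sheafFun hd hCp).sub (isCyc_sheafFun hd hKp))⟩
  have e1 := phi_map hd p h.coh hA
  have e2 := phi_map hd q h.coh hA'
  have e3 := phi_tensor hL hd hA s hs
  rw [phi_of_le_k hd hKp, phi_of_le_k hd hCp] at e1
  rw [phi_of_le_k hd hKq, phi_of_le_k hd hCq, e3] at e2
  rw [hj]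
  simp only [QuotientAddGroup.mk_sub]
  linear_combination (norm := abel) e2 - e1

include hd hL in
/-- Twisting the twist. -/
theorem twist_jTw {N : X.Modules} (hN : PicF.IsInvertible N)
    (T : Cyc.K0CohQuot δ (k + 1) (k - 1) →+ Cyc.K0CohQuot δ (k + 1) (k - 1))
    (hT : ∀ F, Cyc.CohLe δ (k + 1) F → T (cl δ k (k + 1) F) = cl δ k (k + 1) (CohB1.tensorMod F N))
    (σ : (ξ : X) → L.presheaf.stalk ξ) (hσ : ∀ ξ, IsBas (σ ξ))
    (ν : (ξ : X) → N.presheaf.stalk ξ) (hν : ∀ ξ, IsBas (ν ξ)) {A : X.Modules} (hA : Cyc.CohLe δ (k + 1 + 1) A) :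
    T (jTw δ k σ hσ A) - jTw δ k σ hσ A = jTw δ k ν hν (CohB1.tensorMod A L) - jTw δ k ν hν A := by
  have hA' := cohLe_tensor hL hA
  obtain ⟨H, p, q, h⟩ := exists_isRoof hd hA hA' (gmu σ hσ A)
  rw [show jTw δ k σ hσ A = dmap δ k q - dmap δ k p from dgen_eq hd hA hA' h, map_sub]
  linear_combination (norm := abel) jTw_nat hd hN T hT ν hν h.coh hA' h.bij' - jTw_nat hd hN T hT ν hν h.coh hA h.bij

include hd hL in
/-- Two twists commute. -/
theorem jTw_comm {N : X.Modules} (hN : PicF.IsInvertible N) (σ : (ξ : X) → L.presheaf.stalk ξ)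
    (hσ : ∀ ξ, IsBas (σ ξ)) (ν : (ξ : X) → N.presheaf.stalk ξ) (hν : ∀ ξ, IsBas (ν ξ)) {A : X.Modules}
    (hA : Cyc.CohLe δ (k + 1 + 1) A) :
    jTw δ k σ hσ A + jTw δ k ν hν (CohB1.tensorMod A L) =
      jTw δ k ν hν A + jTw δ k σ hσ (CohB1.tensorMod A N) := by
  have hAL := cohLe_tensor hL hA
  have hAN := cohLe_tensor hN hA
  have hALN := cohLe_tensor hN hAL
  have hANL := cohLe_tensor hL hAN
  obtain ⟨f, hf⟩ := exists_twist_swap hA.1 hL hN hALN.1 hANL.1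
  let θf : GIso δ (k + 1 + 1) (CohB1.tensorMod (CohB1.tensorMod A L) N) (CohB1.tensorMod (CohB1.tensorMod A N) L) :=
    fun ξ _ => LinearEquiv.ofBijective _ (stalkLin_iso_bijective f.hom ξ)
  have e1 := dgen_trans hd hA hAL hALN (gmu σ hσ A) (gmu ν hν (CohB1.tensorMod A L))
  have e2 := dgen_trans hd hA hALN hANL
    (fun ξ hξ => (gmu (δ := δ) (a := k + 1 + 1) σ hσ A ξ hξ).trans (gmu ν hν (CohB1.tensorMod A L) ξ hξ)) θf
  have e3 := dgen_trans hd hA hAN hANL (gmu ν hν A) (gmu σ hσ (CohB1.tensorMod A N))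
  have heq : (fun ξ hξ => ((gmu (δ := δ) (a := k + 1 + 1) σ hσ A ξ hξ).trans
      (gmu ν hν (CohB1.tensorMod A L) ξ hξ)).trans (θf ξ hξ)) =
      fun ξ hξ => (gmu ν hν A ξ hξ).trans (gmu σ hσ (CohB1.tensorMod A N) ξ hξ) :=
    funext fun ξ => funext fun hξ => LinearEquiv.ext fun m => hf ξ (σ ξ) (ν ξ) m
  rw [heq, e1, e3, dgen_map hd hALN hANL f.hom fun _ _ _ => rfl, dmap_iso hALN.1 hANL.1, add_zero] at e2
  exact e2.symm

include hd hL in
theorem c1_comm_sheaf {N : X.Modules} (hN : PicF.IsInvertible N) {A : X.Modules}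
    (hA : Cyc.CohLe δ (k + 1 + 1) A) (s s' : (ξ : X) → Cyc.secFibre L ξ) (t t' : (ξ : X) → Cyc.secFibre N ξ)
    (hs : ∀ ξ, s ξ ≠ 0) (hs' : ∀ ξ, s' ξ ≠ 0) (ht : ∀ ξ, t ξ ≠ 0) (ht' : ∀ ξ, t' ξ ≠ 0) :
    Cyc.c1CapFun δ L (Cyc.c1CapFun δ N (Cyc.sheafFun δ (k + 1 + 1) A) t) s -
      Cyc.c1CapFun δ N (Cyc.c1CapFun δ L (Cyc.sheafFun δ (k + 1 + 1) A) s') t' ∈ prin hd k := by
  choose σ hσ using exists_isBas hL
  choose ν hν using exists_isBas hN
  obtain ⟨Φ, hΦ⟩ := exists_phiHom hd (k := k)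
  obtain ⟨TL, hTL⟩ := exists_twist_hom hd hL (fun hS => shortExact_T hS hL) k
  obtain ⟨TN, hTN⟩ := exists_twist_hom hd hN (fun hS => shortExact_T hS hN) k
  obtain ⟨S, hS⟩ := exists_funHom hd k
  obtain ⟨mL, cL⟩ := sheafFun_jTw hd hL S hS hA s' hs' σ hσ
  obtain ⟨mN, cN⟩ := sheafFun_jTw hd hN S hS hA t ht ν hν
  have cL' := isCyc_c1 hd hL (isCyc_sheafFun hd hA) s' hs'
  have cN' := isCyc_c1 hd hN (isCyc_sheafFun hd hA) t ht
  have eL := phiHom_twist hd hN Φ hΦ TN hTN S hS (jTw δ k σ hσ A) t' ht'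
  have eN := phiHom_twist hd hL Φ hΦ TL hTL S hS (jTw δ k ν hν A) s hs
  have hsq : TN (jTw δ k σ hσ A) - jTw δ k σ hσ A = TL (jTw δ k ν hν A) - jTw δ k ν hν A := by
    rw [twist_jTw hd hL hN TN hTN σ hσ ν hν hA, twist_jTw hd hN hL TL hTL ν hν σ hσ hA]
    linear_combination (norm := abel) jTw_comm hd hL hN σ hσ ν hν hA
  rw [hsq, eN] at eL
  have r1 := QuotientAddGroup.eq_iff_sub_mem.2
    (c1_sub cL cL' t' ▸ c1_mem_of_ratEquivZero hd hN (cL.sub cL') mL t' ht')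
  have r2 := QuotientAddGroup.eq_iff_sub_mem.2
    (c1_sub cN cN' s ▸ c1_mem_of_ratEquivZero hd hL (cN.sub cN') mN s hs)
  exact QuotientAddGroup.eq_iff_sub_mem.1 (r2.symm.trans (eL.trans r1))

include hd hL in
/-- The operations commute on cycles modulo rational equivalence. -/
theorem c1_comm {N : X.Modules} (hN : PicF.IsInvertible N) {a : X → ℤ} (ha : IsCyc δ (k + 1 + 1) a)
    (s s' : (ξ : X) → Cyc.secFibre L ξ) (t t' : (ξ : X) → Cyc.secFibre N ξ)
    (hs : ∀ ξ, s ξ ≠ 0) (hs' : ∀ ξ, s' ξ ≠ 0) (ht : ∀ ξ, t ξ ≠ 0) (ht' : ∀ ξ, t' ξ ≠ 0) :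
    Cyc.c1CapFun δ L (Cyc.c1CapFun δ N a t) s - Cyc.c1CapFun δ N (Cyc.c1CapFun δ L a s') t' ∈ prin hd k := by
  obtain ⟨α, hαk, rfl⟩ := ha.exists_cycle
  obtain ⟨h1, h2, e⟩ := cycleSheaf_spec hd α hαk
  rw [← e, c1_sub (isCyc_sheafFun hd h1) (isCyc_sheafFun hd h2) t,
    c1_sub (isCyc_sheafFun hd h1) (isCyc_sheafFun hd h2) s',
    c1_sub (isCyc_c1 hd hN (isCyc_sheafFun hd h1) t ht) (isCyc_c1 hd hN (isCyc_sheafFun hd h2) t ht) s,
    c1_sub (isCyc_c1 hd hL (isCyc_sheafFun hd h1) s' hs') (isCyc_c1 hd hL (isCyc_sheafFun hd h2) s' hs') t',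
    sub_sub_sub_comm]
  exact sub_mem (c1_comm_sheaf hd hL hN h1 s s' t t' hs hs' ht ht') (c1_comm_sheaf hd hL hN h2 s s' t t' hs hs' ht ht')

end Groth.Agent.CycLib.Dev
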