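import Groth.Agent.CycLib.DevZeroSec
import Groth.Agent.CycLib.DivRestrict
import Groth.Agent.CycLib.MapLib
import Groth.Agent.PullStalk.Basic

/-!
`c₁` and closed immersions.
-/

set_option autoImplicit false
set_option linter.style.haveILetI false
set_option maxHeartbeats 800000

universe u

open CategoryTheory Limits AlgebraicGeometry IsLocalRing

namespace Groth.Agent.CycLib.Dev

open ModIdx Groth.Agent.PullStalk.Basic Groth.Agent.PullStalk.Sky

variable {X Y : Scheme.{u}} (ι : Y ⟶ X)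

theorem sp_unit (L : X.Modules) {y η : Y} (h : η ⤳ y) (t : L.presheaf.stalk (ι y)) :
    Ref1.sp ((Scheme.Modules.pullback ι).obj L) h (unitStalkHom ι L y t) =
      unitStalkHom ι L η (Ref1.sp L (h.map ι.continuous) t) := by
  obtain ⟨U, hU, m, rfl⟩ := exists_germM_eq L (ι y) t
  rw [Ref1.sp_germ, unitStalkHom_germ, unitStalkHom_germ, Ref1.sp_germ]

theorem span_unit_top (L : X.Modules) (y : Y) :
    Submodule.span (Y.presheaf.stalk y) (Set.range (unitStalkHom ι L y)) = ⊤ := by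
  refine eq_top_iff.2 fun v _ => ?_
  by_contra hv
  have := hom_eq_of_unitStalk ι (M := L) (x := y)
    (Submodule.mkQ (Submodule.span (Y.presheaf.stalk y) (Set.range (unitStalkHom ι L y)))) 0 fun t =>
      (Submodule.Quotient.mk_eq_zero _).2 (Submodule.subset_span (Set.mem_range_self t))
  exact hv ((Submodule.Quotient.mk_eq_zero _).1 (LinearMap.congr_fun this v))

theorem isBas_unit {L : X.Modules} (hL : PicF.IsInvertible L) (hL' : PicF.IsInvertible ((Scheme.Modules.pullback ι).obj L))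
    (y : Y) {t : L.presheaf.stalk (ι y)} (ht : IsBas t) : IsBas (unitStalkHom ι L y t) := by
  refine isBas_of_span hL' ?_
  rw [eq_top_iff, ← span_unit_top ι L y]
  refine Submodule.span_le.2 ?_
  rintro _ ⟨s, rfl⟩
  obtain ⟨c, rfl⟩ := ht.2 s
  exact Submodule.mem_span_singleton.2 ⟨ι.stalkMap y c, (unitStalkHom_smul ι L y c t).symm⟩

variable [IsClosedImmersion ι]

theorem exists_unit_lift (L : X.Modules) (y : Y) (v : ((Scheme.Modules.pullback ι).obj L).presheaf.stalk y) :
    ∃ t, unitStalkHom ι L y t = v := by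
  have hv : v ∈ Submodule.span (Y.presheaf.stalk y) (Set.range (unitStalkHom ι L y)) := by
    rw [span_unit_top]; trivial
  induction hv using Submodule.span_induction with
  | mem x hx => exact hx
  | zero => exact ⟨0, map_zero _⟩
  | add a b _ _ ha hb =>
    obtain ⟨a', rfl⟩ := ha; obtain ⟨b', rfl⟩ := hb
    exact ⟨a' + b', map_add _ _ _⟩
  | smul r a _ ha =>
    obtain ⟨a', rfl⟩ := ha
    obtain ⟨r', rfl⟩ := ι.stalkMap_surjective y r
    exact ⟨r' • a', unitStalkHom_smul ι L y r' a'⟩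

theorem residueFieldMap_bijective (y : Y) : Function.Bijective (ι.residueFieldMap y).hom := by
  refine ⟨(ι.residueFieldMap y).hom.injective, fun z => ?_⟩
  obtain ⟨r, rfl⟩ := Y.residue_surjective y z
  obtain ⟨r', rfl⟩ := ι.stalkMap_surjective y r
  exact ⟨X.residue (ι y) r', congr($(Scheme.residue_residueFieldMap ι y) r')⟩

theorem isDimFun_comp_closed {δ : X → ℤ} (hd : Cyc.IsDimFun X δ) : Cyc.IsDimFun Y fun y => δ (ι y) := by
  intro x y hxy hne
  obtain ⟨h1, h2⟩ := hd (ι x) (ι y) (hxy.map ι.continuous) (ι.isClosedEmbedding.injective.ne hne)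
  refine ⟨h1, fun himm => h2 fun z hz1 hz2 => ?_⟩
  obtain ⟨w, rfl⟩ := hz1.mem_closed ι.isClosedEmbedding.isClosed_range ⟨x, rfl⟩
  rcases himm w (ι.isClosedEmbedding.isInducing.specializes_iff.1 hz1)
    (ι.isClosedEmbedding.isInducing.specializes_iff.1 hz2) with h | h
  · exact Or.inl (congrArg _ h)
  · exact Or.inr (congrArg _ h)

include ι in
theorem isLocallyNoetherian_closed [IsLocallyNoetherian X] : IsLocallyNoetherian Y :=
  LocallyOfFiniteType.isLocallyNoetherian ι

variable [IsLocallyNoetherian X] {δ : X → ℤ} (hd : Cyc.IsDimFun X δ)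

include hd in
theorem divFun_closed (η : Y) {g : X.residueField (ι η)} (hg : g ≠ 0) (y : Y) :
    Cyc.divFun δ (ι η) g (ι y) = Cyc.divFun (fun w => δ (ι w)) η ((ι.residueFieldMap η).hom g) y := by
  haveI := isLocallyNoetherian_closed ι
  have hdY := isDimFun_comp_closed ι hd
  unfold Cyc.divFun
  by_cases h : η ⤳ y ∧ δ (ι y) + 1 = δ (ι η)
  swap
  · rw [dif_neg h, dif_neg fun h' => h ⟨(ι.isClosedEmbedding.isInducing.specializes_iff).1 h'.1, h'.2⟩]
  obtain ⟨h, h1⟩ := h
  rw [dif_pos ⟨h.map ι.continuous, h1⟩, dif_pos ⟨h, h1⟩]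
  haveI := locQuot_isDomain y η h
  haveI := locQuot_isFractionRing y η h
  haveI := locQuot_isNoetherianRing y η h
  haveI := locQuot_krullDimLE_one hdY y η h h1
  haveI := locQuot_isDomain (ι y) (ι η) (h.map ι.continuous)
  haveI := locQuot_isFractionRing (ι y) (ι η) (h.map ι.continuous)
  haveI := locQuot_isNoetherianRing (ι y) (ι η) (h.map ι.continuous)
  haveI := locQuot_krullDimLE_one hd (ι y) (ι η) (h.map ι.continuous) h1
  let ψ := RingEquiv.ofBijective (ι.residueFieldMap η).hom (residueFieldMap_bijective ι η)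
  have key : ∀ c, (ι.residueFieldMap η).hom (Cyc.specMap (ι y) (ι η) (h.map ι.continuous) c) =
      Cyc.specMap y η h ((ι.stalkMap y).hom c) := fun c => residueFieldMap_specMap' ι h c
  let φ : Cyc.LocQuot (ι y) (ι η) (h.map ι.continuous) →+* Cyc.LocQuot y η h :=
    Ideal.quotientMap _ (ι.stalkMap y).hom fun c hc => by
      rw [Ideal.mem_comap, RingHom.mem_ker, ← key, RingHom.mem_ker.1 hc, map_zero]
  have hφ : Function.Bijective φ := by
    refine ⟨Ideal.quotientMap_injective' fun c hc => ?_, Ideal.quotientMap_surjective (ι.stalkMap_surjective y)⟩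
    rw [Ideal.mem_comap, RingHom.mem_ker, ← key] at hc
    exact RingHom.mem_ker.2 (ψ.injective (hc.trans (map_zero ψ).symm))
  refine (ordFrac_congr (RingEquiv.ofBijective φ hφ) ψ (fun r => ?_) hg)
  obtain ⟨c, rfl⟩ := Ideal.Quotient.mk_surjective r
  exact key c

include hd in
/-- The divisor of a rational section, computed on a closed subscheme. -/
theorem secDiv_closed {L : X.Modules} (hL : PicF.IsInvertible L)
    (hL' : PicF.IsInvertible ((Scheme.Modules.pullback ι).obj L)) (η y : Y) {σ : L.presheaf.stalk (ι η)} (hσ : IsBas σ) :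
    Cyc.secDivFun δ L (ι η) (Submodule.Quotient.mk σ) (ι y) =
      Cyc.secDivFun (fun w => δ (ι w)) ((Scheme.Modules.pullback ι).obj L) η
        (Submodule.Quotient.mk (unitStalkHom ι L η σ)) y := by
  haveI := isLocallyNoetherian_closed ι
  by_cases h : η ⤳ y ∧ δ (ι y) + 1 = δ (ι η)
  swap
  · rw [Cyc.secDivFun, dif_neg fun h' => h ⟨(ι.isClosedEmbedding.isInducing.specializes_iff).1 h'.1, h'.2⟩,
      Cyc.secDivFun, dif_neg h]
  obtain ⟨h, h1⟩ := h
  obtain ⟨t, ht⟩ := exists_isBas hL (ι y)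
  obtain ⟨c, hc⟩ := hσ.2 (Ref1.sp L (h.map ι.continuous) t)
  replace hc : c • σ = Ref1.sp L (h.map ι.continuous) t := hc
  obtain ⟨d, hd'⟩ := (isBas_sp hL (h.map ι.continuous) ht).2 σ
  replace hd' : d • Ref1.sp L (h.map ι.continuous) t = σ := hd'
  have hcu : IsUnit c := isUnit_iff_exists_inv'.2 ⟨d, hσ.1 (show (d * c) • σ = (1 : X.presheaf.stalk (ι η)) • σ by
    rw [mul_smul, hc, hd', one_smul])⟩
  rw [secDivFun_of_bas hd hL (h.map ι.continuous) rfl h1.symm hσ ht hc.symm,
    secDivFun_of_bas (isDimFun_comp_closed ι hd) hL' h rfl h1.symm (isBas_unit ι hL hL' η hσ)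
      (isBas_unit ι hL hL' y ht) (c := ι.stalkMap η c)
      ((sp_unit ι L h t).trans (by rw [← hc, unitStalkHom_smul])),
    divFun_closed ι hd η (hcu.map (X.residue (ι η)).hom).ne_zero y]
  congr 2

theorem subschemeFun_apply (k : ℤ) (η : Y) : Cyc.subschemeFun δ (k + 1) ι (ι η) =
    if δ (ι η) = k + 1 then ((Module.length (Y.presheaf.stalk η) (Y.presheaf.stalk η)).toNat : ℤ) else 0 := by
  rw [Cyc.subschemeFun]
  refine if_congr Iff.rfl ?_ rfl
  rw [show {z : Y | ι z = ι η} = {η} from Set.ext fun z => ι.isClosedEmbedding.injective.eq_iff, finsum_mem_singleton]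

theorem map_closed_apply (α : AlgebraicCycle Y ℤ) (y : Y) :
    AlgebraicCycle.map ι (fun w => δ (ι w)) δ α (ι y) = α y := by
  classical
  rw [map_apply_eq_sum ι (fun w => δ (ι w)) δ α (ι y) {y} fun x hx _ =>
    Finset.mem_singleton.2 (ι.isClosedEmbedding.injective hx)]
  rw [Finset.filter_singleton, if_pos rfl, Finset.sum_singleton, AlgebraicCycle.mapCoeff, if_pos rfl,
    residueDegree_eq_one ι y (residueFieldMap_bijective ι y).2]
  simp

theorem map_closed_apply_of_notMem (α : AlgebraicCycle Y ℤ) {x : X} (hx : x ∉ Set.range ι) :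
    AlgebraicCycle.map ι (fun w => δ (ι w)) δ α x = 0 := by
  classical
  rw [map_apply_eq_sum ι (fun w => δ (ι w)) δ α x ∅ fun y hy _ => absurd ⟨y, hy⟩ hx]
  simp

include hd in
/-- `c₁(L) ∩ [Y]` is the push-forward of the zero cycle of a section of `ι^* L`. -/
theorem c1_closed {L : X.Modules} (hL : PicF.IsInvertible L)
    (hL' : PicF.IsInvertible ((Scheme.Modules.pullback ι).obj L)) (k : ℤ) (hY : ∀ y : Y, δ (ι y) ≤ k + 1)
    (s : ((Scheme.Modules.pullback ι).obj L).presheaf.obj (Opposite.op ⊤))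
    (hZ : ∀ y : Y, δ (ι y) = k + 1 → (Submodule.Quotient.mk ((((Scheme.Modules.pullback ι).obj L).presheaf.germ ⊤ y trivial) s) :
      Cyc.secFibre ((Scheme.Modules.pullback ι).obj L) y) ≠ 0)
    (hreg : ∀ y : Y, δ (ι y) = k → Function.Injective (fun a : Y.presheaf.stalk y =>
      a • (((Scheme.Modules.pullback ι).obj L).presheaf.germ ⊤ y trivial) s))
    (v : (ξ : X) → Cyc.secFibre L ξ) (hv : ∀ ξ, v ξ ≠ 0) (ζ : AlgebraicCycle Y ℤ)
    (hζ : ⇑ζ = Cyc.zeroSectionFun (fun y => δ (ι y)) k ((Scheme.Modules.pullback ι).obj L) s) :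
    ∃ w : (ξ : X) → Cyc.secFibre L ξ, (∀ ξ, w ξ ≠ 0) ∧
      ⇑(AlgebraicCycle.map ι (fun y => δ (ι y)) δ ζ) = Cyc.c1CapFun δ L (Cyc.subschemeFun δ (k + 1) ι) w := by
  classical
  haveI := isLocallyNoetherian_closed ι
  have hdY := isDimFun_comp_closed ι hd
  have lift : ∀ η : Y, δ (ι η) = k + 1 → ∃ σ : L.presheaf.stalk (ι η), IsBas σ ∧
      unitStalkHom ι L η σ = (((Scheme.Modules.pullback ι).obj L).presheaf.germ ⊤ η trivial) s := by
    intro η hη
    obtain ⟨σ, hσ⟩ := exists_unit_lift ι L η ((((Scheme.Modules.pullback ι).obj L).presheaf.germ ⊤ η trivial) s)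
    obtain ⟨b, hb⟩ := exists_isBas hL (ι η)
    obtain ⟨c, rfl⟩ := hb.2 σ
    refine ⟨_, isBas_smul hb ?_, hσ⟩
    by_contra hc
    refine hZ η hη ((Submodule.Quotient.mk_eq_zero _).2 ?_)
    rw [← hσ]
    show unitStalkHom ι L η (c • b) ∈ _
    rw [unitStalkHom_smul]
    exact Submodule.smul_mem_smul (map_nonunit (ι.stalkMap η).hom c hc) Submodule.mem_top
  choose σ hσ hσs using lift
  have hpt : ∀ {η η' : Y}, ι η = ι η' → η = η' := fun e => ι.isClosedEmbedding.injective e
  let w : (ξ : X) → Cyc.secFibre L ξ := fun ξ =>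
    if h : ∃ η : Y, δ (ι η) = k + 1 ∧ ι η = ξ then h.choose_spec.2 ▸ Submodule.Quotient.mk (σ h.choose h.choose_spec.1)
    else v ξ
  have hw : ∀ (η : Y) (hη : δ (ι η) = k + 1), w (ι η) = Submodule.Quotient.mk (σ η hη) := by
    intro η hη
    have h : ∃ η' : Y, δ (ι η') = k + 1 ∧ ι η' = ι η := ⟨η, hη, rfl⟩
    simp only [w, dif_pos h]
    have key : ∀ (η' : Y) (h1 : δ (ι η') = k + 1) (e : ι η' = ι η),
        e ▸ (Submodule.Quotient.mk (σ η' h1) : Cyc.secFibre L (ι η')) = Submodule.Quotient.mk (σ η hη) := by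
      intro η' h1 e
      obtain rfl := hpt e
      rfl
    exact key _ _ _
  refine ⟨w, fun ξ => ?_, funext fun x => ?_⟩
  · by_cases h : ∃ η : Y, δ (ι η) = k + 1 ∧ ι η = ξ
    · obtain ⟨η, hη, rfl⟩ := h
      rw [hw η hη]
      obtain ⟨-, hne⟩ : IsBas (σ η hη) ∧ (Submodule.Quotient.mk (σ η hη) : Cyc.secFibre L (ι η)) ≠ 0 := by
        refine ⟨hσ η hη, fun h0 => hZ η hη ?_⟩
        rw [← hσs η hη, Submodule.Quotient.mk_eq_zero]
        rw [Submodule.Quotient.mk_eq_zero] at h0
        refine Submodule.smul_induction_on h0 (fun r hr n _ => ?_) fun a b ha hb => by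
          rw [map_add]; exact add_mem ha hb
        rw [unitStalkHom_smul]
        exact Submodule.smul_mem_smul (map_nonunit (ι.stalkMap η).hom r hr) Submodule.mem_top
      exact hne
    · simp only [w, dif_neg h]
      exact hv ξ
  by_cases hx : x ∈ Set.range ι
  swap
  · rw [map_closed_apply_of_notMem ι ζ hx, Cyc.c1CapFun]
    refine (finsum_eq_zero_of_forall_eq_zero fun ξ => ?_).symm
    by_contra h
    obtain ⟨ha, hs⟩ := mul_ne_zero_iff.1 h
    have hξ : ξ ∈ Set.range ι := by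
      by_contra hξ
      apply ha
      rw [Cyc.subschemeFun]
      split_ifs
      · exact finsum_eq_zero_of_forall_eq_zero fun z => by
          rw [show {z : Y | ι z = ξ} = ∅ from Set.eq_empty_of_forall_notMem fun z hz => hξ ⟨z, hz⟩]
          simp
      · rfl
    exact hx ((secDivFun_ne_zero hs).1.mem_closed ι.isClosedEmbedding.isClosed_range hξ)
  obtain ⟨y, rfl⟩ := hx
  rw [map_closed_apply, hζ, zeroSection_eq_c1 hdY hL' hY s hreg, Cyc.c1CapFun, Cyc.c1CapFun]
  rw [← finsum_mem_univ (fun ξ : X => Cyc.subschemeFun δ (k + 1) ι ξ * Cyc.secDivFun δ L ξ (w ξ) (ι y))]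
  have e2 := finsum_mem_range (f := fun ξ : X => Cyc.subschemeFun δ (k + 1) ι ξ * Cyc.secDivFun δ L ξ (w ξ) (ι y))
    ι.isClosedEmbedding.injective
  rw [show (∑ᶠ ξ ∈ (Set.univ : Set X), Cyc.subschemeFun δ (k + 1) ι ξ * Cyc.secDivFun δ L ξ (w ξ) (ι y)) =
    ∑ᶠ ξ ∈ Set.range ι, Cyc.subschemeFun δ (k + 1) ι ξ * Cyc.secDivFun δ L ξ (w ξ) (ι y) from
      finsum_mem_inter_support_eq' _ _ _ fun ξ hξ => iff_of_true trivial ?_, e2]
  · refine finsum_congr fun η => ?_
    rw [subschemeFun_id, subschemeFun_apply]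
    by_cases hη : δ (ι η) = k + 1
    · simp only [if_pos hη]
      rw [hw η hη, secDiv_closed ι hd hL hL' η y (hσ η hη), hσs]
    · simp only [if_neg hη, zero_mul]
  · by_contra hξ'
    apply hξ
    show Cyc.subschemeFun δ (k + 1) ι ξ * _ = 0
    rw [Cyc.subschemeFun]
    split_ifs
    · rw [show {z : Y | ι z = ξ} = ∅ from Set.eq_empty_of_forall_notMem fun z hz => hξ' ⟨z, hz⟩]
      simp
    · simp

end Groth.Agent.CycLib.Dev
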