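import Groth.Agent.CycLib.DevChange
import Groth.Agent.CycLib.DivRestrict
import Groth.Agent.CycLib.FibreDeg
import Groth.Prelude.Def_ChowOps
import Mathlib.AlgebraicGeometry.ValuativeCriterion
import Mathlib.AlgebraicGeometry.Morphisms.FiniteType

/-!
Rational equivalence on a disjoint union, and morphisms out of disjoint unions.
-/

set_option autoImplicit false
set_option linter.style.haveILetI false

universe u

open CategoryTheory CategoryTheory.Limits AlgebraicGeometry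

namespace Groth.Agent.CycLib.Clopen

open CycLib.Dev

variable {Z : Scheme.{u}} [IsLocallyNoetherian Z] {δ : Z → ℤ}

/-- A cycle is trivial in the Chow group iff it is rationally equivalent to zero. -/
theorem cl_eq_zero_iff (hd : Cyc.IsDimFun Z δ) {k : ℤ} (α : AlgebraicCycle Z ℤ) (hα : α ∈ Cyc.Zk Z δ k) :
    ChowOps.cl α hα = 0 ↔ (⇑α : Z → ℤ) ∈ prin hd k := by
  let F : ↥(ChowOps.zk Z δ k) →+ (Z → ℤ) := ⟨⟨fun a => ⇑a.1, rfl⟩, fun _ _ => rfl⟩
  have hle : ChowOps.ratTriv Z δ k ≤ (prin hd k).comap F :=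
    (AddSubgroup.closure_le _).2 fun a ha => (ratEquivZero_iff hd k a.1).1 ha
  exact ⟨fun h => hle ((QuotientAddGroup.eq_zero_iff _).1 h),
    fun h => (QuotientAddGroup.eq_zero_iff _).2 (AddSubgroup.subset_closure h)⟩


/-- Restriction to an open subscheme of a sum of principal divisors. -/
theorem restrict_mem_prin {A : Scheme.{u}} (j : A ⟶ Z) [IsOpenImmersion j] (hd : Cyc.IsDimFun Z δ) {k : ℤ}
    {φ : Z → ℤ} (hφ : φ ∈ prin hd k) [IsLocallyNoetherian A] :
    (fun w => φ (j w)) ∈ prin (isDimFun_comp_openImmersion j hd) k := by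
  classical
  obtain ⟨ι, ξ, f, h1, h2, h3, h4⟩ := hφ
  let ι' := {a : ι // ξ a ∈ Set.range j}
  let η : ι' → A := fun a => a.2.choose
  have hη : ∀ a : ι', j (η a) = ξ a.1 := fun a => a.2.choose_spec
  have htr : ∀ (a : ι'), ∃ g : Z.residueField (j (η a)), g ≠ 0 ∧
      ∀ x, Cyc.divFun δ (j (η a)) g x = Cyc.divFun δ (ξ a.1) (f a.1) x := by
    intro a
    have : ∀ y (_ : y = ξ a.1), ∃ g : Z.residueField y, g ≠ 0 ∧
        ∀ x, Cyc.divFun δ y g x = Cyc.divFun δ (ξ a.1) (f a.1) x := by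
      rintro y rfl
      exact ⟨f a.1, h2 a.1, fun _ => rfl⟩
    exact this _ (hη a)
  choose g hg hgd using htr
  refine ⟨ι', η, fun a => (j.residueFieldMap (η a)).hom (g a), fun a => (congrArg δ (hη a)).trans (h1 a.1),
    fun a => fun h => hg a ((j.residueFieldMap (η a)).hom.injective (h.trans (map_zero _).symm)), fun x => ?_,
    fun x => ?_⟩
  · obtain ⟨U, hU, hx, hfin⟩ := h3 (j x)
    refine ⟨j ⁻¹' U, hU.preimage j.continuous, hx, (hfin.preimage Subtype.val_injective.injOn).subset ?_⟩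
    rintro a ⟨v, hv, hvU⟩
    exact ⟨j v, specializes_iff_mem_closure.1 (hη a ▸ (specializes_iff_mem_closure.2 hv).map j.continuous), hvU⟩
  · show φ (j x) = _
    rw [h4 (j x)]
    let F : ι → ℤ := fun a => Cyc.divFun δ (ξ a) (f a) (j x)
    have hsup : ∀ a, F a ≠ 0 → ξ a ∈ Set.range j := fun a ha => by
      by_contra hn
      exact ha (dif_neg fun h => hn (h.1.mem_open j.isOpenEmbedding.isOpen_range ⟨x, rfl⟩))
    show ∑ᶠ a, F a = _
    rw [← finsum_mem_univ F, finsum_mem_inter_support_eq F Set.univ (Set.range (Subtype.val : ι' → ι))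
      (Set.ext fun a => ⟨fun h => ⟨⟨⟨a, hsup a h.2⟩, rfl⟩, h.2⟩, fun h => ⟨trivial, h.2⟩⟩),
      finsum_mem_range Subtype.val_injective]
    refine finsum_congr fun a => ?_
    show Cyc.divFun δ (ξ a.1) (f a.1) (j x) = _
    rw [← hgd a, divFun_openImmersion j hd (isDimFun_comp_openImmersion j hd) (η a) (hg a) x]

omit [IsLocallyNoetherian Z] in
theorem prin_congr {A : Scheme.{u}} [IsLocallyNoetherian A] {δ₁ δ₂ : A → ℤ} {k₁ k₂ : ℤ} (h₁ : Cyc.IsDimFun A δ₁)
    (h₂ : Cyc.IsDimFun A δ₂) (eδ : δ₁ = δ₂) (ek : k₁ = k₂) {φ : A → ℤ} (hφ : φ ∈ prin h₁ k₁) :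
    φ ∈ prin h₂ k₂ := by
  subst eδ; subst ek; exact hφ

variable {I : Type u} {W : I → Scheme.{u}} (e : ∀ i, W i ⟶ Z) [∀ i, IsOpenImmersion (e i)]

/-- Being a sum of principal divisors can be checked on the pieces of a disjoint open cover. -/
theorem mem_prin_of_pieces (hdis : ∀ i j x y, e i x = e j y → i = j) (hcov : ∀ z, ∃ i w, e i w = z)
    (hd : Cyc.IsDimFun Z δ) {k : ℤ} (φ : Z → ℤ)
    (hφ : ∀ i, ∃ (ι : Type u) (ξ : ι → W i) (f : (a : ι) → (W i).residueField (ξ a)),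
      (∀ a, δ (e i (ξ a)) = k + 1) ∧ (∀ a, f a ≠ 0) ∧
      (∀ x : W i, ∃ U : Set (W i), IsOpen U ∧ x ∈ U ∧ {a | (closure {ξ a} ∩ U).Nonempty}.Finite) ∧
      ∀ x : W i, φ (e i x) = ∑ᶠ a, Cyc.divFun (fun w => δ (e i w)) (ξ a) (f a) x) :
    φ ∈ prin hd k := by
  classical
  choose ι ξ f h1 h2 h3 h4 using hφ
  choose g hg using fun (p : Σ i, ι i) =>
    (ConcreteCategory.bijective_of_isIso ((e p.1).residueFieldMap (ξ p.1 p.2))).2 (f p.1 p.2)
  have hg0 : ∀ p, g p ≠ 0 := fun p h => h2 p.1 p.2 (by rw [← hg p, h]; exact map_zero _)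
  have hspec : ∀ (i j : I) (a : W j) (b : W i), e j a ⤳ e i b → j = i := by
    intro i j a b h
    obtain ⟨c, hc⟩ := h.mem_open (e i).isOpenEmbedding.isOpen_range ⟨b, rfl⟩
    exact (hdis i j c a hc).symm
  refine ⟨Σ i, ι i, fun p => e p.1 (ξ p.1 p.2), g, fun p => h1 p.1 p.2, hg0, fun z => ?_, fun z => ?_⟩
  · obtain ⟨i, w, rfl⟩ := hcov z
    obtain ⟨U, hU, hw, hfin⟩ := h3 i w
    refine ⟨e i '' U, (e i).isOpenEmbedding.isOpenMap U hU, ⟨w, hw, rfl⟩, (hfin.image (Sigma.mk i)).subset ?_⟩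
    rintro ⟨j, a⟩ ⟨y, hy, v, hv, rfl⟩
    have hs : e j (ξ j a) ⤳ e i v := specializes_iff_mem_closure.2 hy
    obtain rfl := hspec i j _ _ hs
    exact ⟨a, ⟨v, specializes_iff_mem_closure.1 ((e j).isOpenEmbedding.isInducing.specializes_iff.1 hs), hv⟩, rfl⟩
  · obtain ⟨i, w, rfl⟩ := hcov z
    rw [h4 i w]
    let F : (Σ i, ι i) → ℤ := fun p => Cyc.divFun δ (e p.1 (ξ p.1 p.2)) (g p) (e i w)
    have hsup : ∀ p, F p ≠ 0 → p ∈ Set.range (Sigma.mk i) := by
      rintro ⟨j, a⟩ hp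
      by_cases hs : e j (ξ j a) ⤳ e i w
      · obtain rfl := hspec i j _ _ hs
        exact ⟨a, rfl⟩
      · exact absurd (dif_neg fun h => hs h.1) hp
    show _ = ∑ᶠ p, F p
    rw [← finsum_mem_univ F, finsum_mem_inter_support_eq F Set.univ (Set.range (Sigma.mk i))
      (Set.ext fun p => ⟨fun h => ⟨hsup p h.2, h.2⟩, fun h => ⟨trivial, h.2⟩⟩),
      finsum_mem_range sigma_mk_injective]
    refine finsum_congr fun a => ?_
    show _ = Cyc.divFun δ (e i (ξ i a)) (g ⟨i, a⟩) (e i w)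
    rw [divFun_openImmersion (e i) hd (isDimFun_comp_openImmersion (e i) hd) (ξ i a) (hg0 ⟨i, a⟩) w]
    exact congrArg (fun t => Cyc.divFun (fun w => δ (e i w)) (ξ i a) t w) (hg ⟨i, a⟩).symm

end Groth.Agent.CycLib.Clopen

namespace Groth.Agent.CycLib.Clopen

variable {V Y : Scheme.{u}} {I : Type u} {W : I → Scheme.{u}} (e : ∀ i, W i ⟶ V)
  [∀ i, IsOpenImmersion (e i)] (h : V ⟶ Y)

set_option backward.isDefEq.respectTransparency false in
/-- A morphism out of a disjoint union of proper pieces with locally finite images is proper. -/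
theorem isProper_of_pieces [IsLocallyNoetherian Y] (hdis : ∀ i j x y, e i x = e j y → i = j)
    (hcov : ∀ z, ∃ i w, e i w = z) (hP : ∀ i, IsProper (e i ≫ h))
    (hlf : ∀ y : Y, ∃ U : Set Y, IsOpen U ∧ y ∈ U ∧ {i | ∃ w, h (e i w) ∈ U}.Finite) : IsProper h := by
  classical
  haveI : LocallyOfFiniteType h := IsZariskiLocalAtSource.of_openCover (P := @LocallyOfFiniteType)
    (Scheme.Cover.mkOfCovers (P := @IsOpenImmersion) I W e hcov (fun i => inferInstance)) fun i => by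
      haveI := hP i
      show LocallyOfFiniteType (e i ≫ h)
      infer_instance
  haveI : IsLocallyNoetherian V := LocallyOfFiniteType.isLocallyNoetherian h
  haveI : QuasiCompact h := ⟨fun K hKo hK => by
    choose U hUo hyU hfin using hlf
    obtain ⟨t, ht⟩ := hK.elim_finite_subcover U hUo fun y _ => Set.mem_iUnion.2 ⟨y, hyU y⟩
    let F := t.biUnion fun y => (hfin y).toFinset
    have hpre : h ⁻¹' K = ⋃ i ∈ F, e i '' ((e i ≫ h) ⁻¹' K) := by
      ext v
      obtain ⟨i, w, rfl⟩ := hcov v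
      simp only [Set.mem_iUnion, Set.mem_image, Set.mem_preimage, exists_prop]
      refine ⟨fun hv => ⟨i, ?_, w, hv, rfl⟩, fun ⟨j, _, a, ha, hea⟩ => ?_⟩
      · obtain ⟨y, hy, hwy⟩ := Set.mem_iUnion₂.1 (ht hv)
        exact Finset.mem_biUnion.2 ⟨y, hy, (hfin y).mem_toFinset.2 ⟨w, hwy⟩⟩
      · rw [← hea]; exact ha
    show IsCompact (h ⁻¹' K)
    rw [hpre]
    refine F.finite_toSet.isCompact_biUnion fun i _ => ?_
    haveI := hP i
    exact ((e i ≫ h).isCompact_preimage (U := ⟨K, hKo⟩) hK).image (e i).continuous⟩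
  refine IsProper.of_valuativeCriterion h fun S => ?_
  let pt : Spec (.of S.K) := IsLocalRing.closedPoint S.K
  obtain ⟨i, w₀, hw₀⟩ := hcov (S.i₁ pt)
  have hr : Set.range S.i₁ ⊆ Set.range (e i) := by
    rintro _ ⟨z, rfl⟩
    rw [Subsingleton.elim z pt, ← hw₀]
    exact ⟨w₀, rfl⟩
  let j := Spec.map (CommRingCat.ofHom (algebraMap S.R S.K))
  let l₁ := IsOpenImmersion.lift (e i) S.i₁ hr
  have hl₁ : l₁ ≫ e i = S.i₁ := IsOpenImmersion.lift_fac _ _ _
  let S' : ValuativeCommSq (e i ≫ h) := ⟨S.R, S.K, l₁, S.i₂, ⟨by rw [← Category.assoc, hl₁]; exact S.commSq.w⟩⟩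
  haveI := hP i
  have hvc : ValuativeCriterion (e i ≫ h) := by
    have := hP i
    rw [IsProper.eq_valuativeCriterion] at this
    exact this.1.1.1
  obtain ⟨u⟩ := hvc S'
  let d := u.default
  refine ⟨{ default := ⟨d.l ≫ e i, ?_, ?_⟩, uniq := fun a => ?_ }⟩
  · rw [← Category.assoc]
    exact (congrArg (· ≫ e i) d.fac_left).trans hl₁
  · rw [Category.assoc]; exact d.fac_right
  · have hall : Set.range a.l ⊆ Set.range (e i) := by
      obtain ⟨i', w', hw'⟩ := hcov (a.l (IsLocalRing.closedPoint S.R))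
      have hin : ∀ z, a.l z ∈ Set.range (e i') := fun z =>
        ((IsLocalRing.specializes_closedPoint z).map a.l.continuous).mem_open
          (e i').isOpenEmbedding.isOpen_range ⟨w', hw'⟩
      obtain ⟨c, hc⟩ := hin (j pt)
      have : i' = i := hdis i' i c w₀ (by
        rw [hc, hw₀, ← Scheme.Hom.comp_apply]; exact congrArg (fun q : Spec (.of S.K) ⟶ V => q pt) a.fac_left)
      subst this
      rintro _ ⟨z, rfl⟩
      exact hin z
    let m := IsOpenImmersion.lift (e i) a.l hall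
    have hm : m ≫ e i = a.l := IsOpenImmersion.lift_fac _ _ _
    let a' : S'.commSq.LiftStruct := ⟨m, by
      rw [← cancel_mono (e i), Category.assoc, hm, a.fac_left]
      exact hl₁.symm, by rw [← Category.assoc, hm]; exact a.fac_right⟩
    ext
    show a.l = d.l ≫ e i
    rw [← hm]
    exact congrArg (fun t : S'.commSq.LiftStruct => t.l ≫ e i) (u.uniq a')

/-- An open immersion has relative dimension zero. -/
theorem hasRelDim_openImmersion {A B : Scheme.{u}} (j : A ⟶ B) [IsOpenImmersion j] : Cyc.HasRelDim j 0 := by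
  intro y T hT
  haveI : Subsingleton ↥(j.fiber y) := by
    have := (j.fiberHomeo y).toEquiv.subsingleton_congr
    refine this.2 ⟨fun a b => Subtype.ext (j.isOpenEmbedding.injective ?_)⟩
    exact (Set.mem_singleton_iff.1 a.2).trans (Set.mem_singleton_iff.1 b.2).symm
  obtain ⟨x, hx⟩ := hT.1.nonempty
  haveI : Nonempty T := ⟨⟨x, hx⟩⟩
  haveI : DiscreteTopology T := inferInstance
  haveI : Nonempty (TopologicalSpace.IrreducibleCloseds T) :=
    ⟨⟨{⟨x, hx⟩}, isIrreducible_singleton, isClosed_singleton⟩⟩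
  exact le_antisymm ((topologicalKrullDim_zero_of_discreteTopology T).trans_eq Nat.cast_zero.symm)
    (Nat.cast_zero.trans_le (Order.krullDim_nonneg (α := TopologicalSpace.IrreducibleCloseds T)))

end Groth.Agent.CycLib.Clopen

namespace Groth.Agent.CycLib.Clopen

theorem map_max_of_bijective {R S : Type u} [CommRing R] [CommRing S] [IsLocalRing R] [IsLocalRing S] (φ : R →+* S)
    (h : Function.Bijective φ) : (IsLocalRing.maximalIdeal R).map φ = IsLocalRing.maximalIdeal S := by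
  let e := RingEquiv.ofBijective φ h
  have hu : ∀ a, IsUnit (φ a) ↔ IsUnit a := fun a => ⟨fun hh => by
    have := hh.map e.symm
    rwa [show e.symm (φ a) = a from e.symm_apply_apply a] at this, fun hh => hh.map φ⟩
  refine le_antisymm (Ideal.map_le_iff_le_comap.2 fun a ha => ?_) fun b hb => ?_
  · rw [Ideal.mem_comap, IsLocalRing.mem_maximalIdeal, mem_nonunits_iff, hu]
    exact ha
  · obtain ⟨a, rfl⟩ := h.2 b
    rw [IsLocalRing.mem_maximalIdeal, mem_nonunits_iff, hu] at hb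
    exact Ideal.mem_map_of_mem φ hb

theorem deltaCompat_unique {X Y : Scheme.{u}} {f : X ⟶ Y} {δ₁ δ₂ : X → ℤ} {δY : Y → ℤ}
    (h₁ : Cyc.DeltaCompat f δ₁ δY) (h₂ : Cyc.DeltaCompat f δ₂ δY) : δ₁ = δ₂ := funext fun x => by
  obtain ⟨n, hn, hn'⟩ := h₁ x
  obtain ⟨m, hm, hm'⟩ := h₂ x
  have : n = m := Nat.cast_injective (R := Cardinal) (hn.symm.trans hm)
  omega

theorem pullFun_of_isOpenImmersion {X Y : Scheme.{u}} (f : X ⟶ Y) [IsOpenImmersion f] {δX : X → ℤ} {δY : Y → ℤ}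
    (h : ∀ x, δX x = δY (f x)) (a : Y → ℤ) (x : X) : Cyc.pullFun f δX δY 0 a x = a (f x) := by
  rw [Cyc.pullFun, if_pos (by rw [h, add_zero]), map_max_of_bijective _
    (ConcreteCategory.bijective_of_isIso (f.stalkMap x))]
  haveI : IsSimpleModule (X.presheaf.stalk x) (X.presheaf.stalk x ⧸ IsLocalRing.maximalIdeal (X.presheaf.stalk x)) :=
    isSimpleModule_iff_isCoatom.2 Ideal.IsMaximal.out
  rw [Module.length_eq_one_iff.2 inferInstance]
  simp

end Groth.Agent.CycLib.Clopen
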