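import Groth.Agent.CycLib.TrdegStrict
import Groth.Agent.CycLib.ProperFinite
import Mathlib.AlgebraicGeometry.FunctionField

/-!
Fibres over codimension one points of a generically finite morphism of integral schemes.
-/

set_option autoImplicit false
set_option linter.style.haveILetI false
set_option maxHeartbeats 400000

universe u

open CategoryTheory AlgebraicGeometry Algebra

namespace Groth.Agent.CycLib

variable {X Y : Scheme.{u}}

theorem asIdeal_primeIdealOf_genericPoint [IsIntegral X] {U : X.Opens} (hU : IsAffineOpen U)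
    (h : genericPoint X ∈ U) : (hU.primeIdealOf ⟨genericPoint X, h⟩).asIdeal = ⊥ := by
  haveI : Nonempty U := ⟨⟨_, h⟩⟩
  rw [hU.primeIdealOf_genericPoint, genericPoint_eq_bot_of_affine]
  rfl

theorem trdeg_eq_zero_of_dim_one [IsIntegral X] [IsIntegral Y] [IsLocallyNoetherian Y] (f : X ⟶ Y)
    [LocallyOfFiniteType f] (hgen : f (genericPoint X) = genericPoint Y)
    (hfin : (f.residueFieldMap (genericPoint X)).hom.Finite) (x : X) (hx : x ≠ genericPoint X)
    (hξ : ringKrullDim (Y.presheaf.stalk (f x)) = 1) :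
    @Algebra.trdeg (Y.residueField (f x)) (X.residueField x) _ _
      (f.residueFieldMap x).hom.toAlgebra = 0 := by
  obtain ⟨V, hV, hxV, -⟩ := exists_isAffineOpen_mem_and_subset (x := f x) (U := (⊤ : Y.Opens)) trivial
  obtain ⟨U, hU, hxU, hUV⟩ := exists_isAffineOpen_mem_and_subset (x := x) (U := f ⁻¹ᵁ V) hxV
  have hηU : genericPoint X ∈ U := (genericPoint_specializes x).mem_open U.2 hxU
  have hηV : genericPoint Y ∈ V := hgen ▸ hUV hηU
  haveI : Nonempty U := ⟨⟨_, hηU⟩⟩
  haveI : Nonempty V := ⟨⟨_, hηV⟩⟩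
  haveI : IsNoetherianRing Γ(Y, V) := IsLocallyNoetherian.component_noetherian ⟨V, hV⟩
  letI := (f.appLE V U hUV).hom.toAlgebra
  haveI : Algebra.FiniteType Γ(Y, V) Γ(X, U) := f.finiteType_appLE hV hU hUV
  haveI := liesOver_primeIdealOf f hV hU hUV hxU
  haveI := liesOver_primeIdealOf f hV hU hUV hηU
  have hq0 : (hU.primeIdealOf ⟨genericPoint X, hηU⟩).asIdeal = ⊥ := asIdeal_primeIdealOf_genericPoint hU hηU
  have hp0 : (hV.primeIdealOf ⟨f (genericPoint X), hUV hηU⟩).asIdeal = ⊥ := by
    rw [show (⟨f (genericPoint X), hUV hηU⟩ : V) = ⟨genericPoint Y, hηV⟩ from Subtype.ext hgen]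
    exact asIdeal_primeIdealOf_genericPoint hV hηV
  haveI : FaithfulSMul Γ(Y, V) Γ(X, U) := by
    rw [faithfulSMul_iff_algebraMap_injective, injective_iff_map_eq_zero]
    intro a ha
    have h := Ideal.over_def (hU.primeIdealOf ⟨genericPoint X, hηU⟩).asIdeal
      (hV.primeIdealOf ⟨f (genericPoint X), hUV hηU⟩).asIdeal
    rw [hp0, hq0] at h
    exact (SetLike.ext_iff.1 h a).2 (by rw [Ideal.under_def, Ideal.mem_comap, ha]; exact zero_mem _)
  obtain ⟨hq, hp, t, T, hhq, hhp, ht, hT, hle, -⟩ :=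
    height_add_trdeg (hV.primeIdealOf ⟨f x, hUV hxU⟩).asIdeal (hU.primeIdealOf ⟨x, hxU⟩).asIdeal
  have hp1 : hp = 1 := by
    letI := TopCat.Presheaf.algebra_section_stalk Y.presheaf (⟨f x, hUV hxU⟩ : V)
    haveI := hV.isLocalization_stalk ⟨f x, hUV hxU⟩
    rw [IsLocalization.AtPrime.ringKrullDim_eq_height (hV.primeIdealOf ⟨f x, hUV hxU⟩).asIdeal, hhp] at hξ
    exact_mod_cast hξ
  have hq1 : hq ≠ 0 := fun h0 => by
    rw [h0, Nat.cast_zero, Ideal.height_eq_zero_iff_eq_bot] at hhq
    have hb : (hU.primeIdealOf ⟨x, hxU⟩).asIdeal = ⊥ := hhq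
    refine hx ?_
    have e : hU.primeIdealOf ⟨x, hxU⟩ = hU.primeIdealOf ⟨genericPoint X, hηU⟩ :=
      PrimeSpectrum.ext (hb.trans hq0.symm)
    have := congrArg hU.fromSpec e
    rwa [hU.fromSpec_primeIdealOf, hU.fromSpec_primeIdealOf] at this
  have hT0 : T = 0 := by
    letI iK := (f.residueFieldMap (genericPoint X)).hom.toAlgebra
    haveI : Module.Finite (Y.residueField (f (genericPoint X))) (X.residueField (genericPoint X)) := hfin
    haveI : FaithfulSMul Γ(Y, V) Γ(X, U) := ‹_›
    have e := trdeg_residueField_eq f hV hU hUV hηU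
    rw [trdeg_eq_zero (R := Y.residueField (f (genericPoint X))) (A := X.residueField (genericPoint X)),
      ← trdeg_congr (RingEquiv.quotientBot Γ(Y, V) |>.symm.trans (Ideal.quotEquivOfEq hp0.symm))
        (RingEquiv.quotientBot Γ(X, U) |>.symm.trans (Ideal.quotEquivOfEq hq0.symm)) (fun a => rfl), hT] at e
    exact_mod_cast e
  have h := trdeg_residueField_eq f hV hU hUV hxU
  rw [ht, show t = 0 by omega, Nat.cast_zero] at h
  exact h.symm

theorem finite_fibre_of_dim_one [IsIntegral X] [IsIntegral Y] [IsLocallyNoetherian Y] (f : X ⟶ Y)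
    [LocallyOfFiniteType f] [QuasiCompact f] (hgen : f (genericPoint X) = genericPoint Y)
    (hfin : (f.residueFieldMap (genericPoint X)).hom.Finite) (ξ : Y)
    (hξ : ringKrullDim (Y.presheaf.stalk ξ) = 1) : (f ⁻¹' {ξ}).Finite := by
  haveI : IsLocallyNoetherian X := LocallyOfFiniteType.isLocallyNoetherian f
  have hne : ∀ x : X, f x = ξ → x ≠ genericPoint X := by
    rintro x rfl rfl
    rw [hgen] at hξ
    have h0 : ringKrullDim (Y.presheaf.stalk (genericPoint Y)) = 0 :=
      ringKrullDim_eq_zero_of_field Y.functionField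
    rw [h0] at hξ
    exact zero_ne_one hξ
  refine finite_fibre_of_discrete f ξ fun x x' hx hx' hs => ?_
  by_contra hn
  subst hx
  have h1 := trdeg_residueField_lt f x' x hs hn hx'
  rw [trdeg_eq_zero_of_dim_one f hgen hfin x' (hne x' hx') (hx' ▸ hξ)] at h1
  exact not_lt_zero h1

end Groth.Agent.CycLib
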