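import Groth.Agent.CycLib.DivFun
import Groth.Agent.CycLib.SpecPt

/-!
Orders along a one-generated affine chart of a curve.
-/

set_option autoImplicit false
set_option linter.style.haveILetI false
set_option maxHeartbeats 400000

universe u

open CategoryTheory AlgebraicGeometry IsLocalRing

namespace Groth.Agent.CycLib

variable {P : Scheme.{u}} [IsLocallyNoetherian P] {δ : P → ℤ} (hd : Cyc.IsDimFun P δ) {W : P.Opens}
  (hW : IsAffineOpen W) (v : Γ(P, W)) {ξ y : P} (hy : y ∈ W) (h : ξ ⤳ y) (h1 : δ y + 1 = δ ξ)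
  (hv : P.evaluation W ξ (h.mem_open W.2 hy) v ≠ 0)

include hd h1 hv in
theorem ordAt_evaluation_of_ne_zero (hvy : P.evaluation W y hy v ≠ 0) :
    Cyc.ordAt y ξ h (P.evaluation W ξ (h.mem_open W.2 hy) v) = 0 := by
  have hu : IsUnit (P.presheaf.germ W y hy v) := by
    by_contra hn
    exact hvy ((IsLocalRing.residue_eq_zero_iff _).2 hn)
  have e := ordAt_specMap hd h h1 (c := P.presheaf.germ W y hy v) (by rwa [specMap_germ h hy v])
  rw [specMap_germ h hy v] at e
  rw [e]
  exact LenLib.ordZ_of_isUnit (hu.map _)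

variable {K : Type u} [Field K] (base : K →+* Γ(P, W))
  (hgen : Function.Surjective (Polynomial.eval₂RingHom base v))

include hgen in
omit [IsLocallyNoetherian P] in
theorem asIdeal_eq_span (hvy : P.evaluation W y hy v = 0) :
    (hW.primeIdealOf ⟨y, hy⟩).asIdeal = Ideal.span {v} := by
  have hvp : v ∈ (hW.primeIdealOf ⟨y, hy⟩).asIdeal := (SetLike.ext_iff.1 (ker_evaluation hW hy) v).1 hvy
  refine le_antisymm (fun a ha => ?_) ((Ideal.span_singleton_le_iff_mem _).2 hvp)
  obtain ⟨q, rfl⟩ := hgen a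
  rw [← Polynomial.divX_mul_X_add q, map_add, map_mul, Polynomial.coe_eval₂RingHom, Polynomial.eval₂_X,
    Polynomial.eval₂_C] at ha ⊢
  have hc : q.coeff 0 = 0 := by
    by_contra hc
    have h2 : base (q.coeff 0) ∈ (hW.primeIdealOf ⟨y, hy⟩).asIdeal :=
      (Ideal.add_mem_iff_right _ (Ideal.mul_mem_left _ _ hvp)).1 ha
    exact (hW.primeIdealOf ⟨y, hy⟩).2.ne_top (Ideal.eq_top_of_isUnit_mem _ h2 ((Ne.isUnit hc).map base))
  rw [hc, map_zero, add_zero]
  exact Ideal.mul_mem_left _ _ (Ideal.mem_span_singleton_self v)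

include hW hgen in
omit [IsLocallyNoetherian P] in
theorem eq_of_evaluation_eq_zero (hvy : P.evaluation W y hy v = 0) {y' : P} (hy' : y' ∈ W)
    (hvy' : P.evaluation W y' hy' v = 0) : y' = y := by
  have e : hW.primeIdealOf ⟨y', hy'⟩ = hW.primeIdealOf ⟨y, hy⟩ := PrimeSpectrum.ext
    ((asIdeal_eq_span hW v hy' base hgen hvy').trans (asIdeal_eq_span hW v hy base hgen hvy).symm)
  have := congrArg hW.fromSpec e
  rwa [hW.fromSpec_primeIdealOf, hW.fromSpec_primeIdealOf] at this

include hd hW h1 hv hgen in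
theorem ordAt_evaluation_of_eq_zero (hvy : P.evaluation W y hy v = 0) :
    Cyc.ordAt y ξ h (P.evaluation W ξ (h.mem_open W.2 hy) v) = 1 := by
  have e := ordAt_specMap hd h h1 (c := P.presheaf.germ W y hy v) (by rwa [specMap_germ h hy v])
  rw [specMap_germ h hy v] at e
  rw [e]
  letI := TopCat.Presheaf.algebra_section_stalk P.presheaf (⟨y, hy⟩ : W)
  haveI := hW.isLocalization_stalk ⟨y, hy⟩
  set π := Ideal.Quotient.mk (RingHom.ker (Cyc.specMap y ξ h))
  have hm : maximalIdeal (P.presheaf.stalk y) = Ideal.span {P.presheaf.germ W y hy v} := by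
    rw [← IsLocalization.AtPrime.map_eq_maximalIdeal (hW.primeIdealOf ⟨y, hy⟩).asIdeal (P.presheaf.stalk y),
      asIdeal_eq_span hW v hy base hgen hvy, Ideal.map_span, Set.image_singleton]
    rfl
  haveI : (Ideal.span {π (P.presheaf.germ W y hy v)}).IsMaximal := by
    rw [← Set.image_singleton, ← Ideal.map_span, ← hm]
    exact Ideal.IsMaximal.map_of_surjective_of_ker_le Ideal.Quotient.mk_surjective
      (Ideal.mk_ker.trans_le (le_maximalIdeal (RingHom.ker_isPrime (Cyc.specMap y ξ h)).ne_top))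
  haveI : IsSimpleModule (Cyc.LocQuot y ξ h) (Cyc.LocQuot y ξ h ⧸ Ideal.span {π (P.presheaf.germ W y hy v)}) :=
    isSimpleModule_iff_isCoatom.2 (Ideal.isMaximal_def.1 ‹_›)
  show ((Module.length _ _).toNat : ℤ) = 1
  rw [Module.length_eq_one]
  rfl

end Groth.Agent.CycLib
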