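import Groth.Agent.ZetaLib.ProjPoints
import Groth.Agent.ProjProper.Basic
import Mathlib.AlgebraicGeometry.ProjectiveSpectrum.Basic
import Mathlib.AlgebraicGeometry.ResidueField

/-!
Values of chart coordinates of the projective line at field-valued points.
-/

set_option autoImplicit false
set_option linter.style.haveILetI false
set_option maxHeartbeats 400000

universe u

open CategoryTheory AlgebraicGeometry MvPolynomial IsLocalRing

namespace Groth.Agent.CycLib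

section general

variable {A : Type u} {σ : Type*} [CommRing A] [SetLike σ A] [AddSubgroupClass σ A] (𝒜 : ℕ → σ)
  [GradedRing 𝒜] {t : A} (ht : t ∈ 𝒜 1)

theorem appLE_awayToSection (e : ⊤ ≤ Proj.awayι 𝒜 t ht one_pos ⁻¹ᵁ Proj.basicOpen 𝒜 t) :
    Proj.awayToSection 𝒜 t ≫ (Proj.awayι 𝒜 t ht one_pos).appLE (Proj.basicOpen 𝒜 t) ⊤ e =
      (Scheme.ΓSpecIso _).inv := by
  have hι : Proj.basicOpenToSpec 𝒜 t ≫ Proj.awayι 𝒜 t ht one_pos = (Proj.basicOpen 𝒜 t).ι := by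
    rw [← Proj.basicOpenIsoSpec_inv_ι, ← Proj.basicOpenIsoSpec_hom 𝒜 t ht one_pos, Iso.hom_inv_id_assoc]
  haveI : IsIso ((Proj.basicOpenToSpec 𝒜 t).app ⊤) := by
    rw [← Proj.basicOpenIsoSpec_hom 𝒜 t ht one_pos]
    infer_instance
  have h1 : (Proj.awayι 𝒜 t ht one_pos).appLE (Proj.basicOpen 𝒜 t) ⊤ e ≫
      (Proj.basicOpenToSpec 𝒜 t).app ⊤ = (Proj.basicOpen 𝒜 t).topIso.inv := by
    rw [Scheme.Hom.app_eq_appLE, Scheme.Hom.appLE_comp_appLE]
    simp only [hι]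
    rw [Scheme.Opens.ι_appLE]
    rfl
  rw [← cancel_mono ((Proj.basicOpenToSpec 𝒜 t).app ⊤), Category.assoc, h1,
    Proj.basicOpenToSpec_app_top]
  exact (Iso.inv_hom_id_assoc _ _).symm

theorem chart_point_value {L : Type u} [Field L] (φ : HomogeneousLocalization.Away 𝒜 t →+* L)
    (a : HomogeneousLocalization.Away 𝒜 t)
    (hmem : (Spec.map (CommRingCat.ofHom φ) ≫ Proj.awayι 𝒜 t ht one_pos) (closedPoint L) ∈
      Proj.basicOpen 𝒜 t) :
    (Proj 𝒜).descResidueField (Scheme.stalkClosedPointTo (Spec.map (CommRingCat.ofHom φ) ≫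
        Proj.awayι 𝒜 t ht one_pos))
      ((Proj 𝒜).evaluation (Proj.basicOpen 𝒜 t) _ hmem (Proj.awayToSection 𝒜 t a)) = φ a := by
  set j := Proj.awayι 𝒜 t ht one_pos
  set g := Spec.map (CommRingCat.ofHom φ)
  have e : (⊤ : (Spec (.of (HomogeneousLocalization.Away 𝒜 t))).Opens) ≤ j ⁻¹ᵁ Proj.basicOpen 𝒜 t := by
    intro q _
    show j q ∈ Proj.basicOpen 𝒜 t
    rw [← Proj.opensRange_awayι 𝒜 t ht one_pos]
    exact ⟨q, rfl⟩
  show Scheme.stalkClosedPointTo (g ≫ j)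
    ((Proj 𝒜).presheaf.germ (Proj.basicOpen 𝒜 t) _ hmem (Proj.awayToSection 𝒜 t a)) = φ a
  rw [Scheme.stalkClosedPointTo_comp]
  show Scheme.stalkClosedPointTo g (j.stalkMap _ ((Proj 𝒜).presheaf.germ (Proj.basicOpen 𝒜 t) _ hmem
    (Proj.awayToSection 𝒜 t a))) = φ a
  have h2 : (Spec (.of (HomogeneousLocalization.Away 𝒜 t))).presheaf.germ (j ⁻¹ᵁ Proj.basicOpen 𝒜 t) (g (closedPoint L)) hmem
      (j.app (Proj.basicOpen 𝒜 t) (Proj.awayToSection 𝒜 t a)) =
      (Spec (.of (HomogeneousLocalization.Away 𝒜 t))).presheaf.germ ⊤ (g (closedPoint L)) trivial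
        ((Scheme.ΓSpecIso _).inv a) := by
    rw [← appLE_awayToSection 𝒜 ht e]
    exact ((Spec (.of (HomogeneousLocalization.Away 𝒜 t))).presheaf.germ_res_apply (homOfLE e) _ trivial _).symm
  refine (congrArg (Scheme.stalkClosedPointTo g)
    ((j.germ_stalkMap_apply (Proj.basicOpen 𝒜 t) _ hmem _).trans h2)).trans ?_
  have h3 := congr($(Scheme.germ_stalkClosedPointTo_Spec (CommRingCat.ofHom φ)) ((Scheme.ΓSpecIso _).inv a))
  refine h3.trans ?_
  show φ ((Scheme.ΓSpecIso (CommRingCat.of (HomogeneousLocalization.Away 𝒜 t))).hom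
    ((Scheme.ΓSpecIso (CommRingCat.of (HomogeneousLocalization.Away 𝒜 t))).inv a)) = φ a
  exact congrArg φ (congr($((Scheme.ΓSpecIso (CommRingCat.of (HomogeneousLocalization.Away 𝒜 t))).inv_hom_id) a))

end general

variable (K : Type u) [Field K]

local notation "𝒜" => CohB1.polyGrading 1 K

/-- The coordinate `X_j / X_i` on `D₊(X_i)`. -/
noncomputable def coord (i j : Fin (1 + 1)) : Γ(Proj 𝒜, Proj.basicOpen 𝒜 (X i)) :=
  Proj.awayToSection 𝒜 (X i) (ZetaLib.dh 1 K i (X j))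

/-- The scalars on `D₊(X_i)`. -/
noncomputable def scal (i : Fin (1 + 1)) : K →+* Γ(Proj 𝒜, Proj.basicOpen 𝒜 (X i)) :=
  (Proj.awayToSection 𝒜 (X i)).hom.comp ((ZetaLib.dh 1 K i).comp C)

theorem coord_generates (i j : Fin (1 + 1)) (hij : i ≠ j) :
    Function.Surjective (Polynomial.eval₂RingHom (scal K i) (coord K i j)) := by
  intro s
  obtain ⟨a, rfl⟩ : ∃ a, Proj.awayToSection 𝒜 (X i) a = s :=
    (ConcreteCategory.bijective_of_isIso
      (Proj.basicOpenIsoAway 𝒜 (X i) (ZetaLib.X_mem 1 K i) one_pos).hom).2 s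
  obtain ⟨p, rfl⟩ := ZetaLib.dehom_surjective 𝒜 (ZetaLib.X_mem 1 K i) a
  let v : Fin (1 + 1) → Polynomial K := fun l => if l = i then 1 else Polynomial.X
  refine ⟨MvPolynomial.eval₂ Polynomial.C v p, ?_⟩
  have h : (Polynomial.eval₂RingHom (scal K i) (coord K i j)).comp (MvPolynomial.eval₂Hom Polynomial.C v) =
      (Proj.awayToSection 𝒜 (X i)).hom.comp (ZetaLib.dh 1 K i) := by
    refine MvPolynomial.ringHom_ext (fun r => ?_) fun l => ?_
    · simp [scal]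
    · by_cases hl : l = i
      · subst hl
        simp [v, ZetaLib.dh_self]
      · have : l = j := by omega
        subst this
        simp [v, hl, coord]
  exact RingHom.congr_fun h p

/-- A field-valued point of `P¹` in chart `i` with coordinate `b`. -/
theorem exists_point {L : Type u} [Field L] [Algebra K L] (i j : Fin (1 + 1)) (hij : i ≠ j) (b : L) :
    ∃ ψ : Spec (CommRingCat.of L) ⟶ Proj 𝒜,
      ψ ≫ ZetaLib.str 1 K = Spec.map (CommRingCat.ofHom (algebraMap K L)) ∧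
      (∃ hm : ψ (closedPoint L) ∈ Proj.basicOpen 𝒜 (X i),
        (Proj 𝒜).descResidueField (Scheme.stalkClosedPointTo ψ)
          ((Proj 𝒜).evaluation (Proj.basicOpen 𝒜 (X i)) _ hm (coord K i j)) = b) ∧
      (∃ hm : ψ (closedPoint L) ∈ Proj.basicOpen 𝒜 (X i), ∀ r : K,
        (Proj 𝒜).descResidueField (Scheme.stalkClosedPointTo ψ)
          ((Proj 𝒜).evaluation (Proj.basicOpen 𝒜 (X i)) _ hm (scal K i r)) = algebraMap K L r) ∧
      (ψ (closedPoint L) ∈ Proj.basicOpen 𝒜 (X j) ↔ b ≠ 0) := by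
  obtain ⟨φ, hφ⟩ := ZetaLib.exists_chartHom 1 K (F := L) i (fun l => if l = i then 1 else b) (by simp)
  have hval : ∀ l, φ (ZetaLib.dh 1 K i (X l)) = if l = i then 1 else b := fun l => by
    rw [← RingHom.comp_apply, hφ]
    simp
  have hmi : (Spec.map (CommRingCat.ofHom φ) ≫ ZetaLib.chartι 1 K i) (closedPoint L) ∈
      Proj.basicOpen 𝒜 (X i) := by
    rw [ZetaLib.chart_mem_iff 1 K φ i, hval, if_pos rfl]
    exact one_ne_zero
  refine ⟨Spec.map (CommRingCat.ofHom φ) ≫ ZetaLib.chartι 1 K i, ?_, ⟨hmi, ?_⟩, ⟨hmi, fun r => ?_⟩, ?_⟩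
  · rw [ZetaLib.chart_comp_toSpec, ← RingHom.comp_assoc, hφ]
    congr 1
    refine CommRingCat.hom_ext (RingHom.ext fun r => ?_)
    simp
  · exact (chart_point_value 𝒜 (ZetaLib.X_mem 1 K i) φ _ _).trans ((hval j).trans (if_neg hij.symm))
  · refine (chart_point_value 𝒜 (ZetaLib.X_mem 1 K i) φ (ZetaLib.dh 1 K i (C r)) _).trans ?_
    rw [← RingHom.comp_apply, hφ]
    simp
  · rw [ZetaLib.chart_mem_iff 1 K φ j, hval, if_neg hij.symm]

variable {K}

theorem mem_basicOpen_iff_coord (i j : Fin (1 + 1)) {y : Proj 𝒜} (hy : y ∈ Proj.basicOpen 𝒜 (X i)) :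
    y ∈ Proj.basicOpen 𝒜 (X j) ↔
      (Proj 𝒜).evaluation (Proj.basicOpen 𝒜 (X i)) y hy (coord K i j) ≠ 0 := by
  obtain ⟨q, rfl⟩ : y ∈ Set.range (ZetaLib.chartι 1 K i) := by
    rwa [← Proj.opensRange_awayι 𝒜 (X i) (ZetaLib.X_mem 1 K i) one_pos] at hy
  haveI := q.isPrime
  let φ : HomogeneousLocalization.Away 𝒜 (X i) →+* q.asIdeal.ResidueField := algebraMap _ _
  letI : Algebra K q.asIdeal.ResidueField := (φ.comp ((ZetaLib.dh 1 K i).comp C)).toAlgebra
  have hq : (Spec.map (CommRingCat.ofHom φ) ≫ ZetaLib.chartι 1 K i) (closedPoint q.asIdeal.ResidueField) =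
      ZetaLib.chartι 1 K i q := by
    show ZetaLib.chartι 1 K i (Spec.map (CommRingCat.ofHom φ) (closedPoint _)) = _
    congr 1
    refine PrimeSpectrum.ext ?_
    show Ideal.comap φ (maximalIdeal _) = q.asIdeal
    rw [IsLocalRing.isField_iff_maximalIdeal_eq.1 (Field.toIsField _)]
    exact Ideal.ker_algebraMap_residueField _
  have hm := hq ▸ hy
  have e1 := chart_point_value 𝒜 (ZetaLib.X_mem 1 K i) φ (ZetaLib.dh 1 K i (X j)) hm
  have e2 := ZetaLib.chart_mem_iff 1 K φ j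
  rw [← e1, map_ne_zero] at e2
  have key : ∀ (y' : Proj 𝒜) (hy' : y' ∈ Proj.basicOpen 𝒜 (X i)), y' = ZetaLib.chartι 1 K i q →
      (y' ∈ Proj.basicOpen 𝒜 (X j) ↔ (Proj 𝒜).evaluation (Proj.basicOpen 𝒜 (X i)) y' hy' (coord K i j) ≠ 0) →
      (ZetaLib.chartι 1 K i q ∈ Proj.basicOpen 𝒜 (X j) ↔
        (Proj 𝒜).evaluation (Proj.basicOpen 𝒜 (X i)) (ZetaLib.chartι 1 K i q) hy (coord K i j) ≠ 0) := by
    rintro _ _ rfl h
    exact h
  exact key _ hm hq e2

theorem evaluation_awayMap (i j : Fin (1 + 1)) {y : Proj 𝒜} (hy : y ∈ Proj.basicOpen 𝒜 (X i))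
    {x : MvPolynomial (Fin (1 + 1)) K} (hx : x = X i * X j) (hyx : y ∈ Proj.basicOpen 𝒜 x)
    (a : HomogeneousLocalization.Away 𝒜 (X i)) :
    (Proj 𝒜).evaluation (Proj.basicOpen 𝒜 (X i)) y hy (Proj.awayToSection 𝒜 (X i) a) =
      (Proj 𝒜).evaluation (Proj.basicOpen 𝒜 x) y hyx
        (Proj.awayToSection 𝒜 x (HomogeneousLocalization.awayMap 𝒜 (ZetaLib.X_mem 1 K j) hx a)) := by
  have e := congr($(Proj.awayMap_awayToSection 𝒜 (ZetaLib.X_mem 1 K j) (f := X i) hx) a)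
  refine Eq.trans ?_ (congrArg ((Proj 𝒜).evaluation (Proj.basicOpen 𝒜 x) y hyx) e).symm
  exact congrArg ((Proj 𝒜).residue y)
    ((Proj 𝒜).presheaf.germ_res_apply (homOfLE (Proj.basicOpen_mono 𝒜 _ _ ⟨_, hx⟩)) y hyx _).symm

theorem evaluation_scal_eq (i j : Fin (1 + 1)) {y : Proj 𝒜} (hi : y ∈ Proj.basicOpen 𝒜 (X i))
    (hj : y ∈ Proj.basicOpen 𝒜 (X j)) (r : K) :
    (Proj 𝒜).evaluation (Proj.basicOpen 𝒜 (X i)) y hi (scal K i r) =
      (Proj 𝒜).evaluation (Proj.basicOpen 𝒜 (X j)) y hj (scal K j r) := by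
  have hyx : y ∈ Proj.basicOpen 𝒜 (X i * X j) := by
    rw [Proj.basicOpen_mul]; exact ⟨hi, hj⟩
  show (Proj 𝒜).evaluation _ y hi (Proj.awayToSection 𝒜 (X i) (ZetaLib.dh 1 K i (C r))) =
    (Proj 𝒜).evaluation _ y hj (Proj.awayToSection 𝒜 (X j) (ZetaLib.dh 1 K j (C r)))
  rw [evaluation_awayMap i j hi rfl hyx, evaluation_awayMap j i hj (mul_comm _ _) hyx, ZetaLib.dh_C,
    ZetaLib.dh_C, HomogeneousLocalization.awayMap_fromZeroRingHom,
    HomogeneousLocalization.awayMap_fromZeroRingHom]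

theorem evaluation_coord_mul (i j : Fin (1 + 1)) {y : Proj 𝒜} (hi : y ∈ Proj.basicOpen 𝒜 (X i))
    (hj : y ∈ Proj.basicOpen 𝒜 (X j)) :
    (Proj 𝒜).evaluation (Proj.basicOpen 𝒜 (X i)) y hi (coord K i j) *
      (Proj 𝒜).evaluation (Proj.basicOpen 𝒜 (X j)) y hj (coord K j i) = 1 := by
  have hyx : y ∈ Proj.basicOpen 𝒜 (X i * X j) := by
    rw [Proj.basicOpen_mul]; exact ⟨hi, hj⟩
  unfold coord
  rw [evaluation_awayMap i j hi rfl hyx, evaluation_awayMap j i hj (mul_comm _ _) hyx, ← map_mul, ← map_mul]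
  rw [show HomogeneousLocalization.awayMap 𝒜 (ZetaLib.X_mem 1 K j) (f := X i) rfl (ZetaLib.dh 1 K i (X j)) *
      HomogeneousLocalization.awayMap 𝒜 (ZetaLib.X_mem 1 K i) (f := X j) (mul_comm _ _)
        (ZetaLib.dh 1 K j (X i)) = (1 : HomogeneousLocalization.Away 𝒜 (X i * X j)) from ?_, map_one, map_one]
  rw [ZetaLib.dh, ZetaLib.dh, ZetaLib.dehom_of_mem _ _ (ZetaLib.X_mem 1 K j),
    ZetaLib.dehom_of_mem _ _ (ZetaLib.X_mem 1 K i), HomogeneousLocalization.awayMap_mk,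
    HomogeneousLocalization.awayMap_mk]
  refine HomogeneousLocalization.val_injective _ ?_
  simp only [HomogeneousLocalization.val_mul, HomogeneousLocalization.Away.val_mk,
    HomogeneousLocalization.val_one, Localization.mk_mul, pow_one]
  rw [← Localization.mk_one, Localization.mk_eq_mk_iff, Localization.r_iff_exists]
  exact ⟨1, by simp; ring⟩

end Groth.Agent.CycLib
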