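import Groth.Agent.CycLib.FieldDelta
import Groth.Agent.CycLib.LineChart
import Groth.Agent.CycLib.ProjChart
import Groth.Agent.CycLib.NormMap
import Groth.Agent.CycLib.PullDivApp
import Groth.Agent.LenLib.Lattice
import Groth.Agent.ProjProper.Basic

/-!
Principal divisors on complete curves over a field have degree zero.
-/

set_option autoImplicit false
set_option linter.style.haveILetI false
set_option maxHeartbeats 800000

universe u

open CategoryTheory AlgebraicGeometry IsLocalRing Limits MvPolynomial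

namespace Groth.Agent.CycLib

/-- An element `g` of the fraction field such that `g` and `g⁻¹` lie in a finite subalgebra has order zero. -/
theorem ordFrac_eq_zero_of_inv_mem_adjoin {A F : Type u} [CommRing A] [IsDomain A] [IsNoetherianRing A]
    [Ring.KrullDimLE 1 A] [Field F] [Algebra A F] [IsFractionRing A F] {g : F} (hg0 : g ≠ 0)
    (hg : IsIntegral A g) (hinv : g⁻¹ ∈ Algebra.adjoin A ({g} : Set F)) : CycAlg.ordFrac A F g = 0 := by
  let M : Submodule A F := (Algebra.adjoin A ({g} : Set F)).toSubmodule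
  have hM : M.FG := hg.fg_adjoin_singleton
  have hMs : Submodule.span F (M : Set F) = ⊤ := eq_top_iff.2 fun x _ => by
    have h1 : (1 : F) ∈ Submodule.span F (M : Set F) :=
      Submodule.subset_span (one_mem (Algebra.adjoin A ({g} : Set F)))
    simpa using Submodule.smul_mem (Submodule.span F (M : Set F)) x h1
  let φ : F ≃ₗ[F] F := LinearEquiv.smulOfUnit (Units.mk0 g hg0)
  have hmap : M.map (φ.toLinearMap.restrictScalars A) = M := by
    ext x
    constructor
    · rintro ⟨y, hy, rfl⟩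
      exact Subalgebra.mul_mem _ (Algebra.subset_adjoin (Set.mem_singleton g)) hy
    · intro hx
      exact ⟨g⁻¹ * x, Subalgebra.mul_mem _ hinv hx, mul_inv_cancel_left₀ hg0 x⟩
  have h := LenLib.latDist_map F hM hMs φ
  rw [hmap, LenLib.latDist_of_le le_rfl] at h
  have hdet : LinearMap.det φ.toLinearMap = g := by
    rw [LinearMap.det_ring]
    exact mul_one g
  rw [hdet] at h
  rw [← h]
  have : Subsingleton (↥M ⧸ M.submoduleOf M) := by
    rw [Submodule.Quotient.subsingleton_iff]; exact Submodule.submoduleOf_self M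
  simp [LenLib.colen, LenLib.lenZ, Module.length_eq_zero]

theorem normGen_residueFieldMap {X Y : Scheme.{u}} (f : X ⟶ Y) (x : X) (t : Y.residueField (f x)) :
    Cyc.normGen f x (f.residueFieldMap x t) = t ^ f.residueDegree x := by
  unfold Cyc.normGen Scheme.Hom.residueDegree
  letI := (f.residueFieldMap x).hom.toAlgebra
  exact Algebra.norm_algebraMap t

theorem residueFieldCongr_unique {X : Scheme.{u}} {p ξ : X} (h : p = ξ) (χ : X.residueField p ⟶ X.residueField ξ)
    (hχ : Spec.map χ ≫ X.fromSpecResidueField p = X.fromSpecResidueField ξ) :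
    χ = (Scheme.residueFieldCongr h).hom := by
  subst h
  have h1 : Spec.map χ = 𝟙 _ := by
    rw [← cancel_mono (X.fromSpecResidueField p), hχ, Category.id_comp]
  rw [← Spec.map_id] at h1
  rw [Spec.map_injective h1]
  simp

theorem evaluation_desc {Y : Scheme.{u}} {L : Type u} [Field L] (ψ : Spec (CommRingCat.of L) ⟶ Y) {p : Y}
    (hp : p = ψ (closedPoint L)) (χ : Y.residueField p ⟶ CommRingCat.of L)
    (hχ : Spec.map χ ≫ Y.fromSpecResidueField p = ψ) {U : Y.Opens} (hm : p ∈ U)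
    (hm' : ψ (closedPoint L) ∈ U) (v : Γ(Y, U)) :
    χ (Y.evaluation U p hm v) =
      Y.descResidueField (Scheme.stalkClosedPointTo ψ) (Y.evaluation U _ hm' v) := by
  subst hp
  have h1 := hχ.trans (Scheme.descResidueField_stalkClosedPointTo_fromSpecResidueField L Y ψ).symm
  rw [cancel_mono] at h1
  rw [Spec.map_injective h1]

theorem preimage_fromSpecResidueField_comp (K : Type u) [Field K] {X : Scheme.{u}}
    (c : X ⟶ Spec (CommRingCat.of K)) (x : X) :
    X.fromSpecResidueField x ≫ c = Spec.map (CommRingCat.ofHom (kMap K c x)) := by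
  refine ext_of_isAffine ?_
  rw [← cancel_mono (Scheme.ΓSpecIso (X.residueField x)).hom, Scheme.Hom.comp_appTop, Category.assoc]
  refine Eq.trans ?_ (Scheme.ΓSpecIso_naturality (CommRingCat.ofHom (kMap K c x))).symm
  rw [Scheme.fromSpecResidueField, Scheme.Hom.comp_appTop, Scheme.fromSpecStalk_appTop]
  simp only [Category.assoc, Scheme.ΓSpecIso_naturality]
  refine CommRingCat.hom_ext (RingHom.ext fun a => ?_)
  obtain ⟨a, rfl⟩ := (ConcreteCategory.bijective_of_isIso (Scheme.ΓSpecIso (CommRingCat.of K)).inv).2 a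
  simp [kMap, Coh.toGlobal, Scheme.evaluation]

variable (K : Type u) [Field K]

local notation "𝒜" => CohB1.polyGrading 1 K

section ord

variable {X : Scheme.{u}} (c : X ⟶ Spec (CommRingCat.of K)) [LocallyOfFiniteType c]

theorem ordAt_eq_zero_of_algebraic {x ξ : X} (h : ξ ⤳ x) (h1 : fdelta K c x + 1 = fdelta K c ξ)
    {g : X.residueField ξ} (hg0 : g ≠ 0) (q : Polynomial K) (hq : q ≠ 0)
    (hqg : q.eval₂ (kMap K c ξ) g = 0) : Cyc.ordAt x ξ h g = 0 := by
  haveI := LocallyOfFiniteType.isLocallyNoetherian c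
  have hd := isDimFun_fdelta K c
  haveI := locQuot_isDomain x ξ h
  haveI := locQuot_isFractionRing x ξ h
  haveI := locQuot_isNoetherianRing x ξ h
  haveI := locQuot_krullDimLE_one hd x ξ h h1
  let σ : K →+* Cyc.LocQuot x ξ h := (Ideal.Quotient.mk _).comp
    ((X.presheaf.germ ⊤ x trivial).hom.comp (Coh.toGlobal c))
  letI : Algebra K (X.residueField ξ) := (kMap K c ξ).toAlgebra
  letI : Algebra K (Cyc.LocQuot x ξ h) := σ.toAlgebra
  haveI : IsScalarTower K (Cyc.LocQuot x ξ h) (X.residueField ξ) :=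
    IsScalarTower.of_algebraMap_eq fun a => (specMap_germ h (W := ⊤) trivial _).symm
  have hint : IsIntegral K g := (isAlgebraic_iff_isIntegral (K := K)).1 ⟨q, hq, hqg⟩
  refine ordFrac_eq_zero_of_inv_mem_adjoin hg0 hint.tower_top ?_
  have hle : Algebra.adjoin K ({g} : Set (X.residueField ξ)) ≤
      (Algebra.adjoin (Cyc.LocQuot x ξ h) ({g} : Set (X.residueField ξ))).restrictScalars K :=
    Algebra.adjoin_le (Algebra.subset_adjoin (R := Cyc.LocQuot x ξ h))
  exact hle hint.inv_mem_adjoin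

end ord

section line

variable [LocallyOfFiniteType (ZetaLib.str 1 K)]

/-- The divisor of a transcendental coordinate on the projective line. -/
theorem divFun_coord {ξP : Proj 𝒜} (h0 : ξP ∈ Proj.basicOpen 𝒜 (X 0))
    (h1 : fdelta K (ZetaLib.str 1 K) ξP ≤ 1)
    (hv : ∀ q : Polynomial K, q ≠ 0 → q.eval₂ (((Proj 𝒜).evaluation _ ξP h0).hom.comp (scal K 0))
      ((Proj 𝒜).evaluation _ ξP h0 (coord K 0 1)) ≠ 0) :
    fdelta K (ZetaLib.str 1 K) ξP = 1 ∧ ∃ y0 y1 : Proj 𝒜, y0 ≠ y1 ∧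
      (ZetaLib.str 1 K).residueDegree y0 = 1 ∧ (ZetaLib.str 1 K).residueDegree y1 = 1 ∧
      fdelta K (ZetaLib.str 1 K) y0 = 0 ∧ fdelta K (ZetaLib.str 1 K) y1 = 0 ∧
      Cyc.divFun (fdelta K (ZetaLib.str 1 K)) ξP ((Proj 𝒜).evaluation _ ξP h0 (coord K 0 1)) y0 = 1 ∧
      Cyc.divFun (fdelta K (ZetaLib.str 1 K)) ξP ((Proj 𝒜).evaluation _ ξP h0 (coord K 0 1)) y1 = -1 ∧
      ∀ y, Cyc.divFun (fdelta K (ZetaLib.str 1 K)) ξP ((Proj 𝒜).evaluation _ ξP h0 (coord K 0 1)) y ≠ 0 →
        y = y0 ∨ y = y1 := by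
  set δ := fdelta K (ZetaLib.str 1 K)
  haveI := LocallyOfFiniteType.isLocallyNoetherian (ZetaLib.str 1 K)
  have hd : Cyc.IsDimFun (Proj 𝒜) δ := isDimFun_fdelta K _
  set v := (Proj 𝒜).evaluation _ ξP h0 (coord K 0 1) with hvdef
  have hv0 : v ≠ 0 := fun h => hv Polynomial.X Polynomial.X_ne_zero (by rw [Polynomial.eval₂_X]; exact h)
  have h1' : ξP ∈ Proj.basicOpen 𝒜 (X 1) := (mem_basicOpen_iff_coord 0 1 h0).2 hv0
  set u := (Proj 𝒜).evaluation _ ξP h1' (coord K 1 0) with hudef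
  have huv : v * u = 1 := evaluation_coord_mul 0 1 h0 h1'
  have hu0 : u ≠ 0 := right_ne_zero_of_mul_eq_one huv
  have hu : ∀ q : Polynomial K, q ≠ 0 → q.eval₂ (((Proj 𝒜).evaluation _ ξP h1').hom.comp (scal K 1)) u ≠ 0 := by
    intro q hq he
    rw [show ((Proj 𝒜).evaluation _ ξP h1').hom.comp (scal K 1) =
      ((Proj 𝒜).evaluation _ ξP h0).hom.comp (scal K 0) from
        RingHom.ext fun r => evaluation_scal_eq 1 0 h1' h0 r] at he
    refine hv q.reverse (mt Polynomial.reverse_eq_zero.1 hq) ?_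
    letI := invertibleOfNonzero hu0
    have e := Polynomial.eval₂_reverse_eq_zero_iff
      (((Proj 𝒜).evaluation _ ξP h0).hom.comp (scal K 0)) u q
    rw [invOf_eq_inv, show u⁻¹ = v from inv_eq_of_mul_eq_one_left huv] at e
    exact e.2 he
  have hsp : ∀ (i j : Fin (1 + 1)), i ≠ j → ∀ (hi : ξP ∈ Proj.basicOpen 𝒜 (X i)),
      (∀ q : Polynomial K, q ≠ 0 → q.eval₂ (((Proj 𝒜).evaluation _ ξP hi).hom.comp (scal K i))
        ((Proj 𝒜).evaluation _ ξP hi (coord K i j)) ≠ 0) →
      ∀ y ∈ Proj.basicOpen 𝒜 (X i), ξP ⤳ y := by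
    intro i j hij hi hw y hy
    have hW := Proj.isAffineOpen_basicOpen 𝒜 (X i) (ZetaLib.X_mem 1 K i) one_pos
    have hle : (hW.primeIdealOf ⟨ξP, hi⟩).asIdeal = ⊥ := by
      rw [← ker_evaluation hW hi, eq_bot_iff]
      intro s hs
      obtain ⟨q, rfl⟩ := coord_generates K i j hij s
      by_cases hq : q = 0
      · rw [hq, map_zero]; exact zero_mem _
      · refine absurd ?_ (hw q hq)
        rw [← Polynomial.hom_eval₂]
        exact hs
    have hle' : hW.primeIdealOf ⟨ξP, hi⟩ ≤ hW.primeIdealOf ⟨y, hy⟩ := by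
      show (hW.primeIdealOf ⟨ξP, hi⟩).asIdeal ≤ (hW.primeIdealOf ⟨y, hy⟩).asIdeal
      rw [hle]; exact bot_le
    have := (primeIdealOf_le_iff hW _ _).1 hle'
    rwa [hW.fromSpec_primeIdealOf, hW.fromSpec_primeIdealOf] at this
  have hpt : ∀ (i j : Fin (1 + 1)), i ≠ j → ∃ (y : Proj 𝒜) (hy : y ∈ Proj.basicOpen 𝒜 (X i)),
      (ZetaLib.str 1 K).residueDegree y = 1 ∧ δ y = 0 ∧
      (Proj 𝒜).evaluation _ y hy (coord K i j) = 0 := by
    intro i j hij
    obtain ⟨ψ, hψ, ⟨hm, -⟩, -, hj⟩ := exists_point K (L := K) i j hij 0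
    rw [Algebra.algebraMap_self] at hψ
    replace hψ : ψ ≫ ZetaLib.str 1 K = 𝟙 _ := hψ.trans (Spec.map_id (CommRingCat.of K))
    refine ⟨_, hm, ?_, ?_, ?_⟩
    · have e := residueDegree_comp ψ (ZetaLib.str 1 K) (closedPoint K)
      rw [hψ] at e
      exact Nat.eq_one_of_mul_eq_one_left (e.symm.trans
        (residueDegree_closedImmersion (𝟙 (Spec (CommRingCat.of K))) (closedPoint K)))
    · obtain ⟨n, -, hn⟩ := deltaCompat_fdelta K ψ (𝟙 _) (ZetaLib.str 1 K) hψ (closedPoint K)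
      obtain ⟨m, hm, -⟩ := trdeg_eq_fdelta K (ZetaLib.str 1 K) (ψ (closedPoint K))
      have h00 := (hn.symm.trans (fdelta_id K _) :
        fdelta K (ZetaLib.str 1 K) (ψ (closedPoint K)) + (n : ℤ) = 0)
      show fdelta K (ZetaLib.str 1 K) (ψ (closedPoint K)) = 0
      omega
    · by_contra hne
      exact hj.1 ((mem_basicOpen_iff_coord i j hm).2 hne) rfl
  obtain ⟨y0, hy0, hy0r, hy0d, hy0v⟩ := hpt 0 1 (by decide)
  obtain ⟨y1, hy1, hy1r, hy1d, hy1v⟩ := hpt 1 0 (by decide)
  have hs0 := hsp 0 1 (by decide) h0 hv y0 hy0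
  have hs1 := hsp 1 0 (by decide) h1' hu y1 hy1
  have hξy : ξP ≠ y0 := fun e => by
    subst e
    exact hv0 hy0v
  have hδ : δ ξP = 1 := by
    have := (hd _ _ hs0 hξy).1
    omega
  have hy1n : y1 ∉ Proj.basicOpen 𝒜 (X 0) := fun h => (mem_basicOpen_iff_coord 1 0 hy1).1 h hy1v
  have hA0 := Proj.isAffineOpen_basicOpen 𝒜 (X 0) (ZetaLib.X_mem 1 K 0) one_pos
  have hA1 := Proj.isAffineOpen_basicOpen 𝒜 (X 1) (ZetaLib.X_mem 1 K 1) one_pos
  have hd1 : ∀ {y : Proj 𝒜}, δ y = 0 → δ y + 1 = δ ξP := fun h => by omega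
  have hdiv : ∀ (y : Proj 𝒜) (hs : ξP ⤳ y), δ y + 1 = δ ξP →
      Cyc.divFun δ ξP v y = Cyc.ordAt y ξP hs v := fun y hs hy => dif_pos ⟨hs, hy⟩
  have hneg : ∀ (y : Proj 𝒜) (hs : ξP ⤳ y), δ y + 1 = δ ξP →
      Cyc.ordAt y ξP hs v = - Cyc.ordAt y ξP hs u := fun y hs hy => by
    have e := ordAt_mul hd hs hy hv0 hu0
    rw [huv, ordAt_one hd hs hy] at e
    omega
  refine ⟨hδ, y0, y1, fun e => hy1n (e ▸ hy0), hy0r, hy1r, hy0d, hy1d, ?_, ?_, fun y hy => ?_⟩
  · rw [hdiv y0 hs0 (hd1 hy0d)]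
    exact ordAt_evaluation_of_eq_zero hd hA0 _ hy0 hs0 (hd1 hy0d) hv0 (scal K 0)
      (coord_generates K 0 1 (by decide)) hy0v
  · rw [hdiv y1 hs1 (hd1 hy1d), hneg y1 hs1 (hd1 hy1d),
      ordAt_evaluation_of_eq_zero hd hA1 _ hy1 hs1 (hd1 hy1d) hu0 (scal K 1)
        (coord_generates K 1 0 (by decide)) hy1v]
  · have hc : ξP ⤳ y ∧ δ y + 1 = δ ξP := by
      by_contra hn
      exact hy (dif_neg hn)
    rw [hdiv y hc.1 hc.2] at hy
    by_cases hy0' : y ∈ Proj.basicOpen 𝒜 (X 0)
    · left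
      refine eq_of_evaluation_eq_zero hA0 _ hy0 (scal K 0) (coord_generates K 0 1 (by decide)) hy0v hy0' ?_
      by_contra hne
      exact hy (ordAt_evaluation_of_ne_zero hd _ hy0' hc.1 hc.2 hv0 hne)
    · right
      obtain ⟨i, hi⟩ := ZetaLib.exists_mem_basicOpen 1 K y
      obtain rfl : i = 1 := by
        rcases Fin.exists_fin_two.1 ⟨i, rfl⟩ with h | h <;> first | exact h | exact absurd (h ▸ hi) hy0'
      refine eq_of_evaluation_eq_zero hA1 _ hy1 (scal K 1) (coord_generates K 1 0 (by decide)) hy1v hi ?_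
      by_contra hne
      exact hy0' ((mem_basicOpen_iff_coord 1 0 hi).2 hne)

end line

/-- Principal divisors on proper schemes over a field push forward to zero on the point. -/
theorem map_divFun_eq_zero_of_field {X : Scheme.{u}} (c : X ⟶ Spec (CommRingCat.of K)) [IsProper c]
    (ξ : X) (h1 : fdelta K c ξ = 1) {g : X.residueField ξ} (hg : g ≠ 0) (α : AlgebraicCycle X ℤ)
    (hα : ⇑α = Cyc.divFun (fdelta K c) ξ g) (p : Spec (CommRingCat.of K)) :
    AlgebraicCycle.map c (fdelta K c) (fdelta K (𝟙 (Spec (CommRingCat.of K)))) α p = 0 := by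
  classical
  haveI := LocallyOfFiniteType.isLocallyNoetherian c
  have hdX := isDimFun_fdelta K c
  have hsupp : ∀ x, α x ≠ 0 → ξ ⤳ x ∧ fdelta K c x + 1 = fdelta K c ξ := fun x hx => by
    by_contra hn
    exact hx (by rw [hα]; exact dif_neg hn)
  by_cases halg : ∃ q : Polynomial K, q ≠ 0 ∧ q.eval₂ (kMap K c ξ) g = 0
  · obtain ⟨q, hq, hqg⟩ := halg
    rw [map_apply_eq_sum c _ _ α p ∅ fun x _ hx => ?_]
    · simp
    · obtain ⟨hs, h⟩ := hsupp x hx
      refine absurd ?_ hx
      rw [hα, Cyc.divFun, dif_pos ⟨hs, h⟩]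
      exact ordAt_eq_zero_of_algebraic K c hs h hg q hq hqg
  simp only [not_exists, not_and] at halg
  letI : Algebra K (X.residueField ξ) := (kMap K c ξ).toAlgebra
  obtain ⟨ψ, hψ, ⟨hm, hval⟩, ⟨_, hsc⟩, -⟩ := exists_point K (L := X.residueField ξ) 0 1 (by decide) g
  haveI : IsProper (ZetaLib.str 1 K) := ProjProper.Basic.isProper_toSpec 1 K
  have hcomp : X.fromSpecResidueField ξ ≫ c = ψ ≫ ZetaLib.str 1 K :=
    (preimage_fromSpecResidueField_comp K c ξ).trans hψ.symm
  let a := pullback.fst c (ZetaLib.str 1 K)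
  let b := pullback.snd c (ZetaLib.str 1 K)
  let cW := a ≫ c
  let w0 : Spec (X.residueField ξ) ⟶ pullback c (ZetaLib.str 1 K) := pullback.lift _ ψ hcomp
  let w := w0 (closedPoint (X.residueField ξ))
  haveI : IsProper cW := inferInstanceAs (IsProper (a ≫ c))
  haveI : IsLocallyNoetherian ↑(pullback c (ZetaLib.str 1 K)) := LocallyOfFiniteType.isLocallyNoetherian cW
  haveI := LocallyOfFiniteType.isLocallyNoetherian (ZetaLib.str 1 K)
  have hwa : w0 ≫ a = X.fromSpecResidueField ξ := pullback.lift_fst _ _ _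
  have hwb : w0 ≫ b = ψ := pullback.lift_snd _ _ _
  have haw : a w = ξ := by
    show (w0 ≫ a) (closedPoint (X.residueField ξ)) = ξ
    rw [hwa]
    exact Scheme.fromSpecResidueField_apply _ _
  have hbw : b w = ψ (closedPoint (X.residueField ξ)) := by
    show (w0 ≫ b) (closedPoint (X.residueField ξ)) = _
    rw [hwb]
  let r := (pullback c (ZetaLib.str 1 K)).descResidueField
    (K := X.residueField ξ) (Scheme.stalkClosedPointTo w0)
  have hr : Spec.map r ≫ Scheme.fromSpecResidueField _ w = w0 :=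
    Scheme.descResidueField_stalkClosedPointTo_fromSpecResidueField (X.residueField ξ) _ w0
  have hra : a.residueFieldMap w ≫ r = (Scheme.residueFieldCongr haw).hom := by
    refine residueFieldCongr_unique haw _ ?_
    rw [Spec.map_comp, Category.assoc, a.SpecMap_residueFieldMap_fromSpecResidueField w,
      ← Category.assoc, hr, hwa]
  have hrb : Spec.map (b.residueFieldMap w ≫ r) ≫ Scheme.fromSpecResidueField _ (b w) = ψ := by
    rw [Spec.map_comp, Category.assoc, b.SpecMap_residueFieldMap_fromSpecResidueField w,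
      ← Category.assoc, hr, hwb]
  have hbm : b w ∈ Proj.basicOpen 𝒜 (MvPolynomial.X 0) := hbw ▸ hm
  have ev := fun t => evaluation_desc ψ hbw _ hrb hbm hm t
  let g' := (Scheme.residueFieldCongr haw).inv g
  have hrg : r (a.residueFieldMap w g') = g := by
    have := congr($hra g')
    rw [CommRingCat.comp_apply] at this
    rw [this]
    exact congr($((Scheme.residueFieldCongr haw).inv_hom_id) g)
  set t := (Proj 𝒜).evaluation _ (b w) hbm (coord K 0 1) with ht
  have hrt : r (b.residueFieldMap w t) = g := (ev _).trans hval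
  have hgt : a.residueFieldMap w g' = b.residueFieldMap w t := r.hom.injective (hrg.trans hrt.symm)
  have hsurj : Function.Surjective (a.residueFieldMap w).hom := fun z => by
    obtain ⟨z', hz'⟩ := (ConcreteCategory.bijective_of_isIso (Scheme.residueFieldCongr haw).hom).2 (r z)
    refine ⟨z', r.hom.injective ?_⟩
    rw [← hz', ← hra]
    rfl
  have hδa : Cyc.DeltaCompat a (fdelta K cW) (fdelta K c) := deltaCompat_fdelta K a cW c rfl
  have hδb : Cyc.DeltaCompat b (fdelta K cW) (fdelta K (ZetaLib.str 1 K)) :=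
    deltaCompat_fdelta K b cW _ pullback.condition.symm
  have hδW : fdelta K cW w = fdelta K c (a w) := delta_eq_of_surjective a hδa w hsurj
  have hW1 : fdelta K cW w = 1 := by rw [hδW, haw, h1]
  have hv : ∀ q : Polynomial K, q ≠ 0 →
      q.eval₂ (((Proj 𝒜).evaluation _ (b w) hbm).hom.comp (scal K 0)) t ≠ 0 := by
    intro q hq he
    refine halg q hq ?_
    have he' := congrArg (b.residueFieldMap w ≫ r).hom he
    rw [Polynomial.hom_eval₂, map_zero] at he'
    rw [show g = (b.residueFieldMap w ≫ r).hom t from hrt.symm]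
    convert he' using 2
    exact RingHom.ext fun x => ((ev _).trans (hsc x)).symm
  obtain ⟨n, -, hn⟩ := hδb w
  obtain ⟨hδP, y0, y1, hne, hr0, hr1, hd0, hd1, hD0, hD1, hDs⟩ := divFun_coord K hbm (by omega) hv
  have hg' : g' ≠ 0 := (map_ne_zero _).2 hg
  have ht0 : t ≠ 0 := fun h => hg (by rw [← hrt, h, map_zero, map_zero])
  obtain ⟨β, hβ⟩ := exists_cycle_finsum_divFun (isDimFun_fdelta K cW) (fun _ : PUnit.{u + 1} => w)
    (fun _ => a.residueFieldMap w g') (fun _ => (map_ne_zero _).2 hg')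
    (fun x => ⟨Set.univ, isOpen_univ, trivial, Set.toFinite _⟩)
  replace hβ : ⇑β = Cyc.divFun (fdelta K cW) w (a.residueFieldMap w g') :=
    funext fun x => (hβ x).trans (finsum_unique _)
  have hA : AlgebraicCycle.map a (fdelta K cW) (fdelta K c) β = α := by
    ext x
    rw [map_divFun_eq' a (isDimFun_fdelta K cW) hdX hδa w hδW ((map_ne_zero _).2 hg') β hβ x,
      normGen_residueFieldMap, residueDegree_eq_one a w hsurj, pow_one, hα]
    have key : ∀ (ζ : X) (hζ : ζ = ξ), Cyc.divFun (fdelta K c) ζ ((Scheme.residueFieldCongr hζ).inv g) x =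
        Cyc.divFun (fdelta K c) ξ g x := by
      rintro _ rfl
      simp
    exact key _ haw
  have hB : ∀ y, AlgebraicCycle.map b (fdelta K cW) (fdelta K (ZetaLib.str 1 K)) β y =
      (b.residueDegree w : ℤ) * Cyc.divFun (fdelta K (ZetaLib.str 1 K)) (b w) t y := fun y => by
    rw [map_divFun_eq' b (isDimFun_fdelta K cW) (isDimFun_fdelta K _) hδb w (by omega)
      ((map_ne_zero _).2 hg') β hβ y, hgt, normGen_residueFieldMap,
      divFun_pow (isDimFun_fdelta K _) ht0]
  have hδc : Cyc.DeltaCompat c (fdelta K c) (fdelta K (𝟙 (Spec (CommRingCat.of K)))) :=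
    deltaCompat_fdelta K c c _ (Category.comp_id c)
  have hδs : Cyc.DeltaCompat (ZetaLib.str 1 K) (fdelta K (ZetaLib.str 1 K))
      (fdelta K (𝟙 (Spec (CommRingCat.of K)))) := deltaCompat_fdelta K _ _ _ (Category.comp_id _)
  have hcongr : ∀ {f f' : pullback c (ZetaLib.str 1 K) ⟶ Spec (CommRingCat.of K)} [QuasiCompact f]
      [QuasiCompact f'], f = f' →
      AlgebraicCycle.map f (fdelta K cW) (fdelta K (𝟙 (Spec (CommRingCat.of K)))) β =
        AlgebraicCycle.map f' (fdelta K cW) (fdelta K (𝟙 (Spec (CommRingCat.of K)))) β := by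
    intro f f' _ _ h
    subst h
    rfl
  rw [← hA, map_map_of_deltaCompat a c hδa hδc,
    hcongr (show a ≫ c = b ≫ ZetaLib.str 1 K from pullback.condition),
    ← map_map_of_deltaCompat b (ZetaLib.str 1 K) hδb hδs,
    map_apply_eq_sum (ZetaLib.str 1 K) _ _ _ p {y0, y1} fun y _ hy => ?_]
  · have hp : ∀ y : Proj 𝒜, ZetaLib.str 1 K y = p := fun y => Subsingleton.elim (α := PrimeSpectrum K) _ _
    rw [Finset.filter_true_of_mem fun y _ => hp y, Finset.sum_pair hne, hB, hB, hD0, hD1]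
    have hco : ∀ y, fdelta K (ZetaLib.str 1 K) y = 0 → (ZetaLib.str 1 K).residueDegree y = 1 →
        AlgebraicCycle.mapCoeff (ZetaLib.str 1 K) (fdelta K (ZetaLib.str 1 K))
          (fdelta K (𝟙 (Spec (CommRingCat.of K)))) y = 1 := fun y h h' => by
      rw [AlgebraicCycle.mapCoeff, if_pos (h.trans (fdelta_id K _).symm), h']
    rw [hco y0 hd0 hr0, hco y1 hd1 hr1]
    ring
  · rw [hB] at hy
    rcases hDs y (right_ne_zero_of_mul hy) with rfl | rfl <;> simp

end Groth.Agent.CycLib
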