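import Groth.Agent.CycLib.P1Sect
import Groth.Agent.S0616
import Mathlib.RingTheory.Ideal.AssociatedPrime.Localization

/-!
Cutting a one-dimensional local ring by a nonzerodivisor, and closed subschemes with a dimension function.
-/

set_option autoImplicit false
set_option linter.style.haveILetI false
set_option maxHeartbeats 800000

universe u

open CategoryTheory AlgebraicGeometry IsLocalRing Classical

namespace Groth.Agent.CycLib

theorem length_localization_minimal_ne_top {A : Type u} [CommRing A] [IsNoetherianRing A] (P : PrimeSpectrum A)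
    (hP : P.asIdeal ∈ minimalPrimes A) :
    Module.length (Localization.AtPrime P.asIdeal) (Localization.AtPrime P.asIdeal) ≠ ⊤ := by
  haveI : Ring.KrullDimLE 0 (Localization.AtPrime P.asIdeal) := by
    rw [Ring.krullDimLE_iff, IsLocalization.AtPrime.ringKrullDim_eq_height P.asIdeal,
      Ideal.height_eq_zero_iff.2 hP]
    rfl
  haveI : IsArtinianRing (Localization.AtPrime P.asIdeal) := IsNoetherianRing.isArtinianRing_of_krullDimLE_zero
  exact Module.length_ne_top

theorem length_cut_eq_sum {A : Type u} [CommRing A] [IsNoetherianRing A] [IsLocalRing A]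
    (hdim : ∀ P : Ideal A, P.IsPrime → P ∈ minimalPrimes A ∨ P = maximalIdeal A)
    (hmax : ¬ IsAssociatedPrime (maximalIdeal A) A) (t : A) (ht : ∀ P ∈ minimalPrimes A, t ∉ P)
    (s : Finset (PrimeSpectrum A)) (hs : ∀ P : PrimeSpectrum A, P ∈ s ↔ P.asIdeal ∈ minimalPrimes A) :
    (Module.length A (A ⧸ Ideal.span {t})).toNat =
      ∑ P ∈ s, (Module.length (Localization.AtPrime P.asIdeal) (Localization.AtPrime P.asIdeal)).toNat *
        (Module.length A (A ⧸ (P.asIdeal ⊔ Ideal.span {t}))).toNat := by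
  have hassoc : ∀ P ∈ minimalPrimes A, IsAssociatedPrime P A := fun P hP => by
    refine (Module.associatedPrimes.minimalPrimes_annihilator_subset_associatedPrimes A A) ?_
    rwa [Module.annihilator_eq_bot.2 inferInstance]
  have hmaxmin : maximalIdeal A ∉ minimalPrimes A := fun h => hmax (hassoc _ h)
  haveI : Ring.KrullDimLE 1 A := Ring.krullDimLE_one_iff.2 fun I hI =>
    (hdim I hI).imp id fun (h : I = maximalIdeal A) => h ▸ maximalIdeal.isMaximal A
  have hA : ringKrullDim A = 1 := by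
    refine le_antisymm (Ring.krullDimLE_iff.1 inferInstance) ?_
    by_contra hlt
    have h0 : ringKrullDim A ≤ 0 := by
      rcases h : ringKrullDim A with _ | (_ | n)
      · exact bot_le
      · exact absurd (h ▸ le_top) hlt
      · rw [h] at hlt
        have : n = 0 := by
          by_contra hn
          refine hlt ?_
          show ((1 : ℕ) : WithBot ℕ∞) ≤ ((n : ℕ) : WithBot ℕ∞)
          exact_mod_cast Nat.one_le_iff_ne_zero.2 hn
        subst this
        exact le_rfl
    haveI : Ring.KrullDimLE 0 A := Ring.krullDimLE_iff.2 (by simpa using h0)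
    exact hmaxmin ((maximalIdeal A).mem_minimalPrimes_of_krullDimLE_zero)
  have h := S0616.result hA A t ht
  have hker : Module.length A (LinearMap.ker (LinearMap.lsmul A A t)) = 0 := by
    rw [Module.length_eq_zero_iff, Submodule.subsingleton_iff_eq_bot, LinearMap.ker_eq_bot']
    intro x hx
    by_contra hx0
    have hmem : t ∈ ⋃ p ∈ associatedPrimes A A, (p : Set A) := by
      rw [biUnion_associatedPrimes_eq_zero_divisors]
      exact ⟨x, hx0, hx⟩
    obtain ⟨p, hp, htp⟩ := Set.mem_iUnion₂.1 hmem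
    rcases hdim p (IsAssociatedPrime.isPrime hp) with h' | h'
    · exact ht p h' htp
    · exact hmax (h' ▸ hp)
  rw [hker, zero_add] at h
  open Pointwise in
  have e : t • (⊤ : Submodule A A) = Ideal.span {t} := by
    rw [← Submodule.ideal_span_singleton_smul, smul_eq_mul, Ideal.mul_top]
  rw [(Submodule.quotEquivOfEq _ _ e).length_eq] at h
  rw [h]
  have hfin : ∀ P ∈ s, Module.length A (A ⧸ (P.asIdeal ⊔ Ideal.span {t})) ≠ ⊤ := by
    intro P hP
    have hne : P.asIdeal ⊔ Ideal.span {t} ≠ P.asIdeal := fun e' =>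
      ht P.asIdeal ((hs P).1 hP) (e' ▸ Ideal.mem_sup_right (Ideal.mem_span_singleton_self t))
    haveI : Ring.KrullDimLE 0 (A ⧸ (P.asIdeal ⊔ Ideal.span {t})) := by
      rw [Ring.krullDimLE_zero_iff]
      intro Q hQ
      haveI := hQ
      have hle : P.asIdeal ⊔ Ideal.span {t} ≤ Q.comap (Ideal.Quotient.mk _) :=
        Ideal.mk_ker.ge.trans (Ideal.comap_mono bot_le)
      have hQm : Q.comap (Ideal.Quotient.mk (P.asIdeal ⊔ Ideal.span {t})) = maximalIdeal A := by
        refine (hdim _ inferInstance).resolve_left fun hmin => ?_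
        exact hne (le_antisymm (hle.trans (hmin.2 ⟨P.isPrime, bot_le⟩ (le_sup_left.trans hle))) le_sup_left)
      haveI : (Q.comap (Ideal.Quotient.mk (P.asIdeal ⊔ Ideal.span {t}))).IsMaximal := hQm ▸ maximalIdeal.isMaximal A
      exact Ideal.map_comap_of_surjective _ Ideal.Quotient.mk_surjective Q ▸
        (Ideal.IsMaximal.map_of_surjective_of_ker_le Ideal.Quotient.mk_surjective (by rw [Ideal.mk_ker]; exact hle))
    haveI : IsArtinianRing (A ⧸ (P.asIdeal ⊔ Ideal.span {t})) := IsNoetherianRing.isArtinianRing_of_krullDimLE_zero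
    rw [length_quot_self]
    exact Module.length_ne_top
  rw [show (∑ᶠ (p : PrimeSpectrum A) (_ : p.asIdeal ∈ minimalPrimes A),
        Module.length (Localization.AtPrime p.asIdeal) (LocalizedModule p.asIdeal.primeCompl A) *
          Module.length A (A ⧸ p.asIdeal ⊔ Ideal.span {t})) = ∑ p ∈ s,
        Module.length (Localization.AtPrime p.asIdeal) (LocalizedModule p.asIdeal.primeCompl A) *
          Module.length A (A ⧸ p.asIdeal ⊔ Ideal.span {t}) from
    finsum_mem_eq_sum_of_inter_support_eq (s := {p : PrimeSpectrum A | p.asIdeal ∈ minimalPrimes A}) _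
      (Set.ext fun p => and_congr_left fun _ => (hs p).symm)]
  have hterm : ∀ P ∈ s, Module.length (Localization.AtPrime P.asIdeal) (LocalizedModule P.asIdeal.primeCompl A) *
      Module.length A (A ⧸ (P.asIdeal ⊔ Ideal.span {t})) =
      (((Module.length (Localization.AtPrime P.asIdeal) (Localization.AtPrime P.asIdeal)).toNat *
        (Module.length A (A ⧸ (P.asIdeal ⊔ Ideal.span {t}))).toNat : ℕ) : ℕ∞) := fun P hP => by
    rw [Nat.cast_mul, ENat.coe_toNat (length_localization_minimal_ne_top P ((hs P).1 hP)),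
      ENat.coe_toNat (hfin P hP)]
  rw [Finset.sum_congr rfl hterm, ← Nat.cast_sum, ENat.toNat_natCast]

variable {Z P : Scheme.{u}} (ι : Z ⟶ P) [IsClosedImmersion ι] [IsLocallyNoetherian Z]
  {δ : P → ℤ} {k : ℤ}

theorem finite_top_dim_inter (hd : Cyc.IsDimFun Z fun z => δ (ι z)) (hZ : ∀ z, δ (ι z) ≤ k + 1) (p : P) :
    ∃ W : Set P, IsOpen W ∧ p ∈ W ∧
      {ζ : {z : Z // δ (ι z) = k + 1} | (closure {ι ζ.1} ∩ W).Nonempty}.Finite := by
  obtain ⟨W, hW, hpW, -⟩ := exists_isAffineOpen_mem_and_subset (x := p) (U := ⊤) trivial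
  have hU : IsAffineOpen (ι ⁻¹ᵁ W) := hW.preimage ι
  haveI : IsNoetherianRing Γ(Z, ι ⁻¹ᵁ W) := IsLocallyNoetherian.component_noetherian ⟨_, hU⟩
  refine ⟨W, W.2, hpW, (((Ideal.finite_minimalPrimes_of_isNoetherianRing _ (⊥ : Ideal Γ(Z, ι ⁻¹ᵁ W))).preimage
    (f := fun Q : PrimeSpectrum Γ(Z, ι ⁻¹ᵁ W) => Q.asIdeal)
    (fun a _ b _ e => PrimeSpectrum.ext e)).image hU.fromSpec |>.preimage Subtype.val_injective.injOn).subset ?_⟩
  rintro ⟨ζ, hζ⟩ ⟨w, hw, hwW⟩
  have hζW : ζ ∈ ι ⁻¹ᵁ W := (specializes_iff_mem_closure.2 hw).mem_open W.2 hwW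
  refine ⟨hU.primeIdealOf ⟨ζ, hζW⟩, ⟨⟨(hU.primeIdealOf ⟨ζ, hζW⟩).isPrime, bot_le⟩, fun J hJ hle => ?_⟩,
    hU.fromSpec_primeIdealOf _⟩
  have h1 := (primeIdealOf_le_iff hU ⟨J, hJ.1⟩ (hU.primeIdealOf ⟨ζ, hζW⟩)).1 hle
  rw [hU.fromSpec_primeIdealOf] at h1
  have h2 : hU.fromSpec ⟨J, hJ.1⟩ = ζ := eq_of_specializes hd h1 (by
    show δ (ι (hU.fromSpec ⟨J, hJ.1⟩)) ≤ δ (ι ζ)
    rw [hζ]; exact hZ _)
  exact (congrArg PrimeSpectrum.asIdeal (hU.fromSpec.isOpenEmbedding.injective
    (h2.trans (hU.fromSpec_primeIdealOf ⟨ζ, hζW⟩).symm))).ge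

end Groth.Agent.CycLib
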