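import Groth.Agent.CycLib.FlatLength
import Groth.Agent.S0616
import Groth.Agent.LenLib.DomainDet
import Mathlib.Data.ENat.BigOperators
import Mathlib.RingTheory.Localization.AtPrime.Basic
import Mathlib.RingTheory.Localization.Ideal
import Mathlib.RingTheory.Ideal.MinimalPrime.Localization
import Mathlib.Algebra.Algebra.Basic

/-!
Lengths of quotients of quotient rings, and the multiplicity identity along a flat local map from a
one-dimensional domain.
-/

set_option autoImplicit false
set_option linter.style.haveILetI false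
set_option maxHeartbeats 400000

universe u

open IsLocalRing TensorProduct

namespace Groth.Agent.CycLib

theorem length_self_congr {R R' : Type u} [CommRing R] [CommRing R'] (e : R ≃+* R') :
    Module.length R R = Module.length R' R' := by
  letI := e.toRingHom.toAlgebra
  rw [← Module.length_eq_of_surjective (R := R') (S := R) (M := R') e.surjective]
  exact (LinearEquiv.ofBijective (Algebra.linearMap R R') e.bijective).length_eq

theorem length_quot_self {A : Type u} [CommRing A] (J : Ideal A) :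
    Module.length A (A ⧸ J) = Module.length (A ⧸ J) (A ⧸ J) :=
  Module.length_eq_of_surjective Ideal.Quotient.mk_surjective

/-- Lengths of quotients do not depend on the surjective image they are computed over. -/
theorem length_quot_surjective {A B : Type u} [CommRing A] [CommRing B] (π : A →+* B)
    (hπ : Function.Surjective π) (J : Ideal B) (J' : Ideal A) (h : J.comap π = J') :
    Module.length B (B ⧸ J) = Module.length A (A ⧸ J') := by
  subst h
  rw [length_quot_self, length_quot_self]
  refine (length_self_congr (RingEquiv.ofBijective (Ideal.quotientMap J π le_rfl)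
    ⟨Ideal.quotientMap_injective, fun z => ?_⟩)).symm
  obtain ⟨b, rfl⟩ := Ideal.Quotient.mk_surjective z
  obtain ⟨a, rfl⟩ := hπ b
  exact ⟨Ideal.Quotient.mk _ a, Ideal.quotientMap_mk⟩

theorem comap_map_of_ker_le {A B : Type u} [CommRing A] [CommRing B] (π : A →+* B)
    (hπ : Function.Surjective π) (J : Ideal A) (h : RingHom.ker π ≤ J) : (J.map π).comap π = J := by
  rw [Ideal.comap_map_of_surjective' π hπ, sup_eq_left]
  exact h

/-- The length of `(A / I)_P` is the length of `A_Q / I A_Q`. -/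
theorem length_localized_quot {A S : Type u} [CommRing A] [CommRing S] [Algebra A S] (I : Ideal A)
    (P : Ideal (A ⧸ I)) [P.IsPrime] [IsLocalization.AtPrime S (P.comap (Ideal.Quotient.mk I))] :
    Module.length (Localization.AtPrime P) (LocalizedModule P.primeCompl (A ⧸ I)) =
      Module.length S (S ⧸ I.map (algebraMap A S)) := by
  rw [show Module.length (Localization.AtPrime P) (LocalizedModule P.primeCompl (A ⧸ I)) =
    Module.length (Localization.AtPrime P) (Localization.AtPrime P) from rfl, length_quot_self]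
  have hs : Algebra.algebraMapSubmonoid (A ⧸ I) (P.comap (Ideal.Quotient.mk I)).primeCompl =
      P.primeCompl :=
    Submonoid.map_comap_eq_of_surjective (f := Ideal.Quotient.mk I) Ideal.Quotient.mk_surjective P.primeCompl
  haveI : IsLocalization.AtPrime (S ⧸ I.map (algebraMap A S)) P := by
    have : IsLocalization (Algebra.algebraMapSubmonoid (A ⧸ I) (P.comap (Ideal.Quotient.mk I)).primeCompl)
        (S ⧸ I.map (algebraMap A S)) := inferInstance
    rw [hs] at this
    exact this
  exact length_self_congr (IsLocalization.algEquiv P.primeCompl _ _).toRingEquiv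

variable {R B : Type u} [CommRing R] [CommRing B] [Algebra R B] [IsDomain R] [IsLocalRing R]
  [IsNoetherianRing B] [IsLocalRing B] [IsLocalHom (algebraMap R B)] [Module.Flat R B]

omit [IsLocalRing R] [IsNoetherianRing B] [IsLocalRing B] [IsLocalHom (algebraMap R B)] in
theorem algebraMap_not_mem_minimal {a : R} (ha : a ≠ 0) {P : Ideal B} (hP : P ∈ minimalPrimes B) :
    algebraMap R B a ∉ P := by
  intro hmem
  have hr : IsSMulRegular B (algebraMap R B a) :=
    IsSMulRegular.of_flat (fun x y h => mul_left_cancel₀ ha h)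
  refine Set.disjoint_left.mp (Ideal.disjoint_nonZeroDivisors_of_mem_minimalPrimes hP) hmem ?_
  exact mem_nonZeroDivisors_iff_right.mpr fun x hx => hr (by simpa [mul_comm] using hx)

/-- `len_R (R/a) · len_B (B/m B) = Σ_P len (B_P) · len_B (B/(P + a))` over minimal primes of `B`. -/
theorem flat_length_decomp (hB : ringKrullDim B = 1) {a : R} (ha : a ≠ 0) :
    Module.length R (R ⧸ Ideal.span {a}) * Module.length B (B ⧸ (maximalIdeal R).map (algebraMap R B)) =
      ∑ᶠ (P : PrimeSpectrum B) (_ : P.asIdeal ∈ minimalPrimes B),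
        Module.length (Localization.AtPrime P.asIdeal) (LocalizedModule P.asIdeal.primeCompl B) *
          Module.length B (B ⧸ (P.asIdeal ⊔ Ideal.span {algebraMap R B a})) := by
  have h := S0616.result hB B (algebraMap R B a) fun p hp => algebraMap_not_mem_minimal ha hp
  have hker : Module.length B (LinearMap.ker (LinearMap.lsmul B B (algebraMap R B a))) = 0 := by
    rw [Module.length_eq_zero_iff, Submodule.subsingleton_iff_eq_bot, LinearMap.ker_eq_bot']
    intro x hx
    have hr : IsSMulRegular B (algebraMap R B a) :=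
      IsSMulRegular.of_flat (fun x y h => mul_left_cancel₀ ha h)
    exact hr (show algebraMap R B a • x = algebraMap R B a • 0 by rw [smul_zero]; exact hx)
  rw [hker, zero_add] at h
  rw [← h, ← length_quotient_map, Ideal.map_span, Set.image_singleton]
  open Pointwise in
  have e : algebraMap R B a • (⊤ : Submodule B B) = Ideal.span {algebraMap R B a} := by
    rw [← Submodule.ideal_span_singleton_smul, smul_eq_mul, Ideal.mul_top]
  exact (Submodule.quotEquivOfEq _ _ e).length_eq.symm

section quotient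

variable {A C : Type u} [CommRing A] [CommRing C] [Algebra A C]

omit [Algebra A C] in
theorem isLocalHom_mk [IsLocalRing A] (p : Ideal A) (hp : p ≠ ⊤) :
    IsLocalHom (Ideal.Quotient.mk p) := by
  haveI := Ideal.Quotient.nontrivial_iff.mpr hp
  exact IsLocalHom.of_surjective _ Ideal.Quotient.mk_surjective

/-- `A ⧸ p → C ⧸ p C`. -/
@[reducible] noncomputable def quotAlgebra (p : Ideal A) : Algebra (A ⧸ p) (C ⧸ p.map (algebraMap A C)) :=
  (Ideal.quotientMap (p.map (algebraMap A C)) (algebraMap A C) Ideal.le_comap_map).toAlgebra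

theorem flat_quotAlgebra [Module.Flat A C] (p : Ideal A) :
    letI := quotAlgebra (C := C) p
    Module.Flat (A ⧸ p) (C ⧸ p.map (algebraMap A C)) := by
  letI := quotAlgebra (C := C) p
  haveI : IsScalarTower A (A ⧸ p) (C ⧸ p.map (algebraMap A C)) :=
    IsScalarTower.of_algebraMap_eq fun _ => rfl
  let e : ((A ⧸ p) ⊗[A] C) ≃ₗ[A] C ⧸ p.map (algebraMap A C) :=
    (TensorProduct.comm A (A ⧸ p) C) ≪≫ₗ
      ((Algebra.TensorProduct.quotIdealMapEquivTensorQuot C p).symm.toLinearEquiv.restrictScalars A)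
  exact Module.Flat.of_linearEquiv (e.extendScalarsOfSurjective Ideal.Quotient.mk_surjective).symm

/-- `len (C_Q / I C_Q)`. -/
noncomputable def locLen (I : Ideal C) (Q : PrimeSpectrum C) : ℕ :=
  (Module.length (Localization.AtPrime Q.asIdeal)
    (Localization.AtPrime Q.asIdeal ⧸ I.map (algebraMap C (Localization.AtPrime Q.asIdeal)))).toNat

omit [Algebra A C] in
theorem locLen_eq (I : Ideal C) (Q : PrimeSpectrum C) (S : Type u) [CommRing S] [Algebra C S]
    [IsLocalization.AtPrime S Q.asIdeal] :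
    locLen I Q = (Module.length S (S ⧸ I.map (algebraMap C S))).toNat := by
  rw [locLen, length_quot_self, length_quot_self (A := S)]
  refine congrArg ENat.toNat (length_self_congr (Ideal.quotientEquiv _ _
    (IsLocalization.algEquiv Q.asIdeal.primeCompl (Localization.AtPrime Q.asIdeal) S).toRingEquiv ?_))
  rw [Ideal.map_map]
  congr 1
  exact (AlgHom.comp_algebraMap
    ((IsLocalization.algEquiv Q.asIdeal.primeCompl (Localization.AtPrime Q.asIdeal) S).toAlgHom)).symm

variable [IsLocalRing A] [IsLocalRing C] [IsNoetherianRing A] [IsNoetherianRing C]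
  [IsLocalHom (algebraMap A C)] [Module.Flat A C]

/-- The multiplicity identity for `C / p C` over the one-dimensional domain `A / p`. -/
theorem flat_quot_decomp (p : Ideal A) [hp : p.IsPrime] [Ring.KrullDimLE 1 (A ⧸ p)]
    (T : Finset (PrimeSpectrum C)) (hT : ∀ Q, Q ∈ T ↔ (p.map (algebraMap A C) ≤ Q.asIdeal ∧
      Q.asIdeal ≠ maximalIdeal C))
    (hne : T.Nonempty)
    (hmin : ∀ Q ∈ T, ∀ Q' : PrimeSpectrum C, p.map (algebraMap A C) ≤ Q'.asIdeal →
      Q'.asIdeal ≤ Q.asIdeal → Q' = Q)
    (hfin : Module.length C (C ⧸ (maximalIdeal A).map (algebraMap A C)) ≠ ⊤)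
    {a : A} (ha : a ∉ p) :
    LenLib.ordZ (Ideal.Quotient.mk p a) *
        ((Module.length C (C ⧸ (maximalIdeal A).map (algebraMap A C))).toNat : ℤ) =
      ∑ Q ∈ T, (locLen (p.map (algebraMap A C)) Q : ℤ) *
        LenLib.ordZ (Ideal.Quotient.mk Q.asIdeal (algebraMap A C a)) := by
  classical
  set I := p.map (algebraMap A C) with hIdef
  let mkB : C →+* C ⧸ I := Ideal.Quotient.mk I
  have hmk : Function.Surjective mkB := Ideal.Quotient.mk_surjective
  have hker : RingHom.ker mkB = I := Ideal.mk_ker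
  have hpm : p ≤ maximalIdeal A := le_maximalIdeal hp.ne_top
  have hIm : I ≤ (maximalIdeal A).map (algebraMap A C) := Ideal.map_mono hpm
  have hm : (maximalIdeal A).map (algebraMap A C) ≤ maximalIdeal C :=
    ((IsLocalRing.local_hom_TFAE (algebraMap A C)).out 0 2).mp ‹_›
  have hItop : I ≠ ⊤ := ne_top_of_le_ne_top (maximalIdeal.isMaximal C).ne_top (hIm.trans hm)
  haveI : Nontrivial (C ⧸ I) := Ideal.Quotient.nontrivial_iff.mpr hItop
  haveI : IsLocalRing (C ⧸ I) := IsLocalRing.of_surjective' mkB hmk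
  haveI : IsLocalRing (A ⧸ p) := IsLocalRing.of_surjective' (Ideal.Quotient.mk p) Ideal.Quotient.mk_surjective
  letI := quotAlgebra (C := C) p
  haveI := flat_quotAlgebra (C := C) p
  haveI : IsLocalHom (algebraMap (A ⧸ p) (C ⧸ I)) := ⟨fun q hq => by
    obtain ⟨c, rfl⟩ := Ideal.Quotient.mk_surjective q
    haveI := isLocalHom_mk I hItop
    have h1 : IsUnit (mkB (algebraMap A C c)) := hq
    exact ((h1.of_map mkB _).of_map (algebraMap A C) c).map (Ideal.Quotient.mk p)⟩
  have hcomap : ∀ P : PrimeSpectrum (C ⧸ I), I ≤ P.asIdeal.comap mkB := fun P =>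
    hker.ge.trans (Ideal.comap_mono bot_le)
  have hmax : ∀ P : PrimeSpectrum (C ⧸ I), P.asIdeal.comap mkB = maximalIdeal C ↔
      P.asIdeal = maximalIdeal (C ⧸ I) := by
    intro P
    haveI := isLocalHom_mk I hItop
    have e : (maximalIdeal (C ⧸ I)).comap mkB = maximalIdeal C :=
      ((IsLocalRing.local_hom_TFAE mkB).out 0 4).mp ‹_›
    exact ⟨fun h => Ideal.comap_injective_of_surjective mkB hmk (h.trans e.symm), fun h => by rw [h, e]⟩
  have hdim1 : ∀ P : PrimeSpectrum (C ⧸ I), P.asIdeal ≠ maximalIdeal (C ⧸ I) →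
      P.asIdeal ∈ minimalPrimes (C ⧸ I) := by
    intro P hP
    have hPT : PrimeSpectrum.comap mkB P ∈ T := (hT _).2 ⟨hcomap P, fun h => hP ((hmax P).1 h)⟩
    refine ⟨⟨P.2, bot_le⟩, fun Q hQ hle => ?_⟩
    have e := hmin _ hPT (PrimeSpectrum.comap mkB ⟨Q, hQ.1⟩) (hcomap ⟨Q, hQ.1⟩) (Ideal.comap_mono hle)
    exact (Ideal.comap_injective_of_surjective mkB hmk (congrArg PrimeSpectrum.asIdeal e)).ge
  have hback : ∀ Q : PrimeSpectrum C, I ≤ Q.asIdeal →
      ∃ P : PrimeSpectrum (C ⧸ I), PrimeSpectrum.comap mkB P = Q := fun Q hQ =>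
    ⟨⟨Q.asIdeal.map mkB, Ideal.map_isPrime_of_surjective hmk (hker.trans_le hQ)⟩,
      PrimeSpectrum.ext (comap_map_of_ker_le mkB hmk _ (hker.trans_le hQ))⟩
  obtain ⟨Q₀, hQ₀⟩ := hne
  obtain ⟨P₀, rfl⟩ := hback Q₀ ((hT _).1 hQ₀).1
  have hP₀ : P₀.asIdeal < maximalIdeal (C ⧸ I) := lt_of_le_of_ne (le_maximalIdeal P₀.2.ne_top)
    fun h => ((hT _).1 hQ₀).2 ((hmax P₀).2 h)
  have hdim : ringKrullDim (C ⧸ I) = 1 := by
    refine le_antisymm (Ring.krullDimLE_iff.1 (Ring.KrullDimLE.mk₁ fun P hP => ?_))
      (Order.one_le_krullDim_iff.2 ⟨P₀, closedPoint _, hP₀⟩)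
    by_cases hc : P = maximalIdeal (C ⧸ I)
    · exact Or.inr (hc ▸ maximalIdeal.isMaximal _)
    · exact Or.inl (hdim1 ⟨P, hP⟩ hc)
  have hnotmax : ∀ P : PrimeSpectrum (C ⧸ I), P.asIdeal ∈ minimalPrimes (C ⧸ I) →
      P.asIdeal ≠ maximalIdeal (C ⧸ I) := fun P hP e =>
    (e ▸ hP₀ : P₀.asIdeal < P.asIdeal).not_ge (hP.2 ⟨P₀.2, bot_le⟩ (e ▸ hP₀.le))
  have hfinS : {P : PrimeSpectrum (C ⧸ I) | P.asIdeal ∈ minimalPrimes (C ⧸ I)}.Finite :=
    (minimalPrimes.finite_of_isNoetherianRing (C ⧸ I)).preimage fun a _ b _ e => PrimeSpectrum.ext e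
  have himg : T = hfinS.toFinset.image (PrimeSpectrum.comap mkB) := by
    ext Q
    simp only [Finset.mem_image, Set.Finite.mem_toFinset, Set.mem_ofPred_eq]
    constructor
    · intro hQ
      obtain ⟨P, rfl⟩ := hback Q ((hT Q).1 hQ).1
      exact ⟨P, hdim1 P fun h => ((hT _).1 hQ).2 ((hmax P).2 h), rfl⟩
    · rintro ⟨P, hP, rfl⟩
      exact (hT _).2 ⟨hcomap P, fun h => hnotmax P hP ((hmax P).1 h)⟩
  let a' : A ⧸ p := Ideal.Quotient.mk p a
  have ha' : a' ≠ 0 := fun e => ha (Ideal.Quotient.eq_zero_iff_mem.1 e)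
  have key := flat_length_decomp (R := A ⧸ p) (B := C ⧸ I) hdim ha'
  have hfib : Module.length (C ⧸ I) ((C ⧸ I) ⧸ (maximalIdeal (A ⧸ p)).map (algebraMap (A ⧸ p) (C ⧸ I))) =
      Module.length C (C ⧸ (maximalIdeal A).map (algebraMap A C)) := by
    refine length_quot_surjective mkB hmk _ _ ?_
    have e : maximalIdeal (A ⧸ p) = (maximalIdeal A).map (Ideal.Quotient.mk p) := by
      haveI : ((maximalIdeal A).map (Ideal.Quotient.mk p)).IsMaximal :=
        Ideal.IsMaximal.map_of_surjective_of_ker_le Ideal.Quotient.mk_surjective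
          (by rw [Ideal.mk_ker]; exact hpm)
      exact (IsLocalRing.eq_maximalIdeal this).symm
    rw [e, Ideal.map_map, show (algebraMap (A ⧸ p) (C ⧸ I)).comp (Ideal.Quotient.mk p) =
      mkB.comp (algebraMap A C) from rfl, ← Ideal.map_map]
    exact comap_map_of_ker_le mkB hmk _ (hker.trans_le hIm)
  rw [hfib] at key
  have hfin1 : Module.length (A ⧸ p) ((A ⧸ p) ⧸ Ideal.span {a'}) ≠ ⊤ := LenLib.length_quot_span_ne_top ha'
  rw [finsum_cond_eq_sum_of_cond_iff (t := hfinS.toFinset) _ (p := fun P => P.asIdeal ∈ minimalPrimes (C ⧸ I))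
    (fun {P} _ => hfinS.mem_toFinset.symm)] at key
  let G : PrimeSpectrum (C ⧸ I) → ℕ∞ := fun P =>
    Module.length (Localization.AtPrime P.asIdeal) (LocalizedModule P.asIdeal.primeCompl (C ⧸ I)) *
      Module.length (C ⧸ I) ((C ⧸ I) ⧸ (P.asIdeal ⊔ Ideal.span {algebraMap (A ⧸ p) (C ⧸ I) a'}))
  have hne_top : ∀ P ∈ hfinS.toFinset, G P ≠ ⊤ := by
    intro P hP htop
    have hle := Finset.single_le_sum (f := G) (fun _ _ => zero_le) hP
    rw [show ∑ Q ∈ hfinS.toFinset, G Q = _ from key.symm, htop, top_le_iff] at hle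
    rcases WithTop.mul_eq_top_iff.1 hle with ⟨-, h2⟩ | ⟨h1, -⟩
    · exact hfin h2
    · exact hfin1 h1
  have key' := congrArg ENat.toNat key
  rw [ENat.toNat_mul, ENat.toNat_sum hne_top] at key'
  rw [show LenLib.ordZ (Ideal.Quotient.mk p a) =
    ((Module.length (A ⧸ p) ((A ⧸ p) ⧸ Ideal.span {a'})).toNat : ℤ) from rfl, ← Nat.cast_mul, key',
    Nat.cast_sum, himg, Finset.sum_image fun x _ y _ e => PrimeSpectrum.comap_injective_of_surjective mkB hmk e]
  refine Finset.sum_congr rfl fun P hP => ?_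
  rw [ENat.toNat_mul, Nat.cast_mul]
  congr 2
  · haveI : IsLocalization.AtPrime (Localization.AtPrime (PrimeSpectrum.comap mkB P).asIdeal)
        (P.asIdeal.comap (Ideal.Quotient.mk I)) :=
      inferInstanceAs (IsLocalization.AtPrime (Localization.AtPrime (PrimeSpectrum.comap mkB P).asIdeal)
        (PrimeSpectrum.comap mkB P).asIdeal)
    exact congrArg ENat.toNat
      (length_localized_quot (S := Localization.AtPrime (PrimeSpectrum.comap mkB P).asIdeal) I P.asIdeal)
  · let Q := (PrimeSpectrum.comap mkB P).asIdeal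
    show (Module.length (C ⧸ I) _).toNat =
      (Module.length (C ⧸ Q) ((C ⧸ Q) ⧸ Ideal.span {Ideal.Quotient.mk Q (algebraMap A C a)})).toNat
    refine congrArg ENat.toNat ?_
    let J := Q ⊔ Ideal.span {algebraMap A C a}
    rw [length_quot_surjective mkB hmk _ J, length_quot_surjective (Ideal.Quotient.mk Q)
      Ideal.Quotient.mk_surjective _ J]
    · rw [← Set.image_singleton, ← Ideal.map_span,
        Ideal.comap_map_of_surjective' _ Ideal.Quotient.mk_surjective, Ideal.mk_ker, sup_comm]
    · have e : P.asIdeal ⊔ Ideal.span {algebraMap (A ⧸ p) (C ⧸ I) a'} = J.map mkB := by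
        show _ = Ideal.map mkB (Q ⊔ Ideal.span {algebraMap A C a})
        rw [Ideal.map_sup, Ideal.map_span, Set.image_singleton,
          show Ideal.map mkB Q = P.asIdeal from Ideal.map_comap_of_surjective mkB hmk P.asIdeal]
        rfl
      rw [e]
      exact comap_map_of_ker_le mkB hmk J (le_sup_of_le_left (hker.trans_le (hcomap P)))

end quotient

end Groth.Agent.CycLib
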