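import Groth.Agent.CycLib.DevGysinPush
import Groth.Agent.CycLib.DevPullC1

/-!
The Gysin map commutes with flat pullback.
-/

set_option autoImplicit false
set_option linter.style.haveILetI false
set_option maxHeartbeats 800000

universe u

open CategoryTheory Limits AlgebraicGeometry IsLocalRing

namespace Groth.Agent.CycLib.Dev

open ModIdx Groth.Agent.PullStalk.Basic Groth.Agent.PullStalk.Sky

variable {X X' D : Scheme.{u}} (f : X' ⟶ X) (i : D ⟶ X) [IsClosedImmersion i]
  [IsLocallyNoetherian X] [IsLocallyNoetherian X'] {δ : X → ℤ} {δ' : X' → ℤ}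
  (hd' : Cyc.IsDimFun X' δ') {L : X.Modules} (hL : PicF.IsInvertible L) (s : L.presheaf.obj (Opposite.op ⊤))
  (s' : ((Scheme.Modules.pullback f).obj L).presheaf.obj (Opposite.op ⊤))

include hd' hL in
/-- The two choices of sections on the base change differ by principal divisors. -/
theorem gysin_choice_mem (hD : Cyc.IsZeroSchemeOf i L s)
    (hD' : Cyc.IsZeroSchemeOf (pullback.fst f i) ((Scheme.Modules.pullback f).obj L) s') {k : ℤ}
    {b : X' → ℤ} (hb : IsCyc δ' (k + 1) b)
    (σ : (η : X) → L.presheaf.stalk η) (hσ : ∀ η, IsBas (σ η))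
    (hσs : ∀ η, η ∉ vset L s → σ η = (L.presheaf.germ ⊤ η trivial) s)
    (w' : (ξ : X') → Cyc.secFibre ((Scheme.Modules.pullback f).obj L) ξ) (hw' : ∀ ξ, w' ξ ≠ 0) :
    (fun z => Cyc.c1CapFun δ' ((Scheme.Modules.pullback f).obj L) b
        (Cyc.gysinChoice ((Scheme.Modules.pullback f).obj L) s' w') (pullback.fst f i z)) -
      (fun z => Cyc.c1CapFun δ' ((Scheme.Modules.pullback f).obj L) b
        (fun ξ => Submodule.Quotient.mk (unitStalkHom f L ξ (σ (f ξ)))) (pullback.fst f i z)) ∈
      @prin (pullback f i : Scheme.{u}) (isLocallyNoetherian_closed (pullback.fst f i))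
        (fun z => δ' (pullback.fst f i z)) (isDimFun_comp_closed (pullback.fst f i) hd') k := by
  classical
  haveI := isLocallyNoetherian_closed (pullback.fst f i)
  have hM := PicCl.isInvertible_pullback f hL
  have hdP := isDimFun_comp_closed (pullback.fst f i) hd'
  have hM' := PicCl.isInvertible_pullback (pullback.fst f i) hM
  let u : (ξ : X') → Cyc.secFibre ((Scheme.Modules.pullback f).obj L) ξ :=
    fun ξ => Submodule.Quotient.mk (unitStalkHom f L ξ (σ (f ξ)))
  have hu : ∀ ξ, u ξ ≠ 0 := fun ξ => mk_ne_zero_of_isBas (isBas_unit f hL hM ξ (hσ (f ξ)))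
  let g' := Cyc.gysinChoice ((Scheme.Modules.pullback f).obj L) s' w'
  have hg' := gysinChoice_ne_zero s' w' hw'
  have hout : ∀ ξ, ξ ∉ Set.range (pullback.fst f i) →
      Cyc.secDivFun δ' ((Scheme.Modules.pullback f).obj L) ξ (g' ξ) =
        Cyc.secDivFun δ' ((Scheme.Modules.pullback f).obj L) ξ (u ξ) := by
    intro ξ hξ
    have h1 : ξ ∉ vset ((Scheme.Modules.pullback f).obj L) s' := fun h => hξ (hD'.1.ge h)
    have h2 : f ξ ∉ vset L s := fun h => hξ (by rw [Scheme.Pullback.range_fst]; exact hD.1.ge h)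
    rw [show g' ξ = Submodule.Quotient.mk ((((Scheme.Modules.pullback f).obj L).presheaf.germ ⊤ ξ trivial) s')
        from if_pos h1,
      show u ξ = Submodule.Quotient.mk (unitStalkHom f L ξ ((L.presheaf.germ ⊤ (f ξ) trivial) s)) by
        simp only [u, hσs _ h2]]
    refine secDiv_agree hd' hM (fun x _ => unitStalkHom f L x ((L.presheaf.germ ⊤ (f x) trivial) s))
      (fun x _ => (((Scheme.Modules.pullback f).obj L).presheaf.germ ⊤ x trivial) s') (fun x h => ?_)
      (fun x h => Ref1.sp_germ _ h (U := ⊤) trivial s') (isBas_unit f hL hM ξ (isBas_sec hL s h2))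
      fun x _ => unit_agree f i hL s s' hD hD' x
    exact (sp_unit f L h _).trans (congrArg _ (Ref1.sp_germ L (h.map f.continuous) (U := ⊤) trivial s))
  let bin : X' → ℤ := fun x => if x ∈ Set.range (pullback.fst f i) then b x else 0
  have cin : IsCyc δ' (k + 1) bin :=
    ⟨fun U hU => (hb.finite U hU).subset fun x hx => ⟨hx.1, fun h => hx.2 (by simp [bin, h])⟩,
      fun x hx => by simp [bin, hb.zero x hx]⟩
  have e : Cyc.c1CapFun δ' ((Scheme.Modules.pullback f).obj L) (b - bin) g' =
      Cyc.c1CapFun δ' ((Scheme.Modules.pullback f).obj L) (b - bin) u := by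
    funext x
    refine finsum_congr fun ξ => ?_
    by_cases hr : ξ ∈ Set.range (pullback.fst f i)
    · rw [Pi.sub_apply, show bin ξ = b ξ from if_pos hr, sub_self, zero_mul, zero_mul]
    · rw [hout ξ hr]
  rw [c1_sub hb cin, c1_sub hb cin] at e
  have s0 : ∀ x, bin x ≠ 0 → x ∈ Set.range (pullback.fst f i) := fun x hx => by
    by_contra h
    exact hx (if_neg h)
  obtain ⟨u1, hu1, huu⟩ := exists_sec_closed hd' (pullback.fst f i) hM hM' u hu
  obtain ⟨g1, hg1, hgg⟩ := exists_sec_closed hd' (pullback.fst f i) hM hM' g' hg'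
  have m := c1_sub_mem hdP hM' (IsCyc.comp_closed (pullback.fst f i) cin) g1 u1 hg1 hu1
  rw [← c1_comp_closed (pullback.fst f i) s0 u u1 huu, ← c1_comp_closed (pullback.fst f i) s0 g' g1 hgg] at m
  convert m using 1
  funext z
  have := congrFun e (pullback.fst f i z)
  simp only [Pi.sub_apply] at this ⊢
  linarith

omit [IsLocallyNoetherian X'] in
include hL in
/-- The fibre lengths on the base change. -/
theorem fibLen_base_change (hD : Cyc.IsZeroSchemeOf i L s) (z : (pullback f i : Scheme.{u})) :
    fibLen (pullback.snd f i) z = fibLen f (pullback.fst f i z) := by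
  obtain ⟨t, ht⟩ := exists_isBas hL (f (pullback.fst f i z))
  obtain ⟨f0, hf0⟩ := ht.2 ((L.presheaf.germ ⊤ (f (pullback.fst f i z)) trivial) s)
  replace hf0 : f0 • t = (L.presheaf.germ ⊤ (f (pullback.fst f i z)) trivial) s := hf0
  have hy : i (pullback.snd f i z) = f (pullback.fst f i z) := by
    show (pullback.snd f i ≫ i) z = (pullback.fst f i ≫ f) z
    rw [pullback.condition]
  have hk := ker_stalkMap_isPullback_pre (IsPullback.of_hasPullback f i) z (specializes_of_eq hy)
  rw [comap_ker_eq i hL s hD (pullback.snd f i z) hy (specializes_of_eq hy) ht hf0.symm, Ideal.map_span,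
    Set.image_singleton] at hk
  have hfm : f0 ∈ maximalIdeal (X.presheaf.stalk (f (pullback.fst f i z))) := fun hu => by
    have h1 : (pullback.fst f i).stalkMap z (f.stalkMap (pullback.fst f i z) f0) = 0 :=
      hk.ge (Ideal.mem_span_singleton_self _)
    exact not_isUnit_zero (h1 ▸ ((hu.map (f.stalkMap (pullback.fst f i z)).hom).map
      ((pullback.fst f i).stalkMap z).hom))
  have hsq : (f.stalkMap (pullback.fst f i z)) ≫ (pullback.fst f i).stalkMap z =
      X.presheaf.stalkSpecializes (specializes_of_eq hy) ≫ i.stalkMap (pullback.snd f i z) ≫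
        (pullback.snd f i).stalkMap z := by
    apply Spec.map_injective
    rw [← cancel_mono (X.fromSpecStalk (f (pullback.fst f i z)))]
    simp only [Spec.map_comp, Category.assoc,
      Scheme.SpecMap_stalkSpecializes_fromSpecStalk (specializes_of_eq hy),
      Scheme.SpecMap_stalkMap_fromSpecStalk, Scheme.SpecMap_stalkMap_fromSpecStalk_assoc, pullback.condition]
  have hmax : (maximalIdeal (X.presheaf.stalk (f (pullback.fst f i z)))).map
      ((X.presheaf.stalkSpecializes (specializes_of_eq hy)) ≫ i.stalkMap (pullback.snd f i z)).hom =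
        maximalIdeal (D.presheaf.stalk (pullback.snd f i z)) := by
    have hsurj : Function.Surjective
        ((X.presheaf.stalkSpecializes (specializes_of_eq hy)) ≫ i.stalkMap (pullback.snd f i z)).hom := by
      intro c
      obtain ⟨c', rfl⟩ := i.stalkMap_surjective (pullback.snd f i z) c
      refine ⟨X.presheaf.stalkSpecializes (specializes_of_eq hy.symm) c', ?_⟩
      show i.stalkMap (pullback.snd f i z) _ = _
      refine congrArg _ ?_
      show (X.presheaf.stalkSpecializes (specializes_of_eq hy.symm) ≫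
        X.presheaf.stalkSpecializes (specializes_of_eq hy)) c' = c'
      simp
    exact IsLocalRing.map_maximalIdeal_of_surjective _ hsurj
  let φ := ((pullback.fst f i).stalkMap z).hom
  have hφ : Function.Surjective φ := (pullback.fst f i).stalkMap_surjective z
  have hI : (maximalIdeal (D.presheaf.stalk (pullback.snd f i z))).map ((pullback.snd f i).stalkMap z).hom =
      ((maximalIdeal (X.presheaf.stalk (f (pullback.fst f i z)))).map (f.stalkMap (pullback.fst f i z)).hom).map φ := by
    rw [← hmax, Ideal.map_map, Ideal.map_map]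
    congr 1
    exact congrArg CommRingCat.Hom.hom hsq.symm
  have hle : RingHom.ker φ ≤ (maximalIdeal (X.presheaf.stalk (f (pullback.fst f i z)))).map
      (f.stalkMap (pullback.fst f i z)).hom :=
    hk.trans_le ((Ideal.span_singleton_le_iff_mem _).2 (Ideal.mem_map_of_mem _ hfm))
  rw [fibLen, fibLen, hI]
  congr 1
  set J := (maximalIdeal (X.presheaf.stalk (f (pullback.fst f i z)))).map (f.stalkMap (pullback.fst f i z)).hom
  letI := φ.toAlgebra
  haveI : IsScalarTower (X'.presheaf.stalk (pullback.fst f i z)) ((pullback f i).presheaf.stalk z)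
      ((pullback f i).presheaf.stalk z ⧸ J.map φ) := inferInstance
  rw [← Module.length_eq_of_surjective (R := (pullback f i).presheaf.stalk z)
    (S := X'.presheaf.stalk (pullback.fst f i z)) (M := (pullback f i).presheaf.stalk z ⧸ J.map φ) hφ]
  let ψ : X'.presheaf.stalk (pullback.fst f i z) →ₗ[X'.presheaf.stalk (pullback.fst f i z)]
      ((pullback f i).presheaf.stalk z ⧸ J.map φ) := Algebra.linearMap _ _
  have hψ : Function.Surjective ψ := fun c => by
    obtain ⟨c', rfl⟩ := Ideal.Quotient.mk_surjective c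
    obtain ⟨c'', rfl⟩ := hφ c'
    exact ⟨c'', rfl⟩
  have hker : LinearMap.ker ψ = J := by
    ext c
    rw [LinearMap.mem_ker]
    show Ideal.Quotient.mk (J.map φ) (φ c) = 0 ↔ _
    rw [Ideal.Quotient.eq_zero_iff_mem, ← Ideal.mem_comap, Ideal.comap_map_of_surjective _ hφ]
    rw [sup_eq_left.2 (show Ideal.comap φ ⊥ ≤ J from hle)]
  exact ((Submodule.quotEquivOfEq _ _ hker.symm).trans (ψ.quotKerEquivOfSurjective hψ)).length_eq.symm

variable [Flat f] [LocallyOfFiniteType f] (hd : Cyc.IsDimFun X δ) (hδ : Cyc.DeltaCompat f δ' δ) {r : ℕ}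
  (hr : Cyc.HasRelDim f r)

include hd hd' hδ hr hL in
theorem gysin_pull (hD : Cyc.IsZeroSchemeOf i L s)
    (hD' : Cyc.IsZeroSchemeOf (pullback.fst f i) ((Scheme.Modules.pullback f).obj L) s') {k : ℤ}
    {a : X → ℤ} (ha : IsCyc δ (k + 1) a)
    (w : (ξ : X) → Cyc.secFibre L ξ) (hw : ∀ ξ, w ξ ≠ 0)
    (w' : (ξ : X') → Cyc.secFibre ((Scheme.Modules.pullback f).obj L) ξ) (hw' : ∀ ξ, w' ξ ≠ 0) :
    (fun z => Cyc.c1CapFun δ' ((Scheme.Modules.pullback f).obj L) (Cyc.pullFun f δ' δ r a)
        (Cyc.gysinChoice ((Scheme.Modules.pullback f).obj L) s' w') (pullback.fst f i z)) -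
      Cyc.pullFun (pullback.snd f i) (fun z => δ' (pullback.fst f i z)) (fun d => δ (i d)) r
        (fun d => Cyc.c1CapFun δ L a (Cyc.gysinChoice L s w) (i d)) ∈
      @prin (pullback f i : Scheme.{u}) (isLocallyNoetherian_closed (pullback.fst f i))
        (fun z => δ' (pullback.fst f i z)) (isDimFun_comp_closed (pullback.fst f i) hd') (k + r) := by
  classical
  have hgI := gysinChoice_ne_zero s w hw
  have hσ0 : ∀ η : X, ∃ σ : L.presheaf.stalk η, IsBas σ ∧ Submodule.Quotient.mk σ = Cyc.gysinChoice L s w η ∧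
      (η ∉ vset L s → σ = (L.presheaf.germ ⊤ η trivial) s) := fun η => by
    by_cases hη : η ∈ vset L s
    · obtain ⟨σ, hσ, e⟩ := exists_isBas_lift hL (Cyc.gysinChoice L s w η) (hgI η)
      exact ⟨σ, hσ, e, fun h => absurd hη h⟩
    · exact ⟨_, isBas_sec hL s hη, (if_pos hη).symm, fun _ => rfl⟩
  choose σ hσ hσe hσs using hσ0
  have hb : IsCyc δ' (k + r + 1) (Cyc.pullFun f δ' δ r a) := by
    rw [show k + r + 1 = k + 1 + r by ring]
    exact isCyc_pull f hd' hδ hr ha
  have m := gysin_choice_mem f i hd' hL s s' hD hD' hb σ hσ hσs w' hw'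
  convert m using 2
  funext z
  rw [← pull_c1_unit f hd' hδ hr hd hL (PicCl.isInvertible_pullback f hL) ha σ hσ]
  simp only [hσe, Cyc.pullFun]
  have hy : i (pullback.snd f i z) = f (pullback.fst f i z) := by
    show (pullback.snd f i ≫ i) z = (pullback.fst f i ≫ f) z
    rw [pullback.condition]
  have hl := fibLen_base_change f i hL s hD z
  rw [fibLen, fibLen] at hl
  rw [hy, hl]

end Groth.Agent.CycLib.Dev
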