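import Groth.Agent.CycLib.DevC1
import Groth.Agent.CycLib.CutLength
import Groth.Agent.CycLib.FlatDecomp

/-!
The zero cycle of a global section of an invertible module.
-/

set_option autoImplicit false
set_option linter.style.haveILetI false
set_option maxHeartbeats 800000

universe u

open CategoryTheory Limits AlgebraicGeometry IsLocalRing

namespace Groth.Agent.CycLib.Dev

open ModIdx Groth.Agent.PullStalk.Sky Groth.Agent.PullStalk.Exact

variable {X : Scheme.{u}} [IsLocallyNoetherian X] {δ : X → ℤ} {k : ℤ} (hd : Cyc.IsDimFun X δ)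
variable {L : X.Modules} (hL : PicF.IsInvertible L)

theorem subschemeFun_id (ξ : X) : Cyc.subschemeFun δ (k + 1) (𝟙 X) ξ =
    if δ ξ = k + 1 then ((Module.length (X.presheaf.stalk ξ) (X.presheaf.stalk ξ)).toNat : ℤ) else 0 := by
  rw [Cyc.subschemeFun]
  refine if_congr Iff.rfl ?_ rfl
  rw [show {z : X | (𝟙 X : X ⟶ X) z = ξ} = {ξ} from Set.ext fun z => Iff.rfl, finsum_mem_singleton]

include hd hL in
/-- The divisor of a section regular at a generization. -/
theorem secDiv_section {x ξ : X} (h : ξ ⤳ x) (hx : δ x = k) (hξ : δ ξ = k + 1) {s : L.presheaf.stalk x}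
    {t : L.presheaf.stalk x} (ht : IsBas t) {f : X.presheaf.stalk x} (hs : s = f • t)
    (hf : f ∉ (ptPrime x ξ h).asIdeal) :
    IsBas (Ref1.sp L h s) ∧
    Cyc.secDivFun δ L ξ (Submodule.Quotient.mk (Ref1.sp L h s)) x =
      (Module.length (X.presheaf.stalk x) (X.presheaf.stalk x ⧸ ((ptPrime x ξ h).asIdeal ⊔ Ideal.span {f}))).toNat := by
  have h1 : δ x + 1 = δ ξ := by omega
  have hu : IsUnit (Ref1.spR h f) := by
    have h2 := hf
    change f ∉ RingHom.ker (Cyc.specMap x ξ h) at h2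
    rw [ker_specMap_eq_comap, Ideal.mem_comap] at h2
    exact IsLocalRing.notMem_maximalIdeal.1 h2
  have hsb : IsBas (Ref1.sp L h s) := by
    rw [hs, Ref1.sp_smul]
    exact isBas_smul (isBas_sp hL h ht) hu
  obtain ⟨u, huv⟩ := hu
  refine ⟨hsb, ?_⟩
  rw [secDivFun_of_bas hd hL h hx hξ hsb ht (c := (↑u⁻¹ : X.presheaf.stalk ξ))
    (by rw [hs, Ref1.sp_smul, ← huv, smul_smul, u.inv_mul, one_smul])]
  have hne : X.residue ξ (↑u⁻¹ : X.presheaf.stalk ξ) ≠ 0 := (u⁻¹.isUnit.map (X.residue ξ).hom).ne_zero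
  have hsf : Cyc.specMap x ξ h f ≠ 0 := fun h0 => hf h0
  have e := congrFun (divFun_mul hd hne hsf) x
  rw [show X.residue ξ (↑u⁻¹ : X.presheaf.stalk ξ) * Cyc.specMap x ξ h f = 1 by
    show X.residue ξ _ * X.residue ξ (Ref1.spR h f) = 1
    rw [← map_mul, ← huv, u.inv_mul, map_one], divFun_one' hd, Pi.zero_apply, Pi.add_apply] at e
  rw [show -Cyc.divFun δ ξ (X.residue ξ (↑u⁻¹ : X.presheaf.stalk ξ)) x = Cyc.divFun δ ξ (Cyc.specMap x ξ h f) x by
    omega, Cyc.divFun, dif_pos ⟨h, h1⟩, ordAt_specMap hd h h1 hsf, ← length_quot_prime h f]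

include hd in
/-- Cutting the local ring by a non-zero-divisor in dimension one. -/
theorem length_quot_eq_finsum (hdim : ∀ y : X, δ y ≤ k + 1) {x : X} (hx : δ x = k) {f : X.presheaf.stalk x}
    (hf : Function.Injective fun a : X.presheaf.stalk x => a * f) :
    (∀ (ξ : X) (h : ξ ⤳ x), δ ξ = k + 1 → f ∉ (ptPrime x ξ h).asIdeal) ∧
    ∃ s : Finset (Gen δ k x), (∀ i, i ∈ s) ∧
      ((Module.length (X.presheaf.stalk x) (X.presheaf.stalk x ⧸ Ideal.span {f})).toNat : ℤ) =
        ∑ i ∈ s, ((Module.length (X.presheaf.stalk i.1) (X.presheaf.stalk i.1)).toNat : ℤ) *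
          (Module.length (X.presheaf.stalk x)
            (X.presheaf.stalk x ⧸ ((ptPrime x i.1 i.2.2).asIdeal ⊔ Ideal.span {f}))).toNat := by
  classical
  have hmin : ∀ (ξ : X) (h : ξ ⤳ x), δ ξ = k + 1 → (ptPrime x ξ h).asIdeal ∈ minimalPrimes (X.presheaf.stalk x) := by
    intro ξ h hξ
    refine ⟨⟨(ptPrime x ξ h).isPrime, bot_le⟩, fun q hq hle => ?_⟩
    obtain ⟨ζ, hζ, e⟩ := exists_ptPrime x ⟨q, hq.1⟩
    have eq' : (ptPrime x ζ hζ).asIdeal = q := by rw [e]
    have h2 := (ptPrime_le_iff hζ h).1 (eq'.le.trans hle)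
    obtain rfl : ζ = ξ := eq_of_specializes hd h2 (hξ ▸ hdim ζ)
    exact eq'.le
  have hnzd : ∀ y, y * f = 0 → y = 0 := fun y hy => hf (hy.trans (zero_mul f).symm)
  have hfmin : ∀ P ∈ minimalPrimes (X.presheaf.stalk x), f ∉ P := fun P hP hfP => by
    haveI : Nontrivial (X.presheaf.stalk x) := inferInstance
    have hass : P ∈ associatedPrimes (X.presheaf.stalk x) (X.presheaf.stalk x) :=
      Module.associatedPrimes.minimalPrimes_annihilator_subset_associatedPrimes _ _
        (by rwa [Module.annihilator_eq_bot.2 inferInstance])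
    have : f ∈ ⋃ p ∈ associatedPrimes (X.presheaf.stalk x) (X.presheaf.stalk x), (p : Set (X.presheaf.stalk x)) :=
      Set.mem_biUnion hass hfP
    rw [biUnion_associatedPrimes_eq_zero_divisors] at this
    obtain ⟨y, hy0, hy⟩ := this
    exact hy0 (hnzd y ((mul_comm y f).trans hy))
  refine ⟨fun ξ h hξ => hfmin _ (hmin ξ h hξ), ?_⟩
  have hall : ∀ P : PrimeSpectrum (X.presheaf.stalk x),
      P.asIdeal = maximalIdeal _ ∨ ∃ i : Gen δ k x, ptPrime x i.1 i.2.2 = P := by
    intro P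
    obtain ⟨ζ, hζ, e⟩ := exists_ptPrime x P
    by_cases hζx : ζ = x
    · subst hζx
      refine Or.inl ?_
      rw [← e]
      show RingHom.ker (Cyc.specMap ζ ζ hζ) = _
      rw [ker_specMap_eq_comap, comap_maximalIdeal_of_eq rfl]
    · refine Or.inr ⟨⟨ζ, ?_, hζ⟩, e⟩
      have h1 := hdim ζ
      have h2 := (hd ζ x hζ hζx).1
      omega
  have hfin : Finite (Gen δ k x) := by
    haveI := (Ideal.finite_minimalPrimes_of_isNoetherianRing (X.presheaf.stalk x) ⊥).to_subtype
    refine Finite.of_injective (β := (⊥ : Ideal (X.presheaf.stalk x)).minimalPrimes)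
      (fun i => ⟨(ptPrime x i.1 i.2.2).asIdeal, hmin i.1 i.2.2 i.2.1⟩) fun i j e => Subtype.ext ?_
    have e' : ptPrime x i.1 i.2.2 = ptPrime x j.1 j.2.2 := PrimeSpectrum.ext (congrArg Subtype.val e)
    rw [← fromSpecStalk_ptPrime x i.1 i.2.2, e', fromSpecStalk_ptPrime]
  haveI : Fintype (Gen δ k x) := Fintype.ofFinite _
  refine ⟨Finset.univ, Finset.mem_univ, ?_⟩
  by_cases hfu : IsUnit f
  · have top : ∀ J : Ideal (X.presheaf.stalk x), f ∈ J →
        (Module.length (X.presheaf.stalk x) (X.presheaf.stalk x ⧸ J)).toNat = 0 := fun J hJ => by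
      rw [Ideal.eq_top_of_isUnit_mem J hJ hfu]
      haveI : Subsingleton (X.presheaf.stalk x ⧸ (⊤ : Ideal (X.presheaf.stalk x))) := Submodule.Quotient.subsingleton_iff.2 rfl
      rw [Module.length_eq_zero, ENat.toNat_zero]
    rw [top _ (Ideal.mem_span_singleton_self f), Finset.sum_eq_zero fun i _ => by
      rw [top _ (Ideal.mem_sup_right (Ideal.mem_span_singleton_self f)), Nat.cast_zero, mul_zero], Nat.cast_zero]
  let e : Gen δ k x → PrimeSpectrum (X.presheaf.stalk x) := fun i => ptPrime x i.1 i.2.2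
  have einj : Function.Injective e := fun i j h' => Subtype.ext (by
    rw [← fromSpecStalk_ptPrime x i.1 i.2.2, show ptPrime x i.1 i.2.2 = ptPrime x j.1 j.2.2 from h',
      fromSpecStalk_ptPrime])
  have hfmax : f ∈ maximalIdeal (X.presheaf.stalk x) := hfu
  have key := length_cut_eq_sum (A := X.presheaf.stalk x) ?_ ?_ f hfmin (Finset.univ.image e) ?_
  · rw [key, Finset.sum_image einj.injOn, Nat.cast_sum]
    refine Finset.sum_congr rfl fun i _ => ?_
    rw [Nat.cast_mul]
    congr 3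
    letI := (X.presheaf.stalkSpecializes i.2.2).hom.toAlgebra
    haveI : IsLocalization.AtPrime (X.presheaf.stalk i.1) (e i).asIdeal := isLocalization_stalkSpecializes i.2.2
    exact length_self_congr (IsLocalization.algEquiv (e i).asIdeal.primeCompl _ _).toRingEquiv
  · intro P hP
    rcases hall ⟨P, hP⟩ with h | ⟨i, hi⟩
    · exact Or.inr h
    · exact Or.inl ((show (ptPrime x i.1 i.2.2).asIdeal = P by rw [hi]) ▸ hmin i.1 i.2.2 i.2.1)
  · intro hass
    have : f ∈ ⋃ p ∈ associatedPrimes (X.presheaf.stalk x) (X.presheaf.stalk x), (p : Set (X.presheaf.stalk x)) :=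
      Set.mem_biUnion hass hfmax
    rw [biUnion_associatedPrimes_eq_zero_divisors] at this
    obtain ⟨y, hy0, hy⟩ := this
    exact hy0 (hnzd y ((mul_comm y f).trans hy))
  · intro P
    rw [Finset.mem_image]
    constructor
    · rintro ⟨i, -, rfl⟩
      exact hmin i.1 i.2.2 i.2.1
    · intro hP
      rcases hall P with h | ⟨i, hi⟩
      · exact absurd (h ▸ hfmax) (hfmin _ hP)
      · exact ⟨i, Finset.mem_univ _, hi⟩

include hd hL in
/-- The zero cycle of a section is `c₁` of the fundamental cycle. -/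
theorem zeroSection_eq_c1 (hdim : ∀ y : X, δ y ≤ k + 1) (s : L.presheaf.obj (Opposite.op ⊤))
    (hreg : ∀ y : X, δ y = k → Function.Injective (fun a : X.presheaf.stalk y => a • (L.presheaf.germ ⊤ y trivial) s)) :
    Cyc.zeroSectionFun δ k L s = Cyc.c1CapFun δ L (Cyc.subschemeFun δ (k + 1) (𝟙 X))
      (fun ξ => Submodule.Quotient.mk ((L.presheaf.germ ⊤ ξ trivial) s)) := by
  funext x
  by_cases hx : δ x = k
  swap
  · rw [Cyc.zeroSectionFun, if_neg hx, Cyc.c1CapFun, finsum_eq_zero_of_forall_eq_zero fun ξ => ?_]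
    by_contra h
    obtain ⟨ha, hs⟩ := mul_ne_zero_iff.1 h
    rw [subschemeFun_id] at ha
    obtain ⟨-, h2⟩ := secDivFun_ne_zero hs
    split_ifs at ha with h3
    · exact hx (by omega)
    · exact ha rfl
  obtain ⟨t0, ht0⟩ := exists_isBas hL x
  have hex : ∃ t : L.presheaf.stalk x, Submodule.span (X.presheaf.stalk x) {t} = ⊤ :=
    ⟨t0, eq_top_iff.2 fun v _ => Submodule.mem_span_singleton.2 (ht0.2 v)⟩
  have ht := isBas_of_span hL (Classical.choose_spec hex)
  have hfe : ∃ f : X.presheaf.stalk x, (L.presheaf.germ ⊤ x trivial) s = f • Classical.choose hex :=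
    (ht.2 _).imp fun f hf => hf.symm
  rw [Cyc.zeroSectionFun, if_pos hx, dif_pos hex, dif_pos hfe]
  set f := Classical.choose hfe with hfdef
  have hs : (L.presheaf.germ ⊤ x trivial) s = f • Classical.choose hex := Classical.choose_spec hfe
  have hinj : Function.Injective fun a : X.presheaf.stalk x => a * f := fun a b e => hreg x hx (by
    show a • (L.presheaf.germ ⊤ x trivial) s = b • (L.presheaf.germ ⊤ x trivial) s
    rw [hs, smul_smul, smul_smul]; exact congrArg (· • _) e)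
  obtain ⟨hnot, S, hS, e⟩ := length_quot_eq_finsum hd hdim hx hinj
  rw [e, Cyc.c1CapFun]
  rw [finsum_eq_sum_of_support_subset (s := S.map ⟨Subtype.val, Subtype.val_injective⟩)]
  · rw [Finset.sum_map]
    refine Finset.sum_congr rfl fun i _ => ?_
    rw [Function.Embedding.coeFn_mk, subschemeFun_id, if_pos i.2.1]
    congr 1
    have := (secDiv_section hd hL i.2.2 hx i.2.1 ht hs (hnot i.1 i.2.2 i.2.1)).2
    rw [show Ref1.sp L i.2.2 ((L.presheaf.germ ⊤ x trivial) s) = (L.presheaf.germ ⊤ i.1 trivial) s from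
      Ref1.sp_germ L i.2.2 (U := ⊤) trivial s] at this
    exact this.symm
  · intro ξ h
    obtain ⟨ha, hs'⟩ := mul_ne_zero_iff.1 h
    obtain ⟨h1, h2⟩ := secDivFun_ne_zero hs'
    exact Finset.mem_coe.2 (Finset.mem_map.2 ⟨⟨ξ, by omega, h1⟩, hS _, rfl⟩)

end Groth.Agent.CycLib.Dev
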