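import Mathlib.CategoryTheory.Abelian.GrothendieckAxioms.Basic
import Mathlib.CategoryTheory.Abelian.Refinements
import Mathlib.Algebra.Homology.ShortComplex.ShortExact

/-!
Short exact sequences in an abelian category: coproducts, shifts, composable monomorphisms.
-/

set_option autoImplicit false

universe w v u

open CategoryTheory Limits

namespace Groth.Agent.CycLib.Dev.AbLib

variable {A : Type u} [Category.{v} A] [Abelian A]

section Sigma

variable {J : Type w} [HasColimitsOfShape (Discrete J) A] [HasExactColimitsOfShape (Discrete J) A]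

theorem shortExact_sigma (S : J → ShortComplex A) (hS : ∀ j, (S j).ShortExact) :
    (ShortComplex.mk (Limits.Sigma.map fun j => (S j).f) (Limits.Sigma.map fun j => (S j).g)
      (Sigma.hom_ext _ _ fun j => by simp)).ShortExact := by
  let α : Discrete.functor (fun j => (S j).X₁) ⟶ Discrete.functor (fun j => (S j).X₂) :=
    Discrete.natTrans fun j => (S j.as).f
  haveI : ∀ j, Mono ((S j).f) := fun j => (hS j).mono_f
  haveI : ∀ j, Epi ((S j).g) := fun j => (hS j).epi_g
  haveI : Mono α := by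
    haveI : ∀ j, Mono (α.app j) := fun j => inferInstanceAs (Mono ((S j.as).f))
    exact NatTrans.mono_of_mono_app α
  haveI hm : Mono (Limits.Sigma.map fun j => (S j).f) := inferInstanceAs (Mono (colim.map α))
  refine { exact := ShortComplex.exact_of_g_is_cokernel _ ?_, mono_f := hm, epi_g := inferInstance }
  refine CokernelCofork.IsColimit.ofπ _ _
    (fun h w => Sigma.desc fun j => (hS j).gIsCokernel.desc (CokernelCofork.ofπ (Sigma.ι (fun j => (S j).X₂) j ≫ h)
      (by rw [show (S j).f ≫ Sigma.ι (fun j => (S j).X₂) j ≫ h =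
            Sigma.ι (fun j => (S j).X₁) j ≫ (Limits.Sigma.map fun j => (S j).f) ≫ h by simp, w, comp_zero])))
    (fun h w => Sigma.hom_ext _ _ fun j => ?_) (fun h w m hm' => Sigma.hom_ext _ _ fun j => ?_)
  · simp only [Limits.Sigma.ι_map_assoc, colimit.ι_desc, Cofan.mk_ι_app]
    exact (hS j).gIsCokernel.fac _ WalkingParallelPair.one
  · simp only [colimit.ι_desc, Cofan.mk_ι_app]
    refine (cancel_epi (S j).g).1 (Eq.symm (((hS j).gIsCokernel.fac _ WalkingParallelPair.one).trans ?_))
    show Sigma.ι (fun j => (S j).X₂) j ≫ h = _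
    rw [← hm']
    simp

end Sigma

section Shift

variable [HasColimitsOfShape (Discrete (ULift.{w} ℕ)) A]

/-- The coproduct of a sequence. -/
noncomputable abbrev seqSum (N : ℕ → A) : A := ∐ fun n : ULift.{w} ℕ => N n.down

theorem shortExact_shift (N : ℕ → A) : ∃ (f : seqSum.{w} (fun n => N (n + 1)) ⟶ seqSum.{w} N)
    (g : seqSum.{w} N ⟶ N 0) (h : f ≫ g = 0), Nonempty (ShortComplex.mk f g h).Splitting := by
  let ι : ∀ n, N n ⟶ seqSum.{w} N := fun n => Sigma.ι (fun n : ULift.{w} ℕ => N n.down) ⟨n⟩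
  let r0 : ∀ n, N n ⟶ seqSum.{w} (fun n => N (n + 1)) := fun n =>
    match n with
    | 0 => 0
    | m + 1 => Sigma.ι (fun n : ULift.{w} ℕ => N (n.down + 1)) ⟨m⟩
  let g0 : ∀ n, N n ⟶ N 0 := fun n =>
    match n with
    | 0 => 𝟙 _
    | _ + 1 => 0
  refine ⟨Sigma.desc fun n => ι (n.down + 1), Sigma.desc fun n => g0 n.down, Sigma.hom_ext _ _ fun n => ?_,
    ⟨{ r := Sigma.desc fun n => r0 n.down
       s := ι 0
       f_r := Sigma.hom_ext _ _ fun n => ?_
       s_g := ?_
       id := Sigma.hom_ext _ _ fun n => ?_ }⟩⟩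
  · simp [ι, g0]
  · simp [ι, r0]
  · simp [ι, g0]
  · rcases n with ⟨_ | m⟩ <;> simp [ι, r0, g0]

end Shift

theorem shortExact_transport {S : ShortComplex A} (hS : S.ShortExact) {A₁ A₂ A₃ : A} (e₁ : S.X₁ ≅ A₁) (e₂ : S.X₂ ≅ A₂)
    (e₃ : S.X₃ ≅ A₃) : ∃ (f : A₁ ⟶ A₂) (g : A₂ ⟶ A₃) (w : f ≫ g = 0), (ShortComplex.mk f g w).ShortExact :=
  ⟨e₁.inv ≫ S.f ≫ e₂.hom, e₂.inv ≫ S.g ≫ e₃.hom, by simp [reassoc_of% S.zero],
    ShortComplex.shortExact_of_iso (ShortComplex.isoMk e₁ e₂ e₃ (by simp) (by simp)) hS⟩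

theorem shortExact_coker_comp {P Q R : A} (a : P ⟶ Q) (b : Q ⟶ R) (c : P ⟶ R) [Mono a] [Mono b] (h : a ≫ b = c) :
    ∃ (f : cokernel a ⟶ cokernel c) (g : cokernel c ⟶ cokernel b) (w : f ≫ g = 0),
      (ShortComplex.mk f g w).ShortExact := by
  subst h
  haveI : Mono (a ≫ b) := inferInstance
  refine ⟨cokernel.desc a (b ≫ cokernel.π (a ≫ b)) (by rw [← Category.assoc, cokernel.condition]),
    cokernel.desc (a ≫ b) (cokernel.π b) (by rw [Category.assoc, cokernel.condition, comp_zero]),
    coequalizer.hom_ext (by simp), ?_⟩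
  refine { exact := ShortComplex.exact_of_g_is_cokernel _ ?_, mono_f := ?_, epi_g := ?_ }
  · refine CokernelCofork.IsColimit.ofπ _ _
      (fun h w => cokernel.desc b (cokernel.π (a ≫ b) ≫ h) ?_) (fun h w => ?_) (fun h w m hm => ?_)
    · have := congrArg (fun t => cokernel.π a ≫ t) w
      simpa using this
    · exact coequalizer.hom_ext (by simp)
    · refine coequalizer.hom_ext ?_
      simp [← hm]
  · dsimp only
    refine Preadditive.mono_of_cancel_zero _ fun {T} x hx => ?_
    obtain ⟨T', π, hπ, y, hy⟩ := surjective_up_to_refinements_of_epi (cokernel.π a) x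
    have hz : (y ≫ b) ≫ cokernel.π (a ≫ b) = 0 := by
      rw [Category.assoc, ← cokernel.π_desc a (b ≫ cokernel.π (a ≫ b)) (by rw [← Category.assoc, cokernel.condition]),
        ← Category.assoc, ← hy, Category.assoc, hx, comp_zero]
    have e : Abelian.monoLift (a ≫ b) (y ≫ b) hz ≫ a = y :=
      (cancel_mono b).1 ((Category.assoc _ _ _).trans (Abelian.monoLift_comp _ _ hz))
    rw [← cancel_epi π, comp_zero, hy, ← e, Category.assoc, cokernel.condition, comp_zero]
  · dsimp only
    haveI : Epi (cokernel.π (a ≫ b) ≫ cokernel.desc (a ≫ b) (cokernel.π b)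
      (by rw [Category.assoc, cokernel.condition, comp_zero])) := by rw [cokernel.π_desc]; infer_instance
    exact epi_of_epi (cokernel.π (a ≫ b)) _

/-- The cokernels of the vertical maps of a map of short exact sequences. -/
theorem shortExact_coker_map {K D E K' D' E' : A} (k : K ⟶ D) (g : D ⟶ E) (k' : K' ⟶ D') (g' : D' ⟶ E')
    (a : K' ⟶ K) (d : D' ⟶ D) (e : E' ⟶ E) (w : k ≫ g = 0) (w' : k' ≫ g' = 0)
    (hS : (ShortComplex.mk k g w).ShortExact) (hS' : (ShortComplex.mk k' g' w').ShortExact)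
    (h1 : a ≫ k = k' ≫ d) (h2 : d ≫ g = g' ≫ e) [Mono d] [Mono e] :
    ∃ (f : cokernel a ⟶ cokernel d) (p : cokernel d ⟶ cokernel e) (z : f ≫ p = 0),
      (ShortComplex.mk f p z).ShortExact := by
  haveI : Mono k := hS.mono_f
  haveI : Mono k' := hS'.mono_f
  haveI : Epi g := hS.epi_g
  haveI : Epi g' := hS'.epi_g
  refine ⟨cokernel.map a d k' k h1, cokernel.map d e g' g h2,
    coequalizer.hom_ext (by simp [reassoc_of% w]), ?_⟩
  refine { exact := ShortComplex.exact_of_g_is_cokernel _ ?_, mono_f := ?_, epi_g := ?_ }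
  · have aux : ∀ {W : A} (h : cokernel d ⟶ W), cokernel.map a d k' k h1 ≫ h = 0 →
        ∃ h' : cokernel e ⟶ W, cokernel.map d e g' g h2 ≫ h' = h := by
      intro W h hw
      have hk : k ≫ cokernel.π d ≫ h = 0 := by
        have := congrArg (fun t => cokernel.π a ≫ t) hw
        simpa using this
      obtain ⟨h', hh'⟩ : ∃ h' : E ⟶ W, g ≫ h' = cokernel.π d ≫ h :=
        ⟨hS.gIsCokernel.desc (CokernelCofork.ofπ _ hk), hS.gIsCokernel.fac _ WalkingParallelPair.one⟩
      refine ⟨cokernel.desc e h' ((cancel_epi g').1 ?_), coequalizer.hom_ext (by simp [hh'])⟩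
      rw [← Category.assoc, ← h2, Category.assoc, hh', comp_zero, ← Category.assoc, cokernel.condition, zero_comp]
    haveI : Epi (cokernel.map d e g' g h2) := by
      haveI : Epi (cokernel.π d ≫ cokernel.map d e g' g h2) := by rw [cokernel.π_desc]; exact epi_comp _ _
      exact epi_of_epi (cokernel.π d) _
    exact CokernelCofork.IsColimit.ofπ _ _ (fun h hw => (aux h hw).choose) (fun h hw => (aux h hw).choose_spec)
      fun h hw m hm => (cancel_epi (cokernel.map d e g' g h2)).1 (hm.trans (aux h hw).choose_spec.symm)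
  · dsimp only
    refine Preadditive.mono_of_cancel_zero _ fun {T} x hx => ?_
    obtain ⟨T', π, hπ, y, hy⟩ := surjective_up_to_refinements_of_epi (cokernel.π a) x
    have hz : (y ≫ k) ≫ cokernel.π d = 0 := by
      rw [Category.assoc, ← cokernel.π_desc a (k ≫ cokernel.π d)
        (by rw [← Category.assoc, h1, Category.assoc, cokernel.condition, comp_zero]), ← Category.assoc, ← hy,
        Category.assoc]
      exact (congrArg (π ≫ ·) hx).trans comp_zero
    let m := Abelian.monoLift d (y ≫ k) hz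
    have hm : m ≫ d = y ≫ k := Abelian.monoLift_comp _ _ hz
    have hmg : m ≫ g' = 0 := (cancel_mono e).1 (by
      rw [Category.assoc, ← h2, ← Category.assoc, hm, Category.assoc, w, comp_zero, zero_comp])
    obtain ⟨v, hv⟩ : ∃ v : T' ⟶ K', v ≫ k' = m :=
      ⟨hS'.fIsKernel.lift (KernelFork.ofι _ hmg), hS'.fIsKernel.fac _ WalkingParallelPair.zero⟩
    have e0 : v ≫ a = y := (cancel_mono k).1 (by rw [Category.assoc, h1, ← Category.assoc, hv, hm])
    rw [← cancel_epi π, comp_zero, hy, ← e0, Category.assoc, cokernel.condition, comp_zero]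
  · dsimp only
    haveI : Epi (cokernel.π d ≫ cokernel.map d e g' g h2) := by rw [cokernel.π_desc]; exact epi_comp _ _
    exact epi_of_epi (cokernel.π d) _

end Groth.Agent.CycLib.Dev.AbLib
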