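import Groth.Agent.CycLib.DevGen
import Groth.Agent.CycLib.PullSurj
import Mathlib.GroupTheory.QuotientGroup.Defs

/-!
Independence of the coefficient function from the series, modulo principal divisors.
-/

set_option autoImplicit false
set_option linter.style.haveILetI false

universe u

open CategoryTheory AlgebraicGeometry IsLocalRing

namespace Groth.Agent.CycLib.Dev

open ModIdx

variable {X : Scheme.{u}} [IsLocallyNoetherian X] {δ : X → ℤ}

theorem divFun_one' (hd : Cyc.IsDimFun X δ) (ξ : X) : Cyc.divFun δ ξ 1 = 0 := by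
  funext x
  rw [Cyc.divFun]
  split_ifs with h
  · exact ordAt_one hd h.1 h.2
  · rfl

/-- The principal divisors of functions on the closure of a point. -/
noncomputable def prinAt (hd : Cyc.IsDimFun X δ) (ξ : X) : AddSubgroup (X → ℤ) where
  carrier := {φ | ∃ f : X.residueField ξ, f ≠ 0 ∧ φ = Cyc.divFun δ ξ f}
  zero_mem' := ⟨1, one_ne_zero, (divFun_one' hd ξ).symm⟩
  add_mem' := by
    rintro _ _ ⟨f, hf, rfl⟩ ⟨g, hg, rfl⟩
    exact ⟨f * g, mul_ne_zero hf hg, (divFun_mul hd hf hg).symm⟩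
  neg_mem' := by
    rintro _ ⟨f, hf, rfl⟩
    refine ⟨f⁻¹, inv_ne_zero hf, ?_⟩
    have h := divFun_mul hd hf (inv_ne_zero hf)
    rw [mul_inv_cancel₀ hf, divFun_one' hd] at h
    exact (eq_neg_of_add_eq_zero_right h.symm).symm

theorem finite_divFun_index {ι : Type u} {ξ : ι → X} {f : (i : ι) → X.residueField (ξ i)}
    (hlf : ∀ x : X, ∃ U : Set X, IsOpen U ∧ x ∈ U ∧ {i | (closure {ξ i} ∩ U).Nonempty}.Finite) (x : X) :
    (Function.support fun i => Cyc.divFun δ (ξ i) (f i) x).Finite := by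
  obtain ⟨U, -, hx, hfin⟩ := hlf x
  refine hfin.subset fun i hi => ⟨x, specializes_iff_mem_closure.1 ?_, hx⟩
  by_contra hns
  exact hi (dif_neg fun h => hns h.1)

/-- Functions which are locally finite sums of principal divisors. -/
noncomputable def prin (hd : Cyc.IsDimFun X δ) (k : ℤ) : AddSubgroup (X → ℤ) where
  carrier := {φ | ∃ (ι : Type u) (ξ : ι → X) (f : (i : ι) → X.residueField (ξ i)),
    (∀ i, δ (ξ i) = k + 1) ∧ (∀ i, f i ≠ 0) ∧
    (∀ x : X, ∃ U : Set X, IsOpen U ∧ x ∈ U ∧ {i | (closure {ξ i} ∩ U).Nonempty}.Finite) ∧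
    ∀ x : X, φ x = ∑ᶠ i, Cyc.divFun δ (ξ i) (f i) x}
  zero_mem' := ⟨PEmpty, PEmpty.elim, fun i => i.elim, fun i => i.elim, fun i => i.elim,
    fun x => ⟨Set.univ, isOpen_univ, trivial, Set.toFinite _⟩, fun x => (finsum_of_isEmpty _).symm⟩
  add_mem' := by
    rintro φ ψ ⟨ι, ξ, f, h1, h2, h3, h4⟩ ⟨ι', ξ', f', h1', h2', h3', h4'⟩
    refine ⟨ι ⊕ ι', Sum.elim ξ ξ', fun i => i.rec f f', fun i => i.rec h1 h1', fun i => i.rec h2 h2', fun x => ?_,
      fun x => ?_⟩
    · obtain ⟨U, hU, hx, hf⟩ := h3 x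
      obtain ⟨U', hU', hx', hf'⟩ := h3' x
      refine ⟨U ∩ U', hU.inter hU', ⟨hx, hx'⟩, ((hf.image Sum.inl).union (hf'.image Sum.inr)).subset ?_⟩
      rintro (i | i) ⟨y, hy, hy1, hy2⟩
      · exact Or.inl ⟨i, ⟨y, hy, hy1⟩, rfl⟩
      · exact Or.inr ⟨i, ⟨y, hy, hy2⟩, rfl⟩
    · rw [Pi.add_apply, h4, h4',
        finsum_eq_sum _ (finite_divFun_index h3 x), finsum_eq_sum _ (finite_divFun_index h3' x),
        finsum_eq_finsetSum_of_support_subset _ (s := (finite_divFun_index h3 x).toFinset.disjSum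
          (finite_divFun_index h3' x).toFinset) ?_, Finset.sum_disjSum]
      · rfl
      · rintro (i | i) hi
        · rw [Finset.mem_coe, Finset.inl_mem_disjSum, Set.Finite.mem_toFinset]; exact hi
        · rw [Finset.mem_coe, Finset.inr_mem_disjSum, Set.Finite.mem_toFinset]; exact hi
  neg_mem' := by
    rintro φ ⟨ι, ξ, f, h1, h2, h3, h4⟩
    refine ⟨ι, ξ, fun i => (f i)⁻¹, h1, fun i => inv_ne_zero (h2 i), h3, fun x => ?_⟩
    rw [Pi.neg_apply, h4, ← finsum_neg_distrib]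
    refine finsum_congr fun i => ?_
    have h := congrFun (divFun_mul hd (h2 i) (inv_ne_zero (h2 i))) x
    rw [mul_inv_cancel₀ (h2 i), divFun_one' hd, Pi.zero_apply, Pi.add_apply] at h
    dsimp only
    omega

theorem ratEquivZero_iff (hd : Cyc.IsDimFun X δ) (k : ℤ) (α : AlgebraicCycle X ℤ) :
    Cyc.RatEquivZero δ k α ↔ (⇑α : X → ℤ) ∈ prin hd k := Iff.rfl

variable {k : ℤ} {F : X.Modules} (hd : Cyc.IsDimFun X δ) (hF : Cyc.CohLe δ (k + 1) F)

theorem length_quot_prime {x ξ : X} (h : ξ ⤳ x) (c : X.presheaf.stalk x) :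
    ((Module.length (X.presheaf.stalk x)
      (X.presheaf.stalk x ⧸ ((ptPrime x ξ h).asIdeal ⊔ Ideal.span {c}))).toNat : ℤ) =
      LenLib.ordZ (Ideal.Quotient.mk (RingHom.ker (Cyc.specMap x ξ h)) c) := by
  show _ = ((Module.length (Cyc.LocQuot x ξ h) _).toNat : ℤ)
  rw [length_quot_surjective (Ideal.Quotient.mk (RingHom.ker (Cyc.specMap x ξ h))) Ideal.Quotient.mk_surjective _
    ((ptPrime x ξ h).asIdeal ⊔ Ideal.span {c})]
  rw [← Set.image_singleton, ← Ideal.map_span, Ideal.comap_map_of_surjective _ Ideal.Quotient.mk_surjective,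
    ← RingHom.ker_eq_comap_bot, Ideal.mk_ker, sup_comm]
  rfl

include hd hF in
/-- Replacing the top generator changes the index by a principal divisor. -/
theorem cnf_scale {ξ : X} (hξ : δ ξ = k + 1) {e e' : F.presheaf.stalk ξ} {l : List (F.presheaf.stalk ξ)}
    (he : IsSer (X.presheaf.stalk ξ) (e :: l)) (he' : IsSer (X.presheaf.stalk ξ) (e' :: l))
    (hW : lspan (X.presheaf.stalk ξ) (e :: l) = lspan (X.presheaf.stalk ξ) (e' :: l)) :
    ∃ f : X.residueField ξ, f ≠ 0 ∧ ∀ (x : X) (h : ξ ⤳ x), δ x = k →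
      cnf F h (e :: l) - cnf F h (e' :: l) = -Cyc.divFun δ ξ f x := by
  have hmem : e' ∈ lspan (X.presheaf.stalk ξ) (e :: l) := hW ▸ mem_lspan_cons e' l
  obtain ⟨v, hv, w, hw, hvw⟩ := Submodule.mem_sup.1 hmem
  obtain ⟨r, rfl⟩ := Submodule.mem_span_singleton.1 hw
  have hr : IsUnit r := by
    by_contra hr
    exact he'.2.1 (hvw ▸ add_mem hv (he.2.2 r hr))
  refine ⟨X.residue ξ r, (hr.map (X.residue ξ).hom).ne_zero, fun x h hx => ?_⟩
  letI := (X.presheaf.stalkSpecializes h).hom.toAlgebra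
  letI := stalkModule F h
  haveI : IsScalarTower (X.presheaf.stalk x) (X.presheaf.stalk ξ) (F.presheaf.stalk ξ) :=
    IsScalarTower.of_algebraMap_smul fun _ _ => rfl
  haveI : IsLocalization.AtPrime (X.presheaf.stalk ξ) (ptPrime x ξ h).asIdeal := isLocalization_stalkSpecializes h
  obtain ⟨⟨a, ⟨b, hb⟩⟩, hab⟩ := IsLocalization.surj (ptPrime x ξ h).asIdeal.primeCompl r
  have hab' : r * algebraMap _ (X.presheaf.stalk ξ) b = algebraMap _ _ a := hab
  have hsb : Cyc.specMap x ξ h b ≠ 0 := fun e0 => hb e0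
  have hres : Cyc.specMap x ξ h a = X.residue ξ r * Cyc.specMap x ξ h b := by
    show X.residue ξ (algebraMap _ _ a) = X.residue ξ r * X.residue ξ (algebraMap _ _ b)
    rw [← map_mul, hab']
  have hsa : Cyc.specMap x ξ h a ≠ 0 := by
    rw [hres]
    exact mul_ne_zero (hr.map (X.residue ξ).hom).ne_zero hsb
  have hH : b • e' - a • e ∈ lspan (X.presheaf.stalk ξ) l := by
    rw [← algebraMap_smul (X.presheaf.stalk ξ) b e', ← algebraMap_smul (X.presheaf.stalk ξ) a e, ← hvw, ← hab',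
      smul_add, mul_comm, mul_smul, add_sub_cancel_right]
    exact Submodule.smul_mem _ _ hv
  have h1 : δ x + 1 = δ ξ := by omega
  have key := sidx_scale (primes_over hd hx hξ h) (hV hd hF hξ) he.2.1 he.2.2 he'.2.1 he'.2.2 hW
    (show a ∉ (ptPrime x ξ h).asIdeal from fun e0 => hsa e0) hb hH (lat_range hF h)
  rw [Cyc.divFun, dif_pos ⟨h, h1⟩, show X.residue ξ r = Cyc.specMap x ξ h a / Cyc.specMap x ξ h b by
    rw [hres, mul_div_assoc, div_self hsb, mul_one], ordAt_div hd h h1 hsa hsb, ← length_quot_prime h a,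
    ← length_quot_prime h b, cnf, cnf]
  show nf (X.presheaf.stalk x) (X.presheaf.stalk ξ) (e :: l) _ -
    nf (X.presheaf.stalk x) (X.presheaf.stalk ξ) (e' :: l) _ = _
  simp only [nf]
  omega

open Classical in
/-- The index along the specializations of a point, as a function. -/
noncomputable def cnfFun (δ : X → ℤ) (k : ℤ) (F : X.Modules) (ξ : X) (l : List (F.presheaf.stalk ξ)) : X → ℤ :=
  fun x => if h : δ x = k ∧ ξ ⤳ x then cnf F h.2 l else 0

include hd hF in
theorem cnfFun_sub_mem {ξ : X} (hξ : δ ξ = k + 1) {l l' : List (F.presheaf.stalk ξ)}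
    (hl : IsSer (X.presheaf.stalk ξ) l) (hl' : IsSer (X.presheaf.stalk ξ) l')
    (h : lspan (X.presheaf.stalk ξ) l = lspan (X.presheaf.stalk ξ) l') :
    cnfFun δ k F ξ l - cnfFun δ k F ξ l' ∈ prinAt hd ξ := by
  haveI := (isFiniteLength_iff_isNoetherian_isArtinian.1 (finiteLength_stalk hd hF hξ)).1
  refine (QuotientAddGroup.eq_iff_sub_mem).1 (ser_invariant (hV hd hF hξ)
    (fun l => (QuotientAddGroup.mk (cnfFun δ k F ξ l) : (X → ℤ) ⧸ prinAt hd ξ))
    (fun t e e' he he' hW => ?_) (fun e t t' _ _ hsp heq => ?_) (fun a b t hab hba => ?_) hl hl' h)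
  · obtain ⟨f, hf, hfx⟩ := cnf_scale hd hF hξ he he' hW
    refine QuotientAddGroup.eq_iff_sub_mem.2 ?_
    rw [show cnfFun δ k F ξ (e :: t) - cnfFun δ k F ξ (e' :: t) = -Cyc.divFun δ ξ f from ?_]
    · exact neg_mem (show Cyc.divFun δ ξ f ∈ prinAt hd ξ from ⟨f, hf, rfl⟩)
    funext x
    simp only [cnfFun, Pi.sub_apply, Pi.neg_apply]
    by_cases hx : δ x = k ∧ ξ ⤳ x
    · rw [dif_pos hx, dif_pos hx]
      exact hfx x hx.2 hx.1
    · rw [dif_neg hx, dif_neg hx, Cyc.divFun, dif_neg, sub_zero, neg_zero]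
      exact fun h' => hx ⟨by omega, h'.1⟩
  · refine QuotientAddGroup.eq_iff_sub_mem.2 ?_
    rw [show cnfFun δ k F ξ (e :: t) - cnfFun δ k F ξ (e :: t') = cnfFun δ k F ξ t - cnfFun δ k F ξ t' from ?_]
    · exact QuotientAddGroup.eq_iff_sub_mem.1 heq
    funext x
    simp only [cnfFun, Pi.sub_apply]
    by_cases hx : δ x = k ∧ ξ ⤳ x
    · simp only [dif_pos hx, cnf, nf, hsp]
      ring
    · simp only [dif_neg hx]
  · refine congrArg QuotientAddGroup.mk (funext fun x => ?_)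
    by_cases hx : δ x = k ∧ ξ ⤳ x
    · simp only [cnfFun, dif_pos hx, cnf]
      letI := (X.presheaf.stalkSpecializes hx.2).hom.toAlgebra
      letI := stalkModule F hx.2
      haveI : IsScalarTower (X.presheaf.stalk x) (X.presheaf.stalk ξ) (F.presheaf.stalk ξ) :=
        IsScalarTower.of_algebraMap_smul fun _ _ => rfl
      haveI : IsLocalization.AtPrime (X.presheaf.stalk ξ) (ptPrime x ξ hx.2).asIdeal :=
        isLocalization_stalkSpecializes hx.2
      exact nf_swap (primes_over hd hx.1 hξ hx.2) (hV hd hF hξ) (lat_range hF hx.2) hab hba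
    · simp only [cnfFun, dif_neg hx]

include hd hF in
/-- The change of the coefficient function, supported where the choices differ. -/
theorem exists_cval_sub {σ τ : ∀ ξ : X, List (F.presheaf.stalk ξ)} (hσ : IsSerFam δ k F σ)
    (hτ : IsSerFam δ k F τ) :
    ∃ f : (i : {ξ : X // δ ξ = k + 1 ∧ Nontrivial (F.presheaf.stalk ξ)}) → X.residueField i.1, (∀ i, f i ≠ 0) ∧
      (∀ i, σ i.1 = τ i.1 → Cyc.divFun δ i.1 (f i) = 0) ∧
      ∀ x, (cval δ k F σ - cval δ k F τ) x = ∑ᶠ i, Cyc.divFun δ i.1 (f i) x := by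
  classical
  let I : Type u := {ξ : X // δ ξ = k + 1 ∧ Nontrivial (F.presheaf.stalk ξ)}
  choose f hf hfe using fun i : I => cnfFun_sub_mem hd hF i.2.1 (hσ i.1 i.2.1).1 (hτ i.1 i.2.1).1
    ((hσ i.1 i.2.1).2.trans (hτ i.1 i.2.1).2.symm)
  refine ⟨f, hf, fun i h => ?_, fun x => ?_⟩
  · rw [← hfe i, h, sub_self]
  simp only [Pi.sub_apply, cval]
  by_cases hx : δ x = k
  · have hs := finite_gen hd hF x
    have hsub : ∀ i, i ∉ hs.toFinset → Subsingleton (F.presheaf.stalk i.1) := fun i hi =>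
      not_nontrivial_iff_subsingleton.1 fun hn => hi (hs.mem_toFinset.2 hn)
    let ψ : hs.toFinset → I := fun i => ⟨i.1.1, i.1.2.1, hs.mem_toFinset.1 i.2⟩
    have hψ : Function.Injective ψ := fun i j e => Subtype.ext (Subtype.ext (congrArg (fun w : I => w.1) e))
    rw [if_pos hx, if_pos hx, finsum_cnf hσ hsub, finsum_cnf hτ hsub,
      finsum_eq_finsetSum_of_support_subset _ (s := hs.toFinset.attach.map ⟨ψ, hψ⟩) ?_,
      Finset.sum_map, add_sub_add_left_eq_sub, ← Finset.sum_sub_distrib, ← Finset.sum_attach]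
    · refine Finset.sum_congr rfl fun i _ => ?_
      have := congrFun (hfe (ψ i)) x
      simp only [Pi.sub_apply, cnfFun, dif_pos (show δ x = k ∧ i.1.1 ⤳ x from ⟨hx, i.1.2.2⟩), ψ] at this
      exact this
    · intro i hi
      have hix : i.1 ⤳ x := by
        by_contra hns
        exact hi (dif_neg fun h' => hns h'.1)
      rw [Finset.coe_map]
      exact ⟨⟨⟨i.1, i.2.1, hix⟩, hs.mem_toFinset.2 i.2.2⟩, Finset.mem_attach _ _, rfl⟩
  · rw [if_neg hx, if_neg hx, sub_zero, finsum_eq_zero_of_forall_eq_zero fun i => dif_neg fun h' => hx (by have := i.2.1; have := h'.2; omega)]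

include hd hF in
/-- The class of the coefficient function does not depend on the choices. -/
theorem cval_sub_mem {σ τ : ∀ ξ : X, List (F.presheaf.stalk ξ)} (hσ : IsSerFam δ k F σ)
    (hτ : IsSerFam δ k F τ) : cval δ k F σ - cval δ k F τ ∈ prin hd k := by
  obtain ⟨f, hf, -, h⟩ := exists_cval_sub hd hF hσ hτ
  exact ⟨_, Subtype.val, f, fun i => i.2.1, hf, finite_top_dim_support F hd hF.1 hF.2, h⟩

end Groth.Agent.CycLib.Dev
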