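import Groth.Agent.CycLib.DevClosedK0

/-!
Dévissage isomorphism on `K₀` for a closed immersion.
-/

set_option autoImplicit false
set_option linter.style.haveILetI false
set_option maxHeartbeats 800000

universe u

open CategoryTheory Limits AlgebraicGeometry IsLocalRing

namespace Groth.Agent.CycLib.Dev.ClosedK0

open AbLib CohDev

variable {X Z : Scheme.{u}} (i : Z ⟶ X) [IsClosedImmersion i] [IsLocallyNoetherian X]

/-- The class of the associated graded module. -/
noncomputable def Φ (M : X.Modules) : SGA6.Kcoh Z := kcl (seqSum.{u} fun n => (L i).obj ((Dn i n).obj M))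

omit [IsLocallyNoetherian X] in
theorem small_of_iso {A B : X.Modules} (e : A ≅ B) (h : Small i B) : Small i A := small_of_mono i e.hom h

omit [IsLocallyNoetherian X] in
theorem shortExact_pull {S : ShortComplex X.Modules} (hS : S.ShortExact) (h₁ : Small i S.X₁) (h₂ : Small i S.X₂)
    (h₃ : Small i S.X₃) : (S.map (L i)).ShortExact := by
  haveI : IsIso (u i S.X₁) := h₁
  haveI : IsIso (u i S.X₂) := h₂
  haveI : IsIso (u i S.X₃) := h₃
  haveI : (R i).Faithful := (Props.KilledSub.fullyFaithful i).faithful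
  let e : S ≅ (S.map (L i)).map (R i) := ShortComplex.isoMk (@asIso _ _ _ _ (u i S.X₁) h₁) (@asIso _ _ _ _ (u i S.X₂) h₂)
    (@asIso _ _ _ _ (u i S.X₃) h₃)
    ((Scheme.Modules.pullbackPushforwardAdjunction i).unit.naturality S.f).symm
    ((Scheme.Modules.pullbackPushforwardAdjunction i).unit.naturality S.g).symm
  have h := ShortComplex.shortExact_of_iso e hS
  refine { exact := ((S.map (L i)).exact_map_iff_of_faithful (R i)).1 h.exact, mono_f := ?_, epi_g := ?_ }
  · haveI : Mono ((R i).map ((L i).map S.f)) := h.mono_f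
    exact (R i).mono_of_mono_map (inferInstance : Mono ((R i).map ((L i).map S.f)))
  · haveI : Epi ((R i).map ((L i).map S.g)) := h.epi_g
    exact (R i).epi_of_epi_map (inferInstance : Epi ((R i).map ((L i).map S.g)))

theorem exists_coker_dι_iso (N : X.Modules) : Nonempty (cokernel (dι i N) ≅ (R i).obj ((L i).obj N)) :=
  ⟨(cokernelIsCokernel (dι i N)).coconePointUniqueUpToIso (shortExact_unit i N).gIsCokernel⟩

theorem exists_pull_coker_dι (N : X.Modules) : Nonempty ((L i).obj (cokernel (dι i N)) ≅ (L i).obj N) := by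
  obtain ⟨e⟩ := exists_coker_dι_iso i N
  exact ⟨(L i).mapIso e ≪≫ asIso ((Scheme.Modules.pullbackPushforwardAdjunction i).counit.app ((L i).obj N))⟩

theorem small_coker_dι (N : X.Modules) : Small i (cokernel (dι i N)) :=
  small_of_iso i (exists_coker_dι_iso i N).some (small_push i _)

include i in
theorem isLN : IsLocallyNoetherian Z := LocallyOfFiniteType.isLocallyNoetherian i

theorem coh_seq {N : ℕ → X.Modules} (hN : ∀ j, Coh.IsCoh (N j)) (h : Fin' N) :
    Coh.IsCoh (seqSum.{u} fun j => (L i).obj (N j)) :=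
  haveI := isLN i
  (h.pull i).coh fun j => coh_pull i (hN j)

theorem kcl_sigma {A B C : ℕ → Z.Modules} (hA : Coh.IsCoh (seqSum.{u} A)) (hB : Coh.IsCoh (seqSum.{u} B))
    (hC : Coh.IsCoh (seqSum.{u} C))
    (h : ∀ j, ∃ (f : A j ⟶ B j) (g : B j ⟶ C j) (w : f ≫ g = 0), (ShortComplex.mk f g w).ShortExact) :
    kcl (seqSum.{u} B) = kcl (seqSum.{u} A) + kcl (seqSum.{u} C) := by
  choose f g w hS using h
  exact kcl_add (shortExact_sigma (fun j : ULift.{u} ℕ => ShortComplex.mk (f j.down) (g j.down) (w j.down))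
    fun j => hS _) hA hB hC

theorem kcl_shift {Y : Scheme.{u}} {N : ℕ → Y.Modules} (hN : Coh.IsCoh (seqSum.{u} N))
    (hN' : Coh.IsCoh (seqSum.{u} fun j => N (j + 1))) (h0 : Coh.IsCoh (N 0)) :
    kcl (seqSum.{u} N) = kcl (seqSum.{u} fun j => N (j + 1)) + kcl (N 0) := by
  obtain ⟨f, g, w, ⟨s⟩⟩ := shortExact_shift.{u} N
  exact kcl_add s.shortExact hN' hN h0

theorem coh_coker_dι {M : X.Modules} (h : Good i M) : Coh.IsCoh (cokernel (dι i M)) :=
  isCoh_cokernel _ (good_D i h).1.1 h.1

/-- Changing by a module killed by the ideal. -/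
theorem Φ_step {M' M : X.Modules} (f : M' ⟶ M) [Mono f] (hM' : Good i M') (hM : Good i M)
    (hs : Small i (cokernel f)) : Φ i M = Φ i M' + kcl ((L i).obj (cokernel f)) := by
  have h0 : dι i M ≫ cokernel.π f = 0 := by
    haveI : IsIso (u i (cokernel f)) := hs
    have hz : dι i (cokernel f) = 0 := (cancel_mono (u i (cokernel f))).1 ((kernel.condition _).trans zero_comp.symm)
    rw [← dι_nat, hz, comp_zero]
  let g0 : (D i).obj M ⟶ M' := Abelian.monoLift f (dι i M) h0
  let gs : ∀ j : ℕ, { g : (Dn i (j + 1)).obj M ⟶ (Dn i j).obj M' //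
      g ≫ (Dn i j).map f = dι i ((Dn i j).obj M) } := fun j => by
    induction j with
    | zero => exact ⟨g0, Abelian.monoLift_comp f (dι i M) h0⟩
    | succ n ih =>
      refine ⟨(D i).map ih.1, ?_⟩
      show (D i).map ih.1 ≫ (D i).map ((Dn i n).map f) = _
      rw [← Functor.map_comp, ih.2]
      exact (cancel_mono (dι i ((Dn i n).obj M))).1 (dι_nat i _)
  let g := fun j => (gs j).1
  have hg : ∀ j, g j ≫ (Dn i j).map f = dι i ((Dn i j).obj M) := fun j => (gs j).2
  have hg' : ∀ j, (Dn i (j + 1)).map f ≫ g j = dι i ((Dn i j).obj M') := fun j => by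
    haveI := mono_Dn i f j
    rw [← cancel_mono ((Dn i j).map f), Category.assoc, hg]
    exact dι_nat i _
  haveI : ∀ j, Mono ((Dn i j).map f) := mono_Dn i f
  haveI : ∀ j, Mono (g j) := fun j => by
    haveI : Mono (g j ≫ (Dn i j).map f) := by rw [hg]; exact mono_dι i _
    exact mono_of_mono _ ((Dn i j).map f)
  let P := fun j => cokernel (g j)
  let Q := fun j => cokernel ((Dn i j).map f)
  have e1 := fun j => shortExact_coker_comp (g j) ((Dn i j).map f) _ (hg j)
  have e2 := fun j => shortExact_coker_comp ((Dn i (j + 1)).map f) (g j) _ (hg' j)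
  have hcP : ∀ j, Coh.IsCoh (P j) := fun j => isCoh_cokernel _ (good_Dn i hM (j + 1)).1.1 (good_Dn i hM' j).1
  have hcQ : ∀ j, Coh.IsCoh (Q j) := fun j => isCoh_cokernel _ (good_Dn i hM' j).1.1 (good_Dn i hM j).1
  have hfP : Fin' P := (fin_Dn i hM').of_epi fun j => cokernel.π (g j)
  have hfQ : Fin' Q := (fin_Dn i hM).of_epi fun j => cokernel.π ((Dn i j).map f)
  have sP : ∀ j, Small i (P j) := fun j => by
    obtain ⟨a, b, w, h⟩ := e1 j
    haveI := h.mono_f
    exact small_of_mono i a (small_coker_dι i _)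
  have sQ : ∀ j, Small i (Q j) := fun j => by
    obtain ⟨a, b, w, h⟩ := e1 j
    haveI := h.epi_g
    exact small_of_epi i b (small_coker_dι i _)
  have E1 : kcl (seqSum.{u} fun j => (L i).obj ((Dn i j).obj M)) =
      kcl (seqSum.{u} fun j => (L i).obj (P j)) + kcl (seqSum.{u} fun j => (L i).obj (Q j)) := by
    refine kcl_sigma (coh_seq i hcP hfP) (coh_seq i (fun j => (good_Dn i hM j).1) (fin_Dn i hM))
      (coh_seq i hcQ hfQ) fun j => ?_
    obtain ⟨a, b, w, h⟩ := e1 j
    obtain ⟨e⟩ := exists_pull_coker_dι i ((Dn i j).obj M)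
    exact shortExact_transport (shortExact_pull i h (sP j) (small_coker_dι i _) (sQ j)) (Iso.refl _) e (Iso.refl _)
  have E2 : kcl (seqSum.{u} fun j => (L i).obj ((Dn i j).obj M')) =
      kcl (seqSum.{u} fun j => (L i).obj (Q (j + 1))) + kcl (seqSum.{u} fun j => (L i).obj (P j)) := by
    refine kcl_sigma (coh_seq i (fun j => hcQ (j + 1)) hfQ.succ)
      (coh_seq i (fun j => (good_Dn i hM' j).1) (fin_Dn i hM')) (coh_seq i hcP hfP) fun j => ?_
    obtain ⟨a, b, w, h⟩ := e2 j
    obtain ⟨e⟩ := exists_pull_coker_dι i ((Dn i j).obj M')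
    exact shortExact_transport (shortExact_pull i h (sQ (j + 1)) (small_coker_dι i _) (sP j)) (Iso.refl _) e (Iso.refl _)
  have E3 := kcl_shift (N := fun j => (L i).obj (Q j)) (coh_seq i hcQ hfQ) (coh_seq i (fun j => hcQ (j + 1)) hfQ.succ)
    (coh_pull i (hcQ 0))
  rw [Φ, Φ, E1, E2, E3]
  show _ = _ + kcl ((L i).obj (cokernel f))
  simp only [Q]
  abel!

theorem good_seq {N : ℕ → X.Modules} (hN : ∀ j, Good i (N j)) (h : Fin' N) : Good i (seqSum.{u} N) := by
  classical
  refine ⟨h.coh fun j => (hN j).1, fun x hx => by_contra fun hr => ?_⟩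
  obtain ⟨e, -⟩ := exists_stalk_sigma (fun j : ULift.{u} ℕ => N j.down) ∅ x fun j _ =>
    not_nontrivial_iff_subsingleton.1 fun hn => hr ((hN _).2 x hn)
  exact not_nontrivial_iff_subsingleton.2 (e.symm.injective.subsingleton) hx

theorem Φ_iso {A B : X.Modules} (e : A ≅ B) (hA : Good i A) : Φ i A = Φ i B :=
  kcl_iso (Sigma.mapIso fun j : ULift.{u} ℕ => (L i).mapIso ((Dn i j.down).mapIso e))
    (coh_seq i (fun j => (good_Dn i hA j).1) (fin_Dn i hA))

theorem Φ_split {S : ShortComplex X.Modules} (s : S.Splitting) (h₁ : Good i S.X₁) (h₂ : Good i S.X₂)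
    (h₃ : Good i S.X₃) : Φ i S.X₂ = Φ i S.X₁ + Φ i S.X₃ :=
  kcl_sigma (A := fun j => (L i).obj ((Dn i j).obj S.X₁)) (B := fun j => (L i).obj ((Dn i j).obj S.X₂))
    (C := fun j => (L i).obj ((Dn i j).obj S.X₃))
    (coh_seq i (fun j => (good_Dn i h₁ j).1) (fin_Dn i h₁)) (coh_seq i (fun j => (good_Dn i h₂ j).1) (fin_Dn i h₂))
    (coh_seq i (fun j => (good_Dn i h₃ j).1) (fin_Dn i h₃))
    fun j => ⟨_, _, (S.map (Dn i j ⋙ L i)).zero, (s.map (Dn i j ⋙ L i)).shortExact⟩

omit [IsLocallyNoetherian X] in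
/-- Sums of killed modules are direct images. -/
theorem exists_seq_push {N : ℕ → X.Modules} (hN : ∀ j, Small i (N j)) :
    Nonempty (seqSum.{u} N ≅ (R i).obj (seqSum.{u} fun j => (L i).obj (N j))) := by
  haveI := Props.KilledSub.isLeftAdjoint i
  exact ⟨(Sigma.mapIso fun j : ULift.{u} ℕ => @asIso _ _ _ _ (u i (N j.down)) (hN _)) ≪≫
    (PreservesCoproduct.iso (R i) fun j : ULift.{u} ℕ => (L i).obj (N j.down)).symm⟩

/-- The invariant is additive. -/
theorem Φ_add {S : ShortComplex X.Modules} (hS : S.ShortExact) (h₁ : Good i S.X₁) (h₂ : Good i S.X₂)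
    (h₃ : Good i S.X₃) : Φ i S.X₂ = Φ i S.X₁ + Φ i S.X₃ := by
  haveI := hS.epi_g
  let g := fun j => (Dn i j).map S.g
  haveI : ∀ j, Epi (g j) := epi_Dn i S.g
  let F := fun j => kernel (g j)
  have hF : ∀ j, Good i (F j) := fun j => Good.of_mono i (kernel.ι (g j))
    (isCoh_kernel _ (good_Dn i h₂ j).1 (good_Dn i h₃ j).1.1).1 (good_Dn i h₂ j)
  have hfF : Fin' F := (fin_Dn i h₂).of_mono fun j => kernel.ι (g j)
  have hnat : ∀ j, dι i ((Dn i j).obj S.X₂) ≫ g j = g (j + 1) ≫ dι i ((Dn i j).obj S.X₃) :=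
    fun j => (dι_nat i (g j)).symm
  haveI : ∀ j, @Mono X.Modules _ ((Dn i (j + 1)).obj S.X₂) _ (dι i ((Dn i j).obj S.X₂)) := fun j => mono_dι i _
  haveI : ∀ j, @Mono X.Modules _ ((Dn i (j + 1)).obj S.X₃) _ (dι i ((Dn i j).obj S.X₃)) := fun j => mono_dι i _
  let a : ∀ j, F (j + 1) ⟶ F j := fun j => kernel.map (g (j + 1)) (g j) (dι i _) (dι i _) (hnat j).symm
  haveI : ∀ j, Mono (a j) := fun j => by
    haveI : Mono (a j ≫ kernel.ι (g j)) := by
      rw [kernel.lift_ι]; exact mono_comp _ _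
    exact mono_of_mono _ (kernel.ι (g j))
  have hse : ∀ j, (ShortComplex.mk (kernel.ι (g j)) (g j) (kernel.condition _)).ShortExact := fun j =>
    { exact := ShortComplex.exact_of_f_is_kernel _ (kernelIsKernel _)
      mono_f := inferInstanceAs (Mono (kernel.ι (g j)))
      epi_g := inferInstanceAs (Epi (g j)) }
  let G := fun j => cokernel (a j)
  have e := fun j => shortExact_coker_map (kernel.ι (g j)) (g j) (kernel.ι (g (j + 1))) (g (j + 1)) (a j)
    (dι i _) (dι i _) (kernel.condition _) (kernel.condition _) (hse j) (hse (j + 1)) (kernel.lift_ι _ _ _) (hnat j)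
  have hcG : ∀ j, Coh.IsCoh (G j) := fun j => isCoh_cokernel _ (hF (j + 1)).1.1 (hF j).1
  have hfG : Fin' G := hfF.of_epi fun j => cokernel.π (a j)
  have sG : ∀ j, Small i (G j) := fun j => by
    obtain ⟨f, p, w, h⟩ := e j
    haveI := h.mono_f
    exact small_of_mono i f (small_coker_dι i _)
  have E1 : Φ i S.X₂ = kcl (seqSum.{u} fun j => (L i).obj (G j)) + Φ i S.X₃ := by
    refine kcl_sigma (coh_seq i hcG hfG) (coh_seq i (fun j => (good_Dn i h₂ j).1) (fin_Dn i h₂))
      (coh_seq i (fun j => (good_Dn i h₃ j).1) (fin_Dn i h₃)) fun j => ?_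
    obtain ⟨f, p, w, h⟩ := e j
    obtain ⟨e₂⟩ := exists_pull_coker_dι i ((Dn i j).obj S.X₂)
    obtain ⟨e₃⟩ := exists_pull_coker_dι i ((Dn i j).obj S.X₃)
    exact shortExact_transport (shortExact_pull i h (sG j) (small_coker_dι i _) (small_coker_dι i _)) (Iso.refl _) e₂ e₃
  let m : seqSum.{u} (fun j => F (j + 1)) ⟶ seqSum.{u} F := Limits.Sigma.map fun j => a j.down
  have hm := shortExact_sigma (fun j : ULift.{u} ℕ => ShortComplex.mk (a j.down) (cokernel.π (a j.down))
      (cokernel.condition _)) fun j =>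
    { exact := ShortComplex.exact_of_g_is_cokernel _ (cokernelIsCokernel _)
      mono_f := inferInstanceAs (Mono (a j.down))
      epi_g := inferInstanceAs (Epi (cokernel.π (a j.down))) }
  haveI : Mono m := hm.mono_f
  obtain ⟨em⟩ : Nonempty (cokernel m ≅ seqSum.{u} G) :=
    ⟨(cokernelIsCokernel m).coconePointUniqueUpToIso hm.gIsCokernel⟩
  obtain ⟨eG⟩ := exists_seq_push i sG
  have hA := good_seq i hF hfF
  have hB := good_seq i (fun j => hF (j + 1)) hfF.succ
  have E2 := Φ_step i m hB hA (small_of_iso i (em ≪≫ eG) (small_push i _))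
  rw [kcl_iso ((L i).mapIso em ≪≫ PreservesCoproduct.iso (L i) fun j : ULift.{u} ℕ => G j.down)
    (coh_pull i (isCoh_cokernel m hB.1.1 hA.1))] at E2
  obtain ⟨f, p, w, ⟨s⟩⟩ := shortExact_shift.{u} F
  have E3 := Φ_split i s hB hA (hF 0)
  dsimp only at E3
  have eF : F 0 ≅ S.X₁ :=
    (kernelIsKernel S.g).conePointUniqueUpToIso hS.fIsKernel
  rw [Φ_iso i eF (hF 0)] at E3
  rw [E1]
  have : kcl (seqSum.{u} fun j => (L i).obj (G j)) = Φ i S.X₁ := add_left_cancel (E2.symm.trans E3)
  rw [this]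

theorem Φ_push {N : Z.Modules} (hN : Coh.IsCoh N) : Φ i ((R i).obj N) = kcl N := by
  let M := (R i).obj N
  have hM : Good i M := good_push i hN
  haveI : IsIso (u i M) := small_push i N
  have hz : ∀ j, IsZero ((Dn i (j + 1)).obj M) := fun j => by
    induction j with
    | zero => exact isZero_kernel_of_mono (u i M)
    | succ n ih => exact (D i).map_isZero ih
  have hc' := coh_seq i (fun j => (good_Dn i hM (j + 1)).1) (fin_Dn i hM).succ
  have e := kcl_shift (N := fun j => (L i).obj ((Dn i j).obj M)) (coh_seq i (fun j => (good_Dn i hM j).1) (fin_Dn i hM))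
    hc' (coh_pull i hM.1)
  have hzero : IsZero (seqSum.{u} fun j => (L i).obj ((Dn i (j + 1)).obj M)) := by
    rw [IsZero.iff_id_eq_zero]
    exact Sigma.hom_ext _ _ fun j => ((L i).map_isZero (hz j.down)).eq_of_src _ _
  show kcl _ = _
  rw [e, kcl_of_isZero hzero, zero_add]
  exact kcl_iso (@asIso _ _ _ _ ((Scheme.Modules.pullbackPushforwardAdjunction i).counit.app N) (Props.KilledSub.isIso_counit i N)) (coh_pull i hM.1)

/-- The class of a module supported on the closed subscheme comes from it. -/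
theorem clSub_eq {G : X.Modules} (hG : Good i G) :
    KZero.clSub (Good i) G =
      KZero.clSub (Good i) ((R i).obj (seqSum.{u} fun j => (L i).obj ((Dn i j).obj G))) := by
  let N := fun j => (Dn i j).obj G
  have hN := good_seq i (good_Dn i hG) (fin_Dn i hG)
  have hN' := good_seq i (fun j => good_Dn i hG (j + 1)) (fin_Dn i hG).succ
  obtain ⟨f, p, w, ⟨s⟩⟩ := shortExact_shift.{u} N
  have E1 := ResK0.Basic.clSub_add (Good i) s.shortExact hN' hN hG
  let C := fun j => cokernel (dι i (N j))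
  have hm := shortExact_sigma (fun j : ULift.{u} ℕ => ShortComplex.mk (dι i (N j.down)) (cokernel.π (dι i (N j.down)))
      (cokernel.condition _)) fun j =>
    { exact := ShortComplex.exact_of_g_is_cokernel _ (cokernelIsCokernel _)
      mono_f := inferInstanceAs (Mono (dι i (N j.down)))
      epi_g := inferInstanceAs (Epi (cokernel.π (dι i (N j.down)))) }
  haveI := Props.KilledSub.isLeftAdjoint i
  let e : seqSum.{u} C ≅ (R i).obj (seqSum.{u} fun j => (L i).obj (N j)) :=
    (Sigma.mapIso fun j : ULift.{u} ℕ => (exists_coker_dι_iso i (N j.down)).some) ≪≫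
      (PreservesCoproduct.iso (R i) fun j : ULift.{u} ℕ => (L i).obj (N j.down)).symm
  have hR := good_push i (coh_seq i (fun j => (good_Dn i hG j).1) (fin_Dn i hG))
  have hC : Good i (seqSum.{u} C) := Good.of_epi i e.inv
    ((fin_Dn i hG).of_epi (fun j => cokernel.π (dι i (N j))) |>.coh fun j => coh_coker_dι i (good_Dn i hG j)).1 hR
  obtain ⟨f', p', w', hse⟩ := shortExact_transport hm (Iso.refl _) (Iso.refl _) e
  have E2 := ResK0.Basic.clSub_add (Good i) hse hN' hN hR
  exact add_left_cancel (E1.symm.trans E2)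

/-- The dévissage isomorphism. -/
theorem exists_equiv : ∃ φ : SGA6.Kcoh Z ≃+ KZero.K0sub (Good i),
    ∀ F : Z.Modules, Coh.IsCoh F → φ (kcl F) = KZero.clSub (Good i) ((R i).obj F) := by
  let f : SGA6.Kcoh Z →+ KZero.K0sub (Good i) := QuotientAddGroup.lift _
    (FreeAbelianGroup.lift fun F : Subtype (fun F : Z.Modules => Coh.IsCoh F) => KZero.clSub (Good i) ((R i).obj F.1))
    ((AddSubgroup.closure_le _).2 (by
      rintro _ ⟨S, h₁, h₂, h₃, hS, rfl⟩
      rw [SetLike.mem_coe, AddMonoidHom.mem_ker, map_sub, map_sub, FreeAbelianGroup.lift_apply_of,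
        FreeAbelianGroup.lift_apply_of, FreeAbelianGroup.lift_apply_of]
      dsimp only
      have h : KZero.clSub (Good i) ((R i).obj S.X₂) =
          KZero.clSub (Good i) ((R i).obj S.X₁) + KZero.clSub (Good i) ((R i).obj S.X₃) := by
        haveI : PreservesFiniteColimits (R i) := PreservesColimitsOfSize.preservesFiniteColimits.{0, 0} _
        exact ResK0.Basic.clSub_add (Good i) (hS.map_of_exact (R i)) (good_push i h₁) (good_push i h₂) (good_push i h₃)
      rw [h]; abel))
  have hf : ∀ F : Z.Modules, Coh.IsCoh F → f (kcl F) = KZero.clSub (Good i) ((R i).obj F) := fun F hF => by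
    simp only [kcl, KZero.clSub, dif_pos hF]
    exact FreeAbelianGroup.lift_apply_of _ _
  let g : KZero.K0sub (Good i) →+ SGA6.Kcoh Z := QuotientAddGroup.lift _
    (FreeAbelianGroup.lift fun G : Subtype (Good i) => Φ i G.1)
    ((AddSubgroup.closure_le _).2 (by
      rintro _ ⟨S, h₁, h₂, h₃, hS, rfl⟩
      rw [SetLike.mem_coe, AddMonoidHom.mem_ker, map_sub, map_sub, FreeAbelianGroup.lift_apply_of,
        FreeAbelianGroup.lift_apply_of, FreeAbelianGroup.lift_apply_of]
      dsimp only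
      rw [Φ_add i hS h₁ h₂ h₃]; abel))
  have hg : ∀ G, Good i G → g (KZero.clSub (Good i) G) = Φ i G := fun G hG => by
    simp only [KZero.clSub, dif_pos hG]
    exact FreeAbelianGroup.lift_apply_of _ _
  have gf : g.comp f = AddMonoidHom.id _ := by
    refine QuotientAddGroup.addMonoidHom_ext _ (FreeAbelianGroup.lift_ext _ _ fun F => ?_)
    have e : (QuotientAddGroup.mk (FreeAbelianGroup.of F) : SGA6.Kcoh Z) = kcl F.1 := by
      simp [kcl, KZero.clSub, F.2]
    show g (f (QuotientAddGroup.mk (FreeAbelianGroup.of F))) = QuotientAddGroup.mk (FreeAbelianGroup.of F)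
    rw [e, hf _ F.2, hg _ (good_push i F.2), Φ_push i F.2]
  have fg : f.comp g = AddMonoidHom.id _ := by
    refine QuotientAddGroup.addMonoidHom_ext _ (FreeAbelianGroup.lift_ext _ _ fun G => ?_)
    have e : (QuotientAddGroup.mk (FreeAbelianGroup.of G) : KZero.K0sub (Good i)) = KZero.clSub (Good i) G.1 := by
      simp [KZero.clSub, G.2]
    show f (g (QuotientAddGroup.mk (FreeAbelianGroup.of G))) = QuotientAddGroup.mk (FreeAbelianGroup.of G)
    rw [e, hg _ G.2, Φ, hf _ (coh_seq i (fun j => (good_Dn i G.2 j).1) (fin_Dn i G.2)), ← clSub_eq i G.2]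
  exact ⟨AddMonoidHom.toAddEquiv f g gf fg, hf⟩

end Groth.Agent.CycLib.Dev.ClosedK0
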