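import Groth.Agent.CycLib.DevPhi
import Groth.Agent.CycLib.DevCycle

/-!
The invariant of the sheaves of a cycle.
-/

set_option autoImplicit false

universe u

open CategoryTheory AlgebraicGeometry

namespace Groth.Agent.CycLib.Dev

variable {X : Scheme.{u}} {δ : X → ℤ} {k : ℤ} [IsLocallyNoetherian X] (hd : Cyc.IsDimFun X δ)

omit [IsLocallyNoetherian X] in
theorem finite_inter_cycle (α : AlgebraicCycle X ℤ) (U : X.Opens) (hU : IsAffineOpen U) :
    ((U : Set X) ∩ Function.support ⇑α).Finite :=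
  LocallyFiniteSupport.finite_inter_support_of_isCompact
    (Function.locallyFinsupp.locallyFiniteSupport α) hU.isCompact

include hd in
theorem cycleSheaf_spec (α : AlgebraicCycle X ℤ) (hα : α ∈ Cyc.Zk X δ k) :
    Cyc.CohLe δ k (Cyc.cycleSheafPos ⇑α) ∧ Cyc.CohLe δ k (Cyc.cycleSheafNeg ⇑α) ∧
      Cyc.sheafFun δ k (Cyc.cycleSheafPos ⇑α) - Cyc.sheafFun δ k (Cyc.cycleSheafNeg ⇑α) = ⇑α := by
  obtain ⟨h1, e1⟩ := cycleSheafPos_spec hd (a := ⇑α) (finite_inter_cycle α) hα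
  obtain ⟨h2, e2⟩ := cycleSheafPos_spec hd (a := -⇑α)
    (fun U hU => by rw [Function.support_neg]; exact finite_inter_cycle α U hU)
    (fun x hx => by rw [Pi.neg_apply, hα x hx, neg_zero])
  refine ⟨h1, h2, ?_⟩
  rw [Cyc.cycleSheafNeg, e1, e2]
  funext x
  simp only [Pi.sub_apply, Pi.neg_apply]
  omega

include hd in
theorem mem_prin_of_toK0_eq (α : AlgebraicCycle X ℤ) (hα : α ∈ Cyc.Zk X δ k)
    (h : Cyc.toK0CohQuot δ (k + 1) (k - 1) (Cyc.cycleSheafPos ⇑α) =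
      Cyc.toK0CohQuot δ (k + 1) (k - 1) (Cyc.cycleSheafNeg ⇑α)) : Cyc.RatEquivZero δ k α := by
  obtain ⟨h1, h2, e⟩ := cycleSheaf_spec hd α hα
  have := phi_congr hd (cohLe_mono (by omega) h1) (cohLe_mono (by omega) h2) h
  rw [phi_of_le_k hd h1, phi_of_le_k hd h2] at this
  rw [ratEquivZero_iff hd, ← e]
  exact QuotientAddGroup.eq_iff_sub_mem.1 this

end Groth.Agent.CycLib.Dev
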