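import Groth.Agent.CycLib.DevTwistClass
import Groth.Agent.CycLib.DevC1
import Groth.Agent.CycLib.DevC1Tensor
import Groth.Agent.CycLib.FieldDelta
import Groth.Agent.CycLib.FibreDeg
import Groth.Agent.EulerChar.Torsion
import Groth.Agent.EulerChar.Push
import Groth.Agent.BddFibLib.Points
import Groth.Agent.VarDim.Scheme
import Groth.Agent.ProperFin.Supp
import Groth.Agent.CohDev.Gen
import Groth.Prelude.Def_CurvBase

/-!
Degrees of zero-cycles and Euler characteristics.
-/

set_option autoImplicit false
set_option linter.style.haveILetI false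
set_option maxHeartbeats 800000

universe u

open CategoryTheory Limits AlgebraicGeometry

namespace Groth.Agent.CycLib.Dev

open ModIdx Groth.Agent.PullStalk.Sky Groth.Agent.PullStalk.Exact

variable (k : Type u) [Field k] {X : Scheme.{u}} [X.Over (Spec (CommRingCat.of k))]

/-- The degree of a zero-cycle given by its coefficient function. -/
noncomputable def degFun (a : X → ℤ) : ℤ :=
  ∑ᶠ x : X, ((X ↘ Spec (CommRingCat.of k)).residueDegree x : ℤ) * a x

theorem degFun_zero : degFun k (0 : X → ℤ) = 0 := by
  simp [degFun]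

theorem degFun_add {a b : X → ℤ} (ha : (Function.support a).Finite) (hb : (Function.support b).Finite) :
    degFun k (a + b) = degFun k a + degFun k b := by
  unfold degFun
  rw [← finsum_add_distrib (ha.subset fun x hx h => hx (by simp [h])) (hb.subset fun x hx h => hx (by simp [h]))]
  exact finsum_congr fun x => by rw [Pi.add_apply, mul_add]

theorem degFun_sub {a b : X → ℤ} (ha : (Function.support a).Finite) (hb : (Function.support b).Finite) :
    degFun k (a - b) = degFun k a - degFun k b := by
  have h := degFun_add k (a := a - b) (b := b) ((ha.union hb).subset fun x hx => by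
    by_contra hh
    simp only [Set.mem_union, Function.mem_support, not_or, not_not] at hh
    exact hx (by simp [hh.1, hh.2])) hb
  rw [sub_add_cancel] at h
  omega

variable [IsProper (X ↘ Spec (CommRingCat.of k))] {δ : X → ℤ}

include k in
theorem IsCyc.finite_support {m : ℤ} {a : X → ℤ} (ha : IsCyc δ m a) : (Function.support a).Finite := by
  haveI := EulerChar.compactSpace k (X := X)
  choose W hW hxW _ using fun x : X => exists_isAffineOpen_mem_and_subset (x := x) (U := (⊤ : X.Opens)) trivial
  obtain ⟨t, ht⟩ := CompactSpace.elim_nhds_subcover (fun x : X => (W x : Set X)) fun x => (W x).2.mem_nhds (hxW x)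
  refine (t.finite_toSet.biUnion fun x _ => ha.finite (W x) (hW x)).subset fun y hy => ?_
  obtain ⟨x, hx, hyx⟩ := Set.mem_iUnion₂.1 (ht.ge (Set.mem_univ y))
  exact Set.mem_biUnion hx ⟨hyx, hy⟩

section delta

variable (hδ : Cyc.DeltaCompat (X ↘ Spec (CommRingCat.of k)) δ (fun _ => 0))

omit [IsProper (X ↘ Spec (CommRingCat.of k))] in
include hδ in
theorem delta_nonneg (x : X) : 0 ≤ δ x := by
  obtain ⟨n, -, hn⟩ := hδ x
  rw [hn]; simp

include hδ in
theorem delta_eq : δ = fdelta k (X ↘ Spec (CommRingCat.of k)) := by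
  refine deltaCompat_eq hδ ?_
  have h := deltaCompat_fdelta k (X ↘ Spec (CommRingCat.of k)) (X ↘ Spec (CommRingCat.of k))
    (𝟙 (Spec (CommRingCat.of k))) (Category.comp_id _)
  rwa [show fdelta k (𝟙 (Spec (CommRingCat.of k))) = fun _ => (0 : ℤ) from funext (fdelta_id k)] at h

include hδ in
theorem isDimFun_delta : Cyc.IsDimFun X δ := by
  rw [delta_eq k hδ]; exact isDimFun_fdelta k _

include hδ in
theorem isClosed_of_delta_eq_zero {x : X} (hx : δ x = 0) : IsClosed ({x} : Set X) := by
  rw [delta_eq k hδ] at hx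
  exact (fdelta_eq_zero_iff k _ x).1 hx

include hδ in
theorem delta_le_of_dim {d : ℕ} (hdim : topologicalKrullDim X ≤ d) (x : X) : δ x ≤ d := by
  rw [delta_eq k hδ]
  have h : (VarDim.dimPt k X x : WithBot ℕ∞) ≤ topologicalKrullDim X :=
    (VarDim.topologicalKrullDim_eq_iSup k (X := X)).ge.trans' (le_iSup (fun x : X => (VarDim.dimPt k X x : WithBot ℕ∞)) x)
  show ((VarDim.dimPt k X x : ℕ) : ℤ) ≤ d
  exact_mod_cast h.trans hdim

end delta

/-- An additive function on `Coh_{≤a}` killing `Coh_{≤b}` factors through the quotient group. -/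
theorem exists_k0Hom (a b : ℤ) (hba : b ≤ a) (f : X.Modules → ℤ)
    (hf : ∀ S : ShortComplex X.Modules, S.ShortExact → Cyc.CohLe δ a S.X₁ → Cyc.CohLe δ a S.X₂ →
      Cyc.CohLe δ a S.X₃ → f S.X₂ = f S.X₁ + f S.X₃)
    (hb : ∀ F, Cyc.CohLe δ b F → f F = 0) :
    ∃ φ : Cyc.K0CohQuot δ a b →+ ℤ, ∀ F, Cyc.CohLe δ a F → φ (Cyc.toK0CohQuot δ a b F) = f F := by
  classical
  let φ₀ : KZero.K0sub (Cyc.CohLe (X := X) δ a) →+ ℤ := QuotientAddGroup.lift _
    (FreeAbelianGroup.lift fun M => f M.1) (by
      rw [KZero.relSub, AddSubgroup.closure_le]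
      rintro x ⟨S, h₁, h₂, h₃, hS, rfl⟩
      rw [SetLike.mem_coe, AddMonoidHom.mem_ker, map_sub, map_sub, FreeAbelianGroup.lift_apply_of,
        FreeAbelianGroup.lift_apply_of, FreeAbelianGroup.lift_apply_of, hf S hS h₁ h₂ h₃]
      ring)
  have h0 : ∀ F, Cyc.CohLe δ a F → φ₀ (KZero.clSub (Cyc.CohLe δ a) F) = f F := fun F hF => by
    rw [KZero.clSub, dif_pos hF]
    exact FreeAbelianGroup.lift_apply_of _ _
  refine ⟨QuotientAddGroup.lift _ φ₀ ((AddSubgroup.closure_le _).2 ?_), fun F hF => h0 F hF⟩
  rintro _ ⟨F, hF, rfl⟩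
  rw [SetLike.mem_coe, AddMonoidHom.mem_ker, h0 F (cohLe_mono hba hF), hb F hF]

section point

variable (hδ : Cyc.DeltaCompat (X ↘ Spec (CommRingCat.of k)) δ (fun _ => 0))

/-- `χ` of the structure sheaf of a closed point. -/
theorem euler_oz {x : X} (hx : IsClosed ({x} : Set X)) :
    Curv2.euler k X (Cyc.closureStructureSheaf x) = ((X ↘ Spec (CommRingCat.of k)).residueDegree x : ℤ) := by
  haveI := EulerChar.isLocallyNoetherian k (X := X)
  let Z := (IntMult.ptIdeal x).subscheme
  let i : Z ⟶ X := (IntMult.ptIdeal x).subschemeι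
  letI : Z.Over (Spec (CommRingCat.of k)) := ⟨i ≫ (X ↘ Spec (CommRingCat.of k))⟩
  haveI : IsProper (Z ↘ Spec (CommRingCat.of k)) :=
    inferInstanceAs (IsProper (i ≫ (X ↘ Spec (CommRingCat.of k))))
  have hrange : Set.range i = {x} := by
    rw [Scheme.IdealSheafData.range_subschemeι]
    exact (CohDev.coe_support_ptIdeal x).trans hx.closure_eq
  haveI : IsIntegral Z := S16188.isIntegral_subscheme _ isIrreducible_singleton.closure
  obtain ⟨z, hz⟩ : x ∈ Set.range i := hrange ▸ Set.mem_singleton x
  haveI : Subsingleton Z := ⟨fun p q => i.isClosedEmbedding.injective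
    ((show i p = x from hrange.le ⟨p, rfl⟩).trans (show i q = x from hrange.le ⟨q, rfl⟩).symm)⟩
  haveI : IsAffine Z := by
    obtain ⟨U, hU, hzU, -⟩ := exists_isAffineOpen_mem_and_subset (x := z) (U := (⊤ : Z.Opens)) trivial
    have : U = ⊤ := eq_top_iff.2 fun p _ => Subsingleton.elim z p ▸ hzU
    subst this
    haveI : IsAffine (⊤ : Z.Opens) := hU
    exact .of_isIso Z.topIso.inv
  show Curv2.euler k X ((Coh.push i).obj (Coh.structureModule Z)) = _
  refine (EulerChar.euler_push (k := k) i rfl _ (ProperFin.isCoh_structureModule Z).1).trans ?_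
  have hsupp : topologicalKrullDim (CohB1.support (Coh.structureModule Z)) ≤ 0 :=
    (topologicalKrullDim_subspace_le Z _).trans (by
      rw [VarDim.topologicalKrullDim_eq_krullDim]
      exact Order.krullDim_nonpos_of_subsingleton)
  rw [EulerChar.euler_eq_finrank_of_support k (ProperFin.isCoh_structureModule Z) hsupp, ← hz,
    show (X ↘ Spec (CommRingCat.of k)).residueDegree (i z) = (Z ↘ Spec (CommRingCat.of k)).residueDegree z by
      show _ = (i ≫ (X ↘ Spec (CommRingCat.of k))).residueDegree z
      rw [residueDegree_comp, residueDegree_closedImmersion i z, one_mul],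
    BddFibLib.residueDegree_eq]
  congr 1
  letI := (BddFibLib.resHom (Z ↘ Spec (CommRingCat.of k)) z).toAlgebra
  let e : Coh.HH Z (Coh.structureModule Z) 0 ≃+ Γ(Coh.structureModule Z, ⊤) :=
    Sheaf.H.equiv₀ (Coh.toAb (Coh.structureModule Z)) isTerminalTop
  let ev : Γ(Coh.structureModule Z, ⊤) →+ Z.residueField z := (Z.Γevaluation z).hom.toAddMonoidHom
  let φ : Coh.HH Z (Coh.structureModule Z) 0 →ₗ[k] Z.residueField z :=
    { toFun := fun y => ev (e y)
      map_add' := fun a b => by rw [map_add, map_add]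
      map_smul' := fun c y => by
        have he : e (c • y) =
            Z.presheaf.map (homOfLE (le_refl (⊤ : Z.Opens))).op
              (Coh.toGlobal (Z ↘ Spec (CommRingCat.of k)) c) • e y :=
          (Sheaf.H.equiv₀_naturality
            (f := Coh.smulAb (Coh.structureModule Z) (Coh.toGlobal (Z ↘ Spec (CommRingCat.of k)) c))
            isTerminalTop y).symm
        rw [he, show Z.presheaf.map (homOfLE (le_refl (⊤ : Z.Opens))).op = 𝟙 _ from Z.presheaf.map_id _,
          RingHom.id_apply, Algebra.smul_def]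
        let r : Γ(Z, ⊤) := e y
        exact map_mul (Z.Γevaluation z).hom (Coh.toGlobal (Z ↘ Spec (CommRingCat.of k)) c) r }
  have hinj : ∀ a : Γ(Z, ⊤), Z.Γevaluation z a = 0 → a = 0 := fun a ha => by
    refine (basicOpen_eq_bot_iff a).1 ?_
    refine eq_bot_iff.2 fun p hp => absurd hp ?_
    obtain rfl := Subsingleton.elim z p
    exact fun hp => (Scheme.evaluation_ne_zero_iff_mem_basicOpen (X := Z) (x := z) (U := ⊤) trivial a).2 hp ha
  refine (LinearEquiv.ofBijective φ ⟨fun a b hab => e.injective ?_, fun t => ?_⟩).finrank_eq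
  · refine sub_eq_zero.1 (hinj _ ?_)
    show ev (e a - e b) = 0
    rw [map_sub]; exact sub_eq_zero.2 hab
  · obtain ⟨a, ha⟩ := BddFibLib.Γevaluation_surjective (x := z)
      (Set.subsingleton_of_subsingleton.isClosed) t
    exact ⟨e.symm a, (congrArg ev (e.apply_symm_apply a)).trans ha⟩

omit [X.Over (Spec (CommRingCat.of k))] [IsProper (X ↘ Spec (CommRingCat.of k))] in
theorem isZero_of_subsingleton_stalk {F : X.Modules} (h : ∀ x : X, Subsingleton (F.presheaf.stalk x)) : IsZero F :=
  CohDev.isZero_of_support_eq_empty (Set.eq_empty_iff_forall_notMem.2 fun x hx =>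
    hx (h x))

omit [IsProper (X ↘ Spec (CommRingCat.of k))] in
include hδ in
theorem euler_eq_zero_of_cohLe_neg {F : X.Modules} {b : ℤ} (hb : b < 0) (hF : Cyc.CohLe δ b F) :
    Curv2.euler k X F = 0 :=
  EulerChar.euler_of_isZero k (isZero_of_subsingleton_stalk fun x =>
    not_nontrivial_iff_subsingleton.1 fun h => by
      have h1 := hF.2 x h
      have h2 := delta_nonneg k hδ x
      omega)

include hδ in
/-- `χ` of a module with zero-dimensional support is the degree of its cycle. -/
theorem euler_eq_degFun {G : X.Modules} (hG : Cyc.CohLe δ 0 G) :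
    Curv2.euler k X G = degFun k (Cyc.sheafFun δ 0 G) := by
  haveI := EulerChar.isLocallyNoetherian k (X := X)
  have hd := isDimFun_delta k hδ
  obtain ⟨φ, hφ⟩ := exists_k0Hom (δ := δ) 0 (0 - 1) (by omega) (Curv2.euler k X)
    (fun S hS h₁ h₂ h₃ => EulerChar.euler_add k hS h₁.1 h₂.1 h₃.1)
    (fun F hF => euler_eq_zero_of_cohLe_neg k hδ (by omega) hF)
  have key : ∀ (N : ℕ) (G : X.Modules), Cyc.CohLe δ 0 G → (∑ᶠ x, Cyc.sheafFun δ 0 G x) = N →
      Curv2.euler k X G = degFun k (Cyc.sheafFun δ 0 G) := by
    intro N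
    induction N with
    | zero =>
      intro G hG hN
      have hfin := (isCyc_sheafFun hd hG).finite_support k
      have hnn : ∀ y, 0 ≤ Cyc.sheafFun δ 0 G y := fun y => by
        rw [Cyc.sheafFun]; split <;> simp
      have hzero : Cyc.sheafFun δ 0 G = 0 := funext fun y => by
        by_contra hy
        have := single_le_finsum y hfin hnn
        simp only [Pi.zero_apply] at hy
        have h0 := hnn y
        push_cast at hN
        omega
      rw [hzero, degFun_zero]
      obtain ⟨hC, hC'⟩ := cl_eq_cycle (a' := 0) hd le_rfl hG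
      have h1 := congrArg φ hC'
      rw [hzero] at h1
      obtain ⟨hP, hPe⟩ := cycleSheafPos_spec (δ := δ) (k := 0) hd (a := (0 : X → ℤ)) (fun U _ => by simp) fun _ _ => rfl
      rw [show φ (cl δ 0 0 G) = _ from hφ G hG, show φ (cl δ 0 0 _) = _ from hφ _ hP] at h1
      rw [h1]
      refine EulerChar.euler_of_isZero k (isZero_of_subsingleton_stalk fun y => ?_)
      refine not_nontrivial_iff_subsingleton.1 fun hn => ?_
      have hy : δ y = 0 := le_antisymm (hP.2 y hn) (delta_nonneg k hδ y)
      have h2 := congrFun hPe y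
      rw [Cyc.sheafFun, if_pos hy] at h2
      haveI := hn
      have h3 : Module.length (X.presheaf.stalk y) ((Cyc.cycleSheafPos (0 : X → ℤ)).presheaf.stalk y) ≠ ⊤ :=
        Module.length_ne_top_iff.2 (finiteLength_stalk hd (k := -1) (ξ := y) (F := Cyc.cycleSheafPos (0 : X → ℤ)) (by simpa using hP) (by omega))
      rw [Pi.zero_apply, Int.toNat_zero, Nat.cast_zero, Nat.cast_eq_zero, ENat.toNat_eq_zero] at h2
      rcases h2 with h2 | h2
      · exact not_nontrivial_iff_subsingleton.2 (Module.length_eq_zero_iff.1 h2) hn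
      · exact h3 h2
    | succ N ih =>
      intro G hG hN
      have hfin := (isCyc_sheafFun hd hG).finite_support k
      obtain ⟨x, hx⟩ : ∃ x, Cyc.sheafFun δ 0 G x ≠ 0 := by
        by_contra hc
        push Not at hc
        rw [finsum_eq_zero_of_forall_eq_zero hc] at hN
        push_cast at hN
        omega
      have hδx : δ x = 0 := not_not.1 fun h => hx (if_neg h)
      classical
      let e : X → ℤ := Pi.single x 1
      have hef : (Function.support e).Finite := (Set.finite_singleton x).subset Pi.support_single_subset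
      obtain ⟨hP, hPe⟩ := cycleSheafPos_spec (δ := δ) (k := 0) hd (a := Cyc.sheafFun δ 0 G - e)
        (fun U _ => ((hfin.union hef).subset fun y hy => by
          by_contra hh
          simp only [Set.mem_union, Function.mem_support, not_or, not_not] at hh
          exact hy.2 (by simp [hh.1, hh.2])))
        (fun y hy => by
          have h1 : Cyc.sheafFun δ 0 G y = 0 := if_neg hy
          have h2 : e y = 0 := Pi.single_eq_of_ne (fun h => hy (by rw [h, hδx])) _
          simp [h1, h2])
      have hpos : ∀ y, 0 ≤ (Cyc.sheafFun δ 0 G - e) y := fun y => by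
        by_cases hy : y = x
        · subst hy
          have : 0 ≤ Cyc.sheafFun δ 0 G y := by rw [Cyc.sheafFun]; split <;> simp
          simp only [Pi.sub_apply, e, Pi.single_eq_same]
          omega
        · simp only [Pi.sub_apply, e, Pi.single_eq_of_ne hy, sub_zero]
          rw [Cyc.sheafFun]; split <;> simp
      have hPe' : Cyc.sheafFun δ 0 (Cyc.cycleSheafPos (Cyc.sheafFun δ 0 G - e)) = Cyc.sheafFun δ 0 G - e := by
        rw [hPe]; exact funext fun y => Int.toNat_of_nonneg (hpos y)
      have hO : Cyc.CohLe δ 0 (Cyc.closureStructureSheaf x) := ⟨CohDev.isCoh_oz x, fun y hy => by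
        rw [← hδx]
        exact le_of_specializes hd (specializes_iff_mem_closure.2
          (CohDev.support_oz_subset x (not_subsingleton_iff_nontrivial.2 hy)))⟩
      have hOe : Cyc.sheafFun δ 0 (Cyc.closureStructureSheaf x) = e := funext fun y => by
        by_cases hy : y = x
        · subst hy
          rw [Cyc.sheafFun, if_pos hδx, CohDev.length_stalk_oz]
          simp [e]
        · rw [show e y = 0 from Pi.single_eq_of_ne hy _, Cyc.sheafFun]
          split_ifs with h1
          · haveI : Subsingleton ((Cyc.closureStructureSheaf x).presheaf.stalk y) :=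
              not_nontrivial_iff_subsingleton.1 fun hn => hy (eq_of_specializes hd (specializes_iff_mem_closure.2
                (CohDev.support_oz_subset x (not_subsingleton_iff_nontrivial.2 hn))) (by rw [hδx, h1])).symm
            simp [Module.length_eq_zero]
          · rfl
      have hbi := cohLe_biprod hP hO
      have hsum : Cyc.sheafFun δ 0 (Cyc.cycleSheafPos (Cyc.sheafFun δ 0 G - e) ⊞ Cyc.closureStructureSheaf x) =
          Cyc.sheafFun δ 0 G := by
        rw [sheafFun_biprod hd hP hO, hPe', hOe, sub_add_cancel]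
      have h1 := congrArg φ ((cl_eq_cycle (a' := 0) hd le_rfl hG).2.trans
        ((cl_eq_cycle (a' := 0) hd le_rfl hbi).2.trans (congrArg (fun a => cl δ 0 0 (Cyc.cycleSheafPos a)) hsum)).symm)
      rw [cl_biprod hP hO, map_add, show φ (cl δ 0 0 G) = _ from hφ G hG, show φ (cl δ 0 0 _) = _ from hφ _ hP,
        show φ (cl δ 0 0 _) = _ from hφ _ hO] at h1
      have hN' : (∑ᶠ y, Cyc.sheafFun δ 0 (Cyc.cycleSheafPos (Cyc.sheafFun δ 0 G - e)) y) = N := by
        rw [hPe']
        simp only [Pi.sub_apply]
        rw [finsum_sub_distrib hfin hef, hN, show (∑ᶠ y, e y) = 1 by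
          rw [finsum_eq_single e x fun y hy => Pi.single_eq_of_ne hy _]; simp [e]]
        push_cast; ring
      have he1 : degFun k e = ((X ↘ Spec (CommRingCat.of k)).residueDegree x : ℤ) := by
        rw [degFun, finsum_eq_single _ x fun y hy => by simp [e, hy]]
        simp [e]
      rw [h1, ih _ hP hN', hPe', euler_oz k (isClosed_of_delta_eq_zero k hδ hδx),
        degFun_sub k hfin hef, he1]
      ring
  obtain ⟨N, hN⟩ := Int.eq_ofNat_of_zero_le (finsum_nonneg fun x => show 0 ≤ Cyc.sheafFun δ 0 G x by
    rw [Cyc.sheafFun]; split <;> simp)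
  exact key N G hG hN

end point

end Groth.Agent.CycLib.Dev
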