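import Groth.Agent.CycLib.DevSwindle

/-!
`K₀(Coh_{≤k}/Coh_{≤k-1})` is the group of `k`-cycles.
-/

set_option autoImplicit false
set_option linter.style.haveILetI false

universe u

open CategoryTheory Limits AlgebraicGeometry IsLocalRing

namespace Groth.Agent.CycLib.Dev

open Groth.Agent.PullStalk.Sky Groth.Agent.PullStalk.Exact

variable {X : Scheme.{u}} [IsLocallyNoetherian X] {δ : X → ℤ} (hd : Cyc.IsDimFun X δ)

include hd in
theorem length_ne_top {a : ℤ} {F : X.Modules} (hF : Cyc.CohLe δ a F) {y : X} (hy : δ y = a) :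
    Module.length (X.presheaf.stalk y) (F.presheaf.stalk y) ≠ ⊤ :=
  Module.length_ne_top_iff.2 (finiteLength_stalk hd (k := a - 1) (by rwa [sub_add_cancel]) (by rw [hy]; ring))

omit [IsLocallyNoetherian X] in
theorem sheafFun_eq_zero {a b : ℤ} (hb : b < a) {F : X.Modules} (hF : Cyc.CohLe δ b F) : Cyc.sheafFun δ a F = 0 := by
  funext y
  show (if δ y = a then _ else _) = (0 : ℤ)
  by_cases hy : δ y = a
  · rw [if_pos hy]
    haveI : Subsingleton (F.presheaf.stalk y) := not_nontrivial_iff_subsingleton.1 fun hn => by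
      have := hF.2 y hn
      omega
    rw [Module.length_eq_zero]
    rfl
  · rw [if_neg hy]

include hd in
theorem sheafFun_add {a : ℤ} {S : ShortComplex X.Modules} (hS : S.ShortExact) (h₁ : Cyc.CohLe δ a S.X₁)
    (h₂ : Cyc.CohLe δ a S.X₂) (h₃ : Cyc.CohLe δ a S.X₃) :
    Cyc.sheafFun δ a S.X₂ = Cyc.sheafFun δ a S.X₁ + Cyc.sheafFun δ a S.X₃ := by
  funext y
  simp only [Cyc.sheafFun, Pi.add_apply]
  by_cases hy : δ y = a
  · rw [if_pos hy, if_pos hy, if_pos hy,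
      Module.length_eq_add_of_exact (stalkLin S.f y) (stalkLin S.g y) (stalk_exact hS y).1 (stalk_exact hS y).2.2
        (stalk_exact hS y).2.1, ENat.toNat_add (length_ne_top hd h₁ hy) (length_ne_top hd h₃ hy), Nat.cast_add]
  · rw [if_neg hy, if_neg hy, if_neg hy, add_zero]

include hd in
theorem cohLe_cycle_zero (a : ℤ) : Cyc.CohLe δ a (Cyc.cycleSheafPos (0 : X → ℤ)) :=
  (cycleSheafPos_spec hd (fun U _ => by simp) fun _ _ => rfl).1

include hd in
/-- Every class is a difference of classes of modules. -/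
theorem exists_cl_sub (a a' : ℤ) (c : Cyc.K0CohQuot δ a' (a - 1)) :
    ∃ A B : X.Modules, Cyc.CohLe δ a' A ∧ Cyc.CohLe δ a' B ∧ c = cl δ a a' A - cl δ a a' B := by
  have hz := cohLe_cycle_zero hd a'
  obtain ⟨c, rfl⟩ := QuotientAddGroup.mk_surjective c
  obtain ⟨c, rfl⟩ := QuotientAddGroup.mk_surjective c
  induction c using FreeAbelianGroup.induction_on with
  | zero => exact ⟨_, _, hz, hz, by rw [sub_self]; rfl⟩
  | of p =>
    refine ⟨p.1 ⊞ Cyc.cycleSheafPos (0 : X → ℤ), _, cohLe_biprod p.2 hz, hz, ?_⟩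
    rw [cl_biprod p.2 hz, add_sub_cancel_right]
    show _ = QuotientAddGroup.mk (KZero.clSub _ _)
    rw [KZero.clSub, dif_pos p.2]
  | neg p h =>
    obtain ⟨A, B, hA, hB, h⟩ := h
    exact ⟨B, A, hB, hA, by rw [QuotientAddGroup.mk_neg, QuotientAddGroup.mk_neg, h, neg_sub]⟩
  | add x y hx hy =>
    obtain ⟨A, B, hA, hB, hx⟩ := hx
    obtain ⟨A', B', hA', hB', hy⟩ := hy
    refine ⟨A ⊞ A', B ⊞ B', cohLe_biprod hA hA', cohLe_biprod hB hB', ?_⟩
    rw [cl_biprod hA hA', cl_biprod hB hB', QuotientAddGroup.mk_add, QuotientAddGroup.mk_add, hx, hy]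
    abel

include hd in
theorem exists_k0Equiv (k : ℤ) : ∃ ψ : Cyc.K0CohQuot δ k (k - 1) →+ (X → ℤ),
    (∀ F : X.Modules, Cyc.CohLe δ k F → ψ (Cyc.toK0CohQuot δ k (k - 1) F) = Cyc.sheafFun δ k F) ∧
      Function.Injective ψ ∧ Set.range ψ = {a | ∃ α : AlgebraicCycle X ℤ, α ∈ Cyc.Zk X δ k ∧ ⇑α = a} := by
  let f : KZero.K0sub (Cyc.CohLe (X := X) δ k) →+ (X → ℤ) := QuotientAddGroup.lift _
    (FreeAbelianGroup.lift fun F : Subtype (Cyc.CohLe (X := X) δ k) => Cyc.sheafFun δ k F.1)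
    ((AddSubgroup.closure_le _).2 (by
      rintro _ ⟨S, h₁, h₂, h₃, hS, rfl⟩
      rw [SetLike.mem_coe, AddMonoidHom.mem_ker, map_sub, map_sub, FreeAbelianGroup.lift_apply_of,
        FreeAbelianGroup.lift_apply_of, FreeAbelianGroup.lift_apply_of, sheafFun_add hd hS h₁ h₂ h₃]
      abel))
  have hf : ∀ F, Cyc.CohLe δ k F → f (KZero.clSub (Cyc.CohLe δ k) F) = Cyc.sheafFun δ k F := fun F hF => by
    rw [KZero.clSub, dif_pos hF]
    exact FreeAbelianGroup.lift_apply_of _ _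
  let ψ : Cyc.K0CohQuot δ k (k - 1) →+ (X → ℤ) := QuotientAddGroup.lift _ f ((AddSubgroup.closure_le _).2 (by
    rintro _ ⟨F, hF, rfl⟩
    rw [SetLike.mem_coe, AddMonoidHom.mem_ker, hf F (cohLe_mono (by omega) hF), sheafFun_eq_zero (by omega) hF]))
  have hψ : ∀ F, Cyc.CohLe δ k F → ψ (cl δ k k F) = Cyc.sheafFun δ k F := hf
  refine ⟨ψ, hψ, (injective_iff_map_eq_zero ψ).2 fun c hc => ?_, ?_⟩
  · obtain ⟨A, B, hA, hB, rfl⟩ := exists_cl_sub hd k k c
    rw [map_sub, hψ A hA, hψ B hB, sub_eq_zero] at hc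
    rw [(cl_eq_cycle hd le_rfl hA).2, (cl_eq_cycle hd le_rfl hB).2, hc, sub_self]
  · refine Set.ext fun g => ⟨?_, ?_⟩
    · rintro ⟨c, rfl⟩
      obtain ⟨A, B, hA, hB, rfl⟩ := exists_cl_sub hd k k c
      rw [map_sub, hψ A hA, hψ B hB]
      have hzero : ∀ x, δ x ≠ k → (Cyc.sheafFun δ k A - Cyc.sheafFun δ k B) x = 0 := fun x hx => by
        simp [Cyc.sheafFun, hx]
      refine ⟨⟨Cyc.sheafFun δ k A - Cyc.sheafFun δ k B, fun _ _ => trivial, fun x _ => ?_⟩, hzero, rfl⟩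
      obtain ⟨U, hU, hxU, -⟩ := exists_isAffineOpen_mem_and_subset (x := x) (U := ⊤) trivial
      refine ⟨U, U.2.mem_nhds hxU, (((genPts_top hd hA).finite U hU).union ((genPts_top hd hB).finite U hU)).subset
        fun y hy => ?_⟩
      have hk : δ y = k := not_not.1 fun h => hy.2 (hzero y h)
      by_contra hh
      simp only [Set.mem_union, Set.mem_inter_iff, Set.mem_setOf_eq, not_or, not_and, hy.1, hk, true_and,
        forall_const, not_nontrivial_iff_subsingleton] at hh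
      obtain ⟨h1, h2⟩ := hh
      refine hy.2 ?_
      simp only [Pi.sub_apply, Cyc.sheafFun, if_pos hk, Module.length_eq_zero, ENat.toNat_zero, sub_self]
    · rintro ⟨α, hα, rfl⟩
      obtain ⟨h1, h2, e⟩ := cycleSheaf_spec hd α hα
      exact ⟨cl δ k k (Cyc.cycleSheafPos ⇑α) - cl δ k k (Cyc.cycleSheafNeg ⇑α), by rw [map_sub, hψ _ h1, hψ _ h2, e]⟩

end Groth.Agent.CycLib.Dev
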