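import Groth.Agent.CycLib.DevOz
import Groth.Agent.CycLib.DevK0Equiv

/-!
Cycles rationally equivalent to zero have class zero in `K₀(Coh_{≤k+1}/Coh_{≤k-1})`.
-/

set_option autoImplicit false
set_option linter.style.haveILetI false
set_option maxHeartbeats 800000

universe u

open CategoryTheory Limits AlgebraicGeometry IsLocalRing

namespace Groth.Agent.CycLib.Dev

open ModIdx Groth.Agent.PullStalk.Sky Groth.Agent.PullStalk.Exact

variable {X : Scheme.{u}} {δ : X → ℤ} {k : ℤ}

theorem stalk_exact_kernel {A B : X.Modules} (g : A ⟶ B) (y : X) :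
    Function.Exact (stalkLin (kernel.ι g) y) (stalkLin g y) := by
  intro t
  refine ⟨fun h => ?_, ?_⟩
  · let S1 := ShortComplex.mk (kernel.ι g) (Abelian.factorThruImage g) (by
      rw [← cancel_mono (Abelian.image.ι g), zero_comp, Category.assoc, Abelian.image.fac, kernel.condition])
    have hS1 : S1.ShortExact :=
      { exact := by
          rw [ShortComplex.exact_iff_exact_up_to_refinements]
          intro Z z hz
          refine ⟨Z, 𝟙 Z, inferInstance, kernel.lift g z ?_, ?_⟩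
          · rw [← Abelian.image.fac g, ← Category.assoc]
            exact (congrArg (· ≫ Abelian.image.ι g) hz).trans zero_comp
          · rw [Category.id_comp]; exact (kernel.lift_ι _ _ _).symm
        mono_f := inferInstanceAs (Mono (kernel.ι g))
        epi_g := inferInstanceAs (Epi (Abelian.factorThruImage g)) }
    refine ((stalk_exact hS1 y).2.1 t).1 (CohDev.stalk_injective (Abelian.image.ι g) y ?_)
    rw [map_zero, ← CohDev.stalkLin_comp_apply]
    exact (congrArg (fun m => stalkLin m y t) (Abelian.image.fac g)).trans h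
  · rintro ⟨w, rfl⟩
    rw [← CohDev.stalkLin_comp_apply, kernel.condition, CohDev.stalkLin_zero_apply]

theorem length_stalk_kernel {A B : X.Modules} (g : A ⟶ B) (y : X) :
    Module.length (X.presheaf.stalk y) ((kernel g).presheaf.stalk y) =
      Module.length (X.presheaf.stalk y) (LinearMap.ker (stalkLin g y)) :=
  ((LinearEquiv.ofInjective _ (CohDev.stalk_injective (kernel.ι g) y)).trans
    (LinearEquiv.ofEq _ _ (stalk_exact_kernel g y).linearMap_ker_eq.symm)).length_eq

theorem length_stalk_cokernel {A B : X.Modules} (g : A ⟶ B) (y : X) :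
    Module.length (X.presheaf.stalk y) ((cokernel g).presheaf.stalk y) =
      Module.length (X.presheaf.stalk y) (B.presheaf.stalk y ⧸ LinearMap.range (stalkLin g y)) :=
  ((Submodule.quotEquivOfEq _ _ (stalk_exact_cokernel g y).linearMap_ker_eq.symm).trans
    ((stalkLin (cokernel.π g) y).quotKerEquivOfSurjective (stalk_surjective _ y))).length_eq.symm

variable [IsLocallyNoetherian X]

theorem cohLe_ker_coker {A B : X.Modules} (g : A ⟶ B) (hA : Cyc.CohLe δ (k + 1) A) (hB : Cyc.CohLe δ (k + 1) B)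
    (h : ∀ y, δ y = k + 1 → Function.Bijective (stalkLin g y)) :
    Cyc.CohLe δ k (kernel g) ∧ Cyc.CohLe δ k (cokernel g) := by
  have hK := cohLe_of_mono (kernel.ι g) (CohDev.isCoh_kernel g hA.1 hB.1.1).1 hA
  have hC := cohLe_of_epi (cokernel.π g) hB (CohDev.isCoh_cokernel g hA.1.1 hB.1).1
  refine ⟨⟨hK.1, fun y hy => ?_⟩, hC.1, fun y hy => ?_⟩
  · have h1 := hK.2 y hy
    by_contra h2
    exact not_nontrivial_iff_subsingleton.2 (subsingleton_stalk_kernel g y (h y (by omega)).1) hy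
  · have h1 := hC.2 y hy
    by_contra h2
    exact not_nontrivial_iff_subsingleton.2 (subsingleton_stalk_cokernel g y (h y (by omega)).2) hy

variable (hd : Cyc.IsDimFun X δ)

include hd in
theorem sheafFun_biprod {a : ℤ} {A B : X.Modules} (hA : Cyc.CohLe δ a A) (hB : Cyc.CohLe δ a B) :
    Cyc.sheafFun δ a (A ⊞ B) = Cyc.sheafFun δ a A + Cyc.sheafFun δ a B :=
  sheafFun_add hd (S := (ShortComplex.mk (biprod.inl : A ⟶ A ⊞ B) biprod.snd biprod.inl_snd))
    (ShortComplex.Splitting.ofHasBinaryBiproduct A B).shortExact hA (cohLe_biprod hA hB) hB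

include hd in
/-- Modules of dimension at most `k` with the same sums of lengths have the same sums of classes. -/
theorem cl_sum_eq {a a' : ℤ} (haa : a ≤ a') {A B C D : X.Modules} (hA : Cyc.CohLe δ a A) (hB : Cyc.CohLe δ a B)
    (hC : Cyc.CohLe δ a C) (hD : Cyc.CohLe δ a D)
    (h : Cyc.sheafFun δ a A + Cyc.sheafFun δ a B = Cyc.sheafFun δ a C + Cyc.sheafFun δ a D) :
    cl δ a a' A + cl δ a a' B = cl δ a a' C + cl δ a a' D := by
  have key : ∀ {M N : X.Modules}, Cyc.CohLe δ a M → Cyc.CohLe δ a N → cl δ a a' M + cl δ a a' N =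
      cl δ a a' (Cyc.cycleSheafPos (Cyc.sheafFun δ a M + Cyc.sheafFun δ a N)) := fun {M N} hM hN => by
    rw [← cl_biprod (cohLe_mono haa hM) (cohLe_mono haa hN), (cl_eq_cycle hd haa (cohLe_biprod hM hN)).2,
      sheafFun_biprod hd hM hN]
  rw [key hA hB, key hC hD, h]

include hd in
/-- The difference of two generically bijective maps. -/
theorem cl_sub_of_maps {A B : X.Modules} (hA : Cyc.CohLe δ (k + 1) A) (hB : Cyc.CohLe δ (k + 1) B)
    (a b : A ⟶ B) (ha : ∀ y, δ y = k + 1 → Function.Bijective (stalkLin a y))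
    (hb : ∀ y, δ y = k + 1 → Function.Bijective (stalkLin b y)) (α : AlgebraicCycle X ℤ)
    (hα : α ∈ Cyc.Zk X δ k)
    (h : ∀ y, δ y = k → LinearMap.ker (stalkLin a y) = LinearMap.ker (stalkLin b y) ∧
      ((Module.length (X.presheaf.stalk y) (_ ⧸ LinearMap.range (stalkLin b y))).toNat : ℤ) -
        (Module.length (X.presheaf.stalk y) (_ ⧸ LinearMap.range (stalkLin a y))).toNat = α y) :
    Cyc.toK0CohQuot δ (k + 1) (k - 1) (Cyc.cycleSheafPos ⇑α) =
      Cyc.toK0CohQuot δ (k + 1) (k - 1) (Cyc.cycleSheafNeg ⇑α) := by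
  obtain ⟨hKa, hCa⟩ := cohLe_ker_coker a hA hB ha
  obtain ⟨hKb, hCb⟩ := cohLe_ker_coker b hA hB hb
  obtain ⟨h1, h2, e⟩ := cycleSheaf_spec hd α hα
  have e1 := cl_map (a := k) a hA hB
  have e2 := cl_map (a := k) b hA hB
  have hfun : Cyc.sheafFun δ k (Cyc.cycleSheafPos ⇑α ⊞ kernel b) + Cyc.sheafFun δ k (cokernel a) =
      Cyc.sheafFun δ k (Cyc.cycleSheafNeg ⇑α ⊞ cokernel b) + Cyc.sheafFun δ k (kernel a) := by
    rw [sheafFun_biprod hd h1 hKb, sheafFun_biprod hd h2 hCb]
    funext y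
    have hy0 := congrFun e y
    simp only [Pi.add_apply, Pi.sub_apply] at hy0 ⊢
    by_cases hy : δ y = k
    · obtain ⟨hk, hl⟩ := h y hy
      simp only [Cyc.sheafFun, if_pos hy, length_stalk_kernel, length_stalk_cokernel, (LinearEquiv.ofEq _ _ hk).length_eq]
        at hy0 ⊢
      omega
    · simp only [Cyc.sheafFun, if_neg hy] at hy0 ⊢
  have := cl_sum_eq (a' := k + 1) hd (by omega) (cohLe_biprod h1 hKb) hCa (cohLe_biprod h2 hCb) hKa hfun
  rw [cl_biprod (cohLe_mono (by omega) h1) (cohLe_mono (by omega) hKb),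
    cl_biprod (cohLe_mono (by omega) h2) (cohLe_mono (by omega) hCb)] at this
  show cl δ k (k + 1) _ = cl δ k (k + 1) _
  linear_combination (norm := abel) this + e2 - e1

include hd in
/-- A cycle rationally equivalent to zero is the difference of two generically bijective maps. -/
theorem exists_maps_of_family {ι : Type u} (ξ : ι → X) (f : (i : ι) → X.residueField (ξ i))
    (hξ : ∀ i, δ (ξ i) = k + 1) (hf : ∀ i, f i ≠ 0)
    (hlf : ∀ x : X, ∃ U : Set X, IsOpen U ∧ x ∈ U ∧ {i | (closure {ξ i} ∩ U).Nonempty}.Finite) :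
    ∃ (A B : X.Modules) (a b : A ⟶ B), Cyc.CohLe δ (k + 1) A ∧ Cyc.CohLe δ (k + 1) B ∧
      (∀ y, δ y = k + 1 → Function.Bijective (stalkLin a y)) ∧
      (∀ y, δ y = k + 1 → Function.Bijective (stalkLin b y)) ∧
      (∀ y, δ y = k → LinearMap.ker (stalkLin a y) = LinearMap.ker (stalkLin b y) ∧
        ((Module.length (X.presheaf.stalk y) (_ ⧸ LinearMap.range (stalkLin b y))).toNat : ℤ) -
          (Module.length (X.presheaf.stalk y) (_ ⧸ LinearMap.range (stalkLin a y))).toNat =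
            ∑ᶠ i, Cyc.divFun δ (ξ i) (f i) y) ∧
      ∀ y, δ y = k + 1 → y ∉ Set.range ξ →
        Subsingleton (A.presheaf.stalk y) ∧ Subsingleton (B.presheaf.stalk y) := by
  classical
  have hlift : ∀ i, ∃ r : X.presheaf.stalk (ξ i), IsUnit r ∧ X.residue (ξ i) r = f i := fun i => by
    obtain ⟨r, hr⟩ := IsLocalRing.residue_surjective (f i)
    exact ⟨r, (IsLocalRing.residue_ne_zero_iff_isUnit r).1 (hr ▸ hf i), hr⟩
  choose r hr hrf using hlift
  let O : ι → X.Modules := fun i => Cyc.closureStructureSheaf (ξ i)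
  have hOs : ∀ i (y : X), ¬ ξ i ⤳ y → Subsingleton ((O i).presheaf.stalk y) := fun i y hy =>
    not_nontrivial_iff_subsingleton.1 fun hn => hy (specializes_iff_mem_closure.2
      (CohDev.support_oz_subset (ξ i) (not_subsingleton_iff_nontrivial.2 hn)))
  have hO : ∀ i, Cyc.CohLe δ (k + 1) (O i) := fun i => ⟨CohDev.isCoh_oz _, fun y hy => by
    rw [← hξ i]
    exact le_of_specializes hd (by_contra fun h => not_nontrivial_iff_subsingleton.2 (hOs i y h) hy)⟩
  have hroof : ∀ i, ∃ (H : X.Modules) (p q : H ⟶ O i), Cyc.CohLe δ (k + 1) H ∧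
      (∀ y, δ y = k + 1 → Function.Bijective (stalkLin p y) ∧ Function.Bijective (stalkLin q y)) ∧
      (∀ t : H.presheaf.stalk (ξ i), stalkLin q (ξ i) t = (r i • stalkLin p (ξ i) t : (O i).presheaf.stalk (ξ i))) ∧
      ∀ y, ¬ ξ i ⤳ y → Subsingleton (H.presheaf.stalk y) := fun i => by
    let v : ∀ η : X, (X.presheaf.stalk η)ˣ :=
      Function.update (fun η => (1 : (X.presheaf.stalk η)ˣ)) (ξ i) (hr i).unit
    obtain ⟨H, p, q, hH, hpq, hinj, -⟩ := exists_roof hd (hO i) (hO i)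
      fun η _ => LinearEquiv.smulOfUnit (v η)
    refine ⟨H, p, q, hH, fun y hy => ⟨(hpq y hy).1, ?_⟩, fun t => ?_, fun y hy => ?_⟩
    · rw [show ⇑(stalkLin q y) = ⇑(LinearEquiv.smulOfUnit (v y)) ∘ ⇑(stalkLin p y) from funext (hpq y hy).2]
      exact (LinearEquiv.bijective _).comp (hpq y hy).1
    · rw [(hpq (ξ i) (hξ i)).2 t]
      show (↑(v (ξ i)) : X.presheaf.stalk (ξ i)) • stalkLin p (ξ i) t = _
      rw [show v (ξ i) = (hr i).unit from Function.update_self .., IsUnit.unit_spec]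
    · haveI := hOs i y hy
      exact subsingleton_of_forall_eq 0 fun t => hinj y t (Subsingleton.elim _ _) (Subsingleton.elim _ _)
  choose H p q hH hbij hpq hHs using hroof
  have hfin : ∀ U : X.Opens, IsAffineOpen U → {i | ∃ y ∈ U, ξ i ⤳ y}.Finite := fun U hU => by
    choose W hWo hW hWf using hlf
    obtain ⟨t, ht⟩ := hU.isCompact.elim_finite_subcover W hWo fun y _ => Set.mem_iUnion.2 ⟨y, hW y⟩
    refine (t.finite_toSet.biUnion fun y _ => hWf y).subset fun i hi => ?_
    obtain ⟨y, hy, hiy⟩ := hi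
    obtain ⟨w, hw, hyw⟩ := Set.mem_iUnion₂.1 (ht hy)
    exact Set.mem_biUnion hw ⟨y, specializes_iff_mem_closure.1 hiy, hyw⟩
  have hsigma : ∀ F : ι → X.Modules, (∀ i, Cyc.CohLe δ (k + 1) (F i)) →
      (∀ i (y : X), ¬ ξ i ⤳ y → Subsingleton ((F i).presheaf.stalk y)) → Cyc.CohLe δ (k + 1) (∐ F) := fun F hF hFs =>
    cohLe_sigma F hF fun U hU => ⟨(hfin U hU).toFinset, fun i hi y hy => hFs i y fun h =>
      hi ((hfin U hU).mem_toFinset.2 ⟨y, hy, h⟩)⟩
  let a : ∐ H ⟶ ∐ O := Sigma.desc fun i => p i ≫ Sigma.ι O i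
  let b : ∐ H ⟶ ∐ O := Sigma.desc fun i => q i ≫ Sigma.ι O i
  have hloc : ∀ y : X, {i | ξ i ⤳ y}.Finite := fun y => by
    obtain ⟨U, hU, hy, -⟩ := exists_isAffineOpen_mem_and_subset (x := y) (U := ⊤) trivial
    exact (hfin U hU).subset fun i hi => ⟨y, hy, hi⟩
  have hdecomp : ∀ y : X, ∃ (eH : (∀ i : (hloc y).toFinset, (H i.1).presheaf.stalk y) ≃ₗ[X.presheaf.stalk y]
        (∐ H).presheaf.stalk y) (eO : (∀ i : (hloc y).toFinset, (O i.1).presheaf.stalk y) ≃ₗ[X.presheaf.stalk y]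
        (∐ O).presheaf.stalk y), ∀ (g : ∀ i, H i ⟶ O i) (v : ∀ i : (hloc y).toFinset, (H i.1).presheaf.stalk y),
          stalkLin (Sigma.desc fun i => g i ≫ Sigma.ι O i) y (eH v) = eO fun i => stalkLin (g i.1) y (v i) :=
    fun y => by
    obtain ⟨eH, heH⟩ := exists_stalk_sigma H (hloc y).toFinset y fun i hi => hHs i y fun h =>
      hi ((hloc y).mem_toFinset.2 h)
    obtain ⟨eO, heO⟩ := exists_stalk_sigma O (hloc y).toFinset y fun i hi => hOs i y fun h =>
      hi ((hloc y).mem_toFinset.2 h)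
    refine ⟨eH, eO, fun g v => ?_⟩
    rw [heH, heO, map_sum]
    refine Finset.sum_congr rfl fun i _ => ?_
    rw [← CohDev.stalkLin_comp_apply, ← CohDev.stalkLin_comp_apply]
    congr 2
    exact Sigma.ι_desc _ _
  have hbijg : ∀ g : ∀ i, H i ⟶ O i, (∀ i y, δ y = k + 1 → Function.Bijective (stalkLin (g i) y)) →
      ∀ y, δ y = k + 1 → Function.Bijective (stalkLin (Sigma.desc fun i => g i ≫ Sigma.ι O i) y) := fun g hg y hy => by
    obtain ⟨eH, eO, he⟩ := hdecomp y
    have : ⇑(stalkLin (Sigma.desc fun i => g i ≫ Sigma.ι O i) y) =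
        ⇑eO ∘ Pi.map (fun i : (hloc y).toFinset => ⇑(stalkLin (g i.1) y)) ∘ ⇑eH.symm := funext fun t => by
      rw [← eH.apply_symm_apply t, he g]
      simp only [Function.comp_apply, LinearEquiv.symm_apply_apply]
      rfl
    rw [this]
    exact eO.bijective.comp ((Function.Bijective.piMap fun i => hg i.1 y hy).comp eH.symm.bijective)
  refine ⟨∐ H, ∐ O, a, b, hsigma H hH hHs, hsigma O hO hOs, hbijg p fun i y hy => (hbij i y hy).1,
    hbijg q fun i y hy => (hbij i y hy).2, fun y hy => ?_, fun y hy hyr => ?_⟩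
  rotate_left
  · obtain ⟨eH, eO, -⟩ := hdecomp y
    have hsp : ∀ i, ¬ ξ i ⤳ y := fun i h => hyr ⟨i, eq_of_specializes hd h (by rw [hξ, hy])⟩
    haveI : IsEmpty (hloc y).toFinset := ⟨fun i => hsp i.1 ((hloc y).mem_toFinset.1 i.2)⟩
    exact ⟨eH.symm.injective.subsingleton, eO.symm.injective.subsingleton⟩
  obtain ⟨eH, eO, he⟩ := hdecomp y
  have hC : ∀ i, Module.length (X.presheaf.stalk y) (_ ⧸ LinearMap.range (stalkLin (p i) y)) ≠ ⊤ := fun i => by
    rw [← length_stalk_cokernel]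
    exact length_ne_top hd (cohLe_ker_coker (p i) (hH i) (hO i) fun y hy => (hbij i y hy).1).2 hy
  have hcomp : ∀ i : (hloc y).toFinset, _ := fun i =>
    oz_component hd ((hloc y).mem_toFinset.1 i.2) hy (hξ i.1) (hr i.1) (p i.1) (q i.1) (hpq i.1) (hC i.1)
  have hker : ∀ g : ∀ i, H i ⟶ O i, ∀ t, stalkLin (Sigma.desc fun i => g i ≫ Sigma.ι O i) y t = 0 ↔
      ∀ i : (hloc y).toFinset, eH.symm t i ∈ LinearMap.ker (stalkLin (g i.1) y) := fun g t => by
    conv_lhs => rw [← eH.apply_symm_apply t, he g, map_eq_zero_iff eO eO.injective]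
    exact funext_iff
  have hlen : ∀ g : ∀ i, H i ⟶ O i,
      Module.length (X.presheaf.stalk y) (_ ⧸ LinearMap.range (stalkLin (Sigma.desc fun i => g i ≫ Sigma.ι O i) y)) =
        ∑ i : (hloc y).toFinset, Module.length (X.presheaf.stalk y) (_ ⧸ LinearMap.range (stalkLin (g i.1) y)) :=
    fun g => by
    rw [← Module.length_pi_of_fintype]
    refine ((Submodule.quotientPi fun i : (hloc y).toFinset => LinearMap.range (stalkLin (g i.1) y)).symm.trans
      (Submodule.Quotient.equiv _ _ eO ?_)).length_eq.symm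
    ext t
    constructor
    · rintro ⟨v, hv, rfl⟩
      choose w hw using fun i => hv i trivial
      exact ⟨eH w, (he g w).trans (congrArg eO (funext hw))⟩
    · rintro ⟨w, rfl⟩
      obtain ⟨w, rfl⟩ := eH.surjective w
      exact ⟨_, fun i _ => ⟨w i, rfl⟩, (he g w).symm⟩
  refine ⟨SetLike.ext fun t => ?_, ?_⟩
  · simp only [LinearMap.mem_ker, a, b, hker, fun i => (hcomp i).1]
  · rw [hlen p, hlen q, ENat.toNat_sum fun i _ => (hcomp i).2.1, ENat.toNat_sum fun i _ => hC i.1, Nat.cast_sum,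
      Nat.cast_sum, ← Finset.sum_sub_distrib, Finset.sum_congr rfl fun i _ => (hcomp i).2.2,
      finsum_eq_finsetSum_of_support_subset _ (s := (hloc y).toFinset) fun i hi => ?_,
      ← Finset.sum_coe_sort (hloc y).toFinset]
    · exact Finset.sum_congr rfl fun i _ => by rw [hrf]
    · rw [Finset.mem_coe, Set.Finite.mem_toFinset]
      by_contra hh
      exact hi (dif_neg fun h => hh h.1)

include hd in
/-- A cycle rationally equivalent to zero is the difference of two generically bijective maps. -/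
theorem exists_maps_of_ratEquivZero (α : AlgebraicCycle X ℤ) (h0 : Cyc.RatEquivZero δ k α) :
    ∃ (A B : X.Modules) (a b : A ⟶ B), Cyc.CohLe δ (k + 1) A ∧ Cyc.CohLe δ (k + 1) B ∧
      (∀ y, δ y = k + 1 → Function.Bijective (stalkLin a y)) ∧
      (∀ y, δ y = k + 1 → Function.Bijective (stalkLin b y)) ∧
      ∀ y, δ y = k → LinearMap.ker (stalkLin a y) = LinearMap.ker (stalkLin b y) ∧
        ((Module.length (X.presheaf.stalk y) (_ ⧸ LinearMap.range (stalkLin b y))).toNat : ℤ) -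
          (Module.length (X.presheaf.stalk y) (_ ⧸ LinearMap.range (stalkLin a y))).toNat = α y := by
  obtain ⟨ι, ξ, f, hξ, hf, hlf, hsum⟩ := h0
  obtain ⟨A, B, a, b, hA, hB, ha, hb, h, -⟩ := exists_maps_of_family hd ξ f hξ hf hlf
  exact ⟨A, B, a, b, hA, hB, ha, hb, fun y hy => ⟨(h y hy).1, (h y hy).2.trans (hsum y).symm⟩⟩

include hd in
theorem toK0_eq_of_ratEquivZero (α : AlgebraicCycle X ℤ) (hα : α ∈ Cyc.Zk X δ k)
    (h0 : Cyc.RatEquivZero δ k α) : Cyc.toK0CohQuot δ (k + 1) (k - 1) (Cyc.cycleSheafPos ⇑α) =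
      Cyc.toK0CohQuot δ (k + 1) (k - 1) (Cyc.cycleSheafNeg ⇑α) := by
  obtain ⟨A, B, a, b, hA, hB, ha, hb, h⟩ := exists_maps_of_ratEquivZero hd α h0
  exact cl_sub_of_maps hd hA hB a b ha hb α hα h

end Groth.Agent.CycLib.Dev
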