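import Groth.Agent.CycLib.DevTwist
import Groth.Agent.CycLib.DevRat
import Groth.Agent.CycLib.DevK0

/-!
The class of a twist in `K₀(Coh_{≤k+1}/Coh_{≤k-1})`.
-/

set_option autoImplicit false
set_option linter.style.haveILetI false

universe u

open CategoryTheory Limits AlgebraicGeometry IsLocalRing

namespace Groth.Agent.CycLib.Dev

open ModIdx Groth.Agent.PullStalk.Sky Groth.Agent.PullStalk.Exact

variable {X : Scheme.{u}} [IsLocallyNoetherian X] {δ : X → ℤ} {k : ℤ} (hd : Cyc.IsDimFun X δ)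

include hd in
theorem toK0_tensor_sub {L : X.Modules} (hL : PicF.IsInvertible L) {F : X.Modules}
    (hF : Cyc.CohLe δ (k + 1) F) (s : (ξ : X) → Cyc.secFibre L ξ) (hs : ∀ ξ, s ξ ≠ 0) (γ : AlgebraicCycle X ℤ)
    (hγk : γ ∈ Cyc.Zk X δ k) (hγ : ⇑γ = Cyc.c1CapFun δ L (Cyc.sheafFun δ (k + 1) F) s) :
    Cyc.toK0CohQuot δ (k + 1) (k - 1) (CohB1.tensorMod F L) - Cyc.toK0CohQuot δ (k + 1) (k - 1) F =
      Cyc.toK0CohQuot δ (k + 1) (k - 1) (Cyc.cycleSheafPos ⇑γ) -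
        Cyc.toK0CohQuot δ (k + 1) (k - 1) (Cyc.cycleSheafNeg ⇑γ) := by
  have hG := cohLe_tensor hL hF
  choose ρ hρ hρs using fun ξ => exists_isBas_lift hL (s ξ) (hs ξ)
  obtain ⟨H, p, q, hH, hpq, -, -⟩ := exists_roof hd hG hF
    fun ξ _ => (LinearEquiv.ofBijective (mu F (ρ ξ)) (mu_bijective F (hρ ξ))).symm
  obtain ⟨hKp, hCp⟩ := cohLe_ker_coker p hH hG fun y hy => (hpq y hy).1
  obtain ⟨hKq, hCq⟩ := cohLe_ker_coker q hH hF fun y hy => by
    rw [show ⇑(stalkLin q y) = ⇑(LinearEquiv.ofBijective (mu F (ρ y)) (mu_bijective F (hρ y))).symm ∘ ⇑(stalkLin p y)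
      from funext (hpq y hy).2]
    exact (LinearEquiv.bijective _).comp (hpq y hy).1
  have hP := cohLe_biprod hCp hKq
  have hN := cohLe_biprod hKp hCq
  have hle : k ≤ k + 1 := by omega
  have eP := cl_biprod (a := k) (cohLe_mono hle hCp) (cohLe_mono hle hKq)
  have eN := cl_biprod (a := k) (cohLe_mono hle hKp) (cohLe_mono hle hCq)
  have e1 := cl_map (a := k) p hH hG
  have e2 := cl_map (a := k) q hH hF
  have eGF : cl δ k (k + 1) (CohB1.tensorMod F L) - cl δ k (k + 1) F =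
      cl δ k (k + 1) (cokernel p ⊞ kernel q) - cl δ k (k + 1) (kernel p ⊞ cokernel q) := by
    rw [eP, eN]
    linear_combination (norm := abel) e2 - e1
  -- the invariants
  obtain ⟨Φ, hΦ⟩ := exists_phiHom hd (k := k)
  have hphi := congrArg Φ eGF
  rw [map_sub, map_sub] at hphi
  rw [show Φ (cl δ k (k + 1) (CohB1.tensorMod F L)) = _ from hΦ _ hG, show Φ (cl δ k (k + 1) F) = _ from hΦ _ hF,
    show Φ (cl δ k (k + 1) (cokernel p ⊞ kernel q)) = _ from hΦ _ (cohLe_mono hle hP),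
    show Φ (cl δ k (k + 1) (kernel p ⊞ cokernel q)) = _ from hΦ _ (cohLe_mono hle hN),
    phi_tensor hL hd hF s hs, phi_of_le_k hd hP, phi_of_le_k hd hN, add_sub_cancel_left, ← hγ,
    ← QuotientAddGroup.mk_sub] at hphi
  obtain ⟨ψ, hψ, -, hran⟩ := exists_k0Equiv hd k
  obtain ⟨β, hβk, hβ⟩ : Cyc.sheafFun δ k (cokernel p ⊞ kernel q) - Cyc.sheafFun δ k (kernel p ⊞ cokernel q) ∈
      {a | ∃ α : AlgebraicCycle X ℤ, α ∈ Cyc.Zk X δ k ∧ ⇑α = a} := hran ▸ ⟨_, (map_sub ψ _ _).trans (congrArg₂ (· - ·) (hψ _ hP) (hψ _ hN))⟩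
  have hα : (β - γ : AlgebraicCycle X ℤ) ∈ Cyc.Zk X δ k := fun x hx => by
    show β x - γ x = 0
    rw [hβk x hx, hγk x hx, sub_zero]
  have hrat : Cyc.RatEquivZero δ k (β - γ) := by
    rw [ratEquivZero_iff hd, show ⇑(β - γ) = ⇑β - ⇑γ from rfl, hβ]
    exact QuotientAddGroup.eq_iff_sub_mem.1 hphi.symm
  obtain ⟨a1, a2, ea⟩ := cycleSheaf_spec hd (β - γ) hα
  obtain ⟨g1, g2, eg⟩ := cycleSheaf_spec hd γ hγk
  have hA := toK0_eq_of_ratEquivZero hd (β - γ) hα hrat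
  have key := cl_sum_eq (a' := k + 1) hd hle (cohLe_biprod hP g2) a2 (cohLe_biprod hN g1) a1 (by
    rw [sheafFun_biprod hd hP g2, sheafFun_biprod hd hN g1]
    funext y
    have h1 := congrFun ea y
    have h2 := congrFun eg y
    have h3 := congrFun hβ y
    rw [show (β - γ) y = β y - γ y from rfl] at h1
    simp only [Pi.add_apply, Pi.sub_apply] at h1 h2 h3 ⊢
    linarith)
  rw [cl_biprod (cohLe_mono hle hP) (cohLe_mono hle g2), cl_biprod (cohLe_mono hle hN) (cohLe_mono hle g1)] at key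
  change cl δ k (k + 1) _ = cl δ k (k + 1) _ at hA
  show cl δ k (k + 1) _ - cl δ k (k + 1) _ = cl δ k (k + 1) _ - cl δ k (k + 1) _
  linear_combination (norm := abel) eGF + key + hA

end Groth.Agent.CycLib.Dev
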