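import Groth.Agent.CycLib.DevDeg
import Groth.Agent.CycLib.DevC1Comm
import Groth.Agent.CycLib.DevTwistClass
import Groth.Agent.PicLaw.Swap
import Groth.Agent.ProjTwist.Tensor

/-!
Iterated twists and degrees of iterated first Chern classes.
-/

set_option autoImplicit false
set_option linter.style.haveILetI false
set_option maxHeartbeats 800000

universe u

open CategoryTheory Limits AlgebraicGeometry

namespace Groth.Agent.CycLib.Dev

open ModIdx Groth.Agent.PullStalk.Sky Groth.Agent.PullStalk.Exact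

variable (k : Type u) [Field k] {X : Scheme.{u}} [X.Over (Spec (CommRingCat.of k))]

/-- An invertible module with an inverse and rational sections. -/
structure TwDatum (X : Scheme.{u}) where
  L : X.Modules
  M : X.Modules
  hL : PicF.IsInvertible L
  e : CohB1.tensorMod M L ≅ Coh.structureModule X
  s : (ξ : X) → Cyc.secFibre L ξ
  hs : ∀ ξ, s ξ ≠ 0

theorem TwDatum.hM (D : TwDatum X) : PicF.IsInvertible D.M :=
  PicLaw.isInvertible_of_tensor_right D.hL
    (PicCl.isInvertible_of_iso D.e.symm (LFFrame.isInvertible_structureModule X))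

/-- `F ↦ Σ_I (-1)^|I| χ(F ⊗ M_I)`. -/
noncomputable def twEuler : List (TwDatum X) → X.Modules → ℤ
  | [], F => Curv2.euler k X F
  | D :: l, F => twEuler l F - twEuler l (CohB1.tensorMod F D.M)

/-- Iterated caps. -/
noncomputable def capIter (δ : X → ℤ) : List (TwDatum X) → (X → ℤ) → X → ℤ
  | [], a => a
  | D :: l, a => capIter δ l (Cyc.c1CapFun δ D.L a D.s)

variable [IsProper (X ↘ Spec (CommRingCat.of k))] {δ : X → ℤ}
  (hδ : Cyc.DeltaCompat (X ↘ Spec (CommRingCat.of k)) δ (fun _ => 0))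

include k in
theorem twEuler_iso : ∀ (l : List (TwDatum X)) {F G : X.Modules}, (F ≅ G) → twEuler k l F = twEuler k l G
  | [], _, _, e => EulerChar.euler_iso k e
  | D :: l, _, _, e => by
    simp only [twEuler]
    rw [twEuler_iso l e, twEuler_iso l (ProjTwist.tensCongr e (Iso.refl D.M))]

omit hδ in
include k in
theorem cohLe_tensor' {a : ℤ} {F L : X.Modules} (hL : PicF.IsInvertible L) (hF : Cyc.CohLe δ a F) :
    Cyc.CohLe δ a (CohB1.tensorMod F L) := by
  haveI := EulerChar.isLocallyNoetherian k (X := X)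
  obtain ⟨b, rfl⟩ : ∃ b, a = b + 1 := ⟨a - 1, by ring⟩
  exact cohLe_tensor hL hF

omit [X.Over (Spec (CommRingCat.of k))] [IsProper (X ↘ Spec (CommRingCat.of k))] hδ in
theorem sheafFun_tensor' {a : ℤ} {F L : X.Modules} (hL : PicF.IsInvertible L) :
    Cyc.sheafFun δ a (CohB1.tensorMod F L) = Cyc.sheafFun δ a F := by
  funext x
  unfold Cyc.sheafFun
  obtain ⟨t, ht⟩ := exists_isBas hL x
  rw [(LinearEquiv.ofBijective _ (mu_bijective F ht)).length_eq]

include hδ in
theorem twEuler_add : ∀ (l : List (TwDatum X)) {a : ℤ} (S : ShortComplex X.Modules), S.ShortExact →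
    Cyc.CohLe δ a S.X₁ → Cyc.CohLe δ a S.X₂ → Cyc.CohLe δ a S.X₃ →
      twEuler k l S.X₂ = twEuler k l S.X₁ + twEuler k l S.X₃
  | [], _, _, hS, h₁, h₂, h₃ => EulerChar.euler_add k hS h₁.1 h₂.1 h₃.1
  | D :: l, a, S, hS, h₁, h₂, h₃ => by
    have e1 := twEuler_add l S hS h₁ h₂ h₃
    have e2 := twEuler_add l (a := a) _ (ProjTwist.shortExact_tensor D.hM hS)
      (cohLe_tensor' k D.hM h₁) (cohLe_tensor' k D.hM h₂) (cohLe_tensor' k D.hM h₃)
    change twEuler k l (CohB1.tensorMod S.X₂ D.M) =
      twEuler k l (CohB1.tensorMod S.X₁ D.M) + twEuler k l (CohB1.tensorMod S.X₃ D.M) at e2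
    simp only [twEuler]
    rw [e1, e2]
    ring

include k hδ in
theorem isCyc_capIter : ∀ (l : List (TwDatum X)) {a : X → ℤ}, IsCyc δ l.length a →
    IsCyc δ 0 (capIter δ l a)
  | [], _, ha => by simpa [capIter] using ha
  | D :: l, a, ha => by
    haveI := EulerChar.isLocallyNoetherian k (X := X)
    refine isCyc_capIter l (isCyc_c1 (isDimFun_delta k hδ) D.hL (k := (l.length : ℤ)) ?_ D.s D.hs)
    rw [show ((l.length : ℤ) + 1) = ((D :: l).length : ℤ) by simp]
    exact ha

include k hδ in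
theorem capIter_sub : ∀ (l : List (TwDatum X)) {a b : X → ℤ}, IsCyc δ l.length a → IsCyc δ l.length b →
    capIter δ l (a - b) = capIter δ l a - capIter δ l b
  | [], _, _, _, _ => rfl
  | D :: l, a, b, ha, hb => by
    haveI := EulerChar.isLocallyNoetherian k (X := X)
    have hl : ((D :: l).length : ℤ) = (l.length : ℤ) + 1 := by simp
    rw [hl] at ha hb
    simp only [capIter]
    rw [c1_sub ha hb D.s]
    exact capIter_sub l (isCyc_c1 (isDimFun_delta k hδ) D.hL ha D.s D.hs)
      (isCyc_c1 (isDimFun_delta k hδ) D.hL hb D.s D.hs)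

omit [X.Over (Spec (CommRingCat.of k))] [IsProper (X ↘ Spec (CommRingCat.of k))] hδ in
theorem capIter_zero : ∀ (l : List (TwDatum X)), capIter δ l (0 : X → ℤ) = 0
  | [] => rfl
  | D :: l => by
    simp only [capIter]
    rw [show Cyc.c1CapFun δ D.L (0 : X → ℤ) D.s = 0 from funext fun x => by simp [Cyc.c1CapFun]]
    exact capIter_zero l

include hδ in
/-- The alternating sum of Euler characteristics is the degree of the iterated cap. -/
theorem twEuler_eq : ∀ (l : List (TwDatum X)) (n : ℕ), l.length = n → ∀ F : X.Modules, Cyc.CohLe δ n F →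
    twEuler k l F = degFun k (capIter δ l (Cyc.sheafFun δ n F)) := by
  intro l
  induction l with
  | nil =>
    rintro n rfl F hF
    exact euler_eq_degFun k hδ hF
  | cons D l ih =>
    rintro n rfl F hF
    haveI := EulerChar.isLocallyNoetherian k (X := X)
    have hd := isDimFun_delta k hδ
    have hn : (((D :: l).length : ℕ) : ℤ) = (l.length : ℤ) + 1 := by simp
    rw [hn] at hF ⊢
    have hvan : ∀ H, Cyc.CohLe δ ((l.length : ℤ) - 1) H → twEuler k l H = 0 := fun H hH => by
      rw [ih _ rfl H (cohLe_mono (by omega) hH)]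
      have h0 : Cyc.sheafFun δ (l.length : ℤ) H = 0 := funext fun y => by
        unfold Cyc.sheafFun
        split_ifs with hy
        · haveI : Subsingleton (H.presheaf.stalk y) := not_nontrivial_iff_subsingleton.1 fun hn => by
            have := hH.2 y hn
            omega
          simp [Module.length_eq_zero]
        · rfl
      rw [h0, capIter_zero l, degFun_zero]
    obtain ⟨φ, hφ⟩ := exists_k0Hom (δ := δ) ((l.length : ℤ) + 1) ((l.length : ℤ) - 1) (by omega)
      (twEuler k l) (fun S hS h₁ h₂ h₃ => twEuler_add k hδ l S hS h₁ h₂ h₃) hvan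
    let G := CohB1.tensorMod F D.M
    have hG : Cyc.CohLe δ ((l.length : ℤ) + 1) G := cohLe_tensor' k D.hM hF
    let eGF : CohB1.tensorMod G D.L ≅ F :=
      ProjTwist.tensAssoc F D.M D.L ≪≫ ProjTwist.tensCongr (Iso.refl F) D.e ≪≫ ProjTwist.tensOne F
    have hγc := isCyc_c1 hd D.hL (isCyc_sheafFun hd hG) D.s D.hs
    obtain ⟨γ, hγk, hγ⟩ := hγc.exists_cycle
    have key := congrArg φ (toK0_tensor_sub hd D.hL hG D.s D.hs γ hγk hγ)
    obtain ⟨hP, hN, hPN⟩ := cycleSheaf_spec hd γ hγk
    have hle : (l.length : ℤ) ≤ (l.length : ℤ) + 1 := by omega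
    rw [map_sub, map_sub, hφ _ (cohLe_tensor' k D.hL hG), hφ _ hG, hφ _ (cohLe_mono hle hP),
      hφ _ (cohLe_mono hle hN), twEuler_iso k l eGF, ih _ rfl _ hP, ih _ rfl _ hN] at key
    show twEuler k l F - twEuler k l (CohB1.tensorMod F D.M) =
      degFun k (capIter δ l (Cyc.c1CapFun δ D.L (Cyc.sheafFun δ ((l.length : ℤ) + 1) F) D.s))
    rw [key, ← sheafFun_tensor' (F := F) D.hM, ← hγ]
    conv_rhs => rw [← hPN]
    rw [capIter_sub k hδ l (isCyc_sheafFun hd hP) (isCyc_sheafFun hd hN),
      degFun_sub k ((isCyc_capIter k hδ l (isCyc_sheafFun hd hP)).finite_support k)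
        ((isCyc_capIter k hδ l (isCyc_sheafFun hd hN)).finite_support k)]

end Groth.Agent.CycLib.Dev
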