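import Groth.Agent.CycLib.DevTwistClass
import Mathlib.CategoryTheory.Abelian.DiagramLemmas.KernelCokernelComp

/-!
Differences of generically identified modules, and twisting them.
-/

set_option autoImplicit false
set_option linter.style.haveILetI false
set_option maxHeartbeats 800000

universe u

open CategoryTheory Limits AlgebraicGeometry IsLocalRing

namespace Groth.Agent.CycLib.Dev

open ModIdx Groth.Agent.PullStalk.Sky Groth.Agent.PullStalk.Exact

variable {X : Scheme.{u}}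

/-- Bijective on the stalks at the points of dimension `a`. -/
def GBij (δ : X → ℤ) (a : ℤ) {A B : X.Modules} (g : A ⟶ B) : Prop :=
  ∀ y, δ y = a → Function.Bijective (stalkLin g y)

theorem GBij.comp {δ : X → ℤ} {a : ℤ} {A B C : X.Modules} {f : A ⟶ B} {g : B ⟶ C} (hf : GBij δ a f)
    (hg : GBij δ a g) : GBij δ a (f ≫ g) := fun y hy => by
  rw [show ⇑(stalkLin (f ≫ g) y) = ⇑(stalkLin g y) ∘ ⇑(stalkLin f y) from funext (CohDev.stalkLin_comp_apply f g y)]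
  exact (hg y hy).comp (hf y hy)

theorem GBij.of_comp_right {δ : X → ℤ} {a : ℤ} {A B C : X.Modules} {f : A ⟶ B} {g : B ⟶ C}
    (hfg : GBij δ a (f ≫ g)) (hg : GBij δ a g) : GBij δ a f := fun y hy => by
  refine (Function.Bijective.of_comp_iff' (hg y hy) _).1 ?_
  rw [← show ⇑(stalkLin (f ≫ g) y) = ⇑(stalkLin g y) ∘ ⇑(stalkLin f y) from funext (CohDev.stalkLin_comp_apply f g y)]
  exact hfg y hy

theorem stalkLin_iso_bijective {A B : X.Modules} (g : A ⟶ B) [IsIso g] (y : X) : Function.Bijective (stalkLin g y) :=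
  ⟨CohDev.stalk_injective g y, stalk_surjective g y⟩

/-- The difference of cokernel and kernel. -/
noncomputable def dmap (δ : X → ℤ) (k : ℤ) {A B : X.Modules} (g : A ⟶ B) : Cyc.K0CohQuot δ (k + 1) (k - 1) :=
  cl δ k (k + 1) (cokernel g) - cl δ k (k + 1) (kernel g)

variable [IsLocallyNoetherian X] {δ : X → ℤ} {k : ℤ}

theorem cohLe_of_subsingleton {F : X.Modules} (hF : Coh.IsCoh F) (h : ∀ y, Subsingleton (F.presheaf.stalk y)) (a : ℤ) :
    Cyc.CohLe δ a F :=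
  ⟨hF, fun y hy => absurd hy (not_nontrivial_iff_subsingleton.2 (h y))⟩

theorem cl_iso {a a' : ℤ} {A B : X.Modules} (e : A ≅ B) (hA : Cyc.CohLe δ a' A) : cl δ a a' A = cl δ a a' B := by
  have hB : Cyc.CohLe δ a' B := cohLe_of_epi e.hom hA (CohDev.isCoh_of_iso e hA.1).1
  have hK := CohDev.isCoh_kernel e.hom hA.1 hB.1.1
  have hC := CohDev.isCoh_cokernel e.hom hA.1.1 hB.1
  have := cl_map (a := a) e.hom hA hB
  rwa [cl_zero (cohLe_of_subsingleton hK (fun y => subsingleton_stalk_kernel _ y (stalkLin_iso_bijective _ y).1) _),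
    cl_zero (cohLe_of_subsingleton hC (fun y => subsingleton_stalk_cokernel _ y (stalkLin_iso_bijective _ y).2) _),
    sub_zero, sub_zero] at this

theorem dmap_iso {A B : X.Modules} (hA : Coh.IsCoh A) (hB : Coh.IsCoh B) (g : A ⟶ B) [IsIso g] :
    dmap δ k g = 0 := by
  rw [dmap, cl_zero (cohLe_of_subsingleton (CohDev.isCoh_cokernel g hA.1 hB)
      (fun y => subsingleton_stalk_cokernel _ y (stalkLin_iso_bijective _ y).2) _),
    cl_zero (cohLe_of_subsingleton (CohDev.isCoh_kernel g hA hB.1)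
      (fun y => subsingleton_stalk_kernel _ y (stalkLin_iso_bijective _ y).1) _), sub_zero]

/-- The additivity of classes along an exact sequence. -/
theorem cl_exact {a a' : ℤ} (S : ShortComplex X.Modules) (hS : S.Exact) (h₁ : Cyc.CohLe δ a' S.X₁)
    (h₂ : Cyc.CohLe δ a' S.X₂) (h₃ : Coh.IsQCoh S.X₃) :
    cl δ a a' S.X₁ - cl δ a a' (kernel S.f) = cl δ a a' (kernel S.g) := by
  have hc : Cyc.CohLe δ a' (kernel S.g) :=
    cohLe_of_mono (kernel.ι S.g) (CohDev.isCoh_kernel S.g h₂.1 h₃).1 h₂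
  let t : S.X₁ ⟶ kernel S.g := kernel.lift S.g S.f S.zero
  haveI : Epi t := hS.epi_kernelLift
  have ek : kernel t ≅ kernel S.f :=
    (kernelCompMono t (kernel.ι S.g)).symm ≪≫ kernelIsoOfEq (kernel.lift_ι S.g S.f S.zero)
  have hkt : Cyc.CohLe δ a' (kernel t) := cohLe_of_mono (kernel.ι t) (CohDev.isCoh_kernel t h₁.1 hc.1.1).1 h₁
  have := cl_map (a := a) t h₁ hc
  rwa [cl_iso ek hkt, cl_zero (cohLe_of_subsingleton (CohDev.isCoh_cokernel t h₁.1.1 hc.1)
      (fun y => subsingleton_stalk_cokernel _ y (stalk_surjective t y)) _), sub_zero] at this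

theorem dmap_comp {A B C : X.Modules} (hA : Cyc.CohLe δ (k + 1 + 1) A) (hB : Cyc.CohLe δ (k + 1 + 1) B)
    (hC : Cyc.CohLe δ (k + 1 + 1) C) {f : A ⟶ B} {g : B ⟶ C} (hf : GBij δ (k + 1 + 1) f)
    (hg : GBij δ (k + 1 + 1) g) : dmap δ k (f ≫ g) = dmap δ k f + dmap δ k g := by
  obtain ⟨hKf, hCf⟩ := cohLe_ker_coker f hA hB hf
  obtain ⟨hKg, hCg⟩ := cohLe_ker_coker g hB hC hg
  obtain ⟨hKh, hCh⟩ := cohLe_ker_coker (f ≫ g) hA hC (hf.comp hg)
  have hex := kernelCokernelCompSequence_exact f g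
  have e0 := cl_exact (a := k) (a' := k + 1) _ (hex.exact 0) hKf hKh hKg.1.1
  have e1 := cl_exact (a := k) (a' := k + 1) _ (hex.exact 1) hKh hKg hCf.1.1
  have e2 := cl_exact (a := k) (a' := k + 1) _ (hex.exact 2) hKg hCf hCh.1.1
  have e3 := cl_exact (a := k) (a' := k + 1) _ (hex.exact 3) hCf hCh hCg.1.1
  let u : kernel f ⟶ kernel (f ≫ g) := kernel.map f (f ≫ g) (𝟙 A) g (by simp)
  haveI : Mono u := mono_of_mono_fac (show u ≫ kernel.ι (f ≫ g) = kernel.ι f by simp [u, kernel.map])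
  let v : cokernel (f ≫ g) ⟶ cokernel g := cokernel.map (f ≫ g) g f (𝟙 C) (by simp)
  haveI : Epi v := epi_of_epi_fac (show cokernel.π (f ≫ g) ≫ v = cokernel.π g by simp [v, cokernel.map])
  have hu : cl δ k (k + 1) (kernel u) = 0 := cl_zero (cohLe_of_subsingleton
    (CohDev.isCoh_kernel u hKf.1 hKh.1.1) (fun y => subsingleton_stalk_kernel _ y (CohDev.stalk_injective u y)) _)
  have ev := cl_map (a := k) v hCh hCg
  rw [cl_zero (cohLe_of_subsingleton (CohDev.isCoh_cokernel v hCh.1.1 hCg.1)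
    (fun y => subsingleton_stalk_cokernel _ y (stalk_surjective v y)) _), sub_zero] at ev
  change cl δ k (k + 1) (kernel f) - cl δ k (k + 1) (kernel u) = _ at e0
  change cl δ k (k + 1) (cokernel f) - _ = cl δ k (k + 1) (kernel v) at e3
  change cl δ k (k + 1) (kernel (f ≫ g)) - _ = _ at e1
  change cl δ k (k + 1) (kernel g) - _ = _ at e2
  rw [hu, sub_zero] at e0
  simp only [dmap]
  erw [← e0] at e1
  erw [← e1] at e2
  erw [← e2] at e3
  linear_combination (norm := abel) ev - e3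

variable (hd : Cyc.IsDimFun X δ)

/-- Generic identifications of two modules. -/
abbrev GIso (δ : X → ℤ) (a : ℤ) (A B : X.Modules) : Type u :=
  ∀ ξ : X, δ ξ = a → (A.presheaf.stalk ξ ≃ₗ[X.presheaf.stalk ξ] B.presheaf.stalk ξ)

/-- A roof of a generic identification. -/
structure IsRoof {A B : X.Modules} (θ : GIso δ (k + 1 + 1) A B) {H : X.Modules} (p : H ⟶ A) (q : H ⟶ B) : Prop where
  coh : Cyc.CohLe δ (k + 1 + 1) H
  bij : GBij δ (k + 1 + 1) p
  eq : ∀ ξ (hξ : δ ξ = k + 1 + 1) t, stalkLin q ξ t = θ ξ hξ (stalkLin p ξ t)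

theorem IsRoof.bij' {A B : X.Modules} {θ : GIso δ (k + 1 + 1) A B} {H : X.Modules} {p : H ⟶ A} {q : H ⟶ B}
    (h : IsRoof θ p q) : GBij δ (k + 1 + 1) q := fun y hy => by
  rw [show ⇑(stalkLin q y) = ⇑(θ y hy) ∘ ⇑(stalkLin p y) from funext (h.eq y hy)]
  exact (θ y hy).bijective.comp (h.bij y hy)

open Classical in
/-- The difference attached to a generic identification. -/
noncomputable def dgen {A B : X.Modules} (θ : GIso δ (k + 1 + 1) A B) : Cyc.K0CohQuot δ (k + 1) (k - 1) :=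
  if h : ∃ (H : X.Modules) (p : H ⟶ A) (q : H ⟶ B), IsRoof θ p q ∧
      ∀ (H' : X.Modules) (p' : H' ⟶ A) (q' : H' ⟶ B), IsRoof θ p' q' → ∃ r : H' ⟶ H, r ≫ p = p' ∧ r ≫ q = q'
  then dmap δ k h.choose_spec.choose_spec.choose - dmap δ k h.choose_spec.choose else 0

include hd in
theorem dgen_eq {A B : X.Modules} (hA : Cyc.CohLe δ (k + 1 + 1) A) (hB : Cyc.CohLe δ (k + 1 + 1) B)
    {θ : GIso δ (k + 1 + 1) A B} {H : X.Modules} {p : H ⟶ A} {q : H ⟶ B} (hpq : IsRoof θ p q) :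
    dgen θ = dmap δ k q - dmap δ k p := by
  have h : ∃ (H : X.Modules) (p : H ⟶ A) (q : H ⟶ B), IsRoof θ p q ∧
      ∀ (H' : X.Modules) (p' : H' ⟶ A) (q' : H' ⟶ B), IsRoof θ p' q' → ∃ r : H' ⟶ H, r ≫ p = p' ∧ r ≫ q = q' := by
    obtain ⟨H0, p0, q0, h0, h1, -, h2⟩ := exists_roof hd hA hB θ
    exact ⟨H0, p0, q0, ⟨h0, fun y hy => (h1 y hy).1, fun y hy => (h1 y hy).2⟩,
      fun H' p' q' h' => h2 H' p' q' h'.eq⟩
  rw [dgen, dif_pos h]
  obtain ⟨hR, huniv⟩ := h.choose_spec.choose_spec.choose_spec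
  generalize h.choose_spec.choose_spec.choose = q0 at hR huniv ⊢
  generalize h.choose_spec.choose = p0 at hR huniv ⊢
  generalize h.choose = H0 at p0 q0 hR huniv ⊢
  obtain ⟨r, rfl, rfl⟩ := huniv H p q hpq
  have hr := hpq.bij.of_comp_right hR.bij
  rw [dmap_comp hpq.coh hR.coh hB hr hR.bij', dmap_comp hpq.coh hR.coh hA hr hR.bij]
  abel

include hd in
theorem exists_isRoof {A B : X.Modules} (hA : Cyc.CohLe δ (k + 1 + 1) A) (hB : Cyc.CohLe δ (k + 1 + 1) B)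
    (θ : GIso δ (k + 1 + 1) A B) : ∃ (H : X.Modules) (p : H ⟶ A) (q : H ⟶ B), IsRoof θ p q := by
  obtain ⟨H0, p0, q0, h0, h1, -, -⟩ := exists_roof hd hA hB θ
  exact ⟨H0, p0, q0, h0, fun y hy => (h1 y hy).1, fun y hy => (h1 y hy).2⟩

include hd in
theorem dgen_map {A B : X.Modules} (hA : Cyc.CohLe δ (k + 1 + 1) A) (hB : Cyc.CohLe δ (k + 1 + 1) B)
    {θ : GIso δ (k + 1 + 1) A B} (g : A ⟶ B) (h : ∀ ξ hξ t, stalkLin g ξ t = θ ξ hξ t) :
    dgen θ = dmap δ k g := by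
  rw [dgen_eq hd hA hB (p := 𝟙 A) (q := g) ⟨hA, fun y _ => stalkLin_iso_bijective _ y,
    fun y hy t => by rw [CohDev.stalkLin_id_apply]; exact h y hy t⟩, dmap_iso hA.1 hA.1, sub_zero]

include hd in
theorem dgen_trans {A B C : X.Modules} (hA : Cyc.CohLe δ (k + 1 + 1) A) (hB : Cyc.CohLe δ (k + 1 + 1) B)
    (hC : Cyc.CohLe δ (k + 1 + 1) C) (θ : GIso δ (k + 1 + 1) A B) (θ' : GIso δ (k + 1 + 1) B C) :
    dgen (fun ξ hξ => (θ ξ hξ).trans (θ' ξ hξ)) = dgen θ + dgen θ' := by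
  obtain ⟨H1, p1, q1, h1⟩ := exists_isRoof hd hA hB θ
  obtain ⟨H2, p2, q2, h2⟩ := exists_isRoof hd hB hC θ'
  let φ : GIso δ (k + 1 + 1) H1 H2 := fun ξ hξ =>
    (LinearEquiv.ofBijective _ (h1.bij' ξ hξ)).trans (LinearEquiv.ofBijective _ (h2.bij ξ hξ)).symm
  obtain ⟨H, r, r', hr⟩ := exists_isRoof hd h1.coh h2.coh φ
  let f := r ≫ q1 - r' ≫ p2
  have hK : Cyc.CohLe δ (k + 1 + 1) (kernel f) :=
    cohLe_of_mono (kernel.ι f) (CohDev.isCoh_kernel f hr.coh.1 hB.1.1).1 hr.coh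
  have hf0 : ∀ ξ, δ ξ = k + 1 + 1 → ∀ t, stalkLin f ξ t = 0 := fun ξ hξ t => by
    have e : stalkLin p2 ξ (stalkLin r' ξ t) = stalkLin q1 ξ (stalkLin r ξ t) := by
      rw [hr.eq ξ hξ t]
      exact (LinearEquiv.ofBijective _ (h2.bij ξ hξ)).apply_symm_apply _
    rw [← CohDev.stalkLin_comp_apply, ← CohDev.stalkLin_comp_apply] at e
    have h0 : stalkLin (f + r' ≫ p2) ξ t = stalkLin (r ≫ q1) ξ t := by simp only [f, sub_add_cancel]
    rw [CohDev.stalkLin_add_apply, e] at h0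
    simpa using h0
  have hι : GBij δ (k + 1 + 1) (kernel.ι f) := fun y hy =>
    ⟨CohDev.stalk_injective _ y, fun t => (stalk_exact_kernel f y t).1 (hf0 y hy t)⟩
  have hcond : (kernel.ι f ≫ r) ≫ q1 = (kernel.ι f ≫ r') ≫ p2 := by
    rw [Category.assoc, Category.assoc, ← sub_eq_zero, ← Preadditive.comp_sub]
    exact kernel.condition f
  have ha : GBij δ (k + 1 + 1) (kernel.ι f ≫ r) := hι.comp hr.bij
  have hb : GBij δ (k + 1 + 1) (kernel.ι f ≫ r') := hι.comp hr.bij'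
  have hroof : IsRoof (fun ξ hξ => (θ ξ hξ).trans (θ' ξ hξ)) ((kernel.ι f ≫ r) ≫ p1) ((kernel.ι f ≫ r') ≫ q2) := by
    refine ⟨hK, ha.comp h1.bij, fun ξ hξ t => ?_⟩
    rw [CohDev.stalkLin_comp_apply, CohDev.stalkLin_comp_apply _ p1, h2.eq ξ hξ, LinearEquiv.trans_apply,
      ← h1.eq ξ hξ, ← CohDev.stalkLin_comp_apply, ← CohDev.stalkLin_comp_apply, hcond]
  rw [dgen_eq hd hA hC hroof, dgen_eq hd hA hB h1, dgen_eq hd hB hC h2, dmap_comp hK h2.coh hC hb h2.bij',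
    dmap_comp hK h1.coh hA ha h1.bij]
  have e := congrArg (dmap δ k) hcond
  rw [dmap_comp hK h1.coh hB ha h1.bij', dmap_comp hK h2.coh hB hb h2.bij] at e
  linear_combination (norm := abel) -e

end Groth.Agent.CycLib.Dev
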