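import Groth.Agent.LenLib.OrdFrac
import Groth.Agent.CycLib.SchemeDim
import Groth.Agent.CycLib.DimFun
import Mathlib.AlgebraicGeometry.Noetherian
import Mathlib.RingTheory.Ideal.MinimalPrime.Basic

/-!
Basic properties of `Cyc.ordAt` and `Cyc.divFun`: the local rings `O_{X,x}/p_ξ`, additivity, values on
quotients of functions, finiteness of the support.
-/

set_option linter.style.haveILetI false

namespace Groth.Agent.CycLib

open AlgebraicGeometry CategoryTheory TopologicalSpace Groth.Agent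

universe u

variable {X : Scheme.{u}}

theorem specMap_germ {x ξ : X} (h : ξ ⤳ x) {W : X.Opens} (hx : x ∈ W) (a : Γ(X, W)) :
    Cyc.specMap x ξ h (X.presheaf.germ W x hx a) = X.evaluation W ξ (h.mem_open W.2 hx) a := by
  show X.residue ξ (X.presheaf.stalkSpecializes h (X.presheaf.germ W x hx a)) = _
  rw [TopCat.Presheaf.germ_stalkSpecializes_apply]
  rfl

theorem locQuot_algebraMap (x ξ : X) (h : ξ ⤳ x) (c : X.presheaf.stalk x) :
    algebraMap (Cyc.LocQuot x ξ h) (X.residueField ξ) (Ideal.Quotient.mk _ c) = Cyc.specMap x ξ h c :=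
  rfl

theorem locQuot_injective (x ξ : X) (h : ξ ⤳ x) :
    Function.Injective (algebraMap (Cyc.LocQuot x ξ h) (X.residueField ξ)) :=
  RingHom.lift_injective_of_ker_le_ideal _ _ le_rfl

theorem locQuot_isDomain (x ξ : X) (h : ξ ⤳ x) : IsDomain (Cyc.LocQuot x ξ h) := by
  haveI : (RingHom.ker (Cyc.specMap x ξ h)).IsPrime := RingHom.ker_isPrime _
  exact Ideal.Quotient.isDomain _

theorem locQuot_isFractionRing (x ξ : X) (h : ξ ⤳ x) :
    IsFractionRing (Cyc.LocQuot x ξ h) (X.residueField ξ) := by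
  haveI : FaithfulSMul (Cyc.LocQuot x ξ h) (X.residueField ξ) :=
    (faithfulSMul_iff_algebraMap_injective _ _).2 (locQuot_injective x ξ h)
  obtain ⟨W, hW, hx, -⟩ := exists_isAffineOpen_mem_and_subset (Opens.mem_top x)
  refine IsFractionRing.of_field _ _ fun z => ?_
  obtain ⟨a, b, rfl⟩ := evaluation_surj hW (h.mem_open W.2 hx) z
  refine ⟨Ideal.Quotient.mk _ (X.presheaf.germ W x hx a), Ideal.Quotient.mk _ (X.presheaf.germ W x hx b), ?_⟩
  rw [locQuot_algebraMap, locQuot_algebraMap, specMap_germ, specMap_germ]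

theorem locQuot_isNoetherianRing [IsLocallyNoetherian X] (x ξ : X) (h : ξ ⤳ x) :
    IsNoetherianRing (Cyc.LocQuot x ξ h) :=
  Ideal.Quotient.isNoetherianRing _

theorem locQuot_krullDimLE_one [IsLocallyNoetherian X] {δ : X → ℤ} (hd : Cyc.IsDimFun X δ) (x ξ : X)
    (h : ξ ⤳ x) (h1 : δ x + 1 = δ ξ) : Ring.KrullDimLE 1 (Cyc.LocQuot x ξ h) := by
  obtain ⟨W, hW, hx, -⟩ := exists_isAffineOpen_mem_and_subset (Opens.mem_top x)
  letI := TopCat.Presheaf.algebra_section_stalk X.presheaf (⟨x, hx⟩ : W)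
  haveI := hW.isLocalization_stalk ⟨x, hx⟩
  let π : X.presheaf.stalk x →+* Cyc.LocQuot x ξ h := Ideal.Quotient.mk _
  let Φ : PrimeSpectrum (Cyc.LocQuot x ξ h) → PrimeSpectrum Γ(X, W) := fun Q =>
    PrimeSpectrum.comap (algebraMap Γ(X, W) (X.presheaf.stalk x)) (PrimeSpectrum.comap π Q)
  have hΦ : StrictMono Φ := fun a b hab =>
    (IsLocalization.orderEmbedding (hW.primeIdealOf ⟨x, hx⟩).asIdeal.primeCompl
      (X.presheaf.stalk x)).strictMono
      (RingHom.strictMono_comap_of_surjective (f := π) Ideal.Quotient.mk_surjective hab)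
  have hlo : ∀ Q, hW.primeIdealOf ⟨ξ, h.mem_open W.2 hx⟩ ≤ Φ Q := by
    intro Q a ha
    show π (X.presheaf.germ W x hx a) ∈ Q.asIdeal
    rw [← ker_evaluation hW, RingHom.mem_ker] at ha
    rw [show π (X.presheaf.germ W x hx a) = 0 from Ideal.Quotient.eq_zero_iff_mem.2
      ((RingHom.mem_ker).2 ((specMap_germ h hx a).trans ha))]
    exact zero_mem _
  have hhi : ∀ Q, Φ Q ≤ hW.primeIdealOf ⟨x, hx⟩ := by
    intro Q a ha
    by_contra hna
    exact (PrimeSpectrum.comap π Q).2.ne_top (Ideal.eq_top_of_isUnit_mem _ ha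
      ((IsLocalization.AtPrime.isUnit_to_map_iff (X.presheaf.stalk x) _ a).2 hna))
  let ψ : PrimeSpectrum (Cyc.LocQuot x ξ h) → ℤ := fun Q => δ (hW.fromSpec (Φ Q))
  have hψ : StrictAnti ψ := fun a b hab =>
    (hd _ _ ((primeIdealOf_le_iff hW _ _).1 (hΦ hab).le)
      (hW.fromSpec.isOpenEmbedding.injective.ne (hΦ hab).ne)).1
  have hb : ∀ Q, δ x ≤ ψ Q ∧ ψ Q ≤ δ ξ := fun Q => by
    have e1 := (primeIdealOf_le_iff hW _ _).1 (hlo Q)
    have e2 := (primeIdealOf_le_iff hW _ _).1 (hhi Q)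
    rw [hW.fromSpec_primeIdealOf] at e1 e2
    exact ⟨le_of_specializes hd e2, le_of_specializes hd e1⟩
  rw [Ring.krullDimLE_iff]
  refine iSup_le fun l => ?_
  have key := PtTop.Catenary.length_le_rank_sub (fun Q => - ψ Q) (fun a b hab => neg_lt_neg (hψ hab)) l
  have k1 := hb l.head
  have k2 := hb l.last
  exact_mod_cast (show (l.length : ℤ) ≤ 1 by omega)

section ord

variable [IsLocallyNoetherian X] {δ : X → ℤ} (hd : Cyc.IsDimFun X δ) {x ξ : X} (h : ξ ⤳ x)
  (h1 : δ x + 1 = δ ξ)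

include hd h1 in
theorem ordAt_mul {f g : X.residueField ξ} (hf : f ≠ 0) (hg : g ≠ 0) :
    Cyc.ordAt x ξ h (f * g) = Cyc.ordAt x ξ h f + Cyc.ordAt x ξ h g := by
  haveI := locQuot_isDomain x ξ h
  haveI := locQuot_isFractionRing x ξ h
  haveI := locQuot_isNoetherianRing x ξ h
  haveI := locQuot_krullDimLE_one hd x ξ h h1
  exact LenLib.ordFrac_mul hf hg

include hd h1 in
theorem ordAt_specMap {c : X.presheaf.stalk x} (hc : Cyc.specMap x ξ h c ≠ 0) :
    Cyc.ordAt x ξ h (Cyc.specMap x ξ h c) =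
      LenLib.ordZ (Ideal.Quotient.mk (RingHom.ker (Cyc.specMap x ξ h)) c) := by
  haveI := locQuot_isDomain x ξ h
  haveI := locQuot_isFractionRing x ξ h
  haveI := locQuot_isNoetherianRing x ξ h
  haveI := locQuot_krullDimLE_one hd x ξ h h1
  rw [← locQuot_algebraMap x ξ h c]
  exact LenLib.ordFrac_algebraMap (A := Cyc.LocQuot x ξ h) (K := X.residueField ξ)
    fun h0 => hc (RingHom.mem_ker.1 (Ideal.Quotient.eq_zero_iff_mem.1 h0))

include hd h1 in
theorem ordAt_div {a b : X.presheaf.stalk x} (ha : Cyc.specMap x ξ h a ≠ 0)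
    (hb : Cyc.specMap x ξ h b ≠ 0) :
    Cyc.ordAt x ξ h (Cyc.specMap x ξ h a / Cyc.specMap x ξ h b) =
      LenLib.ordZ (Ideal.Quotient.mk (RingHom.ker (Cyc.specMap x ξ h)) a) -
        LenLib.ordZ (Ideal.Quotient.mk (RingHom.ker (Cyc.specMap x ξ h)) b) := by
  haveI := locQuot_isDomain x ξ h
  haveI := locQuot_isFractionRing x ξ h
  haveI := locQuot_isNoetherianRing x ξ h
  haveI := locQuot_krullDimLE_one hd x ξ h h1
  rw [← locQuot_algebraMap x ξ h a, ← locQuot_algebraMap x ξ h b]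
  exact LenLib.ordFrac_mk (A := Cyc.LocQuot x ξ h) (K := X.residueField ξ)
    (fun h0 => ha (RingHom.mem_ker.1 (Ideal.Quotient.eq_zero_iff_mem.1 h0)))
    (fun h0 => hb (RingHom.mem_ker.1 (Ideal.Quotient.eq_zero_iff_mem.1 h0)))

include hd h1 in
theorem ordAt_one : Cyc.ordAt x ξ h 1 = 0 := by
  have := ordAt_mul hd h h1 (one_ne_zero (α := X.residueField ξ)) one_ne_zero
  rw [one_mul] at this
  omega

end ord

theorem divFun_mul [IsLocallyNoetherian X] {δ : X → ℤ} (hd : Cyc.IsDimFun X δ) {ξ : X}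
    {f g : X.residueField ξ} (hf : f ≠ 0) (hg : g ≠ 0) :
    Cyc.divFun δ ξ (f * g) = Cyc.divFun δ ξ f + Cyc.divFun δ ξ g := by
  funext x
  unfold Cyc.divFun
  rw [Pi.add_apply]
  split_ifs with h
  · exact ordAt_mul hd h.1 h.2 hf hg
  · rfl

/-- On an affine open, a principal divisor has finite support. -/
theorem finite_support_divFun_inter [IsLocallyNoetherian X] {δ : X → ℤ} (hd : Cyc.IsDimFun X δ)
    (ξ : X) {f : X.residueField ξ} (hf : f ≠ 0) {W : X.Opens} (hW : IsAffineOpen W) :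
    ((W : Set X) ∩ Function.support (Cyc.divFun δ ξ f)).Finite := by
  by_cases hξ : ξ ∈ W
  swap
  · refine Set.finite_empty.subset fun x hx => ?_
    have : ξ ⤳ x := by
      by_contra hns
      exact hx.2 (dif_neg fun h => hns h.1)
    exact hξ (this.mem_open W.2 hx.1)
  haveI : IsNoetherianRing Γ(X, W) := IsLocallyNoetherian.component_noetherian ⟨W, hW⟩
  obtain ⟨a, b, rfl⟩ := evaluation_surj hW hξ f
  obtain ⟨hea, heb⟩ := div_ne_zero_iff.1 hf
  let q := hW.primeIdealOf ⟨ξ, hξ⟩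
  let I : Γ(X, W) → Ideal Γ(X, W) := fun c => q.asIdeal ⊔ Ideal.span {c}
  have hfin : ((I a).minimalPrimes ∪ (I b).minimalPrimes).Finite :=
    (Ideal.finite_minimalPrimes_of_isNoetherianRing _ _).union
      (Ideal.finite_minimalPrimes_of_isNoetherianRing _ _)
  refine ((hfin.preimage (f := fun p : PrimeSpectrum Γ(X, W) => p.asIdeal)
    (fun p _ p' _ hpp => PrimeSpectrum.ext hpp)).image hW.fromSpec).subset ?_
  rintro x ⟨hxW, hx⟩
  obtain ⟨hcond, hval⟩ : ∃ hc : ξ ⤳ x ∧ δ x + 1 = δ ξ,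
      Cyc.ordAt x ξ hc.1 ((X.evaluation W ξ hξ).hom a / (X.evaluation W ξ hξ).hom b) ≠ 0 := by
    by_cases hc : ξ ⤳ x ∧ δ x + 1 = δ ξ
    · refine ⟨hc, fun h0 => hx ?_⟩
      rw [Cyc.divFun, dif_pos hc]; exact h0
    · exact absurd (dif_neg hc) hx
  obtain ⟨hsp, h1⟩ := hcond
  refine ⟨hW.primeIdealOf ⟨x, hxW⟩, ?_, hW.fromSpec_primeIdealOf _⟩
  have hor : ¬ IsUnit (X.presheaf.germ W x hxW a) ∨ ¬ IsUnit (X.presheaf.germ W x hxW b) := by
    by_contra hh
    rw [not_or, not_not, not_not] at hh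
    apply hval
    rw [← specMap_germ hsp hxW a, ← specMap_germ hsp hxW b,
      ordAt_div hd hsp h1 (hh.1.map _).ne_zero (hh.2.map _).ne_zero,
      LenLib.ordZ_of_isUnit (hh.1.map _), LenLib.ordZ_of_isUnit (hh.2.map _), sub_self]
  have key : ∀ c : Γ(X, W), (X.evaluation W ξ hξ).hom c ≠ 0 →
      ¬ IsUnit (X.presheaf.germ W x hxW c) →
      (hW.primeIdealOf ⟨x, hxW⟩).asIdeal ∈ (I c).minimalPrimes := by
    intro c hc hu
    letI := TopCat.Presheaf.algebra_section_stalk X.presheaf (⟨x, hxW⟩ : W)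
    haveI := hW.isLocalization_stalk ⟨x, hxW⟩
    have hqx : q ≤ hW.primeIdealOf ⟨x, hxW⟩ :=
      (primeIdealOf_le_iff hW _ _).2 (by rwa [hW.fromSpec_primeIdealOf, hW.fromSpec_primeIdealOf])
    have hcx : c ∈ (hW.primeIdealOf ⟨x, hxW⟩).asIdeal := by
      by_contra hn
      exact hu ((IsLocalization.AtPrime.isUnit_to_map_iff (X.presheaf.stalk x) _ c).2 hn)
    refine ⟨⟨inferInstance, sup_le hqx ((Ideal.span_singleton_le_iff_mem _).2 hcx)⟩, fun r hr hle => ?_⟩
    by_contra hnle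
    let rp : PrimeSpectrum Γ(X, W) := ⟨r, hr.1⟩
    have hqr : q.asIdeal < r := by
      refine lt_of_le_of_ne (le_sup_left.trans hr.2) fun he => hc ?_
      have : c ∈ q.asIdeal := he ▸ hr.2 (Ideal.mem_sup_right (Ideal.mem_span_singleton_self c))
      rw [← ker_evaluation hW hξ] at this
      exact this
    have e1 := hd _ _ ((primeIdealOf_le_iff hW q rp).1 hqr.le)
      (hW.fromSpec.isOpenEmbedding.injective.ne fun he => hqr.ne (congr_arg PrimeSpectrum.asIdeal he))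
    have e2 := hd _ _ ((primeIdealOf_le_iff hW rp _).1 hle)
      (hW.fromSpec.isOpenEmbedding.injective.ne fun he => hnle (le_of_eq (congr_arg PrimeSpectrum.asIdeal he).symm))
    rw [hW.fromSpec_primeIdealOf] at e1 e2
    have e3 : δ (hW.fromSpec rp) < δ ξ := e1.1
    have e4 : δ x < δ (hW.fromSpec rp) := e2.1
    omega
  rcases hor with hu | hu
  · exact Or.inl (key a hea hu)
  · exact Or.inr (key b heb hu)

/-- A locally finite sum of principal divisors is a cycle. -/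
theorem exists_cycle_finsum_divFun [IsLocallyNoetherian X] {δ : X → ℤ} (hd : Cyc.IsDimFun X δ)
    {ι : Type u} (ξ : ι → X) (f : (i : ι) → X.residueField (ξ i)) (hf : ∀ i, f i ≠ 0)
    (hlf : ∀ x : X, ∃ U : Set X, IsOpen U ∧ x ∈ U ∧ {i | (closure {ξ i} ∩ U).Nonempty}.Finite) :
    ∃ D : AlgebraicCycle X ℤ, ∀ x, D x = ∑ᶠ i, Cyc.divFun δ (ξ i) (f i) x := by
  refine ⟨⟨fun x => ∑ᶠ i, Cyc.divFun δ (ξ i) (f i) x, by simp, fun z _ => ?_⟩, fun x => rfl⟩
  obtain ⟨U, hUo, hzU, hfin⟩ := hlf z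
  obtain ⟨W, hW, hzW, hWU⟩ := exists_isAffineOpen_mem_and_subset (x := z) (U := ⟨U, hUo⟩) hzU
  refine ⟨W, W.2.mem_nhds hzW, (hfin.biUnion fun i _ =>
    finite_support_divFun_inter hd (ξ i) (hf i) hW).subset ?_⟩
  rintro x ⟨hxW, hx⟩
  obtain ⟨i, hi⟩ : ∃ i, Cyc.divFun δ (ξ i) (f i) x ≠ 0 := by
    by_contra hh
    push Not at hh
    exact hx (by simp [hh])
  refine Set.mem_biUnion (show i ∈ {i | (closure {ξ i} ∩ U).Nonempty} from ⟨x, ?_, hWU hxW⟩) ⟨hxW, hi⟩
  refine specializes_iff_mem_closure.1 ?_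
  by_contra hns
  exact hi (dif_neg fun h => hns h.1)

end Groth.Agent.CycLib
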