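import Groth.Agent.CycLib.ModIndex

/-!
The index of a module inside the product of its localizations at finitely many primes.
-/

set_option autoImplicit false

universe u

namespace Groth.Agent.CycLib.ModIdx

open Submodule IsLocalRing

variable {A : Type u} [CommRing A] {ι : Type u} {V : ι → Type u} [∀ i, AddCommGroup (V i)] [∀ i, Module A (V i)]
  {M : Type u} [AddCommGroup M] [Module A M]

/-- The index of `M` in the product of the images in the `V i`. -/
noncomputable def chi (u : ∀ i, M →ₗ[A] V i) : ℤ :=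
  ((Module.length A (LinearMap.ker (LinearMap.pi u))).toNat : ℤ) +
    idx (LinearMap.range (LinearMap.pi u)) (Submodule.pi Set.univ fun i => LinearMap.range (u i))

/-- The maps `u i` behave like the localizations of `M` at the height zero primes `p i` of its support. -/
structure IsCover [IsLocalRing A] (p : ι → Ideal A) (s : Finset ι) (u : ∀ i, M →ₗ[A] V i) : Prop where
  subsingleton : ∀ i ∉ s, Subsingleton (V i)
  inj : ∀ i j, p i = p j → i = j
  vanish : ∀ q : Ideal A, q.IsPrime → q ≠ maximalIdeal A → (∀ i, q ≠ p i) → ∀ m : M, ∃ c ∉ q, c • m = 0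
  loc : ∀ i, ∀ m : M, u i m = 0 → ∃ c ∉ p i, c • m = 0
  kill : ∀ i, ∀ q : Ideal A, q.IsPrime → q ≠ p i → q ≠ maximalIdeal A → ∀ v : V i, ∃ c ∉ q, c • v = 0

theorem rlen_bot {W : Type u} [AddCommGroup W] [Module A W] (P : Submodule A W) :
    rlen P ⊥ = Module.length A P :=
  LinearEquiv.length_eq (Submodule.quotEquivOfEqBot _
    ((Submodule.comap_bot P.subtype).trans (Submodule.ker_subtype P)))

theorem rlen_inf_right {W : Type u} [AddCommGroup W] [Module A W] (P Q : Submodule A W) :
    rlen P (P ⊓ Q) = rlen P Q := by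
  refine LinearEquiv.length_eq (Submodule.quotEquivOfEq _ _ ?_)
  ext x
  simp

theorem exists_kill_fun [IsLocalRing A] {q : Ideal A} (hq : q.IsPrime) (s : Finset ι)
    (hs : ∀ i ∉ s, Subsingleton (V i)) (v : ∀ i, V i) (h : ∀ i, ∃ c ∉ q, c • v i = 0) :
    ∃ c ∉ q, c • v = 0 := by
  choose c hc hcv using h
  refine ⟨∏ i ∈ s, c i, fun hmem => ?_, funext fun i => ?_⟩
  · obtain ⟨i, -, hi⟩ := (Ideal.IsPrime.prod_mem_iff).1 hmem
    exact hc i hi
  · by_cases hi : i ∈ s
    · classical
      show (∏ j ∈ s, c j) • v i = 0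
      rw [← Finset.prod_erase_mul s c hi, mul_smul, hcv, smul_zero]
    · haveI := hs i hi
      exact Subsingleton.elim _ _

variable [IsNoetherianRing A] [IsLocalRing A] [Module.Finite A M] {p : ι → Ideal A} {s : Finset ι}
  {u : ∀ i, M →ₗ[A] V i}

theorem IsCover.length_ker_ne_top (h : IsCover p s u) : Module.length A (LinearMap.ker (LinearMap.pi u)) ≠ ⊤ := by
  haveI : IsNoetherian A M := inferInstance
  refine length_ne_top_of_locally_zero fun q hq hqm m => ?_
  by_cases hqp : ∃ i, q = p i
  · obtain ⟨i, rfl⟩ := hqp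
    obtain ⟨c, hc, hcm⟩ := h.loc i m.1 (congrFun m.2 i)
    exact ⟨c, hc, Subtype.ext hcm⟩
  · push Not at hqp
    obtain ⟨c, hc, hcm⟩ := h.vanish q hq hqm hqp m.1
    exact ⟨c, hc, Subtype.ext hcm⟩

theorem IsCover.com_range (h : IsCover p s u) :
    Com (LinearMap.range (LinearMap.pi u)) (Submodule.pi Set.univ fun i => LinearMap.range (u i)) := by
  classical
  have hle : LinearMap.range (LinearMap.pi u) ≤ Submodule.pi Set.univ fun i => LinearMap.range (u i) := by
    rintro _ ⟨m, rfl⟩ i -
    exact ⟨m, rfl⟩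
  let Φ : (s → M) →ₗ[A] (∀ i, V i) :=
    LinearMap.pi fun i => if hi : i ∈ s then (u i).comp (LinearMap.proj ⟨i, hi⟩) else 0
  have hΦ : (Submodule.pi Set.univ fun i => LinearMap.range (u i)) ≤ LinearMap.range Φ := fun v hv => by
    choose m hm using fun i => hv i trivial
    refine ⟨fun i => m i.1, funext fun i => ?_⟩
    by_cases hi : i ∈ s
    · simp only [Φ, LinearMap.pi_apply, dif_pos hi]
      exact hm i
    · haveI := h.subsingleton i hi
      exact Subsingleton.elim _ _
  refine ⟨by simp [rlen_eq_zero hle],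
    rlen_ne_top (P0 := LinearMap.range Φ) (Module.Finite.iff_fg.1 inferInstance) (hΦ.trans le_sup_left) fun q hq hqm v hv => ?_⟩
  obtain ⟨mm, rfl⟩ := hv
  by_cases hqp : ∃ i, q = p i
  · obtain ⟨i, rfl⟩ := hqp
    let m0 : M := if hi : i ∈ s then mm ⟨i, hi⟩ else 0
    obtain ⟨c, hc, hcv⟩ := exists_kill_fun hq s h.subsingleton (Φ mm - LinearMap.pi u m0) fun j => by
      by_cases hji : p j = p i
      · obtain rfl := h.inj j i hji
        refine ⟨1, fun h1 => hq.ne_top ((Ideal.eq_top_iff_one _).2 h1), ?_⟩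
        rw [one_smul]
        by_cases hj : j ∈ s
        · simp [Φ, m0, hj]
        · haveI := h.subsingleton j hj
          exact Subsingleton.elim _ _
      · exact h.kill j (p i) hq (Ne.symm hji) hqm _
    refine ⟨c, hc, c • m0, ?_⟩
    rw [map_smul]
    rw [smul_sub, sub_eq_zero] at hcv
    exact hcv.symm
  · push Not at hqp
    obtain ⟨c, hc, hcv⟩ := exists_kill_fun hq s h.subsingleton (Φ mm) fun j => h.kill j q hq (hqp j) hqm _
    exact ⟨c, hc, hcv ▸ zero_mem _⟩

omit [IsNoetherianRing A] [IsLocalRing A] [Module.Finite A M] in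
theorem chi_of_subsingleton (u : ∀ i, M →ₗ[A] V i) (hV : ∀ i, Subsingleton (V i)) :
    chi u = (Module.length A M).toNat := by
  have hu : LinearMap.pi u = 0 := LinearMap.ext fun m => funext fun i => Subsingleton.elim _ _
  haveI : Subsingleton (∀ i, V i) := Pi.instSubsingleton
  have : LinearMap.range (LinearMap.pi u) = Submodule.pi Set.univ fun i => LinearMap.range (u i) :=
    Subsingleton.elim _ _
  rw [chi, this, idx_self, add_zero, hu, LinearMap.ker_zero]
  exact congrArg (fun n : ℕ∞ => (n.toNat : ℤ)) (LinearEquiv.length_eq Submodule.topEquiv)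

variable {V' V'' : ι → Type u} [∀ i, AddCommGroup (V' i)] [∀ i, Module A (V' i)] [∀ i, AddCommGroup (V'' i)]
  [∀ i, Module A (V'' i)] {M' M'' : Type u} [AddCommGroup M'] [Module A M'] [AddCommGroup M''] [Module A M'']
  [Module.Finite A M'] [Module.Finite A M''] {u' : ∀ i, M' →ₗ[A] V' i} {u'' : ∀ i, M'' →ₗ[A] V'' i}

theorem chi_add (a : M' →ₗ[A] M) (b : M →ₗ[A] M'') (f : ∀ i, V' i →ₗ[A] V i) (g : ∀ i, V i →ₗ[A] V'' i)
    (ha : Function.Injective a) (hab : Function.Exact a b) (hb : Function.Surjective b)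
    (hf : ∀ i, Function.Injective (f i)) (hfg : ∀ i, Function.Exact (f i) (g i))
    (hca : ∀ i m, f i (u' i m) = u i (a m)) (hcb : ∀ i m, g i (u i m) = u'' i (b m))
    (h : IsCover p s u) (h' : IsCover p s u') (h'' : IsCover p s u'')
    (hcom : ∀ i, Com ((LinearMap.range (u i)).comap (f i)) (LinearMap.range (u' i))) :
    chi u = chi u' + chi u'' -
      ∑ i ∈ s, idx ((LinearMap.range (u i)).comap (f i)) (LinearMap.range (u' i)) := by
  classical
  set U := LinearMap.pi u
  set U' := LinearMap.pi u'
  set U'' := LinearMap.pi u''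
  let F : (∀ i, V' i) →ₗ[A] (∀ i, V i) := LinearMap.pi fun i => (f i).comp (LinearMap.proj i)
  let G : (∀ i, V i) →ₗ[A] (∀ i, V'' i) := LinearMap.pi fun i => (g i).comp (LinearMap.proj i)
  have hF : Function.Injective F := fun x y e => funext fun i => hf i (congrFun e i)
  have hFG : Function.Exact F G := fun v => by
    refine ⟨fun hv => ?_, ?_⟩
    · choose x hx using fun i => (hfg i (v i)).1 (congrFun hv i)
      exact ⟨x, funext hx⟩
    · rintro ⟨x, rfl⟩
      exact funext fun i => (hfg i).apply_apply_eq_zero _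
  have hFU : ∀ m, F (U' m) = U (a m) := fun m => funext fun i => hca i m
  have hGU : ∀ m, G (U m) = U'' (b m) := fun m => funext fun i => hcb i m
  obtain ⟨c1, c2, e⟩ := h.com_range.split F G hF hFG
  have e1 : (Submodule.pi Set.univ fun i => LinearMap.range (u i)).comap F =
      Submodule.pi Set.univ fun i => (LinearMap.range (u i)).comap (f i) := Submodule.ext fun x => Iff.rfl
  have e2 : (LinearMap.range U).map G = LinearMap.range U'' := by
    refine le_antisymm ?_ ?_
    · rintro _ ⟨_, ⟨m, rfl⟩, rfl⟩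
      exact ⟨b m, (hGU m).symm⟩
    · rintro _ ⟨m, rfl⟩
      obtain ⟨m, rfl⟩ := hb m
      exact ⟨U m, ⟨m, rfl⟩, hGU m⟩
  have e3 : (Submodule.pi Set.univ fun i => LinearMap.range (u i)).map G =
      Submodule.pi Set.univ fun i => LinearMap.range (u'' i) := by
    refine le_antisymm ?_ fun v hv => ?_
    · rintro _ ⟨v, hv, rfl⟩ i -
      obtain ⟨m, hm⟩ := hv i trivial
      exact ⟨b m, by rw [← hcb, hm]; rfl⟩
    · choose m hm using fun i => hv i trivial
      choose m2 hm2 using fun i => hb (m i)
      exact ⟨fun i => u i (m2 i), fun i _ => ⟨m2 i, rfl⟩, funext fun i => by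
        show g i (u i (m2 i)) = v i
        rw [hcb, hm2, hm]⟩
  obtain ⟨c3, e4⟩ := com_pi s h'.subsingleton hcom
  rw [e1] at c1 e
  rw [e2, e3] at c2 e
  obtain ⟨c5, e5⟩ := c1.trans c3
  obtain ⟨c6, e6⟩ := c5.trans h'.com_range.symm
  have hle : LinearMap.range U' ≤ (LinearMap.range U).comap F := by
    rintro _ ⟨m, rfl⟩
    exact ⟨a m, (hFU m).symm⟩
  -- the kernels
  let P : Submodule A M := (LinearMap.ker U'').comap b
  have hPb : rlen P (LinearMap.range a) = Module.length A (LinearMap.ker U'') := by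
    rw [← rlen_map_of_ker_le b hab.linearMap_ker_eq.le, ← rlen_bot, Submodule.map_comap_eq_of_surjective hb]
    congr 1
    rw [← hab.linearMap_ker_eq]
    exact le_bot_iff.1 (Submodule.map_le_iff_le_comap.2 fun x hx => hx)
  have hPU : rlen P (LinearMap.range a) =
      rlen (LinearMap.ker U) (LinearMap.range a) + rlen ((LinearMap.range U).comap F) (LinearMap.range U') := by
    rw [rlen_split_of_le (LinearMap.ker U).subtype U (Submodule.subtype_injective _)
      (LinearMap.exact_subtype_ker_map U) (show LinearMap.range a ≤ P by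
        rintro _ ⟨m, rfl⟩
        show U'' (b (a m)) = 0
        rw [hab.apply_apply_eq_zero, map_zero]), ← rlen_map_injective (LinearMap.ker U).subtype (Submodule.subtype_injective _),
      ← rlen_map_injective F hF]
    congr 1
    · rw [Submodule.map_comap_subtype, Submodule.map_comap_subtype, inf_eq_left.2, rlen_inf_right]
      intro x hx
      show U'' (b x) = 0
      rw [← hGU, show U x = 0 from hx, map_zero]
    · congr 1
      · refine le_antisymm ?_ ?_
        · rintro _ ⟨x, hx, rfl⟩
          obtain ⟨y, hy⟩ := (hFG (U x)).1 ((hGU x).trans hx)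
          exact ⟨y, ⟨x, hy.symm⟩, hy⟩
        · rintro _ ⟨y, ⟨x, hx⟩, rfl⟩
          refine ⟨x, ?_, hx⟩
          show U'' (b x) = 0
          rw [← hGU, hx]
          exact hFG.apply_apply_eq_zero y
      · rw [← LinearMap.range_comp, ← LinearMap.range_comp]
        congr 1
        exact LinearMap.ext fun m => (hFU m).symm
  have hker : Module.length A (LinearMap.ker U) =
      rlen (LinearMap.ker U) (LinearMap.range a) + Module.length A (LinearMap.ker U') := by
    rw [← rlen_bot, rlen_chain bot_le (inf_le_left (b := LinearMap.range a)), rlen_inf_right]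
    congr 1
    rw [rlen_bot]
    refine (LinearEquiv.length_eq ((Submodule.equivMapOfInjective a ha (LinearMap.ker U')).trans
      (LinearEquiv.ofEq _ _ ?_))).symm
    refine le_antisymm ?_ ?_
    · rintro _ ⟨m, hm, rfl⟩
      refine ⟨?_, m, rfl⟩
      show U (a m) = 0
      rw [← hFU, show U' m = 0 from hm, map_zero]
    · rintro x ⟨hx, m, rfl⟩
      refine ⟨m, hF ?_, rfl⟩
      show F (U' m) = F 0
      rw [hFU, map_zero]
      exact hx
  have t1 := h.length_ker_ne_top
  have t2 := h'.length_ker_ne_top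
  have t3 := h''.length_ker_ne_top
  have key : rlen ((LinearMap.range U).comap F) (LinearMap.range U') + Module.length A (LinearMap.ker U) =
      Module.length A (LinearMap.ker U') + Module.length A (LinearMap.ker U'') := by
    rw [hker, ← hPb, hPU]
    ring
  have key' := congrArg (fun n : ℕ∞ => (n.toNat : ℤ)) key
  rw [ENat.toNat_add c6.1 t1, ENat.toNat_add t2 t3, Nat.cast_add, Nat.cast_add] at key'
  rw [idx_of_le hle, idx_symm (LinearMap.range U'), e5, e4] at e6
  simp only [chi, U, U', U''] at *
  omega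

end Groth.Agent.CycLib.ModIdx
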