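import Groth.Agent.CycLib.ModSeriesExact
import Groth.Agent.CycLib.ModChi
import Groth.Agent.CycLib.SheafSpec
import Groth.Agent.CycLib.DivFun
import Groth.Agent.CycLib.FlatDecomp
import Groth.Agent.CycLib.ProdFibre
import Groth.Prelude.Def_ChowK

/-!
The index of the stalk of a coherent module at a point in the stalks at its generizations.
-/

set_option autoImplicit false
set_option linter.style.haveILetI false

universe u

open CategoryTheory AlgebraicGeometry IsLocalRing

namespace Groth.Agent.CycLib.Dev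

open ModIdx

theorem exists_pow_le_annihilator {R : Type u} [CommRing R] [IsLocalRing R] {V : Type u} [AddCommGroup V]
    [Module R V] (h : IsFiniteLength R V) : ∃ n, maximalIdeal R ^ n ≤ Module.annihilator R V := by
  rw [isFiniteLength_iff_isNoetherian_isArtinian] at h
  haveI := h.1
  haveI := h.2
  obtain ⟨n, hn⟩ := IsArtinian.monotone_stabilizes
    (⟨fun n => OrderDual.toDual (maximalIdeal R ^ n • (⊤ : Submodule R V)),
      fun a b hab => Submodule.smul_mono_left (Ideal.pow_le_pow_right hab)⟩ : ℕ →o (Submodule R V)ᵒᵈ)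
  refine ⟨n, fun r hr => Module.mem_annihilator.2 fun v => ?_⟩
  have hbot : maximalIdeal R ^ n • (⊤ : Submodule R V) = ⊥ := by
    refine Submodule.eq_bot_of_le_smul_of_le_jacobson_bot (maximalIdeal R) _ (IsNoetherian.noetherian _) ?_
      (maximalIdeal_le_jacobson _)
    rw [← Submodule.mul_smul, ← pow_succ']
    exact (OrderDual.toDual_inj.1 (hn (n + 1) n.le_succ)).le
  exact (Submodule.mem_bot R).1 (hbot ▸ Submodule.smul_mem_smul hr Submodule.mem_top)

variable {X : Scheme.{u}} (δ : X → ℤ) (k : ℤ) (F : X.Modules)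

/-- The generizations of dimension `k + 1`. -/
abbrev Gen (x : X) : Type u := {ξ : X // δ ξ = k + 1 ∧ ξ ⤳ x}

/-- The index of a stalk in the product of the stalks at its generizations. -/
noncomputable def cIdx (x : X) : ℤ :=
  letI : ∀ i : Gen δ k x, Module (X.presheaf.stalk x) (F.presheaf.stalk i.1) := fun i => stalkModule F i.2.2
  chi fun i : Gen δ k x => spLin F i.2.2

/-- The index of the image of a stalk with respect to a series at a generization. -/
noncomputable def cnf {x ξ : X} (h : ξ ⤳ x) (l : List (F.presheaf.stalk ξ)) : ℤ :=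
  letI := (X.presheaf.stalkSpecializes h).hom.toAlgebra
  letI := stalkModule F h
  haveI : IsScalarTower (X.presheaf.stalk x) (X.presheaf.stalk ξ) (F.presheaf.stalk ξ) :=
    IsScalarTower.of_algebraMap_smul fun _ _ => rfl
  nf (X.presheaf.stalk x) (X.presheaf.stalk ξ) l (LinearMap.range (spLin F h))

/-- A choice of series at all generic points of dimension `k + 1`. -/
def IsSerFam (σ : ∀ ξ : X, List (F.presheaf.stalk ξ)) : Prop :=
  ∀ ξ, δ ξ = k + 1 → IsSer (X.presheaf.stalk ξ) (σ ξ) ∧ lspan (X.presheaf.stalk ξ) (σ ξ) = ⊤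

/-- The coefficient function attached to a choice of series. -/
noncomputable def cval (σ : ∀ ξ : X, List (F.presheaf.stalk ξ)) (x : X) : ℤ :=
  if δ x = k then cIdx δ k F x + ∑ᶠ i : Gen δ k x, cnf F i.2.2 (σ i.1) else 0

variable {δ k F} [IsLocallyNoetherian X] (hd : Cyc.IsDimFun X δ) (hF : Cyc.CohLe δ (k + 1) F)

include hd in
theorem primes_over {x ξ : X} (hx : δ x = k) (hξ : δ ξ = k + 1) (h : ξ ⤳ x) (q : Ideal (X.presheaf.stalk x))
    (hq : q.IsPrime) (hle : (ptPrime x ξ h).asIdeal ≤ q) :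
    q = (ptPrime x ξ h).asIdeal ∨ q = maximalIdeal (X.presheaf.stalk x) := by
  obtain ⟨ζ, hζ, e⟩ := exists_ptPrime x ⟨q, hq⟩
  have hs : ξ ⤳ ζ := (ptPrime_le_iff h hζ).1 (hle.trans_eq (show q = (ptPrime x ζ hζ).asIdeal by rw [e]))
  by_cases hζx : ζ = x
  · subst hζx
    refine Or.inr ?_
    rw [← show (ptPrime ζ ζ hζ).asIdeal = q by rw [e]]
    show RingHom.ker (Cyc.specMap ζ ζ hζ) = _
    rw [ker_specMap_eq_comap, comap_maximalIdeal_of_eq rfl]
  · refine Or.inl ?_
    have h1 := (hd ζ x hζ hζx).1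
    obtain rfl : ξ = ζ := eq_of_specializes hd hs (by omega)
    rw [← show (ptPrime x ξ hζ).asIdeal = q by rw [e]]

include hd hF in
theorem finiteLength_stalk {ξ : X} (hξ : δ ξ = k + 1) :
    IsFiniteLength (X.presheaf.stalk ξ) (F.presheaf.stalk ξ) :=
  haveI := hF.1.1
  Module.length_ne_top_iff.1 (length_stalk_lt_top F hF.1 ξ fun y hy hs =>
    eq_of_specializes hd hs (by rw [hξ]; exact hF.2 y hy)).ne

include hd hF in
theorem hV {ξ : X} (hξ : δ ξ = k + 1) :
    ∃ n, maximalIdeal (X.presheaf.stalk ξ) ^ n ≤ Module.annihilator (X.presheaf.stalk ξ) (F.presheaf.stalk ξ) :=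
  exists_pow_le_annihilator (finiteLength_stalk hd hF hξ)

include hd hF in
theorem exists_serFam : ∃ σ, IsSerFam δ k F σ := by
  classical
  have h : ∀ ξ : X, ∃ l : List (F.presheaf.stalk ξ), δ ξ = k + 1 →
      IsSer (X.presheaf.stalk ξ) l ∧ lspan (X.presheaf.stalk ξ) l = ⊤ := fun ξ => by
    by_cases hξ : δ ξ = k + 1
    · haveI := (isFiniteLength_iff_isNoetherian_isArtinian.1 (finiteLength_stalk hd hF hξ)).1
      obtain ⟨l, hl⟩ := ModIdx.exists_series (hV hd hF hξ) ⊤
      exact ⟨l, fun _ => hl⟩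
    · exact ⟨[], fun h => absurd h hξ⟩
  choose σ hσ using h
  exact ⟨σ, hσ⟩

include hF in
theorem lat_range {x ξ : X} (h : ξ ⤳ x) :
    letI := stalkModule F h
    Lat (X.presheaf.stalk x) (ptPrime x ξ h).asIdeal (LinearMap.range (spLin F h)) := by
  letI := stalkModule F h
  haveI := FDesc.QuasiFlat.finite_stalk_of_isCoh F hF.1 x
  haveI := hF.1.1
  haveI := isLocalizedModule_spLin F h
  refine ⟨Module.Finite.iff_fg.1 inferInstance, fun v => ?_⟩
  obtain ⟨⟨m, s⟩, hms⟩ := IsLocalizedModule.surj (ptPrime x ξ h).asIdeal.primeCompl (spLin F h) v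
  exact ⟨s.1, s.2, m, hms.symm⟩

include hd hF in
/-- The generizations carrying the module. -/
theorem finite_gen (x : X) : {i : Gen δ k x | Nontrivial (F.presheaf.stalk i.1)}.Finite := by
  obtain ⟨W, -, hxW, hfin⟩ := finite_top_dim_support F hd hF.1 hF.2 x
  refine ((hfin.image Subtype.val).preimage Subtype.val_injective.injOn).subset fun i hi => ?_
  exact ⟨⟨i.1, i.2.1, hi⟩, ⟨x, specializes_iff_mem_closure.1 i.2.2, hxW⟩, rfl⟩

include hd hF in
theorem isCover {x : X} (hx : δ x = k) {s : Finset (Gen δ k x)}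
    (hs : ∀ i, i ∉ s → Subsingleton (F.presheaf.stalk i.1)) :
    letI : ∀ i : Gen δ k x, Module (X.presheaf.stalk x) (F.presheaf.stalk i.1) := fun i => stalkModule F i.2.2
    IsCover (fun i : Gen δ k x => (ptPrime x i.1 i.2.2).asIdeal) s (fun i => spLin F i.2.2) := by
  letI : ∀ i : Gen δ k x, Module (X.presheaf.stalk x) (F.presheaf.stalk i.1) := fun i => stalkModule F i.2.2
  haveI := hF.1.1
  refine ⟨hs, fun i j e => Subtype.ext ?_, fun q hq hqm hne m => ?_, fun i m hm => ?_, fun i q hq hqp hqm v => ?_⟩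
  · exact (((ptPrime_le_iff i.2.2 j.2.2).1 e.le).antisymm ((ptPrime_le_iff j.2.2 i.2.2).1 e.ge)).eq
  · obtain ⟨ζ, hζ, e⟩ := exists_ptPrime x ⟨q, hq⟩
    have he : (ptPrime x ζ hζ).asIdeal = q := by rw [e]
    rcases subsingleton_or_nontrivial (F.presheaf.stalk ζ) with hsub | hnt
    · letI := stalkModule F hζ
      haveI := isLocalizedModule_spLin F hζ
      obtain ⟨c, hc⟩ := IsLocalizedModule.exists_of_eq (S := (ptPrime x ζ hζ).asIdeal.primeCompl)
        (f := spLin F hζ) (Subsingleton.elim (spLin F hζ m) (spLin F hζ 0))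
      exact ⟨c.1, he ▸ c.2, by simpa [Submonoid.smul_def] using hc⟩
    · have hζx : ζ ≠ x := by
        rintro rfl
        refine hqm ?_
        rw [← he]
        show RingHom.ker (Cyc.specMap ζ ζ hζ) = _
        rw [ker_specMap_eq_comap, comap_maximalIdeal_of_eq rfl]
      have h1 := (hd ζ x hζ hζx).1
      have h2 := hF.2 ζ hnt
      exact absurd he.symm (hne ⟨ζ, by omega, hζ⟩)
  · haveI := isLocalizedModule_spLin F i.2.2
    obtain ⟨c, hc⟩ := IsLocalizedModule.exists_of_eq (S := (ptPrime x i.1 i.2.2).asIdeal.primeCompl)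
      (f := spLin F i.2.2) (hm.trans (map_zero (spLin F i.2.2)).symm)
    exact ⟨c.1, c.2, by simpa [Submonoid.smul_def] using hc⟩
  · letI := (X.presheaf.stalkSpecializes i.2.2).hom.toAlgebra
    haveI : IsLocalization.AtPrime (X.presheaf.stalk i.1) (ptPrime x i.1 i.2.2).asIdeal :=
      isLocalization_stalkSpecializes i.2.2
    haveI : IsScalarTower (X.presheaf.stalk x) (X.presheaf.stalk i.1) (F.presheaf.stalk i.1) :=
      IsScalarTower.of_algebraMap_smul fun _ _ => rfl
    exact ModIdx.kill (R := X.presheaf.stalk i.1) (primes_over hd hx i.2.1 i.2.2) (hV hd hF i.2.1) hq hqp hqm v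

theorem cnf_of_subsingleton {x ξ : X} (h : ξ ⤳ x) [Subsingleton (F.presheaf.stalk ξ)]
    {l : List (F.presheaf.stalk ξ)} (hl : IsSer (X.presheaf.stalk ξ) l) : cnf F h l = 0 := by
  obtain rfl := eq_nil_of_lspan_eq_bot hl (Subsingleton.elim _ _)
  rfl

theorem finsum_cnf {σ : ∀ ξ : X, List (F.presheaf.stalk ξ)} (hσ : IsSerFam δ k F σ) {x : X}
    {s : Finset (Gen δ k x)} (hs : ∀ i, i ∉ s → Subsingleton (F.presheaf.stalk i.1)) :
    ∑ᶠ i : Gen δ k x, cnf F i.2.2 (σ i.1) = ∑ i ∈ s, cnf F i.2.2 (σ i.1) := by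
  refine finsum_eq_finsetSum_of_support_subset _ fun i hi => ?_
  by_contra h
  haveI := hs i h
  exact hi (cnf_of_subsingleton i.2.2 (hσ i.1 i.2.1).1)

include hd hF in
theorem cval_of_le_k (hFk : ∀ x : X, Nontrivial (F.presheaf.stalk x) → δ x ≤ k)
    {σ : ∀ ξ : X, List (F.presheaf.stalk ξ)} (hσ : IsSerFam δ k F σ) :
    cval δ k F σ = Cyc.sheafFun δ k F := by
  funext x
  rw [cval, Cyc.sheafFun]
  split_ifs with hx
  · have hsub : ∀ i : Gen δ k x, Subsingleton (F.presheaf.stalk i.1) := fun i => by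
      rcases subsingleton_or_nontrivial (F.presheaf.stalk i.1) with h | h
      · exact h
      · have h1 := hFk _ h
        have h2 := i.2.1
        omega
    rw [finsum_cnf hσ (s := ∅) fun i _ => hsub i, Finset.sum_empty, add_zero, cIdx]
    letI : ∀ i : Gen δ k x, Module (X.presheaf.stalk x) (F.presheaf.stalk i.1) := fun i => stalkModule F i.2.2
    exact chi_of_subsingleton _ hsub
  · rfl

end Groth.Agent.CycLib.Dev
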