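import Groth.Agent.CycLib.DevSupp

/-!
The Gysin map of the zero scheme of a section respects rational equivalence.
-/

set_option autoImplicit false
set_option linter.style.haveILetI false
set_option maxHeartbeats 800000

universe u

open CategoryTheory Limits AlgebraicGeometry IsLocalRing

namespace Groth.Agent.CycLib.Dev

open ModIdx Groth.Agent.PullStalk.Sky Groth.Agent.PullStalk.Exact Groth.Agent.PullStalk.Basic

variable {X : Scheme.{u}}

/-- The restriction of a global section. -/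
noncomputable def resS {L : X.Modules} (s : L.presheaf.obj (Opposite.op ⊤)) (U : X.Opens) : Γ(L, U) :=
  L.presheaf.map (homOfLE (le_top : U ≤ ⊤)).op s

/-- Multiplication by a global section. -/
noncomputable def sMap (F L : X.Modules) (s : L.presheaf.obj (Opposite.op ⊤)) : F ⟶ CohB1.tensorMod F L :=
  ⟨PresheafOfModules.homMk
    { app := fun U => AddCommGrpCat.ofHom
        (AddMonoidHom.mk' (fun m : Γ(F, U.unop) => tm F L U.unop m (resS s U.unop))
          fun a b => DefoShLib.tmul_add_left U.unop a b _)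
      naturality := fun {U V} i => by
        ext m
        refine Eq.trans ?_ (SecTwist.map_tmul F L i.unop m (resS s U.unop)).symm
        show tm F L V.unop (F.presheaf.map i m) (resS s V.unop) = _
        congr 1
        show _ = L.presheaf.map i (L.presheaf.map _ s)
        rw [← ConcreteCategory.comp_apply, ← Functor.map_comp]
        rfl }
    fun U r m => DefoShLib.tmul_smul_left U.unop r m _⟩

theorem sMap_app (F L : X.Modules) (s : L.presheaf.obj (Opposite.op ⊤)) (U : X.Opens) (m : Γ(F, U)) :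
    (sMap F L s).app U m = tm F L U m (resS s U) := rfl

theorem stalkLin_sMap (F L : X.Modules) (s : L.presheaf.obj (Opposite.op ⊤)) (x : X) (v : F.presheaf.stalk x) :
    stalkLin (sMap F L s) x v = mu F ((L.presheaf.germ ⊤ x trivial) s) v := by
  obtain ⟨U, hx, m, rfl⟩ := exists_germM_eq F x v
  rw [stalkLin_germ, sMap_app, ← mu_germ F L U hx]
  exact congrArg (fun t => mu F t (germM F U x hx m)) (L.presheaf.germ_res_apply (homOfLE le_top) x hx s)

theorem sMap_nat {F G : X.Modules} (L : X.Modules) (s : L.presheaf.obj (Opposite.op ⊤)) (g : F ⟶ G) :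
    g ≫ sMap G L s = sMap F L s ≫ DefoShLib.T L g := by
  ext U m
  exact (DefoShLib.T_tmul g U m (resS s U)).symm

/-- The points where a section vanishes. -/
def vset (L : X.Modules) (s : L.presheaf.obj (Opposite.op ⊤)) : Set X :=
  {x | (Submodule.Quotient.mk ((L.presheaf.germ ⊤ x trivial) s) : Cyc.secFibre L x) = 0}

variable {L : X.Modules} (hL : PicF.IsInvertible L) (s : L.presheaf.obj (Opposite.op ⊤))

include hL in
theorem isBas_sec {x : X} (hx : x ∉ vset L s) : IsBas ((L.presheaf.germ ⊤ x trivial) s) := by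
  obtain ⟨b, hb⟩ := exists_isBas hL x
  obtain ⟨c, hc⟩ := hb.2 ((L.presheaf.germ ⊤ x trivial) s)
  replace hc : c • b = (L.presheaf.germ ⊤ x trivial) s := hc
  rw [← hc]
  refine isBas_smul hb (by_contra fun hu => hx ?_)
  show Submodule.Quotient.mk _ = (0 : Cyc.secFibre L x)
  rw [← hc, Submodule.Quotient.mk_eq_zero]
  exact Submodule.smul_mem_smul hu Submodule.mem_top

include hL in
theorem bijective_sMap (F : X.Modules) {x : X} (hx : x ∉ vset L s) :
    Function.Bijective (stalkLin (sMap F L s) x) := by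
  rw [show ⇑(stalkLin (sMap F L s) x) = ⇑(mu F ((L.presheaf.germ ⊤ x trivial) s)) from
    funext (stalkLin_sMap F L s x)]
  exact mu_bijective F (isBas_sec hL s hx)

theorem gysinChoice_ne_zero (t : (ξ : X) → Cyc.secFibre L ξ) (ht : ∀ ξ, t ξ ≠ 0) (ξ : X) :
    Cyc.gysinChoice L s t ξ ≠ 0 := by
  simp only [Cyc.gysinChoice]
  split_ifs with h
  · exact h
  · exact ht ξ

variable [IsLocallyNoetherian X] {δ : X → ℤ} {k : ℤ} (hd : Cyc.IsDimFun X δ)

include hL in
theorem kcIn_sMap {F : X.Modules} (hF : Cyc.CohLe δ (k + 1) F) : KCIn δ (vset L s) k (sMap F L s) := by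
  have hF' := cohLe_tensor hL hF
  refine ⟨⟨cohLe_of_mono (kernel.ι _) (CohDev.isCoh_kernel _ hF.1 hF'.1.1).1 hF, fun x hx => ?_⟩,
    cohLe_of_epi (cokernel.π _) hF' (CohDev.isCoh_cokernel _ hF.1.1 hF'.1).1, fun x hx => ?_⟩
  · by_contra h
    exact not_nontrivial_iff_subsingleton.2 (subsingleton_stalk_kernel _ x (bijective_sMap hL s F h).1) hx
  · by_contra h
    exact not_nontrivial_iff_subsingleton.2 (subsingleton_stalk_cokernel _ x (bijective_sMap hL s F h).2) hx

include hd hL in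
theorem kcIn_sMap_top {F : X.Modules} (hF : Cyc.CohLe δ (k + 1 + 1) F)
    (htop : ∀ y, δ y = k + 1 + 1 → y ∈ vset L s → Subsingleton (F.presheaf.stalk y)) :
    KCIn δ (vset L s) k (sMap F L s) := by
  have hF' := cohLe_tensor hL hF
  have hg : ∀ y, δ y = k + 1 + 1 → Function.Bijective (stalkLin (sMap F L s) y) := fun y hy => by
    by_cases h : y ∈ vset L s
    · haveI := htop y hy h
      obtain ⟨t, ht⟩ := exists_isBas hL y
      haveI := (mu_bijective F ht).2.subsingleton
      exact ⟨fun a b _ => Subsingleton.elim _ _, fun b => ⟨0, Subsingleton.elim _ _⟩⟩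
    · exact bijective_sMap hL s F h
  obtain ⟨h1, h2⟩ := kcIn_sMap hL s (δ := δ) hF
  obtain ⟨h3, h4⟩ := cohLe_ker_coker _ hF hF' hg
  exact ⟨⟨h3, h1.2⟩, h4, h2.2⟩

include hd hL in
/-- The invariant of multiplication by the section is the Gysin image of the cycle of the module. -/
theorem theta_sMap {F : X.Modules} (hF : Cyc.CohLe δ (k + 1) F) (t : (ξ : X) → Cyc.secFibre L ξ)
    (ht : ∀ ξ, t ξ ≠ 0) :
    theta hd (vset L s) k (sMap F L s) =
      QuotientAddGroup.mk (Cyc.c1CapFun δ L (Cyc.sheafFun δ (k + 1) F) (Cyc.gysinChoice L s t)) := by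
  classical
  have hne := gysinChoice_ne_zero s t ht
  choose ρ0 hρ0 hρ0e using fun ξ => exists_isBas_lift hL (Cyc.gysinChoice L s t ξ) (hne ξ)
  let ρ : (ξ : X) → L.presheaf.stalk ξ := fun ξ =>
    if ξ ∈ vset L s then ρ0 ξ else (L.presheaf.germ ⊤ ξ trivial) s
  have hρ : ∀ ξ, IsBas (ρ ξ) := fun ξ => by
    simp only [ρ]; split_ifs with h
    exacts [hρ0 ξ, isBas_sec hL s h]
  have hρe : ∀ ξ, Submodule.Quotient.mk (ρ ξ) = Cyc.gysinChoice L s t ξ := fun ξ => by
    simp only [ρ]; split_ifs with h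
    · exact hρ0e ξ
    · simp only [Cyc.gysinChoice]
      exact (if_pos h).symm
  let g := sMap F L s
  obtain ⟨hKP, hCP⟩ := kcIn_sMap hL s hF
  have hG := cohLe_tensor hL hF
  let I := Abelian.image g
  let e : F ⟶ I := Abelian.factorThruImage g
  let j : I ⟶ CohB1.tensorMod F L := Abelian.image.ι g
  have hI : Cyc.CohLe δ (k + 1) I := cohLe_of_mono j (CohDev.isCoh_image g hF.1 hG.1.1).1 hG
  let S1 := ShortComplex.mk (kernel.ι g) e (by
    rw [← cancel_mono j, Category.assoc, Abelian.image.fac, kernel.condition, zero_comp])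
  have hS1 : S1.ShortExact :=
    { exact := by
        refine S1.exact_of_f_is_kernel (KernelFork.IsLimit.ofι _ _ (fun a ha => kernel.lift g a ?_)
          (fun a ha => kernel.lift_ι _ _ _) (fun a ha m hm => (cancel_mono (kernel.ι g)).1 (hm.trans (kernel.lift_ι _ _ _).symm)))
        rw [← Abelian.image.fac g, ← Category.assoc]
        exact (congrArg (· ≫ j) ha).trans zero_comp
      mono_f := inferInstanceAs (Mono (kernel.ι g))
      epi_g := inferInstanceAs (Epi e) }
  let S2 := ShortComplex.mk j (cokernel.π g) (kernel.condition _)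
  have hS2 : S2.ShortExact :=
    { exact := S2.exact_of_f_is_kernel (kernelIsKernel _)
      mono_f := inferInstanceAs (Mono j)
      epi_g := inferInstanceAs (Epi (cokernel.π g)) }
  obtain ⟨σK, hσK, hK0⟩ := exists_serFam_nil hd hKP.1
  obtain ⟨σC, hσC, hC0⟩ := exists_serFam_nil hd hCP.1
  obtain ⟨σI, hσI⟩ := exists_serFam hd hI
  obtain ⟨σF, hσF, eF, aF⟩ := exists_serFam_add' hd hS1 hKP.1 hF hI hσK hσI
  obtain ⟨σG, hσG, eG, aG⟩ := exists_serFam_add' hd hS2 hI hG hCP.1 hσI hσC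
  obtain ⟨hτ, eτ⟩ := cval_tensor hL hd hF hσF (Cyc.gysinChoice L s t) ρ hρ hρe
  have key : cval δ k (CohB1.tensorMod F L) σG -
      cval δ k (CohB1.tensorMod F L) (fun ξ => (σF ξ).map (mu F (ρ ξ))) ∈ prinOn hd (vset L s) k := by
    refine cval_sub_mem_on hd hG hσG hτ fun ξ _ _ hξ => ?_
    have hK : σK ξ = [] := hK0 ξ (subsingleton_stalk_kernel _ ξ (bijective_sMap hL s F hξ).1)
    have hC : σC ξ = [] := hC0 ξ (subsingleton_stalk_cokernel _ ξ (bijective_sMap hL s F hξ).2)
    show σG ξ = (σF ξ).map (mu F (ρ ξ))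
    rw [(aG ξ).2 hC, ← (aF ξ).1 hK, List.map_map]
    refine List.map_congr_left fun v _ => ?_
    show stalkLin j ξ (stalkLin e ξ v) = mu F (ρ ξ) v
    rw [← CohDev.stalkLin_comp_apply, Abelian.image.fac, stalkLin_sMap]
    simp only [ρ, if_neg hξ]
  rw [theta, psi_eq hd hCP.1 hCP.2 hσC, psi_eq hd hKP.1 hKP.2 hσK, ← QuotientAddGroup.mk_sub]
  refine QuotientAddGroup.eq_iff_sub_mem.2 ?_
  change cval δ k (CohB1.tensorMod F L) σG = cval δ k I σI + cval δ k (cokernel g) σC at eG
  change cval δ k F σF = cval δ k (kernel g) σK + cval δ k I σI at eF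
  convert key using 1
  rw [eτ, eG, eF]
  abel

include hd hL in
/-- Additivity on a short exact sequence. -/
theorem theta_sMap_add {S : ShortComplex X.Modules} (hS : S.ShortExact) (h₁ : KCIn δ (vset L s) k (sMap S.X₁ L s))
    (h₂ : KCIn δ (vset L s) k (sMap S.X₂ L s)) (h₃ : KCIn δ (vset L s) k (sMap S.X₃ L s)) :
    theta hd (vset L s) k (sMap S.X₂ L s) =
      theta hd (vset L s) k (sMap S.X₁ L s) + theta hd (vset L s) k (sMap S.X₃ L s) := by
  let S' := S.map ((DCoh.tensorBi (X := X)).flip.obj L)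
  let φ : S ⟶ S' :=
    { τ₁ := sMap S.X₁ L s
      τ₂ := sMap S.X₂ L s
      τ₃ := sMap S.X₃ L s
      comm₁₂ := by
        show sMap S.X₁ L s ≫ ((DCoh.tensorBi (X := X)).flip.obj L).map S.f = S.f ≫ sMap S.X₂ L s
        rw [flip_map, sMap_nat]
        rfl
      comm₂₃ := by
        show sMap S.X₂ L s ≫ ((DCoh.tensorBi (X := X)).flip.obj L).map S.g = S.g ≫ sMap S.X₃ L s
        rw [flip_map, sMap_nat]
        rfl }
  exact theta_add hd hS (shortExact_T hS hL) φ h₁ h₂ h₃

include hd hL in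
/-- Along a map bijective in top dimension. -/
theorem theta_sMap_map {A B : X.Modules} (hA : Cyc.CohLe δ (k + 1 + 1) A) (hB : Cyc.CohLe δ (k + 1 + 1) B)
    (hA0 : ∀ y, δ y = k + 1 + 1 → y ∈ vset L s → Subsingleton (A.presheaf.stalk y))
    (hB0 : ∀ y, δ y = k + 1 + 1 → y ∈ vset L s → Subsingleton (B.presheaf.stalk y))
    {p : A ⟶ B} (hp : ∀ y, δ y = k + 1 + 1 → Function.Bijective (stalkLin p y)) :
    theta hd (vset L s) k (sMap B L s) - theta hd (vset L s) k (sMap A L s) =
      theta hd (vset L s) k (sMap (cokernel p) L s) - theta hd (vset L s) k (sMap (kernel p) L s) := by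
  obtain ⟨hK, hC⟩ := cohLe_ker_coker p hA hB hp
  let I := Abelian.image p
  let e : A ⟶ I := Abelian.factorThruImage p
  let j : I ⟶ B := Abelian.image.ι p
  have hI : Cyc.CohLe δ (k + 1 + 1) I := cohLe_of_mono j (CohDev.isCoh_image p hA.1 hB.1.1).1 hB
  have hI0 : ∀ y, δ y = k + 1 + 1 → y ∈ vset L s → Subsingleton (I.presheaf.stalk y) := fun y hy h =>
    haveI := hB0 y hy h
    (CohDev.stalk_injective j y).subsingleton
  let S1 := ShortComplex.mk (kernel.ι p) e (by
    rw [← cancel_mono j, Category.assoc, Abelian.image.fac, kernel.condition, zero_comp])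
  have hS1 : S1.ShortExact :=
    { exact := by
        refine S1.exact_of_f_is_kernel (KernelFork.IsLimit.ofι _ _ (fun a ha => kernel.lift p a ?_)
          (fun a ha => kernel.lift_ι _ _ _) (fun a ha m hm => (cancel_mono (kernel.ι p)).1 (hm.trans (kernel.lift_ι _ _ _).symm)))
        rw [← Abelian.image.fac p, ← Category.assoc]
        exact (congrArg (· ≫ j) ha).trans zero_comp
      mono_f := inferInstanceAs (Mono (kernel.ι p))
      epi_g := inferInstanceAs (Epi e) }
  let S2 := ShortComplex.mk j (cokernel.π p) (kernel.condition _)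
  have hS2 : S2.ShortExact :=
    { exact := S2.exact_of_f_is_kernel (kernelIsKernel _)
      mono_f := inferInstanceAs (Mono j)
      epi_g := inferInstanceAs (Epi (cokernel.π p)) }
  have e1 := theta_sMap_add hL s hd hS1 (kcIn_sMap hL s hK) (kcIn_sMap_top hL s hd hA hA0) (kcIn_sMap_top hL s hd hI hI0)
  have e2 := theta_sMap_add hL s hd hS2 (kcIn_sMap_top hL s hd hI hI0) (kcIn_sMap_top hL s hd hB hB0) (kcIn_sMap hL s hC)
  change theta hd (vset L s) k (sMap A L s) = _ + theta hd (vset L s) k (sMap I L s) at e1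
  change theta hd (vset L s) k (sMap B L s) = theta hd (vset L s) k (sMap I L s) + _ at e2
  rw [e1, e2]
  abel

include hd hL in
/-- The Gysin image of the divisors of functions outside the zero set. -/
theorem gysin_mem_outside {ι : Type u} (ξ : ι → X) (f : (i : ι) → X.residueField (ξ i))
    (hξ : ∀ i, δ (ξ i) = k + 1 + 1) (hf : ∀ i, f i ≠ 0)
    (hlf : ∀ x : X, ∃ U : Set X, IsOpen U ∧ x ∈ U ∧ {i | (closure {ξ i} ∩ U).Nonempty}.Finite)
    (hout : ∀ i, ξ i ∉ vset L s) (t : (ξ : X) → Cyc.secFibre L ξ) (ht : ∀ ξ, t ξ ≠ 0) :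
    Cyc.c1CapFun δ L (fun x => ∑ᶠ i, Cyc.divFun δ (ξ i) (f i) x) (Cyc.gysinChoice L s t) ∈
      prinOn hd (vset L s) k := by
  obtain ⟨A, B, p, q, hA, hB, hp, hq, hl, h0⟩ := exists_maps_of_family hd ξ f hξ hf hlf
  have hout' : ∀ y, δ y = k + 1 + 1 → y ∈ vset L s → y ∉ Set.range ξ := fun y _ hy ⟨i, hi⟩ => hout i (hi ▸ hy)
  have e1 := theta_sMap_map hL s hd hA hB (fun y hy h => (h0 y hy (hout' y hy h)).1)
    (fun y hy h => (h0 y hy (hout' y hy h)).2) hp
  have e2 := theta_sMap_map hL s hd hA hB (fun y hy h => (h0 y hy (hout' y hy h)).1)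
    (fun y hy h => (h0 y hy (hout' y hy h)).2) hq
  obtain ⟨hKp, hCp⟩ := cohLe_ker_coker p hA hB hp
  obtain ⟨hKq, hCq⟩ := cohLe_ker_coker q hA hB hq
  have hfun : (fun x => ∑ᶠ i, Cyc.divFun δ (ξ i) (f i) x) =
      (Cyc.sheafFun δ (k + 1) (cokernel q) - Cyc.sheafFun δ (k + 1) (kernel q)) -
      (Cyc.sheafFun δ (k + 1) (cokernel p) - Cyc.sheafFun δ (k + 1) (kernel p)) := by
    funext y
    by_cases hy : δ y = k + 1
    · obtain ⟨hk, hl⟩ := hl y hy
      simp only [Pi.sub_apply, Cyc.sheafFun, if_pos hy, length_stalk_kernel, length_stalk_cokernel,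
        (LinearEquiv.ofEq _ _ hk).length_eq]
      omega
    · simp only [Pi.sub_apply, Cyc.sheafFun, if_neg hy, sub_self]
      exact finsum_eq_zero_of_forall_eq_zero fun i => dif_neg fun h => hy (by have := hξ i; have := h.2; omega)
  rw [e1, theta_sMap hL s hd hCp t ht, theta_sMap hL s hd hKp t ht, theta_sMap hL s hd hCq t ht,
    theta_sMap hL s hd hKq t ht] at e2
  rw [hfun, c1_sub ((isCyc_sheafFun hd hCq).sub (isCyc_sheafFun hd hKq)) ((isCyc_sheafFun hd hCp).sub (isCyc_sheafFun hd hKp)),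
    c1_sub (isCyc_sheafFun hd hCq) (isCyc_sheafFun hd hKq), c1_sub (isCyc_sheafFun hd hCp) (isCyc_sheafFun hd hKp)]
  simp only [← QuotientAddGroup.mk_sub] at e2
  exact QuotientAddGroup.eq_iff_sub_mem.1 e2.symm

section Restrict

variable {D : Scheme.{u}} (i : D ⟶ X) [IsClosedImmersion i]

theorem specializes_range {ξ x : X} (h : ξ ⤳ x) (hξ : ξ ∈ Set.range i) : x ∈ Set.range i :=
  h.mem_closed i.isClosedEmbedding.isClosed_range hξ

include hd in
/-- Restriction of principal divisors to a closed subscheme. -/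
theorem comp_mem_prin {a : X → ℤ} (ha : a ∈ prinOn hd (Set.range i) k) :
    (fun d => a (i d)) ∈ @prin D (isLocallyNoetherian_closed i) (fun d => δ (i d)) (isDimFun_comp_closed i hd) k := by
  classical
  haveI := isLocallyNoetherian_closed i
  obtain ⟨ι, ξ, f, h1, h2, h3, h4, h5⟩ := ha
  let J : Type u := {j : ι // ξ j ∈ Set.range i}
  have hJ : ∀ j : J, ∃ η : D, i η = ξ j.1 := fun j => j.2
  choose η hη using hJ
  have hg : ∀ j : J, ∃ g : X.residueField (i (η j)), g ≠ 0 ∧
      ∀ x, Cyc.divFun δ (i (η j)) g x = Cyc.divFun δ (ξ j.1) (f j.1) x := fun j =>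
    (show ∀ (y : X) (_ : i (η j) = y) (fy : X.residueField y), fy ≠ 0 → ∃ g : X.residueField (i (η j)), g ≠ 0 ∧
        ∀ x, Cyc.divFun δ (i (η j)) g x = Cyc.divFun δ y fy x from
      fun y e fy hfy => by subst e; exact ⟨fy, hfy, fun _ => rfl⟩) _ (hη j) _ (h2 j.1)
  choose g hg0 hgf using hg
  refine ⟨J, η, fun j => (i.residueFieldMap (η j)).hom (g j), fun j => ?_,
    fun j h => hg0 j ((i.residueFieldMap (η j)).hom.injective (h.trans (map_zero _).symm)), fun d => ?_, fun d => ?_⟩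
  · show δ (i (η j)) = k + 1
    rw [hη, h1]
  · obtain ⟨U, hU, hd', hfin⟩ := h3 (i d)
    refine ⟨i ⁻¹' U, hU.preimage i.continuous, hd', (hfin.preimage Subtype.val_injective.injOn).subset ?_⟩
    rintro j ⟨z, hz, hzU⟩
    exact ⟨i z, by
      rw [← hη j]
      exact specializes_iff_mem_closure.1 ((specializes_iff_mem_closure.2 hz).map i.continuous), hzU⟩
  · show a (i d) = _
    rw [h4 (i d)]
    have hsum : (∑ᶠ j : ι, Cyc.divFun δ (ξ j) (f j) (i d)) = ∑ᶠ j : J, Cyc.divFun δ (ξ j.1) (f j.1) (i d) := by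
      rw [finsum_subtype_eq_finsum_cond (f := fun j => Cyc.divFun δ (ξ j) (f j) (i d)) fun j => ξ j ∈ Set.range i]
      refine finsum_congr fun j => ?_
      by_cases hj : ξ j ∈ Set.range i
      · rw [finsum_eq_if, if_pos hj]
      · rw [finsum_eq_if, if_neg hj, h5 j hj, Pi.zero_apply]
    rw [hsum]
    refine finsum_congr fun j => ?_
    rw [← hgf j, divFun_closed i hd (η j) (hg0 j) d]

include hd in
theorem exists_sec_closed (hL : PicF.IsInvertible L) (hL' : PicF.IsInvertible ((Scheme.Modules.pullback i).obj L))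
    (w : (ξ : X) → Cyc.secFibre L ξ) (hw : ∀ ξ, w ξ ≠ 0) :
    ∃ w' : (d : D) → Cyc.secFibre ((Scheme.Modules.pullback i).obj L) d, (∀ d, w' d ≠ 0) ∧
      ∀ η y, Cyc.secDivFun δ L (i η) (w (i η)) (i y) =
        Cyc.secDivFun (fun d => δ (i d)) ((Scheme.Modules.pullback i).obj L) η (w' η) y := by
  choose σ hσ hσe using fun d : D => exists_isBas_lift hL (w (i d)) (hw (i d))
  refine ⟨fun d => Submodule.Quotient.mk (unitStalkHom i L d (σ d)),
    fun d => mk_ne_zero_of_isBas' (isBas_unit i hL hL' d (hσ d)), fun η y => ?_⟩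
  rw [← hσe η]
  exact secDiv_closed i hd hL hL' η y (hσ η)
where
  mk_ne_zero_of_isBas' {Y : Scheme.{u}} {M : Y.Modules} {ξ : Y} {σ : M.presheaf.stalk ξ} (hσ : IsBas σ) :
      (Submodule.Quotient.mk σ : Cyc.secFibre M ξ) ≠ 0 := by
    intro h
    rw [Submodule.Quotient.mk_eq_zero] at h
    have key : ∀ n ∈ maximalIdeal (Y.presheaf.stalk ξ) • (⊤ : Submodule (Y.presheaf.stalk ξ) (M.presheaf.stalk ξ)),
        ∃ y ∈ maximalIdeal (Y.presheaf.stalk ξ), y • σ = n := fun n0 hn0 => by
      refine Submodule.smul_induction_on hn0 (fun r hr n _ => ?_) ?_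
      · obtain ⟨c, rfl⟩ := hσ.2 n
        exact ⟨r * c, Ideal.mul_mem_right _ _ hr, mul_smul r c σ⟩
      · rintro a b ⟨ya, ha, rfl⟩ ⟨yb, hb, rfl⟩
        exact ⟨ya + yb, add_mem ha hb, add_smul ya yb σ⟩
    obtain ⟨y, hy⟩ := key σ h
    exact (Ideal.ne_top_iff_one _).1 (IsLocalRing.maximalIdeal.isMaximal _).ne_top
      ((hσ.1 (show y • σ = (1 : Y.presheaf.stalk ξ) • σ by rw [hy.2, one_smul])) ▸ hy.1)

/-- `c₁` of a function supported on a closed subscheme. -/
theorem c1_comp_closed {a : X → ℤ} (ha : ∀ x, a x ≠ 0 → x ∈ Set.range i) (w : (ξ : X) → Cyc.secFibre L ξ)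
    (w' : (d : D) → Cyc.secFibre ((Scheme.Modules.pullback i).obj L) d)
    (hww : ∀ η y, Cyc.secDivFun δ L (i η) (w (i η)) (i y) =
        Cyc.secDivFun (fun d => δ (i d)) ((Scheme.Modules.pullback i).obj L) η (w' η) y) :
    (fun d => Cyc.c1CapFun δ L a w (i d)) =
      Cyc.c1CapFun (fun d => δ (i d)) ((Scheme.Modules.pullback i).obj L) (fun d => a (i d)) w' := by
  funext d
  rw [Cyc.c1CapFun, Cyc.c1CapFun]
  rw [show (∑ᶠ ξ : X, a ξ * Cyc.secDivFun δ L ξ (w ξ) (i d)) =
    ∑ᶠ ξ ∈ Set.range i, a ξ * Cyc.secDivFun δ L ξ (w ξ) (i d) from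
      (finsum_mem_univ _).symm.trans (finsum_mem_inter_support_eq' _ _ _ fun ξ hξ =>
        iff_of_true trivial (ha ξ (mul_ne_zero_iff.1 hξ).1)),
    finsum_mem_range (f := fun ξ : X => a ξ * Cyc.secDivFun δ L ξ (w ξ) (i d)) i.isClosedEmbedding.injective]
  exact finsum_congr fun η => by rw [hww]

theorem IsCyc.comp_closed {a : X → ℤ} {m : ℤ} (ha : IsCyc δ m a) :
    IsCyc (fun d => δ (i d)) m (fun d => a (i d)) := by
  refine ⟨fun U hU => ?_, fun d hd' => ha.zero (i d) hd'⟩
  obtain ⟨α, -, rfl⟩ := ha.exists_cycle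
  exact LocallyFiniteSupport.finite_inter_support_of_isCompact
    (f := fun d => α (i d)) (fun d => by
      obtain ⟨W, hW, hfin⟩ := α.supportLocallyFiniteWithinDomain' (i d) trivial
      exact ⟨i ⁻¹' W, i.continuous.continuousAt.preimage_mem_nhds hW,
        (hfin.preimage i.isClosedEmbedding.injective.injOn).subset fun e he => ⟨he.1, he.2⟩⟩) hU.isCompact

include hd in
theorem mem_range_of_divFun {ξ x : X} {f : X.residueField ξ} (h : Cyc.divFun δ ξ f x ≠ 0) (hξ : ξ ∈ Set.range i) :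
    x ∈ Set.range i :=
  specializes_range i (by_contra fun hn => h (dif_neg fun h' => hn h'.1)) hξ

include hd hL in
/-- The Gysin map respects rational equivalence. -/
theorem gysin_mem (hrange : Set.range i = vset L s)
    (hL' : PicF.IsInvertible ((Scheme.Modules.pullback i).obj L)) {a : X → ℤ} (h : a ∈ prin hd (k + 1))
    (t : (ξ : X) → Cyc.secFibre L ξ) (ht : ∀ ξ, t ξ ≠ 0) :
    (fun d => Cyc.c1CapFun δ L a (Cyc.gysinChoice L s t) (i d)) ∈
      @prin D (isLocallyNoetherian_closed i) (fun d => δ (i d)) (isDimFun_comp_closed i hd) k := by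
  classical
  haveI := isLocallyNoetherian_closed i
  obtain ⟨ι, ξ, f, h1, h2, h3, h4⟩ := h
  let J1 : Type u := {j : ι // ξ j ∈ Set.range i}
  let J2 : Type u := {j : ι // ξ j ∉ Set.range i}
  have hlf : ∀ (p : ι → Prop) (x : X), ∃ U : Set X, IsOpen U ∧ x ∈ U ∧
      {j : Subtype p | (closure {ξ j.1} ∩ U).Nonempty}.Finite := fun p x => by
    obtain ⟨U, hU, hx, hfin⟩ := h3 x
    exact ⟨U, hU, hx, Set.Finite.preimage (f := fun j : Subtype p => j.1) Subtype.val_injective.injOn hfin⟩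
  let a1 : X → ℤ := fun x => ∑ᶠ j : J1, Cyc.divFun δ (ξ j.1) (f j.1) x
  let a2 : X → ℤ := fun x => ∑ᶠ j : J2, Cyc.divFun δ (ξ j.1) (f j.1) x
  have hcyc : ∀ (p : ι → Prop), IsCyc δ (k + 1) (fun x => ∑ᶠ j : Subtype p, Cyc.divFun δ (ξ j.1) (f j.1) x) := fun p => by
    obtain ⟨α, hα⟩ := exists_cycle_finsum_divFun hd (fun j : Subtype p => ξ j.1) (fun j => f j.1) (fun j => h2 j.1) (hlf p)
    rw [show (fun x => ∑ᶠ j : Subtype p, Cyc.divFun δ (ξ j.1) (f j.1) x) = ⇑α from funext fun x => (hα x).symm]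
    refine IsCyc.of_cycle α fun x hx => ?_
    rw [hα]
    exact finsum_eq_zero_of_forall_eq_zero fun j => dif_neg fun h => hx (by have := h1 j.1; have := h.2; omega)
  have hsplit : a = a1 + a2 := by
    funext x
    rw [h4, Pi.add_apply]
    show _ = (∑ᶠ j : {j : ι // ξ j ∈ Set.range i}, Cyc.divFun δ (ξ j.1) (f j.1) x) +
      ∑ᶠ j : {j : ι // ξ j ∉ Set.range i}, Cyc.divFun δ (ξ j.1) (f j.1) x
    rw [finsum_subtype_eq_finsum_cond (f := fun j => Cyc.divFun δ (ξ j) (f j) x) fun j => ξ j ∈ Set.range i,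
      finsum_subtype_eq_finsum_cond (f := fun j => Cyc.divFun δ (ξ j) (f j) x) fun j => ξ j ∉ Set.range i]
    have hfin := finite_divFun_index (δ := δ) (f := f) h3 x
    rw [← finsum_mem_univ]
    refine (finsum_mem_congr (Set.ext fun j => iff_of_true trivial ?_) fun _ _ => rfl).trans
      (finsum_mem_union' (s := {j | ξ j ∈ Set.range i}) (t := {j | ξ j ∉ Set.range i}) (Set.disjoint_left.2 fun j a b => b a)
        (hfin.inter_of_right _) (hfin.inter_of_right _))
    exact em (ξ j ∈ Set.range i)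
  have hg := gysinChoice_ne_zero s t ht
  have c2 : IsCyc δ (k + 1) a2 := hcyc fun j => ξ j ∉ Set.range i
  have c1' : IsCyc δ (k + 1) a1 := hcyc fun j => ξ j ∈ Set.range i
  have m2 : Cyc.c1CapFun δ L a2 (Cyc.gysinChoice L s t) ∈ prinOn hd (vset L s) k :=
    gysin_mem_outside hL s hd (fun j : J2 => ξ j.1) (fun j => f j.1) (fun j => h1 j.1) (fun j => h2 j.1)
      (hlf _) (fun j => hrange ▸ j.2) t ht
  have ha1 : a1 ∈ prinOn hd (Set.range i) (k + 1) :=
    ⟨J1, fun j => ξ j.1, fun j => f j.1, fun j => h1 j.1, fun j => h2 j.1, hlf _, fun x => rfl,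
      fun j hj => absurd j.2 hj⟩
  have hsupp : ∀ x, a1 x ≠ 0 → x ∈ Set.range i := fun x hx => by
    obtain ⟨j, hj⟩ : ∃ j : J1, Cyc.divFun δ (ξ j.1) (f j.1) x ≠ 0 := by
      by_contra hh
      push Not at hh
      exact hx (finsum_eq_zero_of_forall_eq_zero hh)
    exact mem_range_of_divFun hd i hj j.2
  obtain ⟨w', hw', hww⟩ := exists_sec_closed hd i hL hL' (Cyc.gysinChoice L s t) hg
  have m1 : (fun d => Cyc.c1CapFun δ L a1 (Cyc.gysinChoice L s t) (i d)) ∈
      prin (isDimFun_comp_closed i hd) k := by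
    rw [c1_comp_closed i hsupp _ w' hww]
    exact c1_mem_of_ratEquivZero (isDimFun_comp_closed i hd) hL' (IsCyc.comp_closed i c1') (comp_mem_prin hd i ha1) w' hw'
  have e : (fun d => Cyc.c1CapFun δ L a (Cyc.gysinChoice L s t) (i d)) =
      (fun d => Cyc.c1CapFun δ L a1 (Cyc.gysinChoice L s t) (i d)) +
        fun d => Cyc.c1CapFun δ L a2 (Cyc.gysinChoice L s t) (i d) := by
    have := c1_sub (hcyc fun _ => True) c2 (Cyc.gysinChoice L s t)
    funext d
    rw [hsplit]
    simp only [Pi.add_apply, Cyc.c1CapFun, add_mul]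
    exact finsum_add_distrib (finite_c1_term c1' _ _) (finite_c1_term c2 _ _)
  rw [e]
  exact add_mem m1 (comp_mem_prin hd i (hrange ▸ m2))

end Restrict

end Groth.Agent.CycLib.Dev
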