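import Groth.Agent.CycLib.DevGysinSheaf
import Groth.Agent.ProjTwist.Tensor

/-!
The Gysin map commutes with `c₁`.
-/

set_option autoImplicit false
set_option linter.style.haveILetI false
set_option maxHeartbeats 800000

universe u

open CategoryTheory Limits AlgebraicGeometry IsLocalRing

namespace Groth.Agent.CycLib.Dev

open ModIdx Groth.Agent.PullStalk.Sky Groth.Agent.PullStalk.Exact

variable {X : Scheme.{u}}

theorem hom_ext_stalks {M N : X.Modules} (f g : M ⟶ N) (h : ∀ x t, stalkLin f x t = stalkLin g x t) : f = g := by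
  ext U m
  refine TopCat.Presheaf.section_ext ⟨_, N.isSheaf⟩ U _ _ fun x hx => ?_
  exact (stalkLin_germ f U x hx m).symm.trans ((h x _).trans (stalkLin_germ g U x hx m))

variable [IsLocallyNoetherian X] {δ : X → ℤ} {k : ℤ} (hd : Cyc.IsDimFun X δ)
  {L : X.Modules} (hL : PicF.IsInvertible L) (s : L.presheaf.obj (Opposite.op ⊤))
  {N : X.Modules} (hN : PicF.IsInvertible N)

include hd hN in
/-- The invariant of the twist of a supported module. -/
theorem psi_tensor {P : Set X} {M : X.Modules} (hM : InP δ P k M) (v : (ξ : X) → Cyc.secFibre N ξ) (hv : ∀ ξ, v ξ ≠ 0) :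
    InP δ P k (CohB1.tensorMod M N) ∧ psi hd P k (CohB1.tensorMod M N) =
      psi hd P k M + QuotientAddGroup.mk (Cyc.c1CapFun δ N (Cyc.sheafFun δ (k + 1) M) v) := by
  have hMN := cohLe_tensor hN hM.1
  have hsupp : SuppIn P (CohB1.tensorMod M N) := fun x hx => hM.2 x (by
    obtain ⟨t, ht⟩ := exists_isBas hN x
    exact (LinearEquiv.ofBijective _ (mu_bijective M ht)).toEquiv.nontrivial)
  choose ν hν hνe using fun ξ => exists_isBas_lift hN (v ξ) (hv ξ)
  obtain ⟨σ, hσ⟩ := exists_serFam hd hM.1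
  obtain ⟨hτ, e⟩ := cval_tensor hN hd hM.1 hσ v ν hν hνe
  refine ⟨⟨hMN, hsupp⟩, ?_⟩
  rw [psi_eq hd hMN hsupp hτ, psi_eq hd hM.1 hM.2 hσ, e, QuotientAddGroup.mk_add]

include hd hL hN in
/-- The invariant of multiplication by the section on a twisted module. -/
theorem theta_sMap_tensor {A : X.Modules} (hA : Cyc.CohLe δ (k + 1 + 1) A)
    (hA0 : ∀ y, δ y = k + 1 + 1 → y ∈ vset L s → Subsingleton (A.presheaf.stalk y))
    (v : (ξ : X) → Cyc.secFibre N ξ) (hv : ∀ ξ, v ξ ≠ 0) :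
    theta hd (vset L s) k (sMap (CohB1.tensorMod A N) L s) - theta hd (vset L s) k (sMap A L s) =
      QuotientAddGroup.mk (Cyc.c1CapFun δ N (Cyc.sheafFun δ (k + 1) (cokernel (sMap A L s)) -
        Cyc.sheafFun δ (k + 1) (kernel (sMap A L s))) v) := by
  obtain ⟨hK, hC⟩ := kcIn_sMap_top hL s hd hA hA0
  let T := (DCoh.tensorBi (X := X)).flip.obj N
  haveI : T.Additive := ⟨fun {A B} {f g} => by rw [flip_map, flip_map, flip_map, DefoShLib.T_add]; rfl⟩
  obtain ⟨hTl, hTc⟩ : PreservesFiniteLimits T ∧ PreservesFiniteColimits T :=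
    ((Functor.exact_tfae T).out 0 3).1 fun S hS => shortExact_T hS hN
  have hAL := cohLe_tensor hL hA
  obtain ⟨f, hf⟩ := exists_twist_swap hA.1 hL hN (cohLe_tensor hN hAL).1 (cohLe_tensor hL (cohLe_tensor hN hA)).1
  let f' : T.obj (CohB1.tensorMod A L) ≅ CohB1.tensorMod (CohB1.tensorMod A N) L := f
  have hfac : T.map (sMap A L s) ≫ f'.hom = sMap (CohB1.tensorMod A N) L s := by
    rw [show T.map (sMap A L s) = DefoShLib.T N (sMap A L s) from flip_map _]
    show DefoShLib.T N (sMap A L s) ≫ f.hom = sMap (CohB1.tensorMod A N) L s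
    refine hom_ext_stalks _ _ fun x w => ?_
    obtain ⟨n, hn⟩ := exists_isBas hN x
    obtain ⟨a, rfl⟩ := (mu_bijective A hn).2 w
    rw [CohDev.stalkLin_comp_apply, mu_nat, stalkLin_sMap, hf, stalkLin_sMap]
  let eK : kernel (sMap (CohB1.tensorMod A N) L s) ≅ CohB1.tensorMod (kernel (sMap A L s)) N :=
    kernelIsoOfEq hfac.symm ≪≫ kernelCompMono _ _ ≪≫ (PreservesKernel.iso T (sMap A L s)).symm
  let eC : cokernel (sMap (CohB1.tensorMod A N) L s) ≅ CohB1.tensorMod (cokernel (sMap A L s)) N :=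
    cokernelIsoOfEq hfac.symm ≪≫ cokernelCompIsIso _ _ ≪≫ (PreservesCokernel.iso T (sMap A L s)).symm
  obtain ⟨hK', eKψ⟩ := psi_tensor hd hN hK v hv
  obtain ⟨hC', eCψ⟩ := psi_tensor hd hN hC v hv
  have i1 := psi_iso hd eK.symm hK'
  have i2 := psi_iso hd eC.symm hC'
  rw [theta, theta, ← i1, ← i2, eKψ, eCψ, c1_sub (isCyc_sheafFun hd hC.1) (isCyc_sheafFun hd hK.1),
    QuotientAddGroup.mk_sub]
  abel

section Restrict

variable {D : Scheme.{u}} (i : D ⟶ X) [IsClosedImmersion i]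

theorem mem_range_of_prinOn {a : X → ℤ} (ha : a ∈ prinOn hd (Set.range i) k) {x : X} (hx : a x ≠ 0) :
    x ∈ Set.range i := by
  obtain ⟨ι, ξ, f, -, -, -, h4, h5⟩ := ha
  obtain ⟨j, hj⟩ : ∃ j, Cyc.divFun δ (ξ j) (f j) x ≠ 0 := by
    by_contra hh
    push Not at hh
    exact hx (by rw [h4, finsum_eq_zero_of_forall_eq_zero hh])
  refine mem_range_of_divFun hd i hj (by_contra fun h => hj ?_)
  rw [h5 j h, Pi.zero_apply]

include hd hL hN in
/-- The case of a module with no top component in the zero set. -/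
theorem gysin_c1_sheaf (hrange : Set.range i = vset L s)
    (hL' : PicF.IsInvertible ((Scheme.Modules.pullback i).obj L))
    (hN' : PicF.IsInvertible ((Scheme.Modules.pullback i).obj N)) {A : X.Modules} (hA : Cyc.CohLe δ (k + 1 + 1) A)
    (hA0 : ∀ y, δ y = k + 1 + 1 → y ∈ vset L s → Subsingleton (A.presheaf.stalk y))
    (w : (ξ : X) → Cyc.secFibre L ξ) (hw : ∀ ξ, w ξ ≠ 0) (v : (ξ : X) → Cyc.secFibre N ξ) (hv : ∀ ξ, v ξ ≠ 0)
    (t : (d : D) → Cyc.secFibre ((Scheme.Modules.pullback i).obj N) d) (ht : ∀ d, t d ≠ 0) :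
    (fun d => Cyc.c1CapFun δ L (Cyc.c1CapFun δ N (Cyc.sheafFun δ (k + 1 + 1) A) v) (Cyc.gysinChoice L s w) (i d)) -
      Cyc.c1CapFun (fun d => δ (i d)) ((Scheme.Modules.pullback i).obj N)
        (fun d => Cyc.c1CapFun δ L (Cyc.sheafFun δ (k + 1 + 1) A) (Cyc.gysinChoice L s w) (i d)) t ∈
      @prin D (isLocallyNoetherian_closed i) (fun d => δ (i d)) (isDimFun_comp_closed i hd) k := by
  classical
  haveI := isLocallyNoetherian_closed i
  have hdD := isDimFun_comp_closed i hd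
  have hg := gysinChoice_ne_zero s w hw
  choose ν hν using exists_isBas hN
  have hA' := cohLe_tensor hN hA
  obtain ⟨H, p, q, h⟩ := exists_isRoof hd hA hA' (gmu ν hν A)
  have hA'0 : ∀ y, δ y = k + 1 + 1 → y ∈ vset L s → Subsingleton ((CohB1.tensorMod A N).presheaf.stalk y) :=
    fun y hy hyv => by
      haveI := hA0 y hy hyv
      exact (mu_bijective A (hν y)).2.subsingleton
  have hH0 : ∀ y, δ y = k + 1 + 1 → y ∈ vset L s → Subsingleton (H.presheaf.stalk y) := fun y hy hyv => by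
    haveI := hA0 y hy hyv
    exact (h.bij y hy).1.subsingleton
  obtain ⟨hKp, hCp⟩ := cohLe_ker_coker p h.coh hA h.bij
  obtain ⟨hKq, hCq⟩ := cohLe_ker_coker q h.coh hA' h.bij'
  obtain ⟨S, hS⟩ := exists_funHom hd k
  obtain ⟨mb, cb⟩ := sheafFun_jTw hd hN S hS hA v hv ν hν
  have hb : S (jTw δ k ν hν A) = (Cyc.sheafFun δ (k + 1) (cokernel q) - Cyc.sheafFun δ (k + 1) (kernel q)) -
      (Cyc.sheafFun δ (k + 1) (cokernel p) - Cyc.sheafFun δ (k + 1) (kernel p)) := by
    rw [jTw, dgen_eq hd hA hA' h]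
    simp only [dmap, map_sub, hS _ hKp, hS _ hKq, hS _ hCp, hS _ hCq]
  have cN := isCyc_c1 hd hN (isCyc_sheafFun hd hA) v hv
  have g1 := gysin_mem hL s hd i hrange hL' mb w hw
  rw [c1_sub cb cN] at g1
  have e1 := theta_sMap_map hL s hd h.coh hA hH0 hA0 h.bij
  have e2 := theta_sMap_map hL s hd h.coh hA' hH0 hA'0 h.bij'
  rw [theta_sMap hL s hd hCp w hw, theta_sMap hL s hd hKp w hw] at e1
  rw [theta_sMap hL s hd hCq w hw, theta_sMap hL s hd hKq w hw] at e2
  have e3 := theta_sMap_tensor hd hL s hN hA hA0 v hv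
  obtain ⟨hK, hC⟩ := kcIn_sMap_top hL s hd hA hA0
  let fC := Cyc.sheafFun δ (k + 1) (cokernel (sMap A L s)) - Cyc.sheafFun δ (k + 1) (kernel (sMap A L s))
  have g2 : (fun d => Cyc.c1CapFun δ L (S (jTw δ k ν hν A)) (Cyc.gysinChoice L s w) (i d)) -
      (fun d => Cyc.c1CapFun δ N fC v (i d)) ∈ prin hdD k := by
    refine comp_mem_prin hd i (hrange ▸ QuotientAddGroup.eq_iff_sub_mem.1 ?_ :
      Cyc.c1CapFun δ L (S (jTw δ k ν hν A)) (Cyc.gysinChoice L s w) - Cyc.c1CapFun δ N fC v ∈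
        prinOn hd (Set.range i) k)
    rw [hb, c1_sub ((isCyc_sheafFun hd hCq).sub (isCyc_sheafFun hd hKq))
      ((isCyc_sheafFun hd hCp).sub (isCyc_sheafFun hd hKp)),
      c1_sub (isCyc_sheafFun hd hCq) (isCyc_sheafFun hd hKq), c1_sub (isCyc_sheafFun hd hCp) (isCyc_sheafFun hd hKp)]
    simp only [QuotientAddGroup.mk_sub, fC]
    rw [← e3]
    linear_combination (norm := abel) e1 - e2
  have cfC : IsCyc δ (k + 1) fC := (isCyc_sheafFun hd hC.1).sub (isCyc_sheafFun hd hK.1)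
  have cgA := isCyc_c1 hd hL (isCyc_sheafFun hd hA) (Cyc.gysinChoice L s w) hg
  have hd0 : fC - Cyc.c1CapFun δ L (Cyc.sheafFun δ (k + 1 + 1) A) (Cyc.gysinChoice L s w) ∈
      prinOn hd (Set.range i) (k + 1) := by
    obtain ⟨hK1, hC1⟩ := kcIn_sMap hL s (δ := δ) (k := k + 1) hA
    obtain ⟨σC, hσC⟩ := exists_serFam hd hC1.1
    obtain ⟨σK, hσK⟩ := exists_serFam hd hK1.1
    have e := theta_sMap hL s hd hA w hw
    rw [theta, psi_eq hd hC1.1 hC1.2 hσC, psi_eq hd hK1.1 hK1.2 hσK, cval_of_le_k hd hC1.1 hC.1.2 hσC,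
      cval_of_le_k hd hK1.1 hK.1.2 hσK, ← QuotientAddGroup.mk_sub] at e
    exact hrange ▸ QuotientAddGroup.eq_iff_sub_mem.1 e
  obtain ⟨v', hv', hvv⟩ := exists_sec_closed hd i hN hN' v hv
  have sC : ∀ x, fC x ≠ 0 → x ∈ Set.range i := fun x hx => by
    by_contra hh
    apply hx
    have z : ∀ {M : X.Modules}, InP δ (vset L s) k M → Cyc.sheafFun δ (k + 1) M x = 0 := fun {M} hM => by
      rw [Cyc.sheafFun]
      split_ifs
      · haveI : Subsingleton (M.presheaf.stalk x) :=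
          not_nontrivial_iff_subsingleton.1 fun hn => hh (hrange ▸ hM.2 x hn)
        rw [Module.length_eq_zero]; rfl
      · rfl
    simp only [fC, Pi.sub_apply, z hC, z hK, sub_self]
  have g3 : (fun d => Cyc.c1CapFun δ N fC v (i d)) - Cyc.c1CapFun (fun d => δ (i d)) ((Scheme.Modules.pullback i).obj N)
      (fun d => Cyc.c1CapFun δ L (Cyc.sheafFun δ (k + 1 + 1) A) (Cyc.gysinChoice L s w) (i d)) t ∈ prin hdD k := by
    rw [c1_comp_closed i sC v v' hvv]
    have c1' := (IsCyc.comp_closed i cgA)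
    have m1 := c1_mem_of_ratEquivZero hdD hN' ((IsCyc.comp_closed i cfC).sub c1') (comp_mem_prin hd i hd0) v' hv'
    rw [c1_sub (IsCyc.comp_closed i cfC) c1'] at m1
    have m2 := c1_sub_mem hdD hN' c1' v' t hv' ht
    have := add_mem m1 m2
    rwa [sub_add_sub_cancel] at this
  have := add_mem (sub_mem g2 g1) g3
  convert this using 1
  funext d
  simp only [Pi.add_apply, Pi.sub_apply]
  ring

include hd hL hN in
/-- The Gysin map commutes with `c₁`. -/
theorem gysin_c1 (hrange : Set.range i = vset L s)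
    (hL' : PicF.IsInvertible ((Scheme.Modules.pullback i).obj L))
    (hN' : PicF.IsInvertible ((Scheme.Modules.pullback i).obj N)) {a : X → ℤ} (ha : IsCyc δ (k + 1 + 1) a)
    (w : (ξ : X) → Cyc.secFibre L ξ) (hw : ∀ ξ, w ξ ≠ 0) (v : (ξ : X) → Cyc.secFibre N ξ) (hv : ∀ ξ, v ξ ≠ 0)
    (t : (d : D) → Cyc.secFibre ((Scheme.Modules.pullback i).obj N) d) (ht : ∀ d, t d ≠ 0) :
    (fun d => Cyc.c1CapFun δ L (Cyc.c1CapFun δ N a v) (Cyc.gysinChoice L s w) (i d)) -
      Cyc.c1CapFun (fun d => δ (i d)) ((Scheme.Modules.pullback i).obj N)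
        (fun d => Cyc.c1CapFun δ L a (Cyc.gysinChoice L s w) (i d)) t ∈
      @prin D (isLocallyNoetherian_closed i) (fun d => δ (i d)) (isDimFun_comp_closed i hd) k := by
  classical
  haveI := isLocallyNoetherian_closed i
  have hdD := isDimFun_comp_closed i hd
  have hg := gysinChoice_ne_zero s w hw
  let G : (X → ℤ) → (D → ℤ) := fun b d => Cyc.c1CapFun δ L b (Cyc.gysinChoice L s w) (i d)
  let E : (X → ℤ) → (D → ℤ) := fun b =>
    G (Cyc.c1CapFun δ N b v) - Cyc.c1CapFun (fun d => δ (i d)) ((Scheme.Modules.pullback i).obj N) (G b) t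
  show E a ∈ prin hdD k
  have Esub : ∀ {b c : X → ℤ}, IsCyc δ (k + 1 + 1) b → IsCyc δ (k + 1 + 1) c → E (b - c) = E b - E c := by
    intro b c hb hc
    have h1 := isCyc_c1 hd hL hb _ hg
    have h2 := isCyc_c1 hd hL hc _ hg
    have eG : G (b - c) = G b - G c := funext fun d => congrFun (c1_sub hb hc (Cyc.gysinChoice L s w)) (i d)
    simp only [E]
    rw [eG, c1_sub (IsCyc.comp_closed i h1) (IsCyc.comp_closed i h2) t, c1_sub hb hc v]
    funext d
    simp only [Pi.sub_apply, G, c1_sub (isCyc_c1 hd hN hb v hv) (isCyc_c1 hd hN hc v hv) (Cyc.gysinChoice L s w)]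
    ring
  let ain : X → ℤ := fun x => if x ∈ Set.range i then a x else 0
  let aout : X → ℤ := fun x => if x ∈ Set.range i then 0 else a x
  have cin : IsCyc δ (k + 1 + 1) ain :=
    ⟨fun U hU => (ha.finite U hU).subset fun x hx => ⟨hx.1, fun h => hx.2 (by simp [ain, h])⟩,
      fun x hx => by simp [ain, ha.zero x hx]⟩
  have cout : IsCyc δ (k + 1 + 1) aout :=
    ⟨fun U hU => (ha.finite U hU).subset fun x hx => ⟨hx.1, fun h => hx.2 (by simp [aout, h])⟩,
      fun x hx => by simp [aout, ha.zero x hx]⟩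
  -- the part inside
  have min : E ain ∈ prin hdD k := by
    have s0 : ∀ x, ain x ≠ 0 → x ∈ Set.range i := fun x hx => by
      by_contra h
      exact hx (if_neg h)
    obtain ⟨w', hw', hww⟩ := exists_sec_closed hd i hL hL' (Cyc.gysinChoice L s w) hg
    obtain ⟨v', hv', hvv⟩ := exists_sec_closed hd i hN hN' v hv
    have s1 : ∀ x, Cyc.c1CapFun δ N ain v x ≠ 0 → x ∈ Set.range i := fun x hx => by
      obtain ⟨ξ, hξ⟩ : ∃ ξ, ain ξ * Cyc.secDivFun δ N ξ (v ξ) x ≠ 0 := by
        by_contra hh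
        push Not at hh
        exact hx (finsum_eq_zero_of_forall_eq_zero hh)
      exact specializes_range i (secDivFun_ne_zero (mul_ne_zero_iff.1 hξ).2).1 (s0 ξ (mul_ne_zero_iff.1 hξ).1)
    simp only [E, G]
    rw [c1_comp_closed i s1 _ w' hww, c1_comp_closed i s0 _ w' hww, c1_comp_closed i s0 v v' hvv]
    exact c1_comm hdD hL' hN' (IsCyc.comp_closed i cin) w' w' v' t hw' hw' hv' ht
  -- the part outside
  let ap : X → ℤ := fun x => ((aout x).toNat : ℤ)
  let am : X → ℤ := fun x => (((-aout) x).toNat : ℤ)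
  have mout : E aout ∈ prin hdD k := by
    have hk : ∀ x, δ x ≠ k + 1 + 1 → aout x = 0 := cout.zero
    obtain ⟨hAp, eAp⟩ := cycleSheafPos_spec hd cout.finite hk
    obtain ⟨hAm, eAm⟩ := cycleSheafPos_spec (a := -aout) (k := k + 1 + 1) hd
      (fun U hU => by simpa using cout.finite U hU) (fun x hx => by simp [hk x hx])
    have htop : ∀ {b : X → ℤ} {A : X.Modules}, Cyc.CohLe δ (k + 1 + 1) A →
        Cyc.sheafFun δ (k + 1 + 1) A = (fun x => ((b x).toNat : ℤ)) → (∀ x ∈ Set.range i, b x = 0) →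
        ∀ y, δ y = k + 1 + 1 → y ∈ vset L s → Subsingleton (A.presheaf.stalk y) := fun {b A} hA e hb0 y hy hyv => by
      have hl := congrFun e y
      rw [Cyc.sheafFun, if_pos hy, hb0 y (hrange ▸ hyv)] at hl
      simp only [Int.toNat_zero, Nat.cast_zero, Nat.cast_eq_zero, ENat.toNat_eq_zero] at hl
      exact Module.length_eq_zero_iff.1 (hl.resolve_right (length_ne_top hd hA hy))
    have ho : ∀ x ∈ Set.range i, aout x = 0 := fun x hx => if_pos hx
    have e : aout = ap - am := funext fun x => by simp only [Pi.sub_apply, Pi.neg_apply, ap, am]; omega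
    have cp : IsCyc δ (k + 1 + 1) ap := by
      simpa only [ap, ← eAp] using isCyc_sheafFun hd hAp
    have cm : IsCyc δ (k + 1 + 1) am := by
      simpa only [am, ← eAm] using isCyc_sheafFun hd hAm
    rw [e, Esub cp cm]
    refine sub_mem ?_ ?_
    · have := gysin_c1_sheaf hd hL s hN i hrange hL' hN' hAp (htop hAp eAp ho) w hw v hv t ht
      rw [eAp] at this
      exact this
    · have := gysin_c1_sheaf hd hL s hN i hrange hL' hN' hAm (htop hAm eAm fun x hx => by simp [ho x hx]) w hw v hv t ht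
      rw [eAm] at this
      exact this
  have cneg : IsCyc δ (k + 1 + 1) (-aout) :=
    ⟨fun U hU => by simpa using cout.finite U hU, fun x hx => by simp [cout.zero x hx]⟩
  have e : a = ain - (-aout) := funext fun x => by
    simp only [Pi.sub_apply, Pi.neg_apply, ain, aout]; split_ifs <;> ring
  have czero : IsCyc δ (k + 1 + 1) (0 : X → ℤ) := ⟨fun U _ => by simp, fun _ _ => rfl⟩
  have e0 := Esub czero czero
  rw [sub_zero, sub_self] at e0
  have eneg := Esub czero cout
  rw [zero_sub, e0, zero_sub] at eneg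
  rw [e, Esub cin cneg, eneg, sub_neg_eq_add]
  exact add_mem min mout

end Restrict

end Groth.Agent.CycLib.Dev
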