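import Groth.Agent.CycLib.DevPushC1
import Groth.Agent.CycLib.ProdFibre
import Groth.Agent.CycLib.DevGysinC1
import Groth.Agent.PicCl.Basic

/-!
The Gysin map commutes with proper push-forward.
-/

set_option autoImplicit false
set_option linter.style.haveILetI false
set_option maxHeartbeats 800000

universe u

open CategoryTheory Limits AlgebraicGeometry IsLocalRing

namespace Groth.Agent.CycLib.Dev

open ModIdx Groth.Agent.PullStalk.Basic Groth.Agent.PullStalk.Sky

theorem map_congr_hom {X Y : Scheme.{u}} {f f' : X ⟶ Y} [QuasiCompact f] [QuasiCompact f'] (h : f = f')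
    (δX : X → ℤ) (δY : Y → ℤ) (c : AlgebraicCycle X ℤ) :
    AlgebraicCycle.map f δX δY c = AlgebraicCycle.map f' δX δY c := by subst h; rfl

theorem exists_unit_of_span_eq {R : Type u} [CommRing R] [IsLocalRing R] {a b : R}
    (h : Ideal.span {a} = Ideal.span {b}) : ∃ e : R, IsUnit e ∧ a = e * b := by
  obtain ⟨p, hp⟩ := Ideal.mem_span_singleton'.1 (h.le (Ideal.mem_span_singleton_self a))
  obtain ⟨q, hq⟩ := Ideal.mem_span_singleton'.1 (h.ge (Ideal.mem_span_singleton_self b))
  rcases IsLocalRing.isUnit_or_isUnit_one_sub_self (p * q) with hu | hu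
  · exact ⟨p, isUnit_of_mul_isUnit_left hu, hp.symm⟩
  · have ha : a = 0 := hu.mul_right_eq_zero.1 (by rw [sub_mul, one_mul, mul_assoc, hq, hp, sub_self])
    exact ⟨1, isUnit_one, by rw [← hq, ha, mul_zero, one_mul]⟩

/-- Bases differ by units. -/
theorem exists_unit_smul {X : Scheme.{u}} {M : X.Modules} {x : X} {a b : M.presheaf.stalk x} (ha : IsBas a)
    (hb : IsBas b) : ∃ e : X.presheaf.stalk x, IsUnit e ∧ b = e • a := by
  obtain ⟨e, he⟩ := ha.2 b
  obtain ⟨e', he'⟩ := hb.2 a
  replace he : e • a = b := he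
  replace he' : e' • b = a := he'
  exact ⟨e, isUnit_iff_exists_inv'.2 ⟨e', ha.1 (show (e' * e) • a = (1 : X.presheaf.stalk x) • a by
    rw [mul_smul, he, he', one_smul])⟩, he.symm⟩

section Agree

variable {X : Scheme.{u}} [IsLocallyNoetherian X] {δ : X → ℤ} (hd : Cyc.IsDimFun X δ)
  {M : X.Modules} (hM : PicF.IsInvertible M)

include hd hM in
/-- Sections agreeing up to units along `closure ξ` have the same divisor. -/
theorem secDiv_agree {ξ : X} (g g' : (x : X) → ξ ⤳ x → M.presheaf.stalk x)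
    (hg : ∀ x h, Ref1.sp M h (g x h) = g ξ specializes_rfl) (hg' : ∀ x h, Ref1.sp M h (g' x h) = g' ξ specializes_rfl)
    (hbas : IsBas (g ξ specializes_rfl)) (he : ∀ x h, ∃ e : X.presheaf.stalk x, IsUnit e ∧ g' x h = e • g x h) :
    Cyc.secDivFun δ M ξ (Submodule.Quotient.mk (g' ξ specializes_rfl)) =
      Cyc.secDivFun δ M ξ (Submodule.Quotient.mk (g ξ specializes_rfl)) := by
  funext x
  by_cases h : ξ ⤳ x ∧ δ x + 1 = δ ξ
  swap
  · rw [Cyc.secDivFun, dif_neg h, Cyc.secDivFun, dif_neg h]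
  obtain ⟨h, h1⟩ := h
  obtain ⟨e, heu, hee⟩ := he x h
  obtain ⟨b, hb⟩ := exists_isBas hM x
  obtain ⟨c, hc⟩ := hbas.2 (Ref1.sp M h b)
  replace hc : c • g ξ specializes_rfl = Ref1.sp M h b := hc
  have e' : g' ξ specializes_rfl = Ref1.spR h e • g ξ specializes_rfl := by
    rw [← hg' x h, hee, Ref1.sp_smul, hg x h]
  have hbas' : IsBas (g' ξ specializes_rfl) := by
    rw [e']; exact isBas_smul hbas (heu.map _)
  rw [secDivFun_of_bas hd hM h rfl h1.symm hbas hb hc.symm,
    secDivFun_of_bas hd hM h rfl h1.symm hbas' (isBas_smul hb heu) (c := c)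
      (by rw [Ref1.sp_smul, ← hc, e', smul_smul, smul_smul, mul_comm])]

include hd hM in
/-- The divisor of a section is supported in its zero set. -/
theorem secDiv_germ_zero (s : M.presheaf.obj (Opposite.op ⊤)) {ξ x : X} (hx : x ∉ vset M s) :
    Cyc.secDivFun δ M ξ (Submodule.Quotient.mk ((M.presheaf.germ ⊤ ξ trivial) s)) x = 0 := by
  by_cases h : ξ ⤳ x ∧ δ x + 1 = δ ξ
  swap
  · rw [Cyc.secDivFun, dif_neg h]
  obtain ⟨h, h1⟩ := h
  have e : Ref1.sp M h ((M.presheaf.germ ⊤ x trivial) s) = (M.presheaf.germ ⊤ ξ trivial) s :=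
    Ref1.sp_germ M h (U := ⊤) trivial s
  have hb := isBas_sec hM s hx
  have hbξ : IsBas ((M.presheaf.germ ⊤ ξ trivial) s) := e ▸ isBas_sp hM h hb
  rw [secDivFun_of_bas hd hM h rfl h1.symm hbξ hb (c := 1) (by rw [one_smul, e]), map_one, divFun_one' hd,
    Pi.zero_apply, neg_zero]

end Agree

variable {X X' D : Scheme.{u}} (f : X' ⟶ X) [IsProper f] (i : D ⟶ X) [IsClosedImmersion i]
  [IsLocallyNoetherian X] [IsLocallyNoetherian X'] {δ : X → ℤ} {δ' : X' → ℤ}
  (hd : Cyc.IsDimFun X δ) (hd' : Cyc.IsDimFun X' δ') (hδ : Cyc.DeltaCompat f δ' δ)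
  {L : X.Modules} (hL : PicF.IsInvertible L) (s : L.presheaf.obj (Opposite.op ⊤))
  (s' : ((Scheme.Modules.pullback f).obj L).presheaf.obj (Opposite.op ⊤))

omit [IsProper f] [IsLocallyNoetherian X] [IsLocallyNoetherian X'] in
include hδ in
theorem deltaCompat_snd :
    Cyc.DeltaCompat (pullback.snd f i) (fun z => δ' (pullback.fst f i z)) (fun d => δ (i d)) := by
  have hc := deltaCompat_comp (deltaCompat_preimmersion (pullback.fst f i) δ') hδ
  rw [pullback.condition] at hc
  intro z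
  obtain ⟨n, hn, hn'⟩ := hc z
  refine ⟨n, ?_, hn'⟩
  obtain ⟨m, hm, hm'⟩ := deltaCompat_preimmersion i δ (pullback.snd f i z)
  obtain rfl : m = 0 := by simpa using hm'.symm
  letI i₁ := ((pullback.snd f i).residueFieldMap z).hom.toAlgebra
  letI i₂ := (i.residueFieldMap (pullback.snd f i z)).hom.toAlgebra
  letI i₃ : Algebra (X.residueField (i (pullback.snd f i z))) ((pullback f i).residueField z) :=
    (((pullback.snd f i).residueFieldMap z).hom.comp (i.residueFieldMap (pullback.snd f i z)).hom).toAlgebra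
  haveI : IsScalarTower (X.residueField (i (pullback.snd f i z))) (D.residueField (pullback.snd f i z))
      ((pullback f i).residueField z) := IsScalarTower.of_algebraMap_eq' rfl
  haveI : FaithfulSMul (X.residueField (i (pullback.snd f i z))) (D.residueField (pullback.snd f i z)) :=
    (faithfulSMul_iff_algebraMap_injective _ _).2 (algebraMap (X.residueField (i (pullback.snd f i z))) _).injective
  haveI : FaithfulSMul (D.residueField (pullback.snd f i z)) ((pullback f i).residueField z) :=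
    (faithfulSMul_iff_algebraMap_injective _ _).2 (algebraMap (D.residueField (pullback.snd f i z)) _).injective
  have e := trdeg_add_eq (X.residueField (i (pullback.snd f i z))) (D.residueField (pullback.snd f i z))
    (A := (pullback f i).residueField z)
  rw [hm, Nat.cast_zero, zero_add] at e
  rw [e]
  rw [Scheme.residueFieldMap_comp (pullback.snd f i) i z] at hn
  exact hn

omit [IsClosedImmersion i] [IsLocallyNoetherian X] in
include hL in
theorem comap_ker_eq (hD : Cyc.IsZeroSchemeOf i L s) (d : D) {y : X} (hy : i d = y) (h : i d ⤳ y)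
    {t : L.presheaf.stalk y} (ht : IsBas t) {f0 : X.presheaf.stalk y} (hf : (L.presheaf.germ ⊤ y trivial) s = f0 • t) :
    (RingHom.ker (i.stalkMap d).hom).comap (X.presheaf.stalkSpecializes h).hom = Ideal.span {f0} := by
  subst hy
  obtain ⟨t1, f1, ht1, hf1, hker⟩ := hD.2 d
  obtain ⟨e, heu, het⟩ := exists_unit_smul (isBas_of_span hL ht1) ht
  have he : f1 = f0 * e := (isBas_of_span hL ht1).1 (show f1 • t1 = (f0 * e) • t1 by
    rw [mul_smul, ← het, ← hf, hf1])
  rw [TopCat.Presheaf.stalkSpecializes_refl, CommRingCat.hom_id, Ideal.comap_id, hker, he,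
    Ideal.span_singleton_mul_right_unit heu]

omit [IsProper f] [IsLocallyNoetherian X'] in
include hL in
theorem unit_agree (hD : Cyc.IsZeroSchemeOf i L s)
    (hD' : Cyc.IsZeroSchemeOf (pullback.fst f i) ((Scheme.Modules.pullback f).obj L) s')
    (x : X') : ∃ e : X'.presheaf.stalk x, IsUnit e ∧ (((Scheme.Modules.pullback f).obj L).presheaf.germ ⊤ x trivial) s' =
      e • unitStalkHom f L x ((L.presheaf.germ ⊤ (f x) trivial) s) := by
  have hM := PicCl.isInvertible_pullback f hL
  by_cases hx : x ∈ Set.range (pullback.fst f i)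
  · obtain ⟨z, rfl⟩ := hx
    obtain ⟨t2, f2, ht2, hf2, hker⟩ := hD'.2 z
    obtain ⟨t, ht⟩ := exists_isBas hL (f (pullback.fst f i z))
    obtain ⟨f0, hf0⟩ := ht.2 ((L.presheaf.germ ⊤ (f (pullback.fst f i z)) trivial) s)
    replace hf0 : f0 • t = (L.presheaf.germ ⊤ (f (pullback.fst f i z)) trivial) s := hf0
    obtain ⟨v, hvu, hv⟩ := exists_unit_smul (isBas_unit f hL hM (pullback.fst f i z) ht) (isBas_of_span hM ht2)
    have hy : i (pullback.snd f i z) = f (pullback.fst f i z) := by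
      show (pullback.snd f i ≫ i) z = (pullback.fst f i ≫ f) z
      rw [pullback.condition]
    have hk := ker_stalkMap_isPullback_pre (IsPullback.of_hasPullback f i) z (specializes_of_eq hy)
    rw [comap_ker_eq i hL s hD (pullback.snd f i z) hy (specializes_of_eq hy) ht hf0.symm, Ideal.map_span,
      Set.image_singleton, hker] at hk
    obtain ⟨e, heu, he⟩ := exists_unit_of_span_eq hk
    refine ⟨e * v, heu.mul hvu, ?_⟩
    rw [hf2, hv, he, ← hf0, unitStalkHom_smul, smul_smul, smul_smul]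
    congr 1
    show _ * (f.stalkMap (pullback.fst f i z)) f0 * v = e * v * (f.stalkMap (pullback.fst f i z)) f0
    ring
  · have h1 : x ∉ vset ((Scheme.Modules.pullback f).obj L) s' := fun h => hx (hD'.1.ge h)
    have h2 : f x ∉ vset L s := fun h => hx (by
      rw [Scheme.Pullback.range_fst]; exact hD.1.ge h)
    exact exists_unit_smul (isBas_unit f hL hM x (isBas_sec hL s h2)) (isBas_sec hM s' h1)

include hd hd' hδ hL in
theorem gysin_map (hD : Cyc.IsZeroSchemeOf i L s)
    (hD' : Cyc.IsZeroSchemeOf (pullback.fst f i) ((Scheme.Modules.pullback f).obj L) s') {k : ℤ}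
    (α : AlgebraicCycle X' ℤ) (hα : α ∈ Cyc.Zk X' δ' (k + 1))
    (w : (ξ : X) → Cyc.secFibre L ξ) (hw : ∀ ξ, w ξ ≠ 0)
    (w' : (ξ : X') → Cyc.secFibre ((Scheme.Modules.pullback f).obj L) ξ) (hw' : ∀ ξ, w' ξ ≠ 0)
    (γ : AlgebraicCycle D ℤ)
    (hγ : ∀ d, γ d = Cyc.c1CapFun δ L ⇑(AlgebraicCycle.map f δ' δ α) (Cyc.gysinChoice L s w) (i d))
    (γ' : AlgebraicCycle (pullback f i : Scheme.{u}) ℤ)
    (hγ' : ∀ z, γ' z = Cyc.c1CapFun δ' ((Scheme.Modules.pullback f).obj L) ⇑α
      (Cyc.gysinChoice ((Scheme.Modules.pullback f).obj L) s' w') (pullback.fst f i z)) :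
    Cyc.RatEquiv (fun d => δ (i d)) k γ
      (AlgebraicCycle.map (pullback.snd f i) (fun z => δ' (pullback.fst f i z)) (fun d => δ (i d)) γ') := by
  classical
  haveI := isLocallyNoetherian_closed i
  haveI := isLocallyNoetherian_closed (pullback.fst f i)
  have hM := PicCl.isInvertible_pullback f hL
  have hdP := isDimFun_comp_closed (pullback.fst f i) hd'
  have hdD := isDimFun_comp_closed i hd
  have hM' := PicCl.isInvertible_pullback (pullback.fst f i) hM
  have hrange : ∀ ξ : X', ξ ∈ Set.range (pullback.fst f i) ↔ f ξ ∈ vset L s := fun ξ => by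
    rw [Scheme.Pullback.range_fst]
    exact Set.ext_iff.1 hD.1 (f ξ)
  have hgI := gysinChoice_ne_zero s w hw
  have hσ0 : ∀ η : X, ∃ σ : L.presheaf.stalk η, IsBas σ ∧ Submodule.Quotient.mk σ = Cyc.gysinChoice L s w η ∧
      (η ∉ vset L s → σ = (L.presheaf.germ ⊤ η trivial) s) := fun η => by
    by_cases hη : η ∈ vset L s
    · obtain ⟨σ, hσ, e⟩ := exists_isBas_lift hL (Cyc.gysinChoice L s w η) (hgI η)
      exact ⟨σ, hσ, e, fun h => absurd hη h⟩
    · exact ⟨_, isBas_sec hL s hη, (if_pos hη).symm, fun _ => rfl⟩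
  choose σ hσ hσe hσs using hσ0
  let u : (ξ : X') → Cyc.secFibre ((Scheme.Modules.pullback f).obj L) ξ := fun ξ => Submodule.Quotient.mk (unitStalkHom f L ξ (σ (f ξ)))
  have hu : ∀ ξ, u ξ ≠ 0 := fun ξ => mk_ne_zero_of_isBas (isBas_unit f hL hM ξ (hσ (f ξ)))
  let g' := Cyc.gysinChoice ((Scheme.Modules.pullback f).obj L) s' w'
  have hg' := gysinChoice_ne_zero s' w' hw'
  have hout : ∀ ξ, ξ ∉ Set.range (pullback.fst f i) →
      Cyc.secDivFun δ' ((Scheme.Modules.pullback f).obj L) ξ (u ξ) = Cyc.secDivFun δ' ((Scheme.Modules.pullback f).obj L) ξ (g' ξ) ∧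
      ∀ x, x ∉ Set.range (pullback.fst f i) → Cyc.secDivFun δ' ((Scheme.Modules.pullback f).obj L) ξ (g' ξ) x = 0 := by
    intro ξ hξ
    have h1 : ξ ∉ vset ((Scheme.Modules.pullback f).obj L) s' := fun h => hξ (hD'.1.ge h)
    have h2 : f ξ ∉ vset L s := fun h => hξ ((hrange ξ).2 h)
    have eg : g' ξ = Submodule.Quotient.mk ((((Scheme.Modules.pullback f).obj L).presheaf.germ ⊤ ξ trivial) s') := if_pos h1
    refine ⟨?_, fun x hx => by rw [eg]; exact secDiv_germ_zero hd' hM s' fun h => hx (hD'.1.ge h)⟩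
    rw [eg, show u ξ = Submodule.Quotient.mk (unitStalkHom f L ξ ((L.presheaf.germ ⊤ (f ξ) trivial) s)) by
      simp only [u, hσs _ h2]]
    refine (secDiv_agree hd' hM (fun x _ => unitStalkHom f L x ((L.presheaf.germ ⊤ (f x) trivial) s))
      (fun x _ => (((Scheme.Modules.pullback f).obj L).presheaf.germ ⊤ x trivial) s') (fun x h => ?_) (fun x h => Ref1.sp_germ ((Scheme.Modules.pullback f).obj L) h (U := ⊤) trivial s')
      (isBas_unit f hL hM ξ (isBas_sec hL s h2)) fun x _ => unit_agree f i hL s s' hD hD' x).symm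
    exact (sp_unit f L h _).trans (congrArg _ (Ref1.sp_germ L (h.map f.continuous) (U := ⊤) trivial s))
  have ha := IsCyc.of_cycle α hα
  obtain ⟨γ0, -, hγ0⟩ := (isCyc_c1 hd' hM ha u hu).exists_cycle
  have hs0 : ∀ x, γ0 x ≠ 0 → x ∈ Set.range (pullback.fst f i) := fun x hx => by
    rw [hγ0] at hx
    obtain ⟨ξ, hξ⟩ : ∃ ξ, α ξ * Cyc.secDivFun δ' ((Scheme.Modules.pullback f).obj L) ξ (u ξ) x ≠ 0 := by
      by_contra hh
      push Not at hh
      exact hx (finsum_eq_zero_of_forall_eq_zero hh)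
    obtain ⟨h1, h2⟩ := mul_ne_zero_iff.1 hξ
    by_cases hr : ξ ∈ Set.range (pullback.fst f i)
    · exact specializes_range (pullback.fst f i) (secDivFun_ne_zero h2).1 hr
    · rw [(hout ξ hr).1] at h2
      by_contra hxr
      exact h2 ((hout ξ hr).2 x hxr)
  obtain ⟨ζ, -, hζ⟩ := (IsCyc.comp_closed (pullback.fst f i) (isCyc_c1 hd' hM ha u hu)).exists_cycle
  have e0 : AlgebraicCycle.map (pullback.fst f i) (fun z => δ' (pullback.fst f i z)) δ' ζ = γ0 := by
    ext x
    by_cases hx : x ∈ Set.range (pullback.fst f i)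
    · obtain ⟨z, rfl⟩ := hx
      rw [map_closed_apply (pullback.fst f i) ζ z, hζ, hγ0]
    · rw [map_closed_apply_of_notMem (pullback.fst f i) ζ hx]
      by_contra h
      exact hx (hs0 x (Ne.symm h))
  have eγ : γ = AlgebraicCycle.map (pullback.snd f i) (fun z => δ' (pullback.fst f i z)) (fun d => δ (i d)) ζ := by
    ext d
    have e1 := congrFun (map_c1_unit f hd' hL hM hd hδ α γ0 hα σ hσ hγ0) (i d)
    simp only [hσe] at e1
    rw [hγ, ← e1, ← e0,
      map_map_of_deltaCompat _ f (deltaCompat_preimmersion (pullback.fst f i) δ') hδ ζ,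
      map_congr_hom pullback.condition,
      ← map_map_of_deltaCompat _ i (deltaCompat_snd f i hδ) (deltaCompat_preimmersion i δ) ζ,
      map_closed_apply]
  rw [eγ]
  refine ratEquiv_map _ _ hdP hdD (pullback.snd f i) (deltaCompat_snd f i hδ) k ζ γ' ?_
  rw [Cyc.RatEquiv, ratEquivZero_iff hdP, show ⇑(ζ - γ') = ⇑ζ - ⇑γ' from rfl, hζ,
    show ⇑γ' = _ from funext hγ']
  let ain : X' → ℤ := fun x => if x ∈ Set.range (pullback.fst f i) then α x else 0
  have cin : IsCyc δ' (k + 1) ain :=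
    ⟨fun U hU => (ha.finite U hU).subset fun x hx => ⟨hx.1, fun h => hx.2 (by simp [ain, h])⟩,
      fun x hx => by simp [ain, ha.zero x hx]⟩
  have e : Cyc.c1CapFun δ' ((Scheme.Modules.pullback f).obj L) (⇑α - ain) u = Cyc.c1CapFun δ' ((Scheme.Modules.pullback f).obj L) (⇑α - ain) g' := by
    funext x
    refine finsum_congr fun ξ => ?_
    by_cases hr : ξ ∈ Set.range (pullback.fst f i)
    · rw [Pi.sub_apply, show ain ξ = α ξ from if_pos hr, sub_self, zero_mul, zero_mul]
    · rw [(hout ξ hr).1]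
  rw [c1_sub ha cin, c1_sub ha cin] at e
  have s0 : ∀ x, ain x ≠ 0 → x ∈ Set.range (pullback.fst f i) := fun x hx => by
    by_contra h
    exact hx (if_neg h)
  obtain ⟨u1, hu1, huu⟩ := exists_sec_closed hd' (pullback.fst f i) hM hM' u hu
  obtain ⟨g1, hg1, hgg⟩ := exists_sec_closed hd' (pullback.fst f i) hM hM' g' hg'
  have m := c1_sub_mem hdP hM' (IsCyc.comp_closed (pullback.fst f i) cin) u1 g1 hu1 hg1
  rw [← c1_comp_closed (pullback.fst f i) s0 u u1 huu, ← c1_comp_closed (pullback.fst f i) s0 g' g1 hgg] at m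
  convert m using 1
  funext z
  have := congrFun e (pullback.fst f i z)
  simp only [Pi.sub_apply] at this ⊢
  linarith

end Groth.Agent.CycLib.Dev
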