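import Groth.Agent.CycLib.DevGysin
import Groth.Agent.CycLib.DevClosedK0
import Groth.Agent.CycLib.DevC1Tensor

/-!
The Gysin image of the cycle of a module on which the section is regular.
-/

set_option autoImplicit false
set_option linter.style.haveILetI false
set_option maxHeartbeats 800000

universe u

open CategoryTheory Limits AlgebraicGeometry IsLocalRing
open scoped Pointwise

namespace Groth.Agent.CycLib.Dev

open ModIdx Groth.Agent.PullStalk.Sky Groth.Agent.PullStalk.Exact Groth.Agent.PullStalk.Basic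

variable {X : Scheme.{u}} [IsLocallyNoetherian X] {δ : X → ℤ} {k : ℤ} (hd : Cyc.IsDimFun X δ)
  {L : X.Modules} (hL : PicF.IsInvertible L) (s : L.presheaf.obj (Opposite.op ⊤))

variable {D : Scheme.{u}} (i : D ⟶ X) [IsClosedImmersion i]

include hd hL in
theorem gysin_sheafFun (hD : Cyc.IsZeroSchemeOf i L s) {F : X.Modules} (hF : Cyc.CohLe δ (k + 1) F)
    (hreg : ∀ (x : X) (t : L.presheaf.stalk x) (f : X.presheaf.stalk x), Submodule.span (X.presheaf.stalk x) {t} = ⊤ →
      (L.presheaf.germ ⊤ x trivial) s = f • t → Function.Injective (fun m : F.presheaf.stalk x => f • m))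
    (t : (ξ : X) → Cyc.secFibre L ξ) (ht : ∀ ξ, t ξ ≠ 0) :
    (fun d => Cyc.c1CapFun δ L (Cyc.sheafFun δ (k + 1) F) (Cyc.gysinChoice L s t) (i d)) -
      Cyc.sheafFun (fun d => δ (i d)) k ((Scheme.Modules.pullback i).obj F) ∈
      @prin D (isLocallyNoetherian_closed i) (fun d => δ (i d)) (isDimFun_comp_closed i hd) k := by
  classical
  haveI := isLocallyNoetherian_closed i
  have hG := cohLe_tensor hL hF
  have span_of : ∀ {x : X} {b : L.presheaf.stalk x}, IsBas b → Submodule.span (X.presheaf.stalk x) {b} = ⊤ :=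
    fun hb => eq_top_iff.2 fun v _ => Submodule.mem_span_singleton.2 (hb.2 v)
  have hinj : ∀ x, Function.Injective (stalkLin (sMap F L s) x) := fun x => by
    obtain ⟨b, hb⟩ := exists_isBas hL x
    obtain ⟨f, hf⟩ := hb.2 ((L.presheaf.germ ⊤ x trivial) s)
    replace hf : f • b = (L.presheaf.germ ⊤ x trivial) s := hf
    intro m m' e
    rw [stalkLin_sMap, stalkLin_sMap, ← hf, mu_smul, mu_smul] at e
    exact hreg x b f (span_of hb) hf.symm ((mu_bijective F hb).1 e)
  obtain ⟨hK, hC⟩ := kcIn_sMap hL s hF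
  have hF0 : ∀ y, δ y = k + 1 → y ∈ vset L s → Subsingleton (F.presheaf.stalk y) := fun y hy hyv => by
    obtain ⟨b, hb⟩ := exists_isBas hL y
    obtain ⟨f, hf⟩ := hb.2 ((L.presheaf.germ ⊤ y trivial) s)
    replace hf : f • b = (L.presheaf.germ ⊤ y trivial) s := hf
    have hfl := isFiniteLength_iff_isNoetherian_isArtinian.1 (finiteLength_stalk hd hF hy)
    haveI := hfl.1
    haveI := hfl.2
    have hsurj := (IsArtinian.bijective_of_injective_endomorphism (LinearMap.lsmul (X.presheaf.stalk y) (F.presheaf.stalk y) f)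
      (hreg y b f (span_of hb) hf.symm)).2
    have hfu : ¬ IsUnit f := fun hu => mk_ne_zero_of_isBas (isBas_smul hb hu)
      (show Submodule.Quotient.mk (f • b) = (0 : Cyc.secFibre L y) by rw [hf]; exact hyv)
    haveI := FDesc.QuasiFlat.finite_stalk_of_isCoh F hF.1 y
    have htop : (⊤ : Submodule (X.presheaf.stalk y) (F.presheaf.stalk y)) ≤ maximalIdeal (X.presheaf.stalk y) • ⊤ :=
      fun m _ => by
        obtain ⟨m', rfl⟩ := hsurj m
        exact Submodule.smul_mem_smul hfu Submodule.mem_top
    have := Submodule.eq_bot_of_le_smul_of_le_jacobson_bot _ ⊤ (Module.Finite.fg_top) htop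
      (IsLocalRing.maximalIdeal_le_jacobson _)
    exact Submodule.subsingleton_iff (X.presheaf.stalk y) |>.1 (subsingleton_iff_bot_eq_top.1 this.symm)
  have hCk : Cyc.CohLe δ k (cokernel (sMap F L s)) := by
    refine ⟨hC.1.1, fun y hy => ?_⟩
    have h1 := hC.1.2 y hy
    by_contra hlt
    have hy' : δ y = k + 1 := by omega
    haveI := hF0 y hy' (hC.2 y hy)
    obtain ⟨b, hb⟩ := exists_isBas hL y
    haveI := (mu_bijective F hb).2.subsingleton
    exact not_nontrivial_iff_subsingleton.2 (stalk_surjective (cokernel.π (sMap F L s)) y).subsingleton hy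
  have e := theta_sMap hL s hd hF t ht
  obtain ⟨σC, hσC⟩ := exists_serFam hd hC.1
  haveI : Mono (sMap F L s) := by
    refine Preadditive.mono_of_isZero_kernel _ (CohDev.isZero_of_support_eq_empty ?_)
    exact Set.eq_empty_of_forall_notMem fun x => CohDev.not_mem_support_kernel _ (hinj x)
  rw [theta, psi_zero hd (isZero_kernel_of_mono (sMap F L s)), sub_zero, psi_eq hd hC.1 hC.2 hσC,
    cval_of_le_k hd hC.1 hCk.2 hσC] at e
  have m := comp_mem_prin hd i (hD.1 ▸ QuotientAddGroup.eq_iff_sub_mem.1 e.symm :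
    Cyc.c1CapFun δ L (Cyc.sheafFun δ (k + 1) F) (Cyc.gysinChoice L s t) - Cyc.sheafFun δ k (cokernel (sMap F L s)) ∈
      prinOn hd (Set.range i) k)
  convert m using 1
  funext d
  simp only [Pi.sub_apply, sub_right_inj, Cyc.sheafFun]
  by_cases hd' : δ (i d) = k
  swap
  · rw [if_neg hd', if_neg hd']
  rw [if_pos hd', if_pos hd']
  congr 2
  obtain ⟨b, f, hb', hf, hker⟩ := hD.2 d
  have hb := isBas_of_span hL hb'
  letI := (i.stalkMap d).hom.toAlgebra
  letI := moduleOver i F d
  haveI : IsScalarTower (X.presheaf.stalk (i d)) (D.presheaf.stalk d)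
      (((Scheme.Modules.pullback i).obj F).presheaf.stalk d) := IsScalarTower.of_algebraMap_smul fun _ _ => rfl
  have hsurj := ClUnit.isBaseChange_surjective (isBaseChange_unitStalk i F d) (i.stalkMap_surjective d)
  have hkeru : LinearMap.ker (unitStalk i F d) = f • (⊤ : Submodule (X.presheaf.stalk (i d)) (F.presheaf.stalk (i d))) := by
    refine le_antisymm (fun v hv => ?_) ?_
    · have := ClosedK0.ker_unit_le i F d v hv
      rwa [show ClosedK0.J i d = Ideal.span {f} from hker, Submodule.ideal_span_singleton_smul] at this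
    · intro v hv
      obtain ⟨m, -, rfl⟩ := Submodule.mem_smul_pointwise_iff_exists _ _ _ |>.1 hv
      show unitStalkHom i F d (f • m) = 0
      rw [unitStalkHom_smul, show (i.stalkMap d) f = 0 from hker.ge (Ideal.mem_span_singleton_self f), zero_smul]
  rw [← Module.length_eq_of_surjective (R := D.presheaf.stalk d) (S := X.presheaf.stalk (i d))
      (M := ((Scheme.Modules.pullback i).obj F).presheaf.stalk d) (i.stalkMap_surjective d),
    ← ((Submodule.quotEquivOfEq _ _ hkeru.symm).trans (LinearMap.quotKerEquivOfSurjective _ hsurj)).length_eq,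
    length_stalk_cokernel]
  refine (Submodule.Quotient.equiv _ _ (LinearEquiv.ofBijective _ (mu_bijective F hb)) ?_).length_eq
  ext w
  constructor
  · rintro ⟨v, hv, rfl⟩
    obtain ⟨m, -, rfl⟩ := Submodule.mem_smul_pointwise_iff_exists _ _ _ |>.1 hv
    refine ⟨m, ?_⟩
    rw [stalkLin_sMap, hf, mu_smul]
    rfl
  · rintro ⟨m, rfl⟩
    refine ⟨f • m, Submodule.smul_mem_pointwise_smul m f ⊤ trivial, ?_⟩
    rw [stalkLin_sMap, hf, mu_smul]
    rfl

end Groth.Agent.CycLib.Dev
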