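import Groth.Agent.CycLib.DevSigma
import Groth.Agent.CycLib.DevCycleClass

/-!
A coherent module has the class of its cycle.
-/

set_option autoImplicit false
set_option linter.style.haveILetI false
set_option maxHeartbeats 800000

universe u

open CategoryTheory Limits AlgebraicGeometry IsLocalRing

namespace Groth.Agent.CycLib.Dev

open ModIdx Groth.Agent.PullStalk.Sky Groth.Agent.PullStalk.Exact Groth.Agent.Props.SubMod Groth.Agent.Props.SubSheaf

theorem smul_drop {R : Type u} [CommRing R] [IsLocalRing R] {V : Type u} [AddCommGroup V] [Module R V] :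
    ∀ (j : ℕ) (l : List V), IsSer R l → ∀ r ∈ maximalIdeal R, ∀ v ∈ lspan R (l.drop j),
      r • v ∈ lspan R (l.drop (j + 1))
  | 0, [], _, r, _, v, hv => Submodule.smul_mem _ r hv
  | 0, e :: l, h, r, hr, v, hv => smul_mem_of_mem_cons h hv hr
  | j + 1, [], _, r, _, v, hv => Submodule.smul_mem _ r hv
  | j + 1, e :: l, h, r, hr, v, hv => smul_drop j l h.1 r hr v hv

theorem drop_le {R : Type u} [CommRing R] [IsLocalRing R] {V : Type u} [AddCommGroup V] [Module R V] :
    ∀ (j : ℕ) (l : List V), lspan R (l.drop (j + 1)) ≤ lspan R (l.drop j)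
  | 0, [] => le_rfl
  | 0, e :: l => lspan_le_cons e l
  | j + 1, [] => le_rfl
  | j + 1, e :: l => drop_le j l

variable {X : Scheme.{u}} [IsLocallyNoetherian X] {δ : X → ℤ} (hd : Cyc.IsDimFun X δ)

include hd in
theorem cl_eq_cycle {a a' : ℤ} (haa : a ≤ a') {A : X.Modules} (hA : Cyc.CohLe δ a A) :
    Cyc.CohLe δ a (Cyc.cycleSheafPos (Cyc.sheafFun δ a A)) ∧
      cl δ a a' A = cl δ a a' (Cyc.cycleSheafPos (Cyc.sheafFun δ a A)) := by
  classical
  let P : Set X := {ξ : X | δ ξ = a ∧ Nontrivial (A.presheaf.stalk ξ)}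
  have hP : GenPts A P := genPts_top hd hA
  haveI := hA.1.1
  have hfinfun : ∀ U : X.Opens, IsAffineOpen U → ((U : Set X) ∩ Function.support (Cyc.sheafFun δ a A)).Finite :=
    fun U hU => (hP.finite U hU).subset fun ξ hξ => by
      refine ⟨hξ.1, ?_⟩
      have h := hξ.2
      rw [Function.mem_support, Cyc.sheafFun] at h
      split_ifs at h with h1
      · refine ⟨h1, not_subsingleton_iff_nontrivial.1 fun hs => h ?_⟩
        rw [Module.length_eq_zero]
        rfl
      · exact absurd rfl h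
  obtain ⟨hC, hCfun⟩ := cycleSheafPos_spec hd hfinfun fun x hx => if_neg hx
  refine ⟨hC, ?_⟩
  -- the pure quotient
  let S0 := genFam A P (fun _ => ⊥)
  let π := cokernel.π (incl S0)
  let A' := cokernel (incl S0)
  have hA' : Cyc.CohLe δ a A' := cohLe_of_epi π hA (CohDev.isCoh_cokernel _ (isCoh_genSub hA.1 hP).1 hA.1).1
  haveI := hA'.1.1
  have hπP : ∀ ξ ∈ P, Function.Bijective (stalkLin π ξ) := fun ξ hξ => by
    refine ⟨(injective_iff_map_eq_zero _).2 fun t ht => ?_, stalk_surjective π ξ⟩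
    obtain ⟨w, rfl⟩ := (stalk_exact_cokernel (incl S0) ξ t).1 ht
    have h : stalkLin (incl S0) ξ w ∈ LinearMap.range (stalkLin (incl S0) ξ) := ⟨w, rfl⟩
    rw [range_stalk_incl hP, genFam_self hP hξ] at h
    exact h
  have hsubA : ∀ y : X, δ y = a → y ∉ P → Subsingleton (A'.presheaf.stalk y) := fun y hy hyP => by
    haveI : Subsingleton (A.presheaf.stalk y) := not_nontrivial_iff_subsingleton.1 fun hn => hyP ⟨hy, hn⟩
    exact (stalk_surjective π y).subsingleton
  have hπa : ∀ y, δ y = a → Function.Bijective (stalkLin π y) := fun y hy => by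
    by_cases hyP : y ∈ P
    · exact hπP y hyP
    · haveI : Subsingleton (A.presheaf.stalk y) := not_nontrivial_iff_subsingleton.1 fun hn => hyP ⟨hy, hn⟩
      exact ⟨Function.injective_of_subsingleton _, stalk_surjective π y⟩
  have hP' : GenPts A' P := ⟨hP.finite, hP.incomp, fun ξ hξ =>
    Module.length_ne_top_iff.1 ((LinearEquiv.ofBijective (stalkLin π ξ) (hπP ξ hξ)).length_eq ▸
      Module.length_ne_top_iff.2 (hP.len ξ hξ))⟩
  have hpure : ∀ (y : X) (t : A'.presheaf.stalk y), (∀ ξ ∈ P, ∀ h : ξ ⤳ y, Ref1.sp A' h t = 0) → t = 0 := by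
    intro y t ht
    obtain ⟨t, rfl⟩ := stalk_surjective π y t
    have h0 : t ∈ S0 y := fun ξ hξ h => by
      refine (Submodule.mem_bot (X.presheaf.stalk ξ)).2 ((hπP ξ hξ).1 ?_)
      rw [stalkLin_sp, ht ξ hξ h, map_zero]
    obtain ⟨w, rfl⟩ := (range_stalk_incl hP y).ge h0
    exact (stalk_exact_cokernel (incl S0) y _).2 ⟨w, rfl⟩
  -- series
  have hser : ∀ ξ : P, ∃ l : List (A'.presheaf.stalk ξ.1), IsSer (X.presheaf.stalk ξ.1) l ∧
      lspan (X.presheaf.stalk ξ.1) l = ⊤ ∧ ∃ m, l.length = m + 1 := fun ξ => by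
    haveI := (isFiniteLength_iff_isNoetherian_isArtinian.1 (hP'.len ξ.1 ξ.2)).1
    obtain ⟨l, hl, htop⟩ := ModIdx.exists_series (exists_pow_le_annihilator (hP'.len ξ.1 ξ.2)) ⊤
    refine ⟨l, hl, htop, l.length - 1, ?_⟩
    cases l with
    | nil =>
      haveI : Nontrivial (A.presheaf.stalk ξ.1) := ξ.2.2
      haveI := (hπP ξ.1 ξ.2).1.nontrivial
      exact absurd htop bot_ne_top
    | cons e l => simp
  choose l hl htop m hm using hser
  let D : ∀ ξ : P, ℕ → Submodule (X.presheaf.stalk ξ.1) (A'.presheaf.stalk ξ.1) :=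
    fun ξ j => lspan (X.presheaf.stalk ξ.1) ((l ξ).drop j)
  have hDlast : ∀ ξ : P, D ξ (m ξ + 1) = ⊥ := fun ξ => by
    show lspan _ ((l ξ).drop (m ξ + 1)) = ⊥
    rw [List.drop_of_length_le (hm ξ).le]
    rfl
  let W : P → ℕ → ∀ η : X, Submodule (X.presheaf.stalk η) (A'.presheaf.stalk η) := fun ξ j =>
    Function.update (fun η => (⊥ : Submodule (X.presheaf.stalk η) (A'.presheaf.stalk η))) ξ.1 (D ξ j)
  let G : P → ℕ → X.Modules := fun ξ j => sub (genFam A' P (W ξ j))
  have hW : ∀ (ξ : P) j, W ξ j ξ.1 = D ξ j := fun ξ j => Function.update_self ..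
  have hW' : ∀ (ξ : P) j η, η ≠ ξ.1 → W ξ j η = ⊥ := fun ξ j η h => Function.update_of_ne h ..
  have hG : ∀ ξ j, Cyc.CohLe δ a (G ξ j) := fun ξ j =>
    cohLe_of_mono (incl _) (isCoh_genSub hA'.1 hP').1 hA'
  have hGsupp : ∀ (ξ : P) j (y : X), ¬ ξ.1 ⤳ y → Subsingleton ((G ξ j).presheaf.stalk y) := fun ξ j y hy => by
    refine subsingleton_of_forall_eq 0 fun w => CohDev.stalk_injective (incl _) y ?_
    rw [map_zero]
    refine hpure y _ fun η hη h => ?_
    have hmem : stalkLin (incl (genFam A' P (W ξ j))) y w ∈ genFam A' P (W ξ j) y :=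
      (range_stalk_incl hP' y).le ⟨w, rfl⟩
    have := hmem η hη h
    rwa [hW' ξ j η (fun e => hy (e ▸ h)), Submodule.mem_bot] at this
  have hGrange : ∀ (ξ : P) j, LinearMap.range (stalkLin (incl (genFam A' P (W ξ j))) ξ.1) = D ξ j := fun ξ j => by
    rw [range_stalk_incl hP', genFam_self hP' ξ.2, hW]
  have hGe : ∀ (ξ : P) j, Nonempty ((G ξ j).presheaf.stalk ξ.1 ≃ₗ[X.presheaf.stalk ξ.1] D ξ j) := fun ξ j =>
    ⟨(LinearEquiv.ofInjective _ (CohDev.stalk_injective _ _)).trans (LinearEquiv.ofEq _ _ (hGrange ξ j))⟩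
  have hGother : ∀ (ξ : P) j (y : X), δ y = a → y ≠ ξ.1 → Subsingleton ((G ξ j).presheaf.stalk y) :=
    fun ξ j y hy hne => hGsupp ξ j y fun h => hne (eq_of_specializes hd h (by rw [ξ.2.1, hy])).symm
  -- the coproducts
  let ιT : Type u := Σ ξ : P, Fin (m ξ + 1)
  let ιS : Type u := Σ ξ : P, Fin (m ξ)
  let FT : ιT → X.Modules := fun i => G i.1 i.2.1
  let FS : ιS → X.Modules := fun i => G i.1 (i.2.1 + 1)
  let T := ∐ FT
  let S := ∐ FS
  have hT : Cyc.CohLe δ a T := cohLe_sigma FT (fun i => hG _ _) fun U hU => by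
    refine ⟨((((hP.finite U hU).preimage Subtype.val_injective.injOn).toFinset : Finset P)).sigma fun _ => Finset.univ,
      fun i hi y hy => hGsupp _ _ y fun h => hi ?_⟩
    rw [Finset.mem_sigma, Set.Finite.mem_toFinset]
    exact ⟨⟨h.mem_open U.2 hy, i.1.2⟩, Finset.mem_univ _⟩
  have hS : Cyc.CohLe δ a S := cohLe_sigma FS (fun i => hG _ _) fun U hU => by
    refine ⟨((((hP.finite U hU).preimage Subtype.val_injective.injOn).toFinset : Finset P)).sigma fun _ => Finset.univ,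
      fun i hi y hy => hGsupp _ _ y fun h => hi ?_⟩
    rw [Finset.mem_sigma, Set.Finite.mem_toFinset]
    exact ⟨⟨h.mem_open U.2 hy, i.1.2⟩, Finset.mem_univ _⟩
  have hTe : ∀ ξ : P, ∃ e : (∀ j : Fin (m ξ + 1), (FT ⟨ξ, j⟩).presheaf.stalk ξ.1) ≃ₗ[X.presheaf.stalk ξ.1]
      T.presheaf.stalk ξ.1, ∀ v, e v = ∑ j, stalkLin (Sigma.ι FT ⟨ξ, j⟩) ξ.1 (v j) := fun ξ =>
    exists_stalk_sigma' FT (fun j => (⟨ξ, j⟩ : ιT)) (fun i j h => eq_of_heq (Sigma.mk.inj_iff.1 h).2) ξ.1 fun i hi =>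
      hGother _ _ ξ.1 ξ.2.1 fun e => hi (by
        obtain ⟨⟨η, hη⟩, j⟩ := i
        obtain rfl : ξ.1 = η := e
        exact ⟨j, rfl⟩)
  have hSe : ∀ ξ : P, ∃ e : (∀ j : Fin (m ξ), (FS ⟨ξ, j⟩).presheaf.stalk ξ.1) ≃ₗ[X.presheaf.stalk ξ.1]
      S.presheaf.stalk ξ.1, ∀ v, e v = ∑ j, stalkLin (Sigma.ι FS ⟨ξ, j⟩) ξ.1 (v j) := fun ξ =>
    exists_stalk_sigma' FS (fun j => (⟨ξ, j⟩ : ιS)) (fun i j h => eq_of_heq (Sigma.mk.inj_iff.1 h).2) ξ.1 fun i hi =>
      hGother _ _ ξ.1 ξ.2.1 fun e => hi (by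
        obtain ⟨⟨η, hη⟩, j⟩ := i
        obtain rfl : ξ.1 = η := e
        exact ⟨j, rfl⟩)
  have hTsub : ∀ y : X, δ y = a → y ∉ P → Subsingleton (T.presheaf.stalk y) := fun y hy hyP => by
    obtain ⟨e, -⟩ := exists_stalk_sigma FT ∅ y fun i _ => hGother _ _ y hy fun e => hyP (e ▸ i.1.2)
    exact e.symm.injective.subsingleton
  have hSsub : ∀ y : X, δ y = a → y ∉ P → Subsingleton (S.presheaf.stalk y) := fun y hy hyP => by
    obtain ⟨e, -⟩ := exists_stalk_sigma FS ∅ y fun i _ => hGother _ _ y hy fun e => hyP (e ▸ i.1.2)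
    exact e.symm.injective.subsingleton
  -- `T` is generically `A' ⊕ S`
  have hSA := cohLe_biprod hA' hS
  have hTSA : ∀ ξ, δ ξ = a → Nonempty (T.presheaf.stalk ξ ≃ₗ[X.presheaf.stalk ξ] (A' ⊞ S).presheaf.stalk ξ) := by
    intro ξ hξ
    obtain ⟨eb⟩ := nonempty_biprod_stalk A' S ξ
    by_cases hξP : ξ ∈ P
    · obtain ⟨eT, -⟩ := hTe ⟨ξ, hξP⟩
      obtain ⟨eS, -⟩ := hSe ⟨ξ, hξP⟩
      obtain ⟨e0⟩ := hGe ⟨ξ, hξP⟩ 0
      let eA : D ⟨ξ, hξP⟩ 0 ≃ₗ[X.presheaf.stalk ξ] A'.presheaf.stalk ξ :=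
        LinearEquiv.ofTop _ (htop ⟨ξ, hξP⟩)
      exact ⟨eT.symm ≪≫ₗ (Fin.consLinearEquiv (X.presheaf.stalk ξ)
        (fun j : Fin (m ⟨ξ, hξP⟩ + 1) => (FT ⟨⟨ξ, hξP⟩, j⟩).presheaf.stalk ξ)).symm ≪≫ₗ
        ((e0 ≪≫ₗ eA).prodCongr eS) ≪≫ₗ eb.symm⟩
    · haveI := hTsub ξ hξ hξP
      haveI := hsubA ξ hξ hξP
      haveI := hSsub ξ hξ hξP
      haveI : Subsingleton ((A' ⊞ S).presheaf.stalk ξ) := eb.injective.subsingleton
      exact ⟨{ toFun := 0, invFun := 0, map_add' := fun _ _ => Subsingleton.elim _ _,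
               map_smul' := fun _ _ => Subsingleton.elim _ _, left_inv := fun _ => Subsingleton.elim _ _,
               right_inv := fun _ => Subsingleton.elim _ _ }⟩
  -- the map `S ⟶ T`
  choose inc hinc using fun (ξ : P) (j : ℕ) => exists_sub_hom (M := A') (S' := genFam A' P (W ξ (j + 1)))
    (S := genFam A' P (W ξ j)) (fun y t ht η hη h => by
      have := ht η hη h
      by_cases he : η = ξ.1
      · subst he
        rw [hW] at this ⊢
        exact drop_le j (l ξ) this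
      · rw [hW' ξ (j + 1) η he] at this
        rw [hW' ξ j η he]
        exact this)
  let g : S ⟶ T := Sigma.desc fun i : ιS => inc i.1 i.2.1 ≫ Sigma.ι FT ⟨i.1, i.2.castSucc⟩
  have hg : ∀ (ξ : P) (j : Fin (m ξ)) (w : (FS ⟨ξ, j⟩).presheaf.stalk ξ.1),
      stalkLin g ξ.1 (stalkLin (Sigma.ι FS ⟨ξ, j⟩) ξ.1 w) =
        stalkLin (Sigma.ι FT ⟨ξ, j.castSucc⟩) ξ.1 (stalkLin (inc ξ j.1) ξ.1 w) := fun ξ j w => by
    rw [← CohDev.stalkLin_comp_apply, ← CohDev.stalkLin_comp_apply]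
    congr 2
    exact Sigma.ι_desc _ _
  have hincinj : ∀ (ξ : P) (j : ℕ), Function.Injective (stalkLin (inc ξ j) ξ.1) := fun ξ j s t e => by
    refine CohDev.stalk_injective (incl (genFam A' P (W ξ (j + 1)))) ξ.1 ?_
    rw [← hinc ξ j, CohDev.stalkLin_comp_apply, CohDev.stalkLin_comp_apply, e]
  have hginj : ∀ y, δ y = a → Function.Injective (stalkLin g y) := fun y hy => by
    by_cases hyP : y ∈ P
    · obtain ⟨eS, heS⟩ := hSe ⟨y, hyP⟩
      obtain ⟨eT, heT⟩ := hTe ⟨y, hyP⟩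
      have key : ∀ v : ∀ j : Fin (m ⟨y, hyP⟩), (FS ⟨⟨y, hyP⟩, j⟩).presheaf.stalk y,
          stalkLin g y (eS v) = eT (Fin.snoc (α := fun j => (FT ⟨⟨y, hyP⟩, j⟩).presheaf.stalk y)
            (fun j => stalkLin (inc ⟨y, hyP⟩ j.1) y (v j)) 0) := fun v => by
        rw [heS, map_sum, heT, Fin.sum_univ_castSucc]
        simp only [Fin.snoc_castSucc, Fin.snoc_last, map_zero, add_zero]
        exact Finset.sum_congr rfl fun j _ => hg ⟨y, hyP⟩ j (v j)
      intro s t e
      obtain ⟨v, rfl⟩ := eS.surjective s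
      obtain ⟨w, rfl⟩ := eS.surjective t
      rw [key, key] at e
      refine congrArg eS (funext fun j => hincinj ⟨y, hyP⟩ j.1 ?_)
      have := congrFun (eT.injective e) j.castSucc
      simpa only [Fin.snoc_castSucc] using this
    · haveI := hSsub y hy hyP
      exact Function.injective_of_subsingleton _
  have hgkill : ∀ y, δ y = a → ∀ r ∈ maximalIdeal (X.presheaf.stalk y), ∀ t : T.presheaf.stalk y,
      r • t ∈ LinearMap.range (stalkLin g y) := by
    intro y hy r hr t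
    by_cases hyP : y ∈ P
    · obtain ⟨eT, heT⟩ := hTe ⟨y, hyP⟩
      obtain ⟨v, rfl⟩ := eT.surjective t
      rw [heT, Finset.smul_sum, Fin.sum_univ_castSucc]
      refine add_mem (Submodule.sum_mem _ fun j _ => ?_) ?_
      · rw [← map_smul]
        have hx : stalkLin (incl (genFam A' P (W ⟨y, hyP⟩ j.castSucc.1))) y (r • v j.castSucc) ∈
            D ⟨y, hyP⟩ (j.1 + 1) := by
          rw [map_smul]
          exact smul_drop _ (l ⟨y, hyP⟩) (hl _) r hr _ ((hGrange ⟨y, hyP⟩ j.castSucc.1).le ⟨_, rfl⟩)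
        rw [← hGrange] at hx
        obtain ⟨w, hw⟩ := hx
        refine ⟨stalkLin (Sigma.ι FS ⟨⟨y, hyP⟩, j⟩) y w, (hg ⟨y, hyP⟩ j w).trans (congrArg _ ?_)⟩
        refine CohDev.stalk_injective (incl (genFam A' P (W ⟨y, hyP⟩ j.castSucc.1))) y ?_
        rw [← hw, ← CohDev.stalkLin_comp_apply]
        congr 2
        exact hinc _ _
      · rw [← map_smul]
        have h0 : r • v (Fin.last _) = 0 := by
          refine CohDev.stalk_injective (incl (genFam A' P (W ⟨y, hyP⟩ (Fin.last (m ⟨y, hyP⟩)).1))) y ?_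
          rw [map_zero, map_smul]
          have := smul_drop _ (l ⟨y, hyP⟩) (hl _) r hr _
            ((hGrange ⟨y, hyP⟩ (Fin.last (m ⟨y, hyP⟩)).1).le ⟨v (Fin.last _), rfl⟩)
          exact (Submodule.mem_bot _).1 ((hDlast ⟨y, hyP⟩).le this)
        rw [h0, map_zero]
        exact zero_mem _
    · haveI := hTsub y hy hyP
      rw [Subsingleton.elim (r • t) 0]
      exact zero_mem _
  -- comparison of the cokernel with the cycle sheaf
  let C := cokernel g
  have hCc : Cyc.CohLe δ a C := cohLe_of_epi (cokernel.π g) hT (CohDev.isCoh_cokernel g hS.1.1 hT.1).1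
  have hfl : ∀ {F : X.Modules}, Cyc.CohLe δ a F → ∀ y, δ y = a →
      Module.length (X.presheaf.stalk y) (F.presheaf.stalk y) ≠ ⊤ := fun {F} hF y hy =>
    Module.length_ne_top_iff.2 (finiteLength_stalk hd (k := a - 1) (by rwa [sub_add_cancel]) (by rw [hy]; ring))
  have hClen : ∀ y, δ y = a → Module.length (X.presheaf.stalk y) (C.presheaf.stalk y) =
      Module.length (X.presheaf.stalk y) (A.presheaf.stalk y) := fun y hy => by
    obtain ⟨e⟩ := hTSA y hy
    obtain ⟨eb⟩ := nonempty_biprod_stalk A' S y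
    have h1 := Module.length_eq_add_of_exact (stalkLin g y) (stalkLin (cokernel.π g) y) (hginj y hy)
      (stalk_surjective _ y) (stalk_exact_cokernel g y)
    rw [(e.trans eb).length_eq, Module.length_prod, ← (LinearEquiv.ofBijective _ (hπa y hy)).length_eq,
      add_comm _ (Module.length _ (C.presheaf.stalk y))] at h1
    exact ((WithTop.add_right_inj (hfl hS y hy)).1 h1).symm
  have hCpos : ∀ y, δ y = a → Nonempty (C.presheaf.stalk y ≃ₗ[X.presheaf.stalk y]
      (Cyc.cycleSheafPos (Cyc.sheafFun δ a A)).presheaf.stalk y) := fun y hy => by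
    refine nonempty_linearEquiv_of_killed (fun r hr t => ?_) (fun r hr t => ?_) ?_ (hfl hCc y hy)
    · obtain ⟨t, rfl⟩ := stalk_surjective (cokernel.π g) y t
      obtain ⟨w, hw⟩ := hgkill y hy r hr t
      rw [← map_smul, ← hw, ← CohDev.stalkLin_comp_apply, cokernel.condition, CohDev.stalkLin_zero_apply]
    · let ι' : Type u := Σ ζ : {ζ : X // 0 < Cyc.sheafFun δ a A ζ}, Fin (Cyc.sheafFun δ a A ζ.1).toNat
      let F : ι' → X.Modules := fun i => Cyc.closureStructureSheaf i.1.1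
      have hother : ∀ i : ι', i.1.1 ≠ y → Subsingleton ((F i).presheaf.stalk y) := fun i hne =>
        not_nontrivial_iff_subsingleton.1 fun hn => by
          have h2 : δ i.1.1 = a := by
            by_contra h
            have := i.1.2
            rw [Cyc.sheafFun, if_neg h] at this
            exact lt_irrefl _ this
          exact hne (eq_of_specializes hd (specializes_iff_mem_closure.2 (CohDev.support_oz_subset i.1.1
            (not_subsingleton_iff_nontrivial.2 hn))) (by rw [h2, hy]))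
      by_cases hpos : 0 < Cyc.sheafFun δ a A y
      · obtain ⟨e, he⟩ := exists_stalk_sigma' F (fun j : Fin (Cyc.sheafFun δ a A y).toNat => (⟨⟨y, hpos⟩, j⟩ : ι'))
          (fun i j h => eq_of_heq (Sigma.mk.inj_iff.1 h).2) y fun i hi => hother i fun he => hi (by
            obtain ⟨⟨ζ, hζ⟩, j⟩ := i
            obtain rfl : ζ = y := he
            exact ⟨j, rfl⟩)
        obtain ⟨v, rfl⟩ := e.surjective t
        refine (map_smul e r v).symm.trans ?_
        rw [show r • v = 0 from funext fun j => CohDev.smul_stalk_oz y hr (v j)]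
        exact map_zero e
      · obtain ⟨e, -⟩ := exists_stalk_sigma F ∅ y fun i _ => hother i fun he => hpos (he ▸ i.1.2)
        haveI : Subsingleton ((∐ F).presheaf.stalk y) := e.symm.injective.subsingleton
        exact Subsingleton.elim (α := (∐ F).presheaf.stalk y) _ _
    · rw [hClen y hy]
      have := congrFun hCfun y
      simp only [Cyc.sheafFun, if_pos hy, Int.toNat_natCast, Nat.cast_inj] at this
      rw [← ENat.coe_toNat (hfl hA y hy), ← this, ENat.coe_toNat (hfl hC y hy)]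
  -- conclusion
  have hker : Cyc.CohLe δ (a - 1) (kernel g) := by
    have hK := cohLe_of_mono (kernel.ι g) (CohDev.isCoh_kernel g hS.1 hT.1.1).1 hS
    refine ⟨hK.1, fun y hy => ?_⟩
    have h1 := hK.2 y hy
    by_contra h2
    exact not_nontrivial_iff_subsingleton.2 (subsingleton_stalk_kernel g y (hginj y (by omega))) hy
  have e1 := cl_map (a := a) g (cohLe_mono haa hS) (cohLe_mono haa hT)
  rw [cl_zero hker, sub_zero, cl_eq_of_stalk_equiv hd haa hT hSA hTSA,
    cl_biprod (cohLe_mono haa hA') (cohLe_mono haa hS), cl_eq_of_stalk_equiv hd haa hCc hC hCpos] at e1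
  rw [cl_eq_of_map haa π hA hA' hπa]
  linear_combination (norm := abel) -e1

end Groth.Agent.CycLib.Dev
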