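import Groth.Agent.CycLib.DevPhi
import Groth.Agent.CycLib.DevSwindle

/-!
Lattices in the stalk of the structure sheaf of an integral closed subscheme at its generic point, and
principal divisors.
-/

set_option autoImplicit false
set_option linter.style.haveILetI false

universe u

open CategoryTheory AlgebraicGeometry IsLocalRing

namespace Groth.Agent.CycLib.Dev

open ModIdx Groth.Agent.PullStalk.Sky Groth.Agent.PullStalk.Exact

theorem rlen_top {A V : Type u} [CommRing A] [AddCommGroup V] [Module A V] (Q : Submodule A V) :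
    rlen (⊤ : Submodule A V) Q = Module.length A (V ⧸ Q) := by
  refine LinearEquiv.length_eq (Submodule.Quotient.equiv _ _ Submodule.topEquiv ?_)
  ext v
  exact ⟨fun ⟨w, hw, hwv⟩ => hwv ▸ hw, fun hv => ⟨⟨v, trivial⟩, hv, rfl⟩⟩

variable {X : Scheme.{u}}

/-- The stalks of the structure sheaf of the closure of a point are cyclic. -/
theorem exists_oz_gen {x ξ : X} (h : ξ ⤳ x) :
    ∃ g : (Cyc.closureStructureSheaf ξ).presheaf.stalk x,
      (∀ t, ∃ r : X.presheaf.stalk x, r • g = t) ∧
        ∀ r : X.presheaf.stalk x, r • g = 0 ↔ r ∈ (ptPrime x ξ h).asIdeal := by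
  obtain ⟨V, hV, hx, -⟩ := exists_isAffineOpen_mem_and_subset (X := X) (TopologicalSpace.Opens.mem_top x)
  have hξ : ξ ∈ V := h.mem_open V.2 hx
  letI := TopCat.Presheaf.algebra_section_stalk X.presheaf (⟨x, hx⟩ : V)
  haveI := hV.isLocalization_stalk ⟨x, hx⟩
  refine ⟨germM _ V x hx (CohDev.ozGen ξ V), fun t => ?_, fun r => ?_⟩
  · obtain ⟨a, s, hs, hst⟩ := CohDev.germ_ozGen_generates ξ ⟨V, hV⟩ hx t
    obtain ⟨u, hu⟩ := hs
    refine ⟨↑u⁻¹ * X.presheaf.germ V x hx a, ?_⟩
    rw [mul_smul, ← germM_smul, ← hst, ← hu, smul_smul, u.inv_mul, one_smul]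
  · obtain ⟨⟨a, ⟨s, hs⟩⟩, hr⟩ := IsLocalization.surj (hV.primeIdealOf ⟨x, hx⟩).asIdeal.primeCompl r
    replace hr : r * X.presheaf.germ V x hx s = X.presheaf.germ V x hx a := hr
    have hsu : IsUnit (X.presheaf.germ V x hx s) := (CycLib.not_mem_primeIdealOf_iff hV hx s).1 hs
    refine hsu.smul_eq_zero.symm.trans ?_
    rw [smul_smul, mul_comm, hr, ← germM_smul,
      CohDev.germ_smul_ozGen_eq_zero_iff ξ ⟨V, hV⟩ hx hξ (specializes_iff_mem_closure.1 h),
      CohDev.ideal_ptIdeal ξ (V := ⟨V, hV⟩) hξ,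
      ← (ptPrime x ξ h).asIdeal.mul_unit_mem_iff_mem (x := r) hsu, hr]
    show _ ↔ Cyc.specMap x ξ h (X.presheaf.germ V x hx a) = 0
    rw [specMap_germ, ← not_iff_not, CycLib.not_mem_primeIdealOf_iff hV hξ a]
    exact (IsLocalRing.residue_ne_zero_iff_isUnit _).symm

variable [IsLocallyNoetherian X] {δ : X → ℤ} {k : ℤ}

/-- Stalks of the structure sheaf of the closure of a point inject into the generic stalk. -/
theorem spLin_oz_injective {x ξ : X} (h : ξ ⤳ x) :
    Function.Injective (spLin (Cyc.closureStructureSheaf ξ) h) := by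
  letI := stalkModule (Cyc.closureStructureSheaf ξ) h
  haveI := (CohDev.isCoh_oz ξ).1
  haveI := isLocalizedModule_spLin (Cyc.closureStructureSheaf ξ) h
  refine (injective_iff_map_eq_zero (spLin (Cyc.closureStructureSheaf ξ) h)).2 fun t ht => ?_
  obtain ⟨⟨c, hc⟩, hct⟩ := IsLocalizedModule.exists_of_eq (S := (ptPrime x ξ h).asIdeal.primeCompl)
    (f := spLin (Cyc.closureStructureSheaf ξ) h) (ht.trans (map_zero _).symm)
  rw [smul_zero] at hct
  replace hct : c • t = 0 := hct
  obtain ⟨g, hg, hg0⟩ := exists_oz_gen h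
  obtain ⟨r, rfl⟩ := hg t
  rw [smul_smul, hg0] at hct
  exact (hg0 r).2 (((ptPrime x ξ h).isPrime.mem_or_mem hct).resolve_left hc)

variable (hd : Cyc.IsDimFun X δ)

include hd in
/-- The index of the lattice of the stalk and its multiple by a rational function. -/
theorem idx_oz_smul {x ξ : X} (h : ξ ⤳ x) (hx : δ x = k) (hξ : δ ξ = k + 1) {r : X.presheaf.stalk ξ}
    (hr : IsUnit r) :
    letI := stalkModule (Cyc.closureStructureSheaf ξ) h
    ∃ F : (Cyc.closureStructureSheaf ξ).presheaf.stalk ξ →ₗ[X.presheaf.stalk x]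
        (Cyc.closureStructureSheaf ξ).presheaf.stalk ξ, (∀ v, F v = r • v) ∧ Function.Injective F ∧
      Com (LinearMap.range (spLin (Cyc.closureStructureSheaf ξ) h))
        ((LinearMap.range (spLin (Cyc.closureStructureSheaf ξ) h)).map F) ∧
      idx (LinearMap.range (spLin (Cyc.closureStructureSheaf ξ) h))
        ((LinearMap.range (spLin (Cyc.closureStructureSheaf ξ) h)).map F) =
          Cyc.divFun δ ξ (X.residue ξ r) x := by
  letI := stalkModule (Cyc.closureStructureSheaf ξ) h
  letI := (X.presheaf.stalkSpecializes h).hom.toAlgebra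
  haveI : IsLocalization.AtPrime (X.presheaf.stalk ξ) (ptPrime x ξ h).asIdeal := isLocalization_stalkSpecializes h
  let F : (Cyc.closureStructureSheaf ξ).presheaf.stalk ξ →ₗ[X.presheaf.stalk x]
      (Cyc.closureStructureSheaf ξ).presheaf.stalk ξ :=
    { toFun := fun v => r • v
      map_add' := smul_add r
      map_smul' := fun a v => smul_comm r (Ref1.spR h a) v }
  have hF : Function.Injective F := fun v w e => hr.smul_left_cancel.1 (show r • v = r • w from e)
  refine ⟨F, fun _ => rfl, hF, ?_⟩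
  obtain ⟨⟨a, ⟨b, hb⟩⟩, hab⟩ := IsLocalization.surj (ptPrime x ξ h).asIdeal.primeCompl r
  have hab' : r * algebraMap _ (X.presheaf.stalk ξ) b = algebraMap _ _ a := hab
  have hsb : Cyc.specMap x ξ h b ≠ 0 := fun e0 => hb e0
  have hres : Cyc.specMap x ξ h a = X.residue ξ r * Cyc.specMap x ξ h b := by
    show X.residue ξ (algebraMap _ _ a) = X.residue ξ r * X.residue ξ (algebraMap _ _ b)
    rw [← map_mul, hab']
  have hsa : Cyc.specMap x ξ h a ≠ 0 := by
    rw [hres]
    exact mul_ne_zero (hr.map (X.residue ξ).hom).ne_zero hsb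
  let j := spLin (Cyc.closureStructureSheaf ξ) h
  let P := LinearMap.range j
  let μ : X.presheaf.stalk x → ((Cyc.closureStructureSheaf ξ).presheaf.stalk ξ →ₗ[X.presheaf.stalk x]
      (Cyc.closureStructureSheaf ξ).presheaf.stalk ξ) := fun c => LinearMap.lsmul _ _ c
  have key : ∀ c, Cyc.specMap x ξ h c ≠ 0 → Com P (P.map (μ c)) ∧
      idx P (P.map (μ c)) = LenLib.ordZ (Ideal.Quotient.mk (RingHom.ker (Cyc.specMap x ξ h)) c) := by
    intro c hc
    obtain ⟨g, hg, hg0⟩ := exists_oz_gen h
    let φ := LinearMap.toSpanSingleton (X.presheaf.stalk x) ((Cyc.closureStructureSheaf ξ).presheaf.stalk x) g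
    let J : Ideal (X.presheaf.stalk x) := (ptPrime x ξ h).asIdeal ⊔ Ideal.span {c}
    have htop : (⊤ : Submodule (X.presheaf.stalk x) (X.presheaf.stalk x)).map φ = ⊤ := by
      rw [Submodule.map_top, LinearMap.range_eq_top]
      exact hg
    have hJ : Submodule.map φ J = (⊤ : Submodule _ _).map (LinearMap.lsmul (X.presheaf.stalk x)
        ((Cyc.closureStructureSheaf ξ).presheaf.stalk x) c) := by
      refine le_antisymm ?_ ?_
      · rintro _ ⟨v, hv, rfl⟩
        obtain ⟨p, hp, w, hw, rfl⟩ := Submodule.mem_sup.1 hv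
        obtain ⟨w, rfl⟩ := Ideal.mem_span_singleton'.1 hw
        refine ⟨w • g, trivial, ?_⟩
        show c • w • g = (p + w * c) • g
        rw [add_smul, (hg0 p).2 hp, zero_add, smul_smul, mul_comm]
      · rintro _ ⟨v, -, rfl⟩
        obtain ⟨w, rfl⟩ := hg v
        exact ⟨c * w, Submodule.mem_sup_right (Ideal.mem_span_singleton.2 (dvd_mul_right c w)), mul_smul c w g⟩
    have hmap : P.map (μ c) = ((⊤ : Submodule _ _).map (LinearMap.lsmul (X.presheaf.stalk x)
        ((Cyc.closureStructureSheaf ξ).presheaf.stalk x) c)).map j := by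
      simp only [P, μ, ← Submodule.map_top, ← Submodule.map_comp]
      congr 1
      exact LinearMap.ext fun v => (map_smul j c v).symm
    have hle : P.map (μ c) ≤ P := by
      rw [hmap]
      exact LinearMap.map_le_range
    have hker : LinearMap.ker φ ≤ J := fun v hv => Submodule.mem_sup_left ((hg0 v).1 hv)
    have hlen : rlen P (P.map (μ c)) = Module.length (X.presheaf.stalk x) (X.presheaf.stalk x ⧸ J) := by
      rw [hmap, show P = (⊤ : Submodule _ _).map j from (Submodule.map_top j).symm,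
        rlen_map_injective j (spLin_oz_injective h), ← hJ, ← htop, rlen_map_of_ker_le φ hker, rlen_top]
    have hfin : rlen P (P.map (μ c)) ≠ ⊤ := by
      rw [hlen, ← rlen_top]
      refine rlen_ne_top (P0 := ⊤) (Module.finite_def.1 inferInstance) le_sup_left fun q hq hqm v _ => ?_
      by_cases hle : (ptPrime x ξ h).asIdeal ≤ q
      · obtain rfl := (primes_over hd hx hξ h q hq hle).resolve_right hqm
        exact ⟨c, fun hc' => hc hc', Submodule.mem_sup_right (Ideal.mul_mem_right _ _ (Ideal.mem_span_singleton_self c))⟩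
      · obtain ⟨s, hs, hsq⟩ := SetLike.not_le_iff_exists.1 hle
        exact ⟨s, hsq, Submodule.mem_sup_left (Ideal.mul_mem_right v _ hs)⟩
    refine ⟨⟨hfin, by simp [rlen_eq_zero hle]⟩, ?_⟩
    rw [idx_of_le hle, hlen]
    exact length_quot_prime h c
  obtain ⟨hca, ha⟩ := key a hsa
  obtain ⟨hcb, hb'⟩ := key b hsb
  obtain ⟨hm, hme⟩ := hcb.symm.map_injective F hF
  have hcomp : (P.map (μ b)).map F = P.map (μ a) := by
    rw [← Submodule.map_comp]
    congr 1
    refine LinearMap.ext fun v => ?_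
    show r • (algebraMap _ (X.presheaf.stalk ξ) b) • v = (algebraMap _ (X.presheaf.stalk ξ) a) • v
    rw [smul_smul, hab']
  rw [hcomp] at hm hme
  obtain ⟨hc, hce⟩ := hca.trans hm
  refine ⟨hc, ?_⟩
  rw [hce, hme, idx_symm P, ha, hb', Cyc.divFun, dif_pos ⟨h, by omega⟩,
    show X.residue ξ r = Cyc.specMap x ξ h a / Cyc.specMap x ξ h b by rw [hres, mul_div_assoc, div_self hsb, mul_one],
    ordAt_div hd h (by omega) hsa hsb]
  ring

include hd in
/-- Two maps to the structure sheaf of the closure of a point differing generically by a rational function. -/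
theorem oz_component {x ξ : X} (h : ξ ⤳ x) (hx : δ x = k) (hξ : δ ξ = k + 1) {r : X.presheaf.stalk ξ}
    (hr : IsUnit r) {H : X.Modules} (p q : H ⟶ Cyc.closureStructureSheaf ξ)
    (hpq : ∀ t, stalkLin q ξ t = r • stalkLin p ξ t)
    (hfin : Module.length (X.presheaf.stalk x) (_ ⧸ LinearMap.range (stalkLin p x)) ≠ ⊤) :
    LinearMap.ker (stalkLin p x) = LinearMap.ker (stalkLin q x) ∧
      Module.length (X.presheaf.stalk x) (_ ⧸ LinearMap.range (stalkLin q x)) ≠ ⊤ ∧
      ((Module.length (X.presheaf.stalk x) (_ ⧸ LinearMap.range (stalkLin q x))).toNat : ℤ) -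
        (Module.length (X.presheaf.stalk x) (_ ⧸ LinearMap.range (stalkLin p x))).toNat =
          Cyc.divFun δ ξ (X.residue ξ r) x := by
  letI := stalkModule (Cyc.closureStructureSheaf ξ) h
  obtain ⟨F, hF, hFi, hc, he⟩ := idx_oz_smul hd h hx hξ hr
  let j := spLin (Cyc.closureStructureSheaf ξ) h
  have hj : ∀ t, j (stalkLin q x t) = F (j (stalkLin p x t)) := fun t => by
    show Ref1.sp _ h (stalkLin q x t) = F (Ref1.sp _ h (stalkLin p x t))
    rw [hF, ← stalkLin_sp, ← stalkLin_sp, hpq]
  refine ⟨SetLike.ext fun t => ?_, ?_⟩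
  · rw [LinearMap.mem_ker, LinearMap.mem_ker, ← map_eq_zero_iff j (spLin_oz_injective h),
      ← map_eq_zero_iff j (spLin_oz_injective h) (x := stalkLin q x t), hj, map_eq_zero_iff F hFi]
  have hQ : (LinearMap.range (stalkLin q x)).map j = ((LinearMap.range (stalkLin p x)).map j).map F := by
    rw [← LinearMap.range_comp, ← LinearMap.range_comp, ← LinearMap.range_comp]
    exact congrArg LinearMap.range (LinearMap.ext hj)
  have htop : ∀ Q : Submodule (X.presheaf.stalk x) ((Cyc.closureStructureSheaf ξ).presheaf.stalk x),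
      rlen (LinearMap.range j) (Q.map j) = Module.length (X.presheaf.stalk x) (_ ⧸ Q) := fun Q => by
    rw [← Submodule.map_top j, rlen_map_injective j (spLin_oz_injective h), rlen_top]
  have h0 : Com (LinearMap.range j) ((LinearMap.range (stalkLin p x)).map j) :=
    ⟨by rw [htop]; exact hfin, by simp [rlen_eq_zero (P := (LinearMap.range (stalkLin p x)).map j)
      (Q := LinearMap.range j) LinearMap.map_le_range]⟩
  obtain ⟨h1, h1e⟩ := h0.map_injective F hFi
  obtain ⟨h2, h2e⟩ := hc.trans h1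
  rw [← hQ] at h2 h2e h1e
  refine ⟨htop _ ▸ h2.1, ?_⟩
  rw [← htop, ← htop, ← idx_of_le LinearMap.map_le_range, ← idx_of_le LinearMap.map_le_range, h2e, h1e, he]
  ring

end Groth.Agent.CycLib.Dev
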