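import Groth.Agent.CycLib.DevChange
import Groth.Agent.CohDev.Coh

/-!
The invariant of coherent modules of dimension at most `k + 1` with values in cycles modulo rational equivalence.
-/

set_option autoImplicit false
set_option linter.style.haveILetI false

universe u

open CategoryTheory Limits AlgebraicGeometry IsLocalRing

namespace Groth.Agent.CycLib.Dev

open ModIdx Groth.Agent.PullStalk.Exact Groth.Agent.PullStalk.Sky

variable {X : Scheme.{u}} {δ : X → ℤ} {k : ℤ}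

theorem stalkLin_sp {A B : X.Modules} (f : A ⟶ B) {x ξ : X} (h : ξ ⤳ x) (t : A.presheaf.stalk x) :
    stalkLin f ξ (Ref1.sp A h t) = Ref1.sp B h (stalkLin f x t) := by
  obtain ⟨U, hx, m, rfl⟩ := exists_germM_eq A x t
  rw [Ref1.sp_germ, stalkLin_germ, stalkLin_germ, Ref1.sp_germ]

theorem subsingleton_sub_quot {S : ShortComplex X.Modules} (hS : S.ShortExact) (x : X)
    [Subsingleton (S.X₂.presheaf.stalk x)] :
    Subsingleton (S.X₁.presheaf.stalk x) ∧ Subsingleton (S.X₃.presheaf.stalk x) :=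
  ⟨(stalk_exact hS x).1.subsingleton, (stalk_exact hS x).2.2.subsingleton⟩

variable [IsLocallyNoetherian X] (hd : Cyc.IsDimFun X δ)

include hd in
theorem exists_serFam_add' {S : ShortComplex X.Modules} (hS : S.ShortExact) (h₁ : Cyc.CohLe δ (k + 1) S.X₁)
    (h₂ : Cyc.CohLe δ (k + 1) S.X₂) (h₃ : Cyc.CohLe δ (k + 1) S.X₃)
    {σ₁ : ∀ ξ : X, List (S.X₁.presheaf.stalk ξ)} (hσ₁ : IsSerFam δ k S.X₁ σ₁)
    {σ₃ : ∀ ξ : X, List (S.X₃.presheaf.stalk ξ)} (hσ₃ : IsSerFam δ k S.X₃ σ₃) :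
    ∃ σ₂, IsSerFam δ k S.X₂ σ₂ ∧ cval δ k S.X₂ σ₂ = cval δ k S.X₁ σ₁ + cval δ k S.X₃ σ₃ ∧
      ∀ ξ, (σ₁ ξ = [] → (σ₂ ξ).map (stalkLin S.g ξ) = σ₃ ξ) ∧
        (σ₃ ξ = [] → σ₂ ξ = (σ₁ ξ).map (stalkLin S.f ξ)) := by
  classical
  have hex : ∀ ξ : X, Function.Injective (stalkLin S.f ξ) ∧ Function.Exact (stalkLin S.f ξ) (stalkLin S.g ξ) ∧
    Function.Surjective (stalkLin S.g ξ) := fun ξ => stalk_exact hS ξ
  let lift : ∀ ξ : X, List (S.X₂.presheaf.stalk ξ) := fun ξ => (σ₃ ξ).map (Function.surjInv (hex ξ).2.2)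
  have hlift : ∀ ξ, (lift ξ).map (stalkLin S.g ξ) = σ₃ ξ := fun ξ => by
    simp only [lift, List.map_map]
    exact (List.map_congr_left fun e _ => Function.surjInv_eq (hex ξ).2.2 e).trans (List.map_id _)
  let σ₂ : ∀ ξ : X, List (S.X₂.presheaf.stalk ξ) := fun ξ => lift ξ ++ (σ₁ ξ).map (stalkLin S.f ξ)
  have happ : ∀ ξ, δ ξ = k + 1 → IsSer (X.presheaf.stalk ξ) (σ₂ ξ) ∧
      lspan (X.presheaf.stalk ξ) (σ₂ ξ) = ⊤ := fun ξ hξ => by
    obtain ⟨h, h', -⟩ := append_series (A := X.presheaf.stalk ξ) (stalkLin S.f ξ) (stalkLin S.g ξ) (hex ξ).1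
      (hex ξ).2.1 (hex ξ).2.2 (hσ₁ ξ hξ).1 (hσ₁ ξ hξ).2 (lift ξ) (by rw [hlift]; exact (hσ₃ ξ hξ).1)
    refine ⟨h, ?_⟩
    rw [h', hlift, (hσ₃ ξ hξ).2, Submodule.comap_top]
  refine ⟨σ₂, happ, funext fun x => ?_, fun ξ => ⟨fun h => ?_, fun h => ?_⟩⟩
  rotate_left
  · simp only [σ₂, h, List.map_nil, List.append_nil]
    exact hlift ξ
  · simp only [σ₂, lift, h, List.map_nil, List.nil_append]
  simp only [Pi.add_apply, cval]
  by_cases hx : δ x = k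
  swap
  · rw [if_neg hx, if_neg hx, if_neg hx, add_zero]
  rw [if_pos hx, if_pos hx, if_pos hx]
  have hs := finite_gen hd h₂ x
  have hsub₂ : ∀ i, i ∉ hs.toFinset → Subsingleton (S.X₂.presheaf.stalk i.1) := fun i hi =>
    not_nontrivial_iff_subsingleton.1 fun hn => hi (hs.mem_toFinset.2 hn)
  have hsub₁ : ∀ i, i ∉ hs.toFinset → Subsingleton (S.X₁.presheaf.stalk i.1) := fun i hi => by
    haveI := hsub₂ i hi
    exact (subsingleton_sub_quot hS i.1).1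
  have hsub₃ : ∀ i, i ∉ hs.toFinset → Subsingleton (S.X₃.presheaf.stalk i.1) := fun i hi => by
    haveI := hsub₂ i hi
    exact (subsingleton_sub_quot hS i.1).2
  rw [finsum_cnf happ hsub₂, finsum_cnf hσ₁ hsub₁, finsum_cnf hσ₃ hsub₃]
  letI : ∀ i : Gen δ k x, Module (X.presheaf.stalk x) (S.X₁.presheaf.stalk i.1) :=
    fun i => stalkModule S.X₁ i.2.2
  letI : ∀ i : Gen δ k x, Module (X.presheaf.stalk x) (S.X₂.presheaf.stalk i.1) :=
    fun i => stalkModule S.X₂ i.2.2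
  letI : ∀ i : Gen δ k x, Module (X.presheaf.stalk x) (S.X₃.presheaf.stalk i.1) :=
    fun i => stalkModule S.X₃ i.2.2
  haveI := FDesc.QuasiFlat.finite_stalk_of_isCoh S.X₁ h₁.1 x
  haveI := FDesc.QuasiFlat.finite_stalk_of_isCoh S.X₂ h₂.1 x
  haveI := FDesc.QuasiFlat.finite_stalk_of_isCoh S.X₃ h₃.1 x
  let f : ∀ i : Gen δ k x, S.X₁.presheaf.stalk i.1 →ₗ[X.presheaf.stalk x] S.X₂.presheaf.stalk i.1 := fun i =>
    { toFun := stalkLin S.f i.1
      map_add' := map_add _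
      map_smul' := fun a v => (stalkLin S.f i.1).map_smul (Ref1.spR i.2.2 a) v }
  let g : ∀ i : Gen δ k x, S.X₂.presheaf.stalk i.1 →ₗ[X.presheaf.stalk x] S.X₃.presheaf.stalk i.1 := fun i =>
    { toFun := stalkLin S.g i.1
      map_add' := map_add _
      map_smul' := fun a v => (stalkLin S.g i.1).map_smul (Ref1.spR i.2.2 a) v }
  have hcf : ∀ (i : Gen δ k x) (m : S.X₁.presheaf.stalk x),
      f i (spLin S.X₁ i.2.2 m) = spLin S.X₂ i.2.2 (stalkLin S.f x m) := fun i m => stalkLin_sp S.f i.2.2 m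
  have hcg : ∀ (i : Gen δ k x) (m : S.X₂.presheaf.stalk x),
      g i (spLin S.X₂ i.2.2 m) = spLin S.X₃ i.2.2 (stalkLin S.g x m) := fun i m => stalkLin_sp S.g i.2.2 m
  have hper : ∀ i : Gen δ k x,
      Com ((LinearMap.range (spLin S.X₂ i.2.2)).comap (f i)) (LinearMap.range (spLin S.X₁ i.2.2)) ∧
      cnf S.X₂ i.2.2 (σ₂ i.1) = cnf S.X₁ i.2.2 (σ₁ i.1) + cnf S.X₃ i.2.2 (σ₃ i.1) +
        idx ((LinearMap.range (spLin S.X₂ i.2.2)).comap (f i)) (LinearMap.range (spLin S.X₁ i.2.2)) := fun i => by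
    letI := (X.presheaf.stalkSpecializes i.2.2).hom.toAlgebra
    haveI : IsLocalization.AtPrime (X.presheaf.stalk i.1) (ptPrime x i.1 i.2.2).asIdeal :=
      isLocalization_stalkSpecializes i.2.2
    haveI : IsScalarTower (X.presheaf.stalk x) (X.presheaf.stalk i.1) (S.X₁.presheaf.stalk i.1) :=
      IsScalarTower.of_algebraMap_smul fun _ _ => rfl
    haveI : IsScalarTower (X.presheaf.stalk x) (X.presheaf.stalk i.1) (S.X₂.presheaf.stalk i.1) :=
      IsScalarTower.of_algebraMap_smul fun _ _ => rfl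
    haveI : IsScalarTower (X.presheaf.stalk x) (X.presheaf.stalk i.1) (S.X₃.presheaf.stalk i.1) :=
      IsScalarTower.of_algebraMap_smul fun _ _ => rfl
    obtain ⟨-, -, hnf⟩ := append_series (A := X.presheaf.stalk x) (stalkLin S.f i.1) (stalkLin S.g i.1) (hex i.1).1
      (hex i.1).2.1 (hex i.1).2.2 (hσ₁ i.1 i.2.1).1 (hσ₁ i.1 i.2.1).2 (lift i.1)
      (by rw [hlift]; exact (hσ₃ i.1 i.2.1).1)
    have hL := (lat_range h₂ i.2.2).comap (A := X.presheaf.stalk x) (stalkLin S.f i.1) _ (hex i.1).1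
    have hL' := lat_range h₁ i.2.2
    have hp1 := primes_over hd hx i.2.1 i.2.2
    have hcom := com_lat hp1 (hV hd h₁ i.2.1) hL hL'
    have hsub := nf_sub hp1 (hV hd h₁ i.2.1) hL hL' (σ₁ i.1)
    rw [(hσ₁ i.1 i.2.1).2, Submodule.restrictScalars_top, inf_top_eq, inf_top_eq] at hsub
    refine ⟨hcom, ?_⟩
    have hmap : (LinearMap.range (spLin S.X₂ i.2.2)).map ((stalkLin S.g i.1).restrictScalars (X.presheaf.stalk x)) =
        LinearMap.range (spLin S.X₃ i.2.2) := by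
      apply le_antisymm
      · rintro _ ⟨_, ⟨m, rfl⟩, rfl⟩
        exact ⟨stalkLin S.g x m, (hcg i m).symm⟩
      · rintro _ ⟨m, rfl⟩
        obtain ⟨m, rfl⟩ := (hex x).2.2 m
        exact ⟨_, ⟨m, rfl⟩, hcg i m⟩
    have := hnf (LinearMap.range (spLin S.X₂ i.2.2))
    rw [hlift, hmap] at this
    show nf (X.presheaf.stalk x) (X.presheaf.stalk i.1) (σ₂ i.1) _ = _
    rw [show nf (X.presheaf.stalk x) (X.presheaf.stalk i.1) (σ₂ i.1) _ = _ from this]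
    show _ = nf (X.presheaf.stalk x) (X.presheaf.stalk i.1) (σ₁ i.1) _ +
      nf (X.presheaf.stalk x) (X.presheaf.stalk i.1) (σ₃ i.1) _ + _
    rw [show f i = (stalkLin S.f i.1).restrictScalars (X.presheaf.stalk x) from rfl]
    linear_combination hsub
  have hchi := chi_add (stalkLin S.f x) (stalkLin S.g x) f g (hex x).1 (hex x).2.1 (hex x).2.2
    (fun i => (hex i.1).1) (fun i => (hex i.1).2.1) hcf hcg (isCover hd h₂ hx hsub₂) (isCover hd h₁ hx hsub₁)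
    (isCover hd h₃ hx hsub₃) fun i => (hper i).1
  rw [Finset.sum_congr rfl fun i _ => (hper i).2, Finset.sum_add_distrib, Finset.sum_add_distrib]
  rw [cIdx, cIdx, cIdx, hchi]
  ring

include hd in
theorem exists_serFam_add {S : ShortComplex X.Modules} (hS : S.ShortExact) (h₁ : Cyc.CohLe δ (k + 1) S.X₁)
    (h₂ : Cyc.CohLe δ (k + 1) S.X₂) (h₃ : Cyc.CohLe δ (k + 1) S.X₃)
    {σ₁ : ∀ ξ : X, List (S.X₁.presheaf.stalk ξ)} (hσ₁ : IsSerFam δ k S.X₁ σ₁)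
    {σ₃ : ∀ ξ : X, List (S.X₃.presheaf.stalk ξ)} (hσ₃ : IsSerFam δ k S.X₃ σ₃) :
    ∃ σ₂, IsSerFam δ k S.X₂ σ₂ ∧ cval δ k S.X₂ σ₂ = cval δ k S.X₁ σ₁ + cval δ k S.X₃ σ₃ :=
  (exists_serFam_add' hd hS h₁ h₂ h₃ hσ₁ hσ₃).imp fun _ h => ⟨h.1, h.2.1⟩

open Classical in
/-- The class of a coherent module of dimension at most `k + 1` in functions modulo principal divisors. -/
noncomputable def phi (k : ℤ) (F : X.Modules) : (X → ℤ) ⧸ prin hd k :=
  if h : Cyc.CohLe δ (k + 1) F then QuotientAddGroup.mk (cval δ k F (exists_serFam hd h).choose) else 0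

theorem phi_eq {F : X.Modules} (h : Cyc.CohLe δ (k + 1) F) {σ : ∀ ξ : X, List (F.presheaf.stalk ξ)}
    (hσ : IsSerFam δ k F σ) : phi hd k F = QuotientAddGroup.mk (cval δ k F σ) := by
  rw [phi, dif_pos h]
  exact QuotientAddGroup.eq_iff_sub_mem.2 (cval_sub_mem hd h (exists_serFam hd h).choose_spec hσ)

theorem phi_add {S : ShortComplex X.Modules} (hS : S.ShortExact) (h₁ : Cyc.CohLe δ (k + 1) S.X₁)
    (h₂ : Cyc.CohLe δ (k + 1) S.X₂) (h₃ : Cyc.CohLe δ (k + 1) S.X₃) :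
    phi hd k S.X₂ = phi hd k S.X₁ + phi hd k S.X₃ := by
  obtain ⟨σ₁, hσ₁⟩ := exists_serFam hd h₁
  obtain ⟨σ₃, hσ₃⟩ := exists_serFam hd h₃
  obtain ⟨σ₂, hσ₂, e⟩ := exists_serFam_add hd hS h₁ h₂ h₃ hσ₁ hσ₃
  rw [phi_eq hd h₁ hσ₁, phi_eq hd h₂ hσ₂, phi_eq hd h₃ hσ₃, e]
  rfl

omit [IsLocallyNoetherian X] in
theorem cohLe_mono {a b : ℤ} (hab : a ≤ b) {F : X.Modules} (h : Cyc.CohLe δ a F) : Cyc.CohLe δ b F :=
  ⟨h.1, fun x hx => (h.2 x hx).trans hab⟩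

theorem phi_of_le_k {F : X.Modules} (h : Cyc.CohLe δ k F) :
    phi hd k F = QuotientAddGroup.mk (Cyc.sheafFun δ k F) := by
  have h' : Cyc.CohLe δ (k + 1) F := cohLe_mono (by omega) h
  obtain ⟨σ, hσ⟩ := exists_serFam hd h'
  rw [phi_eq hd h' hσ, cval_of_le_k hd h' h.2 hσ]

theorem phi_of_le_sub_one {F : X.Modules} (h : Cyc.CohLe δ (k - 1) F) : phi hd k F = 0 := by
  rw [phi_of_le_k hd (cohLe_mono (by omega) h)]
  have : Cyc.sheafFun δ k F = 0 := funext fun x => by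
    rw [Cyc.sheafFun, Pi.zero_apply]
    split_ifs with hx
    · rcases subsingleton_or_nontrivial (F.presheaf.stalk x) with hs | hn
      · rw [Module.length_eq_zero]; rfl
      · have := h.2 x hn; omega
    · rfl
  rw [this]
  rfl

/-- The invariant on `K₀`. -/
theorem exists_phiHom : ∃ Φ : Cyc.K0CohQuot δ (k + 1) (k - 1) →+ (X → ℤ) ⧸ prin hd k,
    ∀ F : X.Modules, Cyc.CohLe δ (k + 1) F → Φ (Cyc.toK0CohQuot δ (k + 1) (k - 1) F) = phi hd k F := by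
  let φ0 : KZero.K0sub (Cyc.CohLe δ (k + 1)) →+ (X → ℤ) ⧸ prin hd k :=
    QuotientAddGroup.lift _ (FreeAbelianGroup.lift fun F => phi hd k F.1) (by
      rw [KZero.relSub, AddSubgroup.closure_le]
      rintro _ ⟨S, h₁, h₂, h₃, hS, rfl⟩
      rw [SetLike.mem_coe, AddMonoidHom.mem_ker, map_sub, map_sub, FreeAbelianGroup.lift_apply_of,
        FreeAbelianGroup.lift_apply_of, FreeAbelianGroup.lift_apply_of, phi_add hd hS h₁ h₂ h₃]
      abel)
  have hφ0 : ∀ F, Cyc.CohLe δ (k + 1) F → φ0 (KZero.clSub (Cyc.CohLe δ (k + 1)) F) = phi hd k F := fun F hF => by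
    rw [KZero.clSub, dif_pos hF]
    exact FreeAbelianGroup.lift_apply_of _ _
  refine ⟨QuotientAddGroup.lift _ φ0 ?_, fun F hF => hφ0 F hF⟩
  rw [AddSubgroup.closure_le]
  rintro _ ⟨F, hF, rfl⟩
  rw [SetLike.mem_coe, AddMonoidHom.mem_ker, hφ0 F (cohLe_mono (by omega) hF), phi_of_le_sub_one hd hF]

/-- Modules with the same cycle class in `K₀` have rationally equivalent invariants. -/
theorem phi_congr {F G : X.Modules} (hF : Cyc.CohLe δ (k + 1) F) (hG : Cyc.CohLe δ (k + 1) G)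
    (h : Cyc.toK0CohQuot δ (k + 1) (k - 1) F = Cyc.toK0CohQuot δ (k + 1) (k - 1) G) :
    phi hd k F = phi hd k G := by
  obtain ⟨Φ, hΦ⟩ := exists_phiHom hd (k := k)
  rw [← hΦ F hF, ← hΦ G hG, h]

end Groth.Agent.CycLib.Dev
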