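import Groth.Agent.CycLib.ModSeriesExact
import Groth.Agent.CycLib.ModChi
import Mathlib.RingTheory.Length

/-!
Scaling lattices by units of the localization, and invariance under isomorphisms.
-/

set_option autoImplicit false
set_option linter.style.haveILetI false

universe u

namespace Groth.Agent.CycLib.ModIdx

open Submodule IsLocalRing

section chi

variable {A : Type u} [CommRing A] {ι : Type u} {V V' : ι → Type u} [∀ i, AddCommGroup (V i)] [∀ i, Module A (V i)]
  [∀ i, AddCommGroup (V' i)] [∀ i, Module A (V' i)] {M M' : Type u} [AddCommGroup M] [Module A M]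
  [AddCommGroup M'] [Module A M'] {u : ∀ i, M →ₗ[A] V i} {u' : ∀ i, M' →ₗ[A] V' i}

theorem chi_congr (eM : M ≃ₗ[A] M') (eV : ∀ i, V i ≃ₗ[A] V' i) (h : ∀ i m, u' i (eM m) = eV i (u i m)) :
    chi u' = chi u := by
  let E : (∀ i, V i) ≃ₗ[A] ∀ i, V' i := LinearEquiv.piCongrRight eV
  have hpi : ∀ m, LinearMap.pi u' (eM m) = E (LinearMap.pi u m) := fun m => funext fun i => h i m
  have hk : LinearMap.ker (LinearMap.pi u') = (LinearMap.ker (LinearMap.pi u)).map (eM : M →ₗ[A] M') := by
    ext m
    obtain ⟨m, rfl⟩ := eM.surjective m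
    rw [LinearMap.mem_ker, hpi, map_eq_zero_iff E E.injective]
    exact ⟨fun hm => ⟨m, hm, rfl⟩, fun ⟨n, hn, e⟩ => eM.injective e ▸ hn⟩
  have hr : LinearMap.range (LinearMap.pi u') = (LinearMap.range (LinearMap.pi u)).map E.toLinearMap := by
    refine le_antisymm ?_ ?_
    · rintro _ ⟨m, rfl⟩
      obtain ⟨m, rfl⟩ := eM.surjective m
      exact ⟨_, ⟨m, rfl⟩, (hpi m).symm⟩
    · rintro _ ⟨_, ⟨m, rfl⟩, rfl⟩
      exact ⟨eM m, hpi m⟩
  have hp : (Submodule.pi Set.univ fun i => LinearMap.range (u' i)) =
      (Submodule.pi Set.univ fun i => LinearMap.range (u i)).map E.toLinearMap := by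
    refine le_antisymm (fun v hv => ?_) ?_
    · choose m hm using fun i => hv i trivial
      choose m' hm' using fun i => eM.surjective (m i)
      exact ⟨fun i => u i (m' i), fun i _ => ⟨m' i, rfl⟩, funext fun i => by
        show eV i (u i (m' i)) = v i
        rw [← h, hm', hm]⟩
    · rintro _ ⟨w, hw, rfl⟩ i -
      obtain ⟨m, hm⟩ := hw i trivial
      exact ⟨eM m, by rw [h, hm]; rfl⟩
  rw [chi, chi, hk, hr, hp, (LinearEquiv.submoduleMap eM (LinearMap.ker (LinearMap.pi u))).length_eq,
    idx, idx, rlen_map_injective _ E.injective, rlen_map_injective _ E.injective]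

end chi

section series

variable {R : Type u} [CommRing R] [IsLocalRing R] {V : Type u} [AddCommGroup V] [Module R V]

/-- The number of steps of a series is the length of what it spans. -/
theorem length_series : ∀ l : List V, IsSer R l → Module.length R (lspan R l) = (l.length : ℕ∞)
  | [], _ => by
    rw [show lspan R ([] : List V) = ⊥ from rfl, Module.length_bot]
    rfl
  | e :: l, h => by
    rw [← rlen_bot, rlen_chain (bot_le : ⊥ ≤ lspan R l) (lspan_le_cons e l), rlen_bot, length_series l h.1,
      List.length_cons, Nat.cast_add, add_comm, Nat.cast_one]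
    congr 1
    let φ : R →ₗ[R] (lspan R (e :: l)) ⧸ (lspan R l).comap (lspan R (e :: l)).subtype :=
      ((lspan R l).comap (lspan R (e :: l)).subtype).mkQ ∘ₗ
        LinearMap.toSpanSingleton R _ (⟨e, mem_lspan_cons e l⟩ : lspan R (e :: l))
    have hker : LinearMap.ker φ = maximalIdeal R := by
      ext r
      show Submodule.Quotient.mk _ = 0 ↔ _
      rw [Submodule.Quotient.mk_eq_zero]
      show r • e ∈ lspan R l ↔ _
      refine ⟨fun hr => by_contra fun hn => h.2.1 ?_, h.2.2 r⟩
      obtain ⟨u, rfl⟩ : IsUnit r := not_not.1 hn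
      have := (lspan R l).smul_mem (↑u⁻¹ : R) hr
      rwa [smul_smul, Units.inv_mul, one_smul] at this
    rw [rlen, ← ((Submodule.quotEquivOfEq _ _ hker.symm).trans
      (φ.quotKerEquivOfSurjective fun z => ?_)).length_eq, Module.length_eq_one_iff, isSimpleModule_iff_isCoatom]
    · exact (maximalIdeal.isMaximal R).out
    obtain ⟨⟨v, hv⟩, rfl⟩ := Submodule.Quotient.mk_surjective _ z
    obtain ⟨x, hx, y, hy, rfl⟩ := Submodule.mem_sup.1 hv
    obtain ⟨r, rfl⟩ := Submodule.mem_span_singleton.1 hy
    refine ⟨r, (Submodule.Quotient.eq _).2 ?_⟩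
    show r • e - (x + r • e) ∈ lspan R l
    rw [sub_add_cancel_right]
    exact neg_mem hx

end series

section index

variable {A : Type u} [CommRing A] [IsNoetherianRing A] [IsLocalRing A] {R : Type u} [CommRing R] [IsLocalRing R]
  [Algebra A R] {V : Type u} [AddCommGroup V] [Module R V] [Module A V] [IsScalarTower A R V] {p : Ideal A}
  [p.IsPrime] [IsLocalization.AtPrime R p]
  (hp1 : ∀ q : Ideal A, q.IsPrime → p ≤ q → q = p ∨ q = maximalIdeal A)
  (hV : ∃ n, maximalIdeal R ^ n ≤ Module.annihilator R V)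

include hp1 hV in
theorem nf_scale (c : Rˣ) {a b : A} (ha : a ∉ p) (hb : b ∉ p) (hab : (c : R) * algebraMap A R b = algebraMap A R a)
    {L : Submodule A V} (hL : Lat A p L) :
    ∀ l : List V, IsSer R l →
      nf A R l (L.map ((LinearEquiv.smulOfUnit c : V ≃ₗ[R] V).toLinearMap.restrictScalars A)) - nf A R l L =
        l.length * (((Module.length A (A ⧸ (p ⊔ Ideal.span {b}))).toNat : ℤ) -
          (Module.length A (A ⧸ (p ⊔ Ideal.span {a}))).toNat)
  | [], _ => by simp [nf]
  | e :: l, h => by
    set f : V →ₗ[R] V := (LinearEquiv.smulOfUnit c : V ≃ₗ[R] V).toLinearMap with hfd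
    have hf : Function.Injective f := (LinearEquiv.smulOfUnit c : V ≃ₗ[R] V).injective
    have hfa : ∀ v, f v = (c : R) • v := fun v => rfl
    have hH : (lspan R l).map f = lspan R l := by
      refine le_antisymm ?_ fun v hv => ⟨(↑c⁻¹ : R) • v, Submodule.smul_mem _ _ hv, ?_⟩
      · rintro _ ⟨v, hv, rfl⟩
        exact Submodule.smul_mem _ _ hv
      · rw [hfa, smul_smul, Units.mul_inv, one_smul]
    have hL' : Lat A p (L.map (f.restrictScalars A)) := by
      refine ⟨hL.1.map _, fun v => ?_⟩
      obtain ⟨s, hs, hsv⟩ := hL.2 ((↑c⁻¹ : R) • v)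
      refine ⟨s, hs, _, hsv, ?_⟩
      show f (s • (↑c⁻¹ : R) • v) = s • v
      rw [hfa, smul_comm, smul_smul, Units.mul_inv, one_smul]
    have hce : (c : R) • e ∉ lspan R l := fun hh => h.2.1 (by
      have := (lspan R l).smul_mem (↑c⁻¹ : R) hh
      rwa [smul_smul, Units.inv_mul, one_smul] at this)
    have key := sidx_scale hp1 hV h.2.1 h.2.2 hce
      (fun r hr => by rw [smul_comm]; exact Submodule.smul_mem _ _ (h.2.2 r hr))
      (show lspan R l ⊔ Submodule.span R {e} = lspan R l ⊔ Submodule.span R {(c : R) • e} by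
        rw [Submodule.span_singleton_smul_eq c.isUnit])
      ha hb (show b • (c : R) • e - a • e ∈ lspan R l by
        rw [← algebraMap_smul R b ((c : R) • e), ← algebraMap_smul R a e, smul_smul, mul_comm, hab, sub_self]
        exact zero_mem _) hL'
    have hm := sidx_map f hf (lspan R l) e (L.map (f.restrictScalars A))
    rw [Submodule.comap_map_eq_of_injective (f := f.restrictScalars A) hf, hH, hfa] at hm
    show sidx A (lspan R l) e _ + nf A R l _ - (sidx A (lspan R l) e L + nf A R l L) = _
    rw [List.length_cons, Nat.cast_add, Nat.cast_one]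
    have ih := nf_scale c ha hb hab hL l h.1
    linear_combination key + hm + ih

end index

end Groth.Agent.CycLib.ModIdx
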