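import Groth.Agent.CycLib.DevClosed
import Groth.Agent.CycLib.DevC1Comm
import Mathlib.Algebra.Homology.ShortComplex.SnakeLemma

/-!
Principal divisors supported on a subset, and the invariant of modules supported there.
-/

set_option autoImplicit false
set_option linter.style.haveILetI false
set_option maxHeartbeats 800000

universe u

open CategoryTheory Limits AlgebraicGeometry IsLocalRing
open scoped ZeroObject

namespace Groth.Agent.CycLib.Dev

open ModIdx Groth.Agent.PullStalk.Sky Groth.Agent.PullStalk.Exact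

variable {X : Scheme.{u}} {δ : X → ℤ} {k : ℤ}

variable [IsLocallyNoetherian X] (hd : Cyc.IsDimFun X δ)

/-- Sums of principal divisors on closures of points of `P`. -/
noncomputable def prinOn (hd : Cyc.IsDimFun X δ) (P : Set X) (k : ℤ) : AddSubgroup (X → ℤ) where
  carrier := {φ | ∃ (ι : Type u) (ξ : ι → X) (f : (i : ι) → X.residueField (ξ i)),
    (∀ i, δ (ξ i) = k + 1) ∧ (∀ i, f i ≠ 0) ∧
    (∀ x : X, ∃ U : Set X, IsOpen U ∧ x ∈ U ∧ {i | (closure {ξ i} ∩ U).Nonempty}.Finite) ∧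
    (∀ x : X, φ x = ∑ᶠ i, Cyc.divFun δ (ξ i) (f i) x) ∧ ∀ i, ξ i ∉ P → Cyc.divFun δ (ξ i) (f i) = 0}
  zero_mem' := ⟨PEmpty, PEmpty.elim, fun i => i.elim, fun i => i.elim, fun i => i.elim,
    fun x => ⟨Set.univ, isOpen_univ, trivial, Set.toFinite _⟩, fun x => (finsum_of_isEmpty _).symm, fun i => i.elim⟩
  add_mem' := by
    rintro φ ψ ⟨ι, ξ, f, h1, h2, h3, h4, h5⟩ ⟨ι', ξ', f', h1', h2', h3', h4', h5'⟩
    refine ⟨ι ⊕ ι', Sum.elim ξ ξ', fun i => i.rec f f', fun i => i.rec h1 h1', fun i => i.rec h2 h2', fun x => ?_,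
      fun x => ?_, fun i => i.rec h5 h5'⟩
    · obtain ⟨U, hU, hx, hf⟩ := h3 x
      obtain ⟨U', hU', hx', hf'⟩ := h3' x
      refine ⟨U ∩ U', hU.inter hU', ⟨hx, hx'⟩, ((hf.image Sum.inl).union (hf'.image Sum.inr)).subset ?_⟩
      rintro (i | i) ⟨y, hy, hy1, hy2⟩
      · exact Or.inl ⟨i, ⟨y, hy, hy1⟩, rfl⟩
      · exact Or.inr ⟨i, ⟨y, hy, hy2⟩, rfl⟩
    · rw [Pi.add_apply, h4, h4',
        finsum_eq_sum _ (finite_divFun_index h3 x), finsum_eq_sum _ (finite_divFun_index h3' x),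
        finsum_eq_finsetSum_of_support_subset _ (s := (finite_divFun_index h3 x).toFinset.disjSum
          (finite_divFun_index h3' x).toFinset) ?_, Finset.sum_disjSum]
      · rfl
      · rintro (i | i) hi
        · rw [Finset.mem_coe, Finset.inl_mem_disjSum, Set.Finite.mem_toFinset]; exact hi
        · rw [Finset.mem_coe, Finset.inr_mem_disjSum, Set.Finite.mem_toFinset]; exact hi
  neg_mem' := by
    rintro φ ⟨ι, ξ, f, h1, h2, h3, h4, h5⟩
    have h : ∀ i, Cyc.divFun δ (ξ i) (f i)⁻¹ = -Cyc.divFun δ (ξ i) (f i) := fun i => by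
      have h := divFun_mul hd (h2 i) (inv_ne_zero (h2 i))
      rw [mul_inv_cancel₀ (h2 i), divFun_one' hd] at h
      exact eq_neg_of_add_eq_zero_right h.symm
    refine ⟨ι, ξ, fun i => (f i)⁻¹, h1, fun i => inv_ne_zero (h2 i), h3, fun x => ?_, fun i hi => ?_⟩
    · rw [Pi.neg_apply, h4, ← finsum_neg_distrib]
      exact finsum_congr fun i => (congrFun (h i) x).symm
    · show Cyc.divFun δ (ξ i) (f i)⁻¹ = 0
      rw [h, h5 i hi, neg_zero]

theorem prinOn_le (P : Set X) : prinOn hd P k ≤ prin hd k :=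
  fun _ ⟨ι, ξ, f, h1, h2, h3, h4, _⟩ => ⟨ι, ξ, f, h1, h2, h3, h4⟩

include hd in
theorem cval_sub_mem_on {F : X.Modules} (hF : Cyc.CohLe δ (k + 1) F) {P : Set X}
    {σ τ : ∀ ξ : X, List (F.presheaf.stalk ξ)} (hσ : IsSerFam δ k F σ) (hτ : IsSerFam δ k F τ)
    (h : ∀ ξ, δ ξ = k + 1 → Nontrivial (F.presheaf.stalk ξ) → ξ ∉ P → σ ξ = τ ξ) :
    cval δ k F σ - cval δ k F τ ∈ prinOn hd P k := by
  obtain ⟨f, hf, h0, he⟩ := exists_cval_sub hd hF hσ hτ
  exact ⟨_, Subtype.val, f, fun i => i.2.1, hf, finite_top_dim_support F hd hF.1 hF.2, he,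
    fun i hi => h0 i (h i.1 i.2.1 i.2.2 hi)⟩

theorem exists_serFam_nil {F : X.Modules} (hd : Cyc.IsDimFun X δ) (hF : Cyc.CohLe δ (k + 1) F) :
    ∃ σ : ∀ ξ : X, List (F.presheaf.stalk ξ), IsSerFam δ k F σ ∧
      ∀ ξ, Subsingleton (F.presheaf.stalk ξ) → σ ξ = [] := by
  classical
  obtain ⟨σ, hσ⟩ := exists_serFam hd hF
  refine ⟨fun ξ => if Subsingleton (F.presheaf.stalk ξ) then [] else σ ξ, fun ξ hξ => ?_, fun ξ h => if_pos h⟩
  show IsSer _ (if _ then _ else _) ∧ lspan _ (if _ then _ else _) = ⊤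
  split_ifs with h
  · exact ⟨trivial, Subsingleton.elim _ _⟩
  · exact hσ ξ hξ

/-- Modules supported in `P`. -/
def SuppIn (P : Set X) (F : X.Modules) : Prop := ∀ x, Nontrivial (F.presheaf.stalk x) → x ∈ P

open Classical in
/-- The invariant of a module supported in `P`. -/
noncomputable def psi (P : Set X) (k : ℤ) (F : X.Modules) : (X → ℤ) ⧸ prinOn hd P k :=
  if h : Cyc.CohLe δ (k + 1) F then QuotientAddGroup.mk (cval δ k F (exists_serFam hd h).choose) else 0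

variable {P : Set X}

theorem psi_eq {F : X.Modules} (h : Cyc.CohLe δ (k + 1) F) (hP : SuppIn P F)
    {σ : ∀ ξ : X, List (F.presheaf.stalk ξ)} (hσ : IsSerFam δ k F σ) :
    psi hd P k F = QuotientAddGroup.mk (cval δ k F σ) := by
  rw [psi, dif_pos h]
  exact QuotientAddGroup.eq_iff_sub_mem.2 (cval_sub_mem_on hd h (exists_serFam hd h).choose_spec hσ
    fun ξ _ hn hξ => absurd (hP ξ hn) hξ)

theorem psi_add {S : ShortComplex X.Modules} (hS : S.ShortExact) (h₁ : Cyc.CohLe δ (k + 1) S.X₁)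
    (h₂ : Cyc.CohLe δ (k + 1) S.X₂) (h₃ : Cyc.CohLe δ (k + 1) S.X₃) (hP : SuppIn P S.X₂) :
    psi hd P k S.X₂ = psi hd P k S.X₁ + psi hd P k S.X₃ := by
  obtain ⟨σ₁, hσ₁⟩ := exists_serFam hd h₁
  obtain ⟨σ₃, hσ₃⟩ := exists_serFam hd h₃
  obtain ⟨σ₂, hσ₂, e⟩ := exists_serFam_add hd hS h₁ h₂ h₃ hσ₁ hσ₃
  rw [psi_eq hd h₁ (fun x hx => hP x ((stalk_exact hS x).1.nontrivial)) hσ₁, psi_eq hd h₂ hP hσ₂,
    psi_eq hd h₃ (fun x hx => hP x ((stalk_exact hS x).2.2.nontrivial)) hσ₃, e]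
  rfl

theorem psi_zero {F : X.Modules} (h : IsZero F) : psi hd P k F = 0 := by
  have hc : Cyc.CohLe δ (k + 1) F := ⟨CohDev.isCoh_of_isZero h, fun x hx =>
    absurd hx (not_nontrivial_iff_subsingleton.2 (subsingleton_stalk_of_isZero h x))⟩
  have hs : SuppIn P F := fun x hx => absurd hx (not_nontrivial_iff_subsingleton.2 (subsingleton_stalk_of_isZero h x))
  let S := ShortComplex.mk (𝟙 F) (0 : F ⟶ F) (h.eq_of_tgt _ _)
  have hS : S.ShortExact :=
    { exact := ShortComplex.exact_of_isZero_X₂ _ h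
      mono_f := inferInstanceAs (Mono (𝟙 F))
      epi_g := ⟨fun a b _ => h.eq_of_src a b⟩ }
  have := psi_add hd hS hc hc hc hs
  exact left_eq_add.1 this

/-- Coherent, of bounded dimension, supported in `P`. -/
def InP (δ : X → ℤ) (P : Set X) (k : ℤ) (F : X.Modules) : Prop := Cyc.CohLe δ (k + 1) F ∧ SuppIn P F

theorem InP.of_mono {A B : X.Modules} (f : A ⟶ B) [Mono f] (hA : Coh.IsQCoh A) (h : InP δ P k B) :
    InP δ P k A :=
  ⟨cohLe_of_mono f hA h.1, fun x _ => h.2 x (CohDev.stalk_injective f x).nontrivial⟩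

theorem InP.of_epi {A B : X.Modules} (f : A ⟶ B) [Epi f] (hB : Coh.IsQCoh B) (h : InP δ P k A) :
    InP δ P k B :=
  ⟨cohLe_of_epi f h.1 hB, fun x _ => h.2 x (stalk_surjective f x).nontrivial⟩

theorem psi_iso {A B : X.Modules} (e : A ≅ B) (hA : InP δ P k A) : psi hd P k A = psi hd P k B := by
  have hz : IsZero (0 : X.Modules) := isZero_zero _
  let S := ShortComplex.mk e.hom (0 : B ⟶ (0 : X.Modules)) (hz.eq_of_tgt _ _)
  have hB : InP δ P k B := InP.of_epi e.hom (CohDev.isCoh_of_iso e hA.1.1).1 hA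
  have hS : S.ShortExact :=
    { exact := (S.exact_iff_epi rfl).2 (inferInstanceAs (Epi e.hom))
      mono_f := inferInstanceAs (Mono e.hom)
      epi_g := ⟨fun a b _ => hz.eq_of_src a b⟩ }
  have h0 : Cyc.CohLe δ (k + 1) (0 : X.Modules) := ⟨CohDev.isCoh_of_isZero hz, fun x hx =>
    absurd hx (not_nontrivial_iff_subsingleton.2 (subsingleton_stalk_of_isZero hz x))⟩
  have := psi_add hd hS hA.1 hB.1 h0 hB.2
  rw [psi_zero hd hz, add_zero] at this
  exact this.symm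

theorem psi_split {A B : X.Modules} (f : A ⟶ B) (hA : InP δ P k A) (hB : InP δ P k B) :
    psi hd P k A = psi hd P k (kernel f) + psi hd P k (Abelian.image f) := by
  let S := ShortComplex.mk (kernel.ι f) (Abelian.factorThruImage f) (by
    rw [← cancel_mono (Abelian.image.ι f), Category.assoc, Abelian.image.fac, kernel.condition, zero_comp])
  have hS : S.ShortExact :=
    { exact := by
        refine S.exact_of_f_is_kernel (KernelFork.IsLimit.ofι _ _ (fun g hg => kernel.lift f g ?_)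
          (fun g hg => kernel.lift_ι _ _ _) (fun g hg m hm => (cancel_mono (kernel.ι f)).1 (hm.trans (kernel.lift_ι _ _ _).symm)))
        rw [← Abelian.image.fac f, ← Category.assoc]
        exact (congrArg (· ≫ Abelian.image.ι f) hg).trans zero_comp
      mono_f := inferInstanceAs (Mono (kernel.ι f))
      epi_g := inferInstanceAs (Epi (Abelian.factorThruImage f)) }
  have hI := InP.of_mono (Abelian.image.ι f) (CohDev.isCoh_image f hA.1.1 hB.1.1.1).1 hB
  have hK := InP.of_mono (kernel.ι f) (CohDev.isCoh_kernel f hA.1.1 hB.1.1.1).1 hA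
  exact psi_add hd hS hK.1 hA.1 hI.1 hA.2

theorem psi_exact (S : ShortComplex X.Modules) (hS : S.Exact) (h₁ : InP δ P k S.X₁) (h₂ : InP δ P k S.X₂)
    (h₃ : InP δ P k S.X₃) :
    psi hd P k S.X₂ = psi hd P k (Abelian.image S.f) + psi hd P k (Abelian.image S.g) := by
  rw [psi_split hd S.g h₂ h₃]
  congr 1
  let t : Abelian.image S.f ⟶ kernel S.g := kernel.lift S.g (Abelian.image.ι S.f) (by
    rw [← cancel_epi (Abelian.factorThruImage S.f), ← Category.assoc, Abelian.image.fac, S.zero, comp_zero])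
  haveI : Mono t := by
    haveI : Mono (t ≫ kernel.ι S.g) := by rw [kernel.lift_ι]; infer_instance
    exact mono_of_mono _ (kernel.ι S.g)
  haveI : Epi (kernel.lift S.g S.f S.zero) := hS.epi_kernelLift
  haveI : Epi t := by
    haveI : Epi (Abelian.factorThruImage S.f ≫ t) := by
      rw [show Abelian.factorThruImage S.f ≫ t = kernel.lift S.g S.f S.zero from by
        rw [← cancel_mono (kernel.ι S.g), Category.assoc, kernel.lift_ι, Abelian.image.fac, kernel.lift_ι]]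
      infer_instance
    exact epi_of_epi (Abelian.factorThruImage S.f) _
  haveI := isIso_of_mono_of_epi t
  exact (psi_iso hd (asIso t) (InP.of_mono (Abelian.image.ι S.f) (CohDev.isCoh_image S.f h₁.1.1 h₂.1.1.1).1 h₂)).symm

/-- The kernel and cokernel are supported in `P` and of bounded dimension. -/
def KCIn (δ : X → ℤ) (P : Set X) (k : ℤ) {A B : X.Modules} (g : A ⟶ B) : Prop :=
  InP δ P k (kernel g) ∧ InP δ P k (cokernel g)

/-- Cokernel minus kernel. -/
noncomputable def theta (P : Set X) (k : ℤ) {A B : X.Modules} (g : A ⟶ B) : (X → ℤ) ⧸ prinOn hd P k :=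
  psi hd P k (cokernel g) - psi hd P k (kernel g)

/-- The difference of cokernel and kernel is additive on short exact sequences. -/
theorem theta_add {S S' : ShortComplex X.Modules} (hS : S.ShortExact) (hS' : S'.ShortExact) (φ : S ⟶ S')
    (h₁ : KCIn δ P k φ.τ₁) (h₂ : KCIn δ P k φ.τ₂) (h₃ : KCIn δ P k φ.τ₃) :
    theta hd P k φ.τ₂ = theta hd P k φ.τ₁ + theta hd P k φ.τ₃ := by
  let T : ShortComplex.SnakeInput X.Modules :=
    { L₀ := kernel φ
      L₁ := S
      L₂ := S'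
      L₃ := cokernel φ
      v₀₁ := kernel.ι φ
      v₁₂ := φ
      v₂₃ := cokernel.π φ
      h₀ := kernelIsKernel φ
      h₃ := cokernelIsCokernel φ
      L₁_exact := hS.exact
      epi_L₁_g := hS.epi_g
      L₂_exact := hS'.exact
      mono_L₂_f := hS'.mono_f }
  haveI : Mono T.L₁.f := hS.mono_f
  haveI : Epi T.L₂.g := hS'.epi_g
  haveI : Mono T.L₀.f := T.mono_L₀_f
  haveI : Epi T.L₃.g := T.epi_L₃_g
  let a₁ : T.L₀.X₁ ≅ kernel φ.τ₁ := T.h₀τ₁.conePointUniqueUpToIso (limit.isLimit _)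
  let a₂ : T.L₀.X₂ ≅ kernel φ.τ₂ := T.h₀τ₂.conePointUniqueUpToIso (limit.isLimit _)
  let a₃ : T.L₀.X₃ ≅ kernel φ.τ₃ := T.h₀τ₃.conePointUniqueUpToIso (limit.isLimit _)
  let b₁ : T.L₃.X₁ ≅ cokernel φ.τ₁ := T.h₃τ₁.coconePointUniqueUpToIso (colimit.isColimit _)
  let b₂ : T.L₃.X₂ ≅ cokernel φ.τ₂ := T.h₃τ₂.coconePointUniqueUpToIso (colimit.isColimit _)
  let b₃ : T.L₃.X₃ ≅ cokernel φ.τ₃ := T.h₃τ₃.coconePointUniqueUpToIso (colimit.isColimit _)
  have good : ∀ {A B : X.Modules}, (A ≅ B) → InP δ P k B → InP δ P k A := fun e h =>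
    InP.of_epi e.inv (CohDev.isCoh_of_iso e.symm h.1.1).1 h
  have hA₁ := good a₁ h₁.1
  have hA₂ := good a₂ h₂.1
  have hA₃ := good a₃ h₃.1
  have hB₁ := good b₁ h₁.2
  have hB₂ := good b₂ h₂.2
  have hB₃ := good b₃ h₃.2
  have e2 := psi_exact hd T.L₀ T.L₀_exact hA₁ hA₂ hA₃
  have e3 := psi_exact hd T.L₁' T.L₁'_exact hA₂ hA₃ hB₁
  have e4 := psi_exact hd T.L₂' T.L₂'_exact hA₃ hB₁ hB₂
  have e5 := psi_exact hd T.L₃ T.L₃_exact hB₁ hB₂ hB₃
  have f1 : psi hd P k T.L₀.X₁ = psi hd P k (Abelian.image T.L₀.f) := by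
    rw [psi_split hd T.L₀.f hA₁ hA₂, psi_zero hd (isZero_kernel_of_mono _), zero_add]
  have f2 : psi hd P k (Abelian.image T.L₃.g) = psi hd P k T.L₃.X₃ := by
    haveI : Epi (Abelian.image.ι T.L₃.g) := by
      haveI : Epi (Abelian.factorThruImage T.L₃.g ≫ Abelian.image.ι T.L₃.g) := by
        rw [Abelian.image.fac]; infer_instance
      exact epi_of_epi (Abelian.factorThruImage T.L₃.g) _
    haveI := isIso_of_mono_of_epi (Abelian.image.ι T.L₃.g)
    exact psi_iso hd (asIso (Abelian.image.ι T.L₃.g))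
      (InP.of_mono (Abelian.image.ι T.L₃.g) (CohDev.isCoh_image _ hB₂.1.1 hB₃.1.1.1).1 hB₃)
  change psi hd P k T.L₀.X₃ = psi hd P k (Abelian.image T.L₀.g) + psi hd P k (Abelian.image T.δ) at e3
  change psi hd P k T.L₃.X₁ = psi hd P k (Abelian.image T.δ) + psi hd P k (Abelian.image T.L₃.f) at e4
  simp only [theta, ← psi_iso hd a₁ hA₁, ← psi_iso hd a₂ hA₂, ← psi_iso hd a₃ hA₃, ← psi_iso hd b₁ hB₁,
    ← psi_iso hd b₂ hB₂, ← psi_iso hd b₃ hB₃]
  rw [e2, e3, e4, e5, f1, f2]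
  abel

end Groth.Agent.CycLib.Dev
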