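import Groth.Agent.CycLib.DevPhi
import Groth.Agent.CycLib.DevScale
import Groth.Agent.Ref1.Class
import Groth.Agent.LFDesc.Invertible
import Groth.Agent.ProjTwist.Invertible
import Groth.Prelude.Def_C1

/-!
The invariant of a twist by an invertible module.
-/

set_option autoImplicit false
set_option linter.style.haveILetI false
set_option maxHeartbeats 800000

universe u

open CategoryTheory AlgebraicGeometry IsLocalRing
open scoped TensorProduct

namespace Groth.Agent.CycLib.Dev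

open ModIdx Groth.Agent.PullStalk.Sky Groth.Agent.PullStalk.Exact

variable {X : Scheme.{u}} (F : X.Modules) {L : X.Modules}

/-- Tensoring an element of the stalk with a fixed one. -/
noncomputable def mu {x : X} (b : L.presheaf.stalk x) :
    F.presheaf.stalk x →ₗ[X.presheaf.stalk x] (CohB1.tensorMod F L).presheaf.stalk x :=
  (Ref1.tfrom F L x).comp ((TensorProduct.mk (X.presheaf.stalk x) (F.presheaf.stalk x) (L.presheaf.stalk x)).flip b)

theorem mu_apply {x : X} (b : L.presheaf.stalk x) (m : F.presheaf.stalk x) :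
    mu F b m = Ref1.tfrom F L x (m ⊗ₜ b) := rfl

theorem sp_mu {x ξ : X} (h : ξ ⤳ x) (b : L.presheaf.stalk x) (m : F.presheaf.stalk x) :
    Ref1.sp (CohB1.tensorMod F L) h (mu F b m) = mu F (Ref1.sp L h b) (Ref1.sp F h m) :=
  Ref1.sp_fromTensor F L h m b

theorem mu_smul {x : X} (c : X.presheaf.stalk x) (b : L.presheaf.stalk x) (m : F.presheaf.stalk x) :
    mu F (c • b) m = mu F b (c • m) := by
  rw [mu_apply, mu_apply, TensorProduct.smul_tmul]

/-- A basis element of a stalk. -/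
def IsBas {x : X} (t : L.presheaf.stalk x) : Prop :=
  Function.Bijective (LinearMap.toSpanSingleton (X.presheaf.stalk x) (L.presheaf.stalk x) t)

theorem mu_bijective {x : X} {t : L.presheaf.stalk x} (ht : IsBas t) : Function.Bijective (mu F t) := by
  let e : F.presheaf.stalk x ≃ₗ[X.presheaf.stalk x] (CohB1.tensorMod F L).presheaf.stalk x :=
    ((TensorProduct.rid _ _).symm.trans (TensorProduct.congr (LinearEquiv.refl _ _) (LinearEquiv.ofBijective _ ht))).trans
      (LinearEquiv.ofBijective (Ref1.tfrom F L x) ⟨Ref1.tfrom_injective F L x, Ref1.tfrom_surjective F L x⟩)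
  have : mu F t = e.toLinearMap := LinearMap.ext fun m => by
    show Ref1.tfrom F L x (m ⊗ₜ t) = Ref1.tfrom F L x (m ⊗ₜ[X.presheaf.stalk x] ((1 : X.presheaf.stalk x) • t))
    rw [one_smul]
  rw [this]
  exact e.bijective

variable (hL : PicF.IsInvertible L)

include hL in
theorem exists_isBas (x : X) : ∃ t : L.presheaf.stalk x, IsBas t := by
  obtain ⟨b⟩ := LFDesc.exists_basis_stalk hL x
  refine ⟨b 0, ⟨fun r s e => ?_, fun v => ⟨b.repr v 0, ?_⟩⟩⟩
  · have := congrArg (fun w => b.repr w 0) e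
    simpa using this
  · conv_rhs => rw [← b.sum_repr v]
    simp

theorem isBas_smul {x : X} {t : L.presheaf.stalk x} (ht : IsBas t) {c : X.presheaf.stalk x} (hc : IsUnit c) :
    IsBas (c • t) := by
  obtain ⟨u, rfl⟩ := hc
  rw [IsBas, show LinearMap.toSpanSingleton (X.presheaf.stalk x) (L.presheaf.stalk x) ((u : X.presheaf.stalk x) • t) =
    (LinearMap.toSpanSingleton _ _ t).comp (LinearEquiv.smulOfUnit u).toLinearMap from
      LinearMap.ext fun r => by
        show r • (u : X.presheaf.stalk x) • t = ((u : X.presheaf.stalk x) * r) • t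
        rw [smul_smul, mul_comm]]
  exact ht.comp (LinearEquiv.smulOfUnit u).bijective

include hL in
theorem isBas_of_span {x : X} {t : L.presheaf.stalk x} (h : Submodule.span (X.presheaf.stalk x) {t} = ⊤) :
    IsBas t := by
  obtain ⟨b, hb⟩ := exists_isBas hL x
  obtain ⟨c, hc⟩ := hb.2 t
  obtain ⟨d, hd⟩ := Submodule.mem_span_singleton.1 (h.ge (Submodule.mem_top (x := b)))
  replace hc : c • b = t := hc
  rw [← hc, smul_smul] at hd
  have : d * c = 1 := hb.1 (by simpa using hd)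
  exact hc ▸ isBas_smul hb (isUnit_iff_exists_inv'.2 ⟨d, this⟩)

include hL in
theorem isBas_sp {x ξ : X} (h : ξ ⤳ x) {t : L.presheaf.stalk x} (ht : IsBas t) : IsBas (Ref1.sp L h t) := by
  letI := stalkModule L h
  haveI : L.IsQuasicoherent := ProjTwist.isQCoh_of_isInvertible hL
  haveI := isLocalizedModule_spLin L h
  obtain ⟨b, hb⟩ := exists_isBas hL ξ
  obtain ⟨c, hc⟩ := hb.2 (Ref1.sp L h t)
  replace hc : c • b = Ref1.sp L h t := hc
  obtain ⟨⟨m, s⟩, hms⟩ := IsLocalizedModule.surj (ptPrime x ξ h).asIdeal.primeCompl (spLin L h) b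
  obtain ⟨a, rfl⟩ := ht.2 m
  replace hms : Ref1.spR h s.1 • b = Ref1.sp L h (a • t) := hms
  rw [Ref1.sp_smul, ← hc, smul_smul] at hms
  have hu : IsUnit (Ref1.spR h s.1) := by
    have h2 := s.2
    change s.1 ∉ RingHom.ker (Cyc.specMap x ξ h) at h2
    rw [ker_specMap_eq_comap, Ideal.mem_comap] at h2
    exact IsLocalRing.notMem_maximalIdeal.1 h2
  have h1 : Ref1.spR h a * c = Ref1.spR h s.1 := hb.1 hms.symm
  exact hc ▸ isBas_smul hb (isUnit_of_mul_isUnit_right (h1 ▸ hu))

include hL in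
theorem exists_isBas_lift {ξ : X} (s : Cyc.secFibre L ξ) (hs : s ≠ 0) :
    ∃ σ : L.presheaf.stalk ξ, IsBas σ ∧ Submodule.Quotient.mk σ = s := by
  obtain ⟨σ, rfl⟩ := Submodule.Quotient.mk_surjective _ s
  obtain ⟨b, hb⟩ := exists_isBas hL ξ
  obtain ⟨c, hc⟩ := hb.2 σ
  replace hc : c • b = σ := hc
  refine ⟨σ, hc ▸ isBas_smul hb (by_contra fun hu => hs ?_), rfl⟩
  rw [Submodule.Quotient.mk_eq_zero, ← hc]
  exact Submodule.smul_mem_smul hu Submodule.mem_top

variable [IsLocallyNoetherian X] {δ : X → ℤ} {k : ℤ} (hd : Cyc.IsDimFun X δ)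

include hd hL in
/-- The order of a rational section, from the transition to a generator at the specialization. -/
theorem secDivFun_eq {x ξ : X} (h : ξ ⤳ x) (hx : δ x = k) (hξ : δ ξ = k + 1) (σ : L.presheaf.stalk ξ)
    (hσ : IsBas σ) :
    ∃ (t : L.presheaf.stalk x) (c : (X.presheaf.stalk ξ)ˣ) (a b : X.presheaf.stalk x),
      IsBas t ∧ Ref1.sp L h t = (c : X.presheaf.stalk ξ) • σ ∧ a ∉ (ptPrime x ξ h).asIdeal ∧
      b ∉ (ptPrime x ξ h).asIdeal ∧ (c : X.presheaf.stalk ξ) * Ref1.spR h b = Ref1.spR h a ∧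
      Cyc.secDivFun δ L ξ (Submodule.Quotient.mk σ) x =
        ((Module.length (X.presheaf.stalk x) (X.presheaf.stalk x ⧸ ((ptPrime x ξ h).asIdeal ⊔ Ideal.span {b}))).toNat : ℤ) -
        (Module.length (X.presheaf.stalk x) (X.presheaf.stalk x ⧸ ((ptPrime x ξ h).asIdeal ⊔ Ideal.span {a}))).toNat := by
  obtain ⟨t0, ht0⟩ := exists_isBas hL x
  have hex : ∃ t : L.presheaf.stalk x, Submodule.span (X.presheaf.stalk x) {t} = ⊤ :=
    ⟨t0, eq_top_iff.2 fun v _ => Submodule.mem_span_singleton.2 (ht0.2 v)⟩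
  have ht := isBas_of_span hL (Classical.choose_spec hex)
  set t := Classical.choose hex with htdef
  obtain ⟨c, hc⟩ := hσ.2 (Ref1.sp L h t)
  replace hc : c • σ = Ref1.sp L h t := hc
  obtain ⟨d, hd'⟩ := (isBas_sp hL h ht).2 σ
  replace hd' : d • Ref1.sp L h t = σ := hd'
  have hdc : d * c = 1 := hσ.1 (by
    show (d * c) • σ = (1 : X.presheaf.stalk ξ) • σ
    rw [mul_smul, hc, hd', one_smul])
  have hcu : IsUnit c := isUnit_iff_exists_inv'.2 ⟨d, hdc⟩
  letI := (X.presheaf.stalkSpecializes h).hom.toAlgebra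
  haveI : IsLocalization.AtPrime (X.presheaf.stalk ξ) (ptPrime x ξ h).asIdeal := isLocalization_stalkSpecializes h
  obtain ⟨⟨a, ⟨b, hb⟩⟩, hab⟩ := IsLocalization.surj (ptPrime x ξ h).asIdeal.primeCompl c
  have hab' : c * algebraMap _ (X.presheaf.stalk ξ) b = algebraMap _ _ a := hab
  have hsb : Cyc.specMap x ξ h b ≠ 0 := fun e0 => hb e0
  have hres : Cyc.specMap x ξ h a = X.residue ξ c * Cyc.specMap x ξ h b := by
    show X.residue ξ (algebraMap _ _ a) = X.residue ξ c * X.residue ξ (algebraMap _ _ b)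
    rw [← map_mul, hab']
  have hrc : X.residue ξ c ≠ 0 := (hcu.map (X.residue ξ).hom).ne_zero
  have hsa : Cyc.specMap x ξ h a ≠ 0 := by rw [hres]; exact mul_ne_zero hrc hsb
  refine ⟨t, hcu.unit, a, b, ht, hc.symm, fun e0 => hsa e0, hb, hab', ?_⟩
  have h1 : δ x + 1 = δ ξ := by omega
  rw [Cyc.secDivFun, dif_pos ⟨h, h1⟩, Cyc.secOrdAt, dif_pos hex]
  have hφ : ∃ φ : X.presheaf.stalk ξ, (Submodule.Quotient.mk σ : Cyc.secFibre L ξ) =
      φ • (Submodule.Quotient.mk ((L.presheaf.stalkSpecializes h) (Classical.choose hex)) : Cyc.secFibre L ξ) := by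
    refine ⟨d, ?_⟩
    rw [← Submodule.Quotient.mk_smul]
    exact congrArg _ hd'.symm
  rw [dif_pos hφ]
  have hspec := Classical.choose_spec hφ
  set φ := Classical.choose hφ
  have hone : X.residue ξ (φ * c) = 1 := by
    by_contra hne
    have hu : IsUnit (φ * c - 1) := (IsLocalRing.residue_ne_zero_iff_isUnit _).1 (by
      rw [map_sub, map_one]
      exact sub_ne_zero.2 hne)
    have h0 : (φ * c - 1) • (Submodule.Quotient.mk σ : Cyc.secFibre L ξ) = 0 := by
      rw [sub_smul, one_smul, mul_smul, ← Submodule.Quotient.mk_smul _ c, hc, sub_eq_zero]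
      exact hspec.symm
    have h00 := hu.smul_eq_zero.1 h0
    rw [Submodule.Quotient.mk_eq_zero] at h00
    have hall : ∀ r : X.presheaf.stalk ξ, r • σ ∈
        Submodule.map (LinearMap.toSpanSingleton (X.presheaf.stalk ξ) (L.presheaf.stalk ξ) σ) (maximalIdeal (X.presheaf.stalk ξ)) →
          r ∈ maximalIdeal (X.presheaf.stalk ξ) := fun r hr => by
      obtain ⟨q, hq, e⟩ := hr
      rwa [← hσ.1 e]
    have hle : maximalIdeal (X.presheaf.stalk ξ) • (⊤ : Submodule (X.presheaf.stalk ξ) (L.presheaf.stalk ξ)) ≤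
        Submodule.map (LinearMap.toSpanSingleton (X.presheaf.stalk ξ) (L.presheaf.stalk ξ) σ) (maximalIdeal (X.presheaf.stalk ξ)) :=
      Submodule.smul_le.2 fun r hr v _ => by
        obtain ⟨w, rfl⟩ := hσ.2 v
        exact ⟨r * w, Ideal.mul_mem_right w _ hr, mul_smul r w σ⟩
    exact Ideal.IsPrime.ne_top inferInstance ((Ideal.eq_top_iff_one _).2 (hall 1 (by rw [one_smul]; exact hle h00)))
  rw [map_mul] at hone
  rw [eq_inv_of_mul_eq_one_left hone, show X.residue ξ c = Cyc.specMap x ξ h a / Cyc.specMap x ξ h b by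
    rw [hres, mul_div_assoc, div_self hsb, mul_one], inv_div, ordAt_div hd h h1 hsb hsa, ← length_quot_prime h a,
    ← length_quot_prime h b]

variable {F} (hF : Cyc.CohLe δ (k + 1) F)

include hL hF in
theorem cohLe_tensor : Cyc.CohLe δ (k + 1) (CohB1.tensorMod F L) := by
  haveI : L.IsQuasicoherent := ProjTwist.isQCoh_of_isInvertible hL
  have hLc : Coh.IsCoh L := ⟨ProjTwist.isQCoh_of_isInvertible hL, (QCoh.isFiniteType_iff _).mpr fun U hU =>
    LFDesc.finite_sections_of_frames L (fun x => by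
      obtain ⟨V, e, hx, he⟩ := LFDesc.exists_frame_one hL x
      exact ⟨V, 1, e, hx, he⟩) hU⟩
  refine ⟨Ref1.isCoh_tensorMod hF.1 hLc, fun x hx => hF.2 x ?_⟩
  obtain ⟨t, ht⟩ := exists_isBas hL x
  exact (LinearEquiv.ofBijective _ (mu_bijective F ht)).toEquiv.nontrivial

include hd hL hF in
/-- A series family of a twist, with the exact change of the coefficient function. -/
theorem cval_tensor {σ : ∀ ξ : X, List (F.presheaf.stalk ξ)} (hσ : IsSerFam δ k F σ)
    (s : (ξ : X) → Cyc.secFibre L ξ) (ρ : (ξ : X) → L.presheaf.stalk ξ) (hρ : ∀ ξ, IsBas (ρ ξ))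
    (hρs : ∀ ξ, Submodule.Quotient.mk (ρ ξ) = s ξ) :
    IsSerFam δ k (CohB1.tensorMod F L) (fun ξ => (σ ξ).map (mu F (ρ ξ))) ∧
      cval δ k (CohB1.tensorMod F L) (fun ξ => (σ ξ).map (mu F (ρ ξ))) =
        cval δ k F σ + Cyc.c1CapFun δ L (Cyc.sheafFun δ (k + 1) F) s := by
  classical
  have hG := cohLe_tensor hL hF
  let τ : ∀ ξ : X, List ((CohB1.tensorMod F L).presheaf.stalk ξ) := fun ξ => (σ ξ).map (mu F (ρ ξ))
  have hτ : IsSerFam δ k (CohB1.tensorMod F L) τ := fun ξ hξ => by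
    refine ⟨isSer_map _ (mu_bijective F (hρ ξ)).1 (hσ ξ hξ).1, ?_⟩
    rw [lspan_map, (hσ ξ hξ).2, Submodule.map_top, LinearMap.range_eq_top]
    exact (mu_bijective F (hρ ξ)).2
  refine ⟨hτ, funext fun x => ?_⟩
  simp only [Pi.add_apply, cval]
  by_cases hx : δ x = k
  swap
  · rw [if_neg hx, if_neg hx, zero_add, Cyc.c1CapFun, finsum_eq_zero_of_forall_eq_zero fun ξ => ?_]
    by_cases hξ : δ ξ = k + 1
    · rw [Cyc.secDivFun, dif_neg (fun h => hx (by have := h.2; omega)), mul_zero]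
    · rw [Cyc.sheafFun, if_neg hξ, zero_mul]
  rw [if_pos hx, if_pos hx]
  have hfin := finite_gen hd hF x
  have hsub : ∀ i, i ∉ hfin.toFinset → Subsingleton (F.presheaf.stalk i.1) := fun i hi =>
    not_nontrivial_iff_subsingleton.1 fun hn => hi (hfin.mem_toFinset.2 hn)
  have hsubG : ∀ i, i ∉ hfin.toFinset → Subsingleton ((CohB1.tensorMod F L).presheaf.stalk i.1) := fun i hi => by
    haveI := hsub i hi
    exact (mu_bijective F (hρ i.1)).2.subsingleton
  rw [finsum_cnf hτ hsubG, finsum_cnf hσ hsub]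
  letI : ∀ i : Gen δ k x, Module (X.presheaf.stalk x) (F.presheaf.stalk i.1) := fun i => stalkModule F i.2.2
  letI : ∀ i : Gen δ k x, Module (X.presheaf.stalk x) ((CohB1.tensorMod F L).presheaf.stalk i.1) :=
    fun i => stalkModule (CohB1.tensorMod F L) i.2.2
  have hcidx : cIdx δ k (CohB1.tensorMod F L) x = cIdx δ k F x := by
    obtain ⟨t, ht⟩ := exists_isBas hL x
    refine chi_congr (LinearEquiv.ofBijective _ (mu_bijective F ht))
      (fun i => LinearEquiv.ofBijective
        ({ toFun := mu F (Ref1.sp L i.2.2 t)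
           map_add' := map_add _
           map_smul' := fun a v => (mu F (Ref1.sp L i.2.2 t)).map_smul (Ref1.spR i.2.2 a) v } :
          F.presheaf.stalk i.1 →ₗ[X.presheaf.stalk x] (CohB1.tensorMod F L).presheaf.stalk i.1)
        (mu_bijective F (isBas_sp hL i.2.2 ht))) fun i m => ?_
    exact sp_mu F i.2.2 t m
  have hper : ∀ i : Gen δ k x, cnf (CohB1.tensorMod F L) i.2.2 (τ i.1) = cnf F i.2.2 (σ i.1) +
      Cyc.sheafFun δ (k + 1) F i.1 * Cyc.secDivFun δ L i.1 (s i.1) x := fun i => by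
    obtain ⟨t, c, a, b, ht, htc, ha, hb, hab, e⟩ := secDivFun_eq hL hd i.2.2 hx i.2.1 (ρ i.1) (hρ i.1)
    rw [← hρs, e]
    letI := (X.presheaf.stalkSpecializes i.2.2).hom.toAlgebra
    haveI : IsLocalization.AtPrime (X.presheaf.stalk i.1) (ptPrime x i.1 i.2.2).asIdeal :=
      isLocalization_stalkSpecializes i.2.2
    haveI : IsScalarTower (X.presheaf.stalk x) (X.presheaf.stalk i.1) (F.presheaf.stalk i.1) :=
      IsScalarTower.of_algebraMap_smul fun _ _ => rfl
    haveI : IsScalarTower (X.presheaf.stalk x) (X.presheaf.stalk i.1) ((CohB1.tensorMod F L).presheaf.stalk i.1) :=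
      IsScalarTower.of_algebraMap_smul fun _ _ => rfl
    show nf (X.presheaf.stalk x) (X.presheaf.stalk i.1) ((σ i.1).map (mu F (ρ i.1))) _ =
      nf (X.presheaf.stalk x) (X.presheaf.stalk i.1) (σ i.1) (LinearMap.range (spLin F i.2.2)) + _
    rw [nf_map (mu F (ρ i.1)) (mu_bijective F (hρ i.1)).1]
    have hrange : (LinearMap.range (spLin (CohB1.tensorMod F L) i.2.2)).comap
        ((mu F (ρ i.1)).restrictScalars (X.presheaf.stalk x)) =
        (LinearMap.range (spLin F i.2.2)).map ((LinearEquiv.smulOfUnit c : F.presheaf.stalk i.1 ≃ₗ[X.presheaf.stalk i.1]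
          F.presheaf.stalk i.1).toLinearMap.restrictScalars (X.presheaf.stalk x)) := by
      have key : ∀ m : F.presheaf.stalk x, spLin (CohB1.tensorMod F L) i.2.2 (mu F t m) =
          mu F (ρ i.1) ((c : X.presheaf.stalk i.1) • spLin F i.2.2 m) := fun m => by
        refine (sp_mu F i.2.2 t m).trans ?_
        rw [htc, mu_smul]
        rfl
      refine le_antisymm (fun v hv => ?_) ?_
      · obtain ⟨g, hg⟩ := hv
        obtain ⟨m, rfl⟩ := (mu_bijective F ht).2 g
        exact ⟨spLin F i.2.2 m, ⟨m, rfl⟩, (mu_bijective F (hρ i.1)).1 ((key m).symm.trans hg)⟩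
      · rintro _ ⟨_, ⟨m, rfl⟩, rfl⟩
        exact ⟨mu F t m, key m⟩
    rw [hrange]
    have hl : (σ i.1).length = (Cyc.sheafFun δ (k + 1) F i.1) := by
      rw [Cyc.sheafFun, if_pos i.2.1, ← Module.length_top (R := X.presheaf.stalk i.1), ← (hσ i.1 i.2.1).2,
        length_series _ (hσ i.1 i.2.1).1, ENat.toNat_natCast]
    have := nf_scale (primes_over hd hx i.2.1 i.2.2) (hV hd hF i.2.1) c ha hb hab (lat_range hF i.2.2) (σ i.1)
      (hσ i.1 i.2.1).1
    rw [hl] at this
    linear_combination this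
  rw [hcidx, Finset.sum_congr rfl fun i _ => hper i, Finset.sum_add_distrib, Cyc.c1CapFun,
    finsum_eq_finsetSum_of_support_subset _ (s := hfin.toFinset.map (Function.Embedding.subtype _)) ?_, Finset.sum_map]
  · simp only [Function.Embedding.coe_subtype]
    ring
  · intro ξ hξ
    rw [Function.mem_support, mul_ne_zero_iff] at hξ
    obtain ⟨h1, h2⟩ := hξ
    rw [Cyc.secDivFun] at h2
    rw [Cyc.sheafFun] at h1
    split_ifs at h1 h2 with hk hh
    · rw [Finset.coe_map]
      refine ⟨⟨ξ, hk, hh.1⟩, hfin.mem_toFinset.2 (not_subsingleton_iff_nontrivial.1 fun hsn => h1 ?_), rfl⟩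
      rw [Module.length_eq_zero]
      rfl
    all_goals simp at h1 h2 ⊢

include hd hL hF in
/-- The invariant of a twist. -/
theorem phi_tensor (s : (ξ : X) → Cyc.secFibre L ξ) (hs : ∀ ξ, s ξ ≠ 0) :
    phi hd k (CohB1.tensorMod F L) = phi hd k F +
      QuotientAddGroup.mk (Cyc.c1CapFun δ L (Cyc.sheafFun δ (k + 1) F) s) := by
  obtain ⟨σ, hσ⟩ := exists_serFam hd hF
  choose ρ hρ hρs using fun ξ => exists_isBas_lift hL (s ξ) (hs ξ)
  obtain ⟨hτ, e⟩ := cval_tensor hL hd hF hσ s ρ hρ hρs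
  rw [phi_eq hd (cohLe_tensor hL hF) hτ, phi_eq hd hF hσ, ← QuotientAddGroup.mk_add, e]

end Groth.Agent.CycLib.Dev
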