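import Groth.Agent.CycLib.PullDivApp
import Groth.Agent.CycLib.RelDim
import Groth.Agent.CycLib.LineChart

/-!
Killing cycles on the fibres of a flat morphism: definitions and composition.
-/

set_option autoImplicit false
set_option linter.style.haveILetI false
set_option maxHeartbeats 800000

universe u

open CategoryTheory AlgebraicGeometry IsLocalRing Classical

namespace Groth.Agent.CycLib

variable {X M Z : Scheme.{u}}

/-- The prime cycle at a point. -/
noncomputable def pointFun (ξ : X) : X → ℤ := fun x => if x = ξ then 1 else 0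

/-- On the fibre over `η`, the function `φ` is a combination of divisors on `k + 1`-dimensional
points of that fibre. -/
def Killed (f : X ⟶ Z) (δ : X → ℤ) (k : ℤ) (η : Z) (φ : X → ℤ) : Prop :=
  ∃ (ι : Type u) (_ : Fintype ι) (ζ : ι → X) (g : (i : ι) → X.residueField (ζ i)) (c : ι → ℤ),
    (∀ i, f (ζ i) = η ∧ δ (ζ i) = k + 1 ∧ g i ≠ 0) ∧
      ∀ x, f x = η → φ x = ∑ i, c i * Cyc.divFun δ (ζ i) (g i) x

/-- Every point of small dimension of a fibre is killed in that fibre. -/
def FibKills (f : X ⟶ Z) (δX : X → ℤ) (δZ : Z → ℤ) (r : ℤ) : Prop :=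
  ∀ ξ, δX ξ < δZ (f ξ) + r → Killed f δX (δX ξ) (f ξ) (pointFun ξ)

/-- Every fibre has at most one point of maximal dimension, and it has multiplicity one. -/
def FibOne (f : X ⟶ Z) (δX : X → ℤ) (δZ : Z → ℤ) (r : ℤ) : Prop :=
  ∀ x, δX x = δZ (f x) + r → fibLen f x = 1 ∧ ∀ x', f x' = f x → δX x' = δX x → x' = x

theorem Killed.congr {f : X ⟶ Z} {δ : X → ℤ} {k : ℤ} {η : Z} {φ ψ : X → ℤ} (h : Killed f δ k η φ)
    (hφ : ∀ x, f x = η → ψ x = φ x) : Killed f δ k η ψ := by
  obtain ⟨ι, i₁, ζ, g, c, h1, h2⟩ := h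
  exact ⟨ι, i₁, ζ, g, c, h1, fun x hx => (hφ x hx).trans (h2 x hx)⟩

theorem killed_zero {f : X ⟶ Z} {δ : X → ℤ} {k : ℤ} {η : Z} : Killed f δ k η (fun _ => 0) :=
  ⟨PEmpty, inferInstance, fun i => i.elim, fun i => i.elim, fun i => i.elim, fun i => i.elim,
    fun x _ => by simp⟩

theorem Killed.add {f : X ⟶ Z} {δ : X → ℤ} {k : ℤ} {η : Z} {φ ψ : X → ℤ} (h : Killed f δ k η φ)
    (h' : Killed f δ k η ψ) : Killed f δ k η (fun x => φ x + ψ x) := by
  obtain ⟨ι, i₁, ζ, g, c, h1, h2⟩ := h
  obtain ⟨ι', i₂, ζ', g', c', h1', h2'⟩ := h'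
  refine ⟨ι ⊕ ι', inferInstance, Sum.elim ζ ζ',
    fun i => match i with | .inl a => g a | .inr a => g' a, Sum.elim c c', ?_, fun x hx => ?_⟩
  · rintro (a | a)
    · exact h1 a
    · exact h1' a
  · rw [Fintype.sum_sum_type]
    exact congrArg₂ (· + ·) (h2 x hx) (h2' x hx)

theorem Killed.smul {f : X ⟶ Z} {δ : X → ℤ} {k : ℤ} {η : Z} {φ : X → ℤ} (h : Killed f δ k η φ) (n : ℤ) :
    Killed f δ k η (fun x => n * φ x) := by
  obtain ⟨ι, i₁, ζ, g, c, h1, h2⟩ := h
  exact ⟨ι, i₁, ζ, g, fun i => n * c i, h1, fun x hx => by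
    show n * φ x = _
    rw [h2 x hx, Finset.mul_sum]
    exact Finset.sum_congr rfl fun i _ => (mul_assoc _ _ _).symm⟩

theorem killed_sum {f : X ⟶ Z} {δ : X → ℤ} {k : ℤ} {η : Z} {α : Type*} (s : Finset α) (φ : α → X → ℤ)
    (h : ∀ a ∈ s, Killed f δ k η (φ a)) : Killed f δ k η (fun x => ∑ a ∈ s, φ a x) := by
  induction s using Finset.induction_on with
  | empty => exact killed_zero.congr fun x _ => Finset.sum_empty
  | insert a s ha ih =>
    exact ((h a (Finset.mem_insert_self a s)).add (ih fun b hb => h b (Finset.mem_insert_of_mem hb))).congr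
      fun x _ => Finset.sum_insert ha

theorem finite_support_divFun [CompactSpace X] [IsLocallyNoetherian X] {δ : X → ℤ} (hd : Cyc.IsDimFun X δ)
    (ξ : X) {g : X.residueField ξ} (hg : g ≠ 0) : (Function.support (Cyc.divFun δ ξ g)).Finite := by
  obtain ⟨D, hD⟩ := exists_cycle_finsum_divFun hd (fun _ : PUnit.{u + 1} => ξ) (fun _ => g) (fun _ => hg)
    (fun x => ⟨Set.univ, isOpen_univ, trivial, Set.toFinite _⟩)
  rw [show Cyc.divFun δ ξ g = ⇑D from funext fun x => ((hD x).trans (finsum_unique _)).symm]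
  exact finite_support_of_compact D

theorem fibLen_eq_one_map_eq (f : X ⟶ Z) (x : X) (h : fibLen f x = 1) :
    (maximalIdeal (Z.presheaf.stalk (f x))).map (f.stalkMap x).hom = maximalIdeal (X.presheaf.stalk x) := by
  rw [fibLen, ENat.toNat_eq_iff one_ne_zero, Nat.cast_one, Module.length_eq_one_iff] at h
  exact IsLocalRing.eq_maximalIdeal (Ideal.isMaximal_def.2 (isSimpleModule_iff_isCoatom.1 h))

variable (f : X ⟶ M) (g : M ⟶ Z) [Flat f] [LocallyOfFiniteType f] [CompactSpace X]
  {δX : X → ℤ} {δM : M → ℤ} {δZ : Z → ℤ} {r s : ℕ}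

omit [Flat f] [CompactSpace X] in
theorem FibOne.comp [IsLocallyNoetherian X] (hdX : Cyc.IsDimFun X δX)
    (hf : Cyc.DeltaCompat f δX δM) (hr : Cyc.HasRelDim f r) (hMle : ∀ m, δM m ≤ δZ (g m) + s)
    (h1 : FibOne f δX δM r) (h2 : FibOne g δM δZ s) : FibOne (f ≫ g) δX δZ ((r : ℤ) + s) := by
  intro x hx
  change δX x = δZ (g (f x)) + _ at hx
  have e1 := delta_le_add f hdX hf hr x
  have e2 := hMle (f x)
  have hfx : δX x = δM (f x) + r := by omega
  have hgx : δM (f x) = δZ (g (f x)) + s := by omega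
  obtain ⟨hl1, hu1⟩ := h1 x hfx
  obtain ⟨hl2, hu2⟩ := h2 (f x) hgx
  refine ⟨?_, fun x' hx' hd' => ?_⟩
  · rw [fibLen] at hl1 ⊢
    rw [Scheme.Hom.stalkMap_comp]
    show (Module.length (X.presheaf.stalk x) (X.presheaf.stalk x ⧸ (maximalIdeal (Z.presheaf.stalk (g (f x)))).map
      ((f.stalkMap x).hom.comp (g.stalkMap (f x)).hom))).toNat = 1
    rw [← Ideal.map_map]
    exact (congrArg (fun J : Ideal (M.presheaf.stalk (f x)) => (Module.length (X.presheaf.stalk x)
      (X.presheaf.stalk x ⧸ J.map (f.stalkMap x).hom)).toNat) (fibLen_eq_one_map_eq g (f x) hl2)).trans hl1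
  · change g (f x') = g (f x) at hx'
    have e1' := delta_le_add f hdX hf hr x'
    have e2' := hMle (f x')
    rw [hx'] at e2'
    have he : f x' = f x := hu2 (f x') hx' (by omega)
    exact hu1 x' he hd'

theorem FibKills.comp [IsLocallyNoetherian X] [IsLocallyNoetherian M] (hdX : Cyc.IsDimFun X δX) (hdM : Cyc.IsDimFun M δM)
    (hf : Cyc.DeltaCompat f δX δM) (hgle : ∀ m, δZ (g m) ≤ δM m)
    (hr : Cyc.HasRelDim f r)
    (h1 : FibKills f δX δM r) (hone : FibOne f δX δM r) (h2 : FibKills g δM δZ s) :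
    FibKills (f ≫ g) δX δZ ((r : ℤ) + s) := by
  suffices key : ∀ (n : ℕ) (ξ : X), (δM (f ξ) - δZ (g (f ξ))).toNat = n →
      δX ξ < δZ (g (f ξ)) + ((r : ℤ) + s) → Killed (f ≫ g) δX (δX ξ) (g (f ξ)) (pointFun ξ) from
    fun ξ hξ => key _ ξ rfl hξ
  intro n
  induction n using Nat.strong_induction_on with
  | h n ih =>
    intro ξ hn hξ
    rcases (delta_le_add f hdX hf hr ξ).lt_or_eq with hlt | heq
    · -- kill inside the fibre of `f`, then the residual lies over smaller points
      obtain ⟨ι, i₁, ζ, gg, c, hζ, hval⟩ := h1 ξ hlt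
      let R : X → ℤ := fun x => pointFun ξ x - ∑ i, c i * Cyc.divFun δX (ζ i) (gg i) x
      have hR : ∀ x, R x ≠ 0 → f x ≠ f ξ ∧ δX x = δX ξ ∧ f ξ ⤳ f x := by
        intro x hx
        have h0 : f x ≠ f ξ := fun e => hx (sub_eq_zero.2 (hval x e))
        have hxξ : x ≠ ξ := fun e => h0 (by rw [e])
        have hx' : ∑ i, c i * Cyc.divFun δX (ζ i) (gg i) x ≠ 0 := fun e =>
          hx (show pointFun ξ x - _ = 0 by rw [e, pointFun, if_neg hxξ, sub_zero])
        obtain ⟨i, -, hi⟩ := Finset.exists_ne_zero_of_sum_ne_zero hx'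
        have hc : ζ i ⤳ x ∧ δX x + 1 = δX (ζ i) := by
          by_contra hn
          exact right_ne_zero_of_mul hi (dif_neg hn)
        exact ⟨h0, by have := (hζ i).2.1; omega, (hζ i).1 ▸ hc.1.map f.continuous⟩
      have hfin : (Function.support R).Finite := by
        refine ((Set.finite_singleton ξ).union (Set.finite_iUnion fun i =>
          finite_support_divFun hdX (ζ i) (hζ i).2.2)).subset fun x hx => ?_
        by_contra hn
        simp only [Set.mem_union, Set.mem_singleton_iff, Set.mem_iUnion, Function.mem_support, not_or,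
          not_exists, not_not] at hn
        exact hx (show pointFun ξ x - _ = 0 by simp [pointFun, hn.1, hn.2])
      have hkR : Killed (f ≫ g) δX (δX ξ) (g (f ξ))
          (fun x => ∑ z ∈ hfin.toFinset.filter (fun z => g (f z) = g (f ξ)), R z * pointFun z x) := by
        refine killed_sum _ (fun z x => R z * pointFun z x) fun z hz => ?_
        obtain ⟨hz1, hz2⟩ := Finset.mem_filter.1 hz
        obtain ⟨h0, hd, hs⟩ := hR z (Function.mem_support.1 (hfin.mem_toFinset.1 hz1))
        have hlt' := (hdM _ _ hs (Ne.symm h0)).1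
        have hge := hgle (f z)
        rw [hz2] at hge
        have := (ih _ (by rw [hz2]; omega) z rfl (by rw [hz2, hd]; exact hξ)).smul (R z)
        rwa [hd, hz2] at this
      have hdiv : Killed (f ≫ g) δX (δX ξ) (g (f ξ)) (fun x => ∑ i, c i * Cyc.divFun δX (ζ i) (gg i) x) :=
        ⟨ι, i₁, ζ, gg, c, fun i => ⟨congrArg g (hζ i).1, (hζ i).2.1, (hζ i).2.2⟩, fun x _ => rfl⟩
      refine (hdiv.add hkR).congr fun x hx => ?_
      have hsum : ∑ z ∈ hfin.toFinset.filter (fun z => g (f z) = g (f ξ)), R z * pointFun z x = R x := by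
        rw [Finset.sum_eq_single x (fun z _ hne => by simp [pointFun, Ne.symm hne]) fun hn => ?_]
        · simp [pointFun]
        · by_contra hne
          exact hn (Finset.mem_filter.2
            ⟨hfin.mem_toFinset.2 (Function.mem_support.2 (left_ne_zero_of_mul hne)), hx⟩)
      rw [hsum]
      exact (add_sub_cancel _ _).symm
    · -- the point is generic in its fibre: pull back
      obtain ⟨ι, i₁, p, gg, c, hp, hval⟩ := h2 (f ξ) (by omega)
      have hsub : ∀ i, Subsingleton (FibGen f (p i)) := fun i => ⟨fun a b => Subtype.ext <| by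
        have ha := delta_eq_of_generic f hf hr a.1 a.2.1
        have hb := delta_eq_of_generic f hf hr b.1 b.2.1
        rw [a.2.2] at ha
        rw [b.2.2] at hb
        exact (hone b.1 (by rw [b.2.2]; exact hb)).2 a.1 (a.2.2.trans b.2.2.symm) (ha.trans hb.symm)⟩
      haveI := hsub
      letI : ∀ i, Fintype (FibGen f (p i)) := fun i => Fintype.ofFinite _
      refine ⟨Σ i, FibGen f (p i), inferInstance, fun q => q.2.1,
        fun q => f.residueFieldMap q.2.1 ((M.residueFieldCongr q.2.2.2.symm).hom (gg q.1)), fun q => c q.1,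
        fun q => ⟨?_, ?_, (map_ne_zero _).2 ((map_ne_zero _).2 (hp q.1).2.2)⟩, fun x hx => ?_⟩
      · show g (f q.2.1) = g (f ξ)
        rw [q.2.2.2]; exact (hp q.1).1
      · rw [delta_eq_of_generic f hf hr _ q.2.2.1, q.2.2.2, (hp q.1).2.1]
        omega
      · change g (f x) = g (f ξ) at hx
        have hL : pointFun ξ x = Cyc.pullFun f δX δM r (pointFun (f ξ)) x := by
          simp only [pointFun, Cyc.pullFun]
          by_cases hxξ : x = ξ
          · subst hxξ
            have := (hone x heq).1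
            rw [if_pos rfl, if_pos heq, if_pos rfl, one_mul, show (Module.length (X.presheaf.stalk x)
              (X.presheaf.stalk x ⧸ (maximalIdeal (M.presheaf.stalk (f x))).map (f.stalkMap x).hom)).toNat = 1
              from this, Nat.cast_one]
          · rw [if_neg hxξ]
            split_ifs with hc hfx
            · exact absurd ((hone ξ heq).2 x hfx (by rw [hc, heq, hfx])) hxξ
            · rw [zero_mul]
            · rfl
        rw [hL, show (∑ q : Σ i, FibGen f (p i), c q.1 * Cyc.divFun δX q.2.1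
            (f.residueFieldMap q.2.1 ((M.residueFieldCongr q.2.2.2.symm).hom (gg q.1))) x) =
          ∑ i, ∑ ζ : FibGen f (p i), c i * Cyc.divFun δX ζ.1
            (f.residueFieldMap ζ.1 ((M.residueFieldCongr ζ.2.2.symm).hom (gg i))) x from
          Fintype.sum_sigma _]
        have hlin : Cyc.pullFun f δX δM r (pointFun (f ξ)) x =
            ∑ i, c i * Cyc.pullFun f δX δM r (Cyc.divFun δM (p i) (gg i)) x := by
          simp only [Cyc.pullFun]
          split_ifs with hc
          · rw [hval (f x) hx, Finset.sum_mul]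
            exact Finset.sum_congr rfl fun i _ => mul_assoc _ _ _
          · simp
        rw [hlin]
        refine Finset.sum_congr rfl fun i _ => ?_
        rw [pullFun_divFun' f hdX hdM hf hr (p i) (gg i) (hp i).2.2 x, finsum_eq_sum_of_fintype, Finset.mul_sum]
        refine Finset.sum_congr rfl fun ζ _ => ?_
        have hz := delta_eq_of_generic f hf hr ζ.1 ζ.2.1
        rw [pullTerm, (hone ζ.1 hz).1, Nat.cast_one, one_mul]

end Groth.Agent.CycLib
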