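import Groth.Agent.CycLib.DevGen
import Groth.Agent.CohDev.Coh
import Groth.Agent.Props.SubSheaf

/-!
Subsheaves cut out by conditions at finitely many generic points on each affine open.
-/

set_option autoImplicit false
set_option linter.style.haveILetI false

universe u

open CategoryTheory Limits AlgebraicGeometry IsLocalRing

namespace Groth.Agent.CycLib.Dev

open Groth.Agent.Props.SubMod Groth.Agent.Props.SubSheaf Groth.Agent.PullStalk.Sky Groth.Agent.PullStalk.Exact

variable {X : Scheme.{u}}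

/-- A set of pairwise incomparable points, finite on affine opens, at which a module has finite length. -/
structure GenPts (M : X.Modules) (P : Set X) : Prop where
  finite : ∀ U : X.Opens, IsAffineOpen U → ((U : Set X) ∩ P).Finite
  incomp : ∀ ξ ∈ P, ∀ ξ' ∈ P, ξ ⤳ ξ' → ξ = ξ'
  len : ∀ ξ ∈ P, IsFiniteLength (X.presheaf.stalk ξ) (M.presheaf.stalk ξ)

variable (M : X.Modules) (P : Set X)
  (W : ∀ ξ : X, Submodule (X.presheaf.stalk ξ) (M.presheaf.stalk ξ))

/-- The stalk elements whose generizations at the chosen points lie in the given submodules. -/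
noncomputable def genFam : StalkSub M := fun y =>
  { carrier := {t | ∀ ξ ∈ P, ∀ h : ξ ⤳ y, Ref1.sp M h t ∈ W ξ}
    zero_mem' := fun ξ _ h => by rw [map_zero]; exact zero_mem _
    add_mem' := fun {s t} hs ht ξ hξ h => by rw [map_add]; exact add_mem (hs ξ hξ h) (ht ξ hξ h)
    smul_mem' := fun c t ht ξ hξ h => by rw [Ref1.sp_smul]; exact Submodule.smul_mem _ _ (ht ξ hξ h) }

/-- The sections on an open satisfying the conditions. -/
noncomputable def genSec (V : X.Opens) : Submodule Γ(X, V) Γ(M, V) where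
  carrier := {m | ∀ ξ ∈ P, ∀ hξ : ξ ∈ V, germM M V ξ hξ m ∈ W ξ}
  zero_mem' := fun ξ _ hξ => by
    rw [show germM M V ξ hξ 0 = 0 from map_zero (M.presheaf.germ V ξ hξ).hom]; exact zero_mem _
  add_mem' := fun {s t} hs ht ξ hξ h => by
    rw [show germM M V ξ h (s + t) = germM M V ξ h s + germM M V ξ h t from map_add (M.presheaf.germ V ξ h).hom s t]
    exact add_mem (hs ξ hξ h) (ht ξ hξ h)
  smul_mem' := fun c t ht ξ hξ h => by
    rw [germM_smul]; exact Submodule.smul_mem _ _ (ht ξ hξ h)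

variable {M P W}

theorem genBy_genSec [M.IsQuasicoherent] (hP : GenPts M P) (V : X.affineOpens) :
    GenBy (genFam M P W) V.1 (genSec M P W V.1 : Set Γ(M, V.1)) := by
  classical
  intro y hy
  refine le_antisymm (fun t ht => ?_) (Submodule.span_le.mpr ?_)
  · obtain ⟨m, s, hs, hst⟩ := CycLib.exists_smul_germ_eq M V.2 hy t
    have hkill : ∀ ξ : X, ∃ c : Γ(X, V.1), IsUnit (X.presheaf.germ V.1 y hy c) ∧
        (ξ ∈ P → ∀ hξ : ξ ∈ V.1, germM M V.1 ξ hξ (c • m) ∈ W ξ) := fun ξ => by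
      by_cases hc : ξ ∈ P ∧ ξ ∈ V.1
      swap
      · exact ⟨1, by rw [map_one]; exact isUnit_one, fun h h' => absurd ⟨h, h'⟩ hc⟩
      obtain ⟨hξP, hξV⟩ := hc
      by_cases hsp : ξ ⤳ y
      · refine ⟨1, by rw [map_one]; exact isUnit_one, fun _ hξ => ?_⟩
        rw [one_smul, ← Ref1.sp_germ M hsp hy m, ← hst, Ref1.sp_smul]
        exact Submodule.smul_mem _ _ (ht ξ hξP hsp)
      · obtain ⟨c, hcξ, hcy⟩ : ∃ c, c ∈ (V.2.primeIdealOf ⟨ξ, hξV⟩).asIdeal ∧
            c ∉ (V.2.primeIdealOf ⟨y, hy⟩).asIdeal := by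
          by_contra hh
          push Not at hh
          refine hsp ?_
          have := (primeIdealOf_le_iff V.2 _ _).1 (show V.2.primeIdealOf ⟨ξ, hξV⟩ ≤ V.2.primeIdealOf ⟨y, hy⟩ from hh)
          rwa [V.2.fromSpec_primeIdealOf, V.2.fromSpec_primeIdealOf] at this
        have hcm : X.presheaf.germ V.1 ξ hξV c ∈ maximalIdeal (X.presheaf.stalk ξ) := by
          rw [mem_maximalIdeal, mem_nonunits_iff]
          exact fun hu => (CycLib.not_mem_primeIdealOf_iff V.2 hξV c).2 hu hcξ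
        obtain ⟨n, hn⟩ := exists_pow_le_annihilator (hP.len ξ hξP)
        refine ⟨c ^ n, ?_, fun _ hξ => ?_⟩
        · rw [map_pow]
          exact ((CycLib.not_mem_primeIdealOf_iff V.2 hy c).1 hcy).pow n
        · rw [germM_smul, map_pow, Module.mem_annihilator.1 (hn (Ideal.pow_mem_pow hcm n)) _]
          exact zero_mem _
    choose c hcu hcm using hkill
    let T := (hP.finite V.1 V.2).toFinset
    have hm : (∏ ξ ∈ T, c ξ) • m ∈ genSec M P W V.1 := by
      intro ξ hξ hξV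
      have hT : ξ ∈ T := (hP.finite V.1 V.2).mem_toFinset.2 ⟨hξV, hξ⟩
      rw [← Finset.prod_erase_mul T c hT, mul_smul, germM_smul]
      exact Submodule.smul_mem _ _ (hcm ξ hξ hξV)
    obtain ⟨u, hu⟩ : IsUnit (X.presheaf.germ V.1 y hy ((∏ ξ ∈ T, c ξ) * s)) := by
      rw [map_mul, map_prod]
      exact (IsUnit.prod_iff.mpr fun ξ _ => hcu ξ).mul hs
    have hut : (u : X.presheaf.stalk y) • t ∈ spanGerm (genSec M P W V.1 : Set Γ(M, V.1)) y hy := by
      rw [hu, map_mul, mul_smul, hst, ← germM_smul]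
      exact Submodule.subset_span ⟨_, hm, rfl⟩
    have := Submodule.smul_mem _ (↑u⁻¹ : X.presheaf.stalk y) hut
    rwa [smul_smul, u.inv_mul, one_smul] at this
  · rintro _ ⟨m, hm, rfl⟩ ξ hξ h
    rw [Ref1.sp_germ]
    exact hm ξ hξ _

theorem ftOn_genFam [IsLocallyNoetherian X] (hM : Coh.IsCoh M) (hP : GenPts M P) : FTOn (genFam M P W) ⊤ := by
  haveI : M.IsQuasicoherent := hM.1
  intro x _
  obtain ⟨V, hV, hxV, -⟩ := exists_isAffineOpen_mem_and_subset (X := X) (TopologicalSpace.Opens.mem_top x)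
  have := IsLocallyNoetherian.component_noetherian ⟨V, hV⟩
  have := CohDev.finite_sections hM hV
  obtain ⟨T, hT⟩ := IsNoetherian.noetherian (genSec M P W V)
  refine ⟨V, hV, hxV, le_top, T, fun y hy => ?_⟩
  rw [genBy_genSec hP ⟨V, hV⟩ y hy]
  refine le_antisymm (Submodule.span_le.mpr ?_) (Submodule.span_mono (Set.image_mono ?_))
  · rintro _ ⟨m, hm, rfl⟩
    exact germ_mem_spanGerm_of_mem_span (hT.symm ▸ hm) y hy
  · exact hT ▸ Submodule.subset_span

theorem isCoh_genSub [IsLocallyNoetherian X] (hM : Coh.IsCoh M) (hP : GenPts M P) :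
    Coh.IsCoh (sub (genFam M P W)) :=
  ⟨@isQuasicoherent_sub X M _ hM.1 (ftOn_genFam hM hP), @isFiniteType_sub X M _ hM.1 (ftOn_genFam hM hP)⟩

/-- The stalks of the subsheaf. -/
theorem range_stalk_incl [M.IsQuasicoherent] (hP : GenPts M P) (y : X) :
    LinearMap.range (stalkLin (incl (genFam M P W)) y) = genFam M P W y := by
  refine le_antisymm ?_ fun t ht => ?_
  · rintro _ ⟨a, rfl⟩
    obtain ⟨U, hy, a, rfl⟩ := exists_germM_eq (sub (genFam M P W)) y a
    rw [stalkLin_germ]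
    exact (mem_range_incl _ _).1 ⟨a, rfl⟩ y hy
  · obtain ⟨V, hV, hy, -⟩ := exists_isAffineOpen_mem_and_subset (X := X) (TopologicalSpace.Opens.mem_top y)
    rw [genBy_genSec hP ⟨V, hV⟩ y hy] at ht
    refine (Submodule.span_le.mpr ?_) ht
    rintro _ ⟨m, hm, rfl⟩
    obtain ⟨a, ha⟩ := (mem_range_incl (genFam M P W) m).2 fun z hz => by
      rw [genBy_genSec hP ⟨V, hV⟩ z hz]
      exact Submodule.subset_span ⟨m, hm, rfl⟩
    exact ⟨germM _ V y hy a, by rw [stalkLin_germ, ha]⟩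

theorem genFam_self (hP : GenPts M P) {ξ : X} (hξ : ξ ∈ P) : genFam M P W ξ = W ξ := by
  refine le_antisymm (fun t ht => ?_) fun t ht ξ' hξ' h => ?_
  · have := ht ξ hξ specializes_rfl
    obtain ⟨U, hy, a, rfl⟩ := exists_germM_eq M ξ t
    rwa [Ref1.sp_germ] at this
  · obtain rfl := hP.incomp ξ' hξ' ξ hξ h
    obtain ⟨U, hy, a, rfl⟩ := exists_germM_eq M ξ' t
    rwa [Ref1.sp_germ]

theorem genFam_eq_top {y : X} (h : ∀ ξ ∈ P, ¬ ξ ⤳ y) : genFam M P W y = ⊤ :=
  eq_top_iff.2 fun _ _ ξ hξ hs => absurd hs (h ξ hξ)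

end Groth.Agent.CycLib.Dev
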