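import Groth.Agent.CycLib.PullFun
import Groth.Agent.LimTop.Basic
import Groth.Agent.LimLib.OpensLimit
import Mathlib.RingTheory.SimpleModule.Basic

/-!
Points of a limit of Noetherian schemes are eventually cut out by their images.
-/

set_option autoImplicit false
set_option linter.style.haveILetI false
set_option maxHeartbeats 400000

universe u

open CategoryTheory Limits AlgebraicGeometry IsLocalRing TopologicalSpace

namespace Groth.Agent.CycLib

/-- The ideal of the fibre through `x` in the local ring at `x`. -/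
noncomputable def fibIdeal {X Y : Scheme.{u}} (f : X ⟶ Y) (x : X) : Ideal (X.presheaf.stalk x) :=
  (maximalIdeal (Y.presheaf.stalk (f x))).map (f.stalkMap x).hom

theorem fibIdeal_le {X Y : Scheme.{u}} (f : X ⟶ Y) (x : X) :
    fibIdeal f x ≤ maximalIdeal (X.presheaf.stalk x) :=
  Ideal.map_le_iff_le_comap.mpr fun _ ha => (mem_maximalIdeal _).mpr fun hu =>
    (mem_maximalIdeal _).mp ha (isUnit_of_map_unit (f.stalkMap x).hom _ hu)

theorem fibIdeal_comp_le {X Y Z : Scheme.{u}} (h : X ⟶ Y) (g : Y ⟶ Z) (x : X) :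
    fibIdeal (h ≫ g) x ≤ fibIdeal h x := by
  have : fibIdeal (h ≫ g) x =
      ((maximalIdeal (Z.presheaf.stalk (g (h x)))).map (g.stalkMap (h x)).hom).map (h.stalkMap x).hom := by
    rw [Ideal.map_map, ← CommRingCat.hom_comp, ← Scheme.Hom.stalkMap_comp]
    rfl
  rw [this]
  exact Ideal.map_mono (fibIdeal_le g (h x))

variable {I : Type u} [SmallCategory I] [IsCofiltered I] {D : I ⥤ Scheme.{u}} {c : Cone D}

theorem fibIdeal_mono {j l : I} (φ : l ⟶ j) (x : c.pt) :
    fibIdeal (c.π.app j) x ≤ fibIdeal (c.π.app l) x := by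
  have := fibIdeal_comp_le (X := c.pt) (c.π.app l) (D.map φ) x
  rwa [c.w φ] at this

/-- `π j ⁻¹` of the closure of the image of `x`. -/
def imgClosure (c : Cone D) (x : c.pt) (j : I) : Set c.pt :=
  c.π.app j ⁻¹' closure {c.π.app j x}

theorem imgClosure_mono {j l : I} (φ : l ⟶ j) (x : c.pt) : imgClosure c x l ⊆ imgClosure c x j := by
  intro s hs
  show c.π.app j s ∈ closure {c.π.app j x}
  rw [← LimTop.π_apply c φ s, ← LimTop.π_apply c φ x]
  exact specializes_iff_mem_closure.mp ((specializes_iff_mem_closure.mpr hs).map (D.map φ).continuous)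

variable [∀ (i j : I) (f : i ⟶ j), IsAffineHom (D.map f)]

theorem exists_imgClosure [NoetherianSpace c.pt] (hc : IsLimit c) (i₀ : I) (x : c.pt) :
    ∃ (i : I), imgClosure c x i ⊆ closure {x} := by
  let T : I → Closeds c.pt := fun j => ⟨imgClosure c x j, isClosed_closure.preimage (c.π.app j).continuous⟩
  haveI : WellFoundedLT (Closeds c.pt) := inferInstance
  obtain ⟨_, ⟨i, rfl⟩, hmin⟩ := wellFounded_lt.has_min (Set.range T) ⟨_, i₀, rfl⟩
  refine ⟨i, fun s hs => ?_⟩
  rw [mem_closure_iff]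
  intro W hW hsW
  obtain ⟨j, _, V, -, hsV, hVW⟩ := LimTop.exists_nhd hc i₀ hW hsW
  obtain ⟨l, a, b, -⟩ := IsCofilteredOrEmpty.cone_objs i j |>.elim (fun l h => h.elim fun a h => h.elim fun b h => (⟨l, a, b, h⟩ : ∃ (l : I) (_ : l ⟶ i) (_ : l ⟶ j), True))
  have hle : T l ≤ T i := imgClosure_mono a x
  have hl : T l = T i := eq_of_le_of_not_lt hle (hmin _ ⟨l, rfl⟩)
  have hsl : s ∈ imgClosure c x l := (SetLike.ext_iff.mp hl s).mpr hs
  have hsj := specializes_iff_mem_closure.mpr (imgClosure_mono b x hsl)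
  exact ⟨x, hVW (hsj.mem_open V.2 hsV), rfl⟩

theorem exists_fibIdeal [∀ i, QuasiSeparatedSpace (D.obj i)] [IsLocallyNoetherian c.pt] (hc : IsLimit c)
    (i₀ : I) (x : c.pt) :
    ∃ i : I, maximalIdeal (c.pt.presheaf.stalk x) ≤ fibIdeal (c.π.app i) x := by
  classical
  obtain ⟨G, hG⟩ := IsNoetherian.noetherian (maximalIdeal (c.pt.presheaf.stalk x))
  have key : ∀ g ∈ G, ∃ i, g ∈ fibIdeal (c.π.app i) x := by
    intro g hg
    obtain ⟨W, hxW, s, rfl⟩ := c.pt.presheaf.exists_germ_eq g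
    obtain ⟨j, -, V, hV, hxV, hVW⟩ := LimTop.exists_nhd hc i₀ W.2 hxW
    have hle : c.π.app j ⁻¹ᵁ V ≤ W := hVW
    obtain ⟨k, f, h, t, ht⟩ := LimLib.exists_appLE_eq hc hV.isCompact rfl
      (c.pt.presheaf.map (homOfLE hle).op s)
    refine ⟨k, ?_⟩
    have hxk : c.π.app k x ∈ D.map f ⁻¹ᵁ V := h hxV
    have e : (Scheme.Hom.stalkMap (c.π.app k) x) ((D.obj k).presheaf.germ _ (c.π.app k x) hxk t) =
        c.pt.presheaf.germ W x hxW s := by
      rw [Scheme.Hom.germ_stalkMap_apply, ← c.pt.presheaf.germ_res_apply (homOfLE hle) x hxV s, ← ht]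
      exact (c.pt.presheaf.germ_res_apply (homOfLE h) x hxV _).symm
    rw [← e]
    refine Ideal.mem_map_of_mem _ ((mem_maximalIdeal _).mpr fun hu => ?_)
    have hgm : c.pt.presheaf.germ W x hxW s ∈ maximalIdeal (c.pt.presheaf.stalk x) :=
      hG ▸ Submodule.subset_span hg
    rw [← e] at hgm
    exact (mem_maximalIdeal _).mp hgm (hu.map _)
  haveI : Nonempty I := ⟨i₀⟩
  choose! k hk using key
  obtain ⟨l, hl⟩ := IsCofiltered.inf_objs_exists (G.image k)
  refine ⟨l, ?_⟩
  rw [← hG, Submodule.span_le]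
  intro g hg
  obtain ⟨φ⟩ := hl (Finset.mem_image_of_mem k hg)
  exact fibIdeal_mono φ x (hk g hg)

theorem exists_good [∀ i, QuasiSeparatedSpace (D.obj i)] [IsLocallyNoetherian c.pt] [NoetherianSpace c.pt]
    (hc : IsLimit c) (i₀ : I) (F : Finset c.pt) :
    ∃ i : I, ∀ x ∈ F, imgClosure c x i ⊆ closure {x} ∧ fibIdeal (c.π.app i) x = maximalIdeal _ := by
  classical
  choose a ha using exists_imgClosure hc i₀
  choose b hb using exists_fibIdeal hc i₀
  obtain ⟨l, hl⟩ := IsCofiltered.inf_objs_exists (F.image a ∪ F.image b)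
  refine ⟨l, fun x hx => ⟨?_, ?_⟩⟩
  · obtain ⟨φ⟩ := hl (Finset.mem_union_left _ (Finset.mem_image_of_mem a hx))
    exact (imgClosure_mono φ x).trans (ha x)
  · obtain ⟨φ⟩ := hl (Finset.mem_union_right _ (Finset.mem_image_of_mem b hx))
    exact le_antisymm (fibIdeal_le _ x) ((hb x).trans (fibIdeal_mono φ x))

/-- The length of `R/m`. -/
theorem length_residue {R : Type u} [CommRing R] [IsLocalRing R] :
    Module.length R (R ⧸ maximalIdeal R) = 1 := by
  rw [Module.length_eq_one_iff, isSimpleModule_iff_quot_maximal]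
  exact ⟨maximalIdeal R, inferInstance, ⟨LinearEquiv.refl R _⟩⟩

end Groth.Agent.CycLib
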