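import Groth.Agent.CycLib.FibKills
import Groth.Agent.CycLib.LineChart
import Mathlib.RingTheory.Polynomial.Quotient

/-!
The affine line over a Noetherian ring kills cycles on fibres.
-/

set_option autoImplicit false
set_option linter.style.haveILetI false
set_option maxHeartbeats 800000

universe u

open CategoryTheory AlgebraicGeometry IsLocalRing Polynomial Classical

namespace Groth.Agent.CycLib

theorem ordAt_eq_one_of_local {P : Scheme.{u}} [IsLocallyNoetherian P] {δ : P → ℤ} (hd : Cyc.IsDimFun P δ)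
    {W : P.Opens} (hW : IsAffineOpen W) (v : Γ(P, W)) {ξ y : P} (hy : y ∈ W) (h : ξ ⤳ y)
    (h1 : δ y + 1 = δ ξ) (hv : P.evaluation W ξ (h.mem_open W.2 hy) v ≠ 0)
    (hvy : P.evaluation W y hy v = 0)
    (hloc : ∀ a, P.evaluation W y hy a = 0 → ∃ s, P.evaluation W y hy s ≠ 0 ∧
      s * a ∈ Ideal.span {v} ⊔ RingHom.ker (P.evaluation W ξ (h.mem_open W.2 hy)).hom) :
    Cyc.ordAt y ξ h (P.evaluation W ξ (h.mem_open W.2 hy) v) = 1 := by
  have e := ordAt_specMap hd h h1 (c := P.presheaf.germ W y hy v) (by rwa [specMap_germ h hy v])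
  rw [specMap_germ h hy v] at e
  rw [e]
  letI := TopCat.Presheaf.algebra_section_stalk P.presheaf (⟨y, hy⟩ : W)
  haveI := hW.isLocalization_stalk ⟨y, hy⟩
  set π := Ideal.Quotient.mk (RingHom.ker (Cyc.specMap y ξ h))
  set m := maximalIdeal (P.presheaf.stalk y)
  have hm : m = Ideal.span {P.presheaf.germ W y hy v} ⊔ RingHom.ker (Cyc.specMap y ξ h) := by
    refine le_antisymm ?_ (sup_le ((Ideal.span_singleton_le_iff_mem _).2 ?_)
      (le_maximalIdeal (RingHom.ker_isPrime (Cyc.specMap y ξ h)).ne_top))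
    · show maximalIdeal (P.presheaf.stalk y) ≤ _
      rw [← IsLocalization.AtPrime.map_eq_maximalIdeal (hW.primeIdealOf ⟨y, hy⟩).asIdeal (P.presheaf.stalk y),
        Ideal.map_le_iff_le_comap]
      intro a ha
      rw [← ker_evaluation hW hy] at ha
      obtain ⟨s, hs, hsa⟩ := hloc a ha
      have hu : IsUnit (P.presheaf.germ W y hy s) := by
        by_contra hn
        exact hs ((IsLocalRing.residue_eq_zero_iff _).2 hn)
      show P.presheaf.germ W y hy a ∈
        Ideal.span {P.presheaf.germ W y hy v} ⊔ RingHom.ker (Cyc.specMap y ξ h)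
      refine (Ideal.unit_mul_mem_iff_mem _ hu).1 ?_
      rw [← map_mul]
      obtain ⟨b, hb, d, hd', hbd⟩ := Submodule.mem_sup.1 hsa
      rw [← hbd, map_add]
      refine Ideal.add_mem _ (Ideal.mem_sup_left ?_) (Ideal.mem_sup_right ?_)
      · obtain ⟨q, rfl⟩ := Ideal.mem_span_singleton'.1 hb
        rw [map_mul]
        exact Ideal.mul_mem_left _ _ (Ideal.mem_span_singleton_self _)
      · rw [RingHom.mem_ker, specMap_germ h hy d]
        exact hd'
    · exact (IsLocalRing.residue_eq_zero_iff _).1 hvy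
  haveI : (Ideal.span {π (P.presheaf.germ W y hy v)}).IsMaximal := by
    have : Ideal.span {π (P.presheaf.germ W y hy v)} = m.map π := by
      rw [hm, Ideal.map_sup, Ideal.map_span, Set.image_singleton, Ideal.map_quotient_self, sup_bot_eq]
    rw [this]
    exact Ideal.IsMaximal.map_of_surjective_of_ker_le Ideal.Quotient.mk_surjective
      (Ideal.mk_ker.trans_le (le_maximalIdeal (RingHom.ker_isPrime (Cyc.specMap y ξ h)).ne_top))
  haveI : IsSimpleModule (Cyc.LocQuot y ξ h) (Cyc.LocQuot y ξ h ⧸ Ideal.span {π (P.presheaf.germ W y hy v)}) :=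
    isSimpleModule_iff_isCoatom.2 (Ideal.isMaximal_def.1 ‹_›)
  show ((Module.length _ _).toNat : ℤ) = 1
  rw [Module.length_eq_one]
  rfl

section spec

variable {A B : CommRingCat.{u}}

theorem mem_asIdeal_iff (x : Spec A) (a : A) :
    (Spec A).evaluation ⊤ x trivial ((Scheme.ΓSpecIso A).inv a) = 0 ↔ a ∈ x.asIdeal := by
  refine ((Spec A).evaluation_eq_zero_iff_notMem_basicOpen x (U := ⊤) trivial _).trans ?_
  rw [basicOpen_eq_of_affine]
  exact not_not

theorem mem_asIdeal_iff' (x : Spec A) (s : Γ(Spec A, ⊤)) :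
    (Spec A).evaluation ⊤ x trivial s = 0 ↔ (Scheme.ΓSpecIso A).hom s ∈ x.asIdeal := by
  rw [← mem_asIdeal_iff]
  exact iff_of_eq (congrArg (fun t => (Spec A).evaluation ⊤ x trivial t = 0)
    (congr($((Scheme.ΓSpecIso A).hom_inv_id) s)).symm)

theorem residueFieldMap_specEval (φ : A ⟶ B) (x : Spec B) (a : A) :
    (Spec.map φ).residueFieldMap x ((Spec A).evaluation ⊤ (Spec.map φ x) trivial ((Scheme.ΓSpecIso A).inv a)) =
      (Spec B).evaluation ⊤ x trivial ((Scheme.ΓSpecIso B).inv (φ a)) := by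
  refine (Scheme.evaluation_naturality_apply (Spec.map φ) x (V := ⊤) trivial _).trans ?_
  exact congrArg _ (congr($(Scheme.ΓSpecIso_inv_naturality φ) a)).symm

theorem specEval_surj (x : Spec A) (z : (Spec A).residueField x) :
    ∃ a b : A, z = (Spec A).evaluation ⊤ x trivial ((Scheme.ΓSpecIso A).inv a) /
      (Spec A).evaluation ⊤ x trivial ((Scheme.ΓSpecIso A).inv b) := by
  obtain ⟨a, b, rfl⟩ := evaluation_surj (isAffineOpen_top (Spec A)) (U := ⊤) (x := x) trivial z
  obtain ⟨a, rfl⟩ := (ConcreteCategory.bijective_of_isIso (Scheme.ΓSpecIso A).inv).2 a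
  obtain ⟨b, rfl⟩ := (ConcreteCategory.bijective_of_isIso (Scheme.ΓSpecIso A).inv).2 b
  exact ⟨a, b, rfl⟩

theorem specializes_iff_le (x y : Spec A) : x ⤳ y ↔ x.asIdeal ≤ y.asIdeal :=
  (PrimeSpectrum.le_iff_specializes x y).symm

end spec

section poly

variable {R : Type u} [CommRing R] (P : Ideal R)

/-- Strip top coefficients lying in `P`. -/
theorem exists_leading_notMem (q : Ideal R[X]) (hPq : P.map C ≤ q) :
    ∀ (a : R[X]), a ∈ q → a ∉ P.map C → ∃ b ∈ q, b.leadingCoeff ∉ P ∧ b.natDegree ≤ a.natDegree := by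
  intro a
  induction hn : a.natDegree using Nat.strong_induction_on generalizing a with
  | h n ih =>
    intro haq haP
    subst hn
    by_cases hl : a.leadingCoeff ∈ P
    · have hmon : monomial a.natDegree a.leadingCoeff ∈ P.map C := by
        rw [Ideal.mem_map_C_iff]
        intro k
        rw [coeff_monomial]
        split_ifs with h
        · exact hl
        · exact zero_mem _
      have hsub : a.eraseLead = a - monomial a.natDegree a.leadingCoeff :=
        (self_sub_monomial_natDegree_leadingCoeff a).symm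
      have h1 : a.eraseLead ∈ q := hsub ▸ sub_mem haq (hPq hmon)
      have h2 : a.eraseLead ∉ P.map C := fun h => haP (by
        rw [← eraseLead_add_monomial_natDegree_leadingCoeff a]; exact add_mem h hmon)
      rcases eraseLead_natDegree_lt_or_eraseLead_eq_zero a with hlt | h0
      · obtain ⟨b, hb1, hb2, hb3⟩ := ih _ hlt a.eraseLead rfl h1 h2
        exact ⟨b, hb1, hb2, hb3.trans hlt.le⟩
      · exact absurd (h0 ▸ zero_mem (P.map C)) h2
    · exact ⟨a, haq, hl, le_rfl⟩

/-- A prime above `P R[T]` is generated modulo it by one element, up to denominators off `P`. -/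
theorem exists_local_generator (q : Ideal R[X]) (hP : P.IsPrime) (hPq : P.map C ≤ q) (hne : q ≠ P.map C) :
    ∃ g ∈ q, g ∉ P.map C ∧ ∀ a ∈ q, ∃ s ∉ P, C s * a ∈ Ideal.span {g} ⊔ P.map C := by
  obtain ⟨a₀, ha₀, ha₀'⟩ := SetLike.exists_of_lt (lt_of_le_of_ne hPq hne.symm)
  obtain ⟨b₀, hb₀, hb₀', -⟩ := exists_leading_notMem P q hPq a₀ ha₀ ha₀'
  have hex : ∃ n, ∃ b ∈ q, b.leadingCoeff ∉ P ∧ b.natDegree = n := ⟨_, b₀, hb₀, hb₀', rfl⟩
  obtain ⟨g, hgq, hgl, hgd⟩ := Nat.find_spec hex
  refine ⟨g, hgq, fun h => hgl (Ideal.mem_map_C_iff.1 h _), fun a => ?_⟩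
  induction hn : a.natDegree using Nat.strong_induction_on generalizing a with
  | h n ih =>
    intro haq
    subst hn
    by_cases haP : a ∈ P.map C
    · exact ⟨1, P.ne_top_iff_one.1 hP.ne_top, by rw [map_one, one_mul]; exact Ideal.mem_sup_right haP⟩
    have hle : g.natDegree ≤ a.natDegree := by
      obtain ⟨b, hb1, hb2, hb3⟩ := exists_leading_notMem P q hPq a haq haP
      rw [hgd]
      exact (Nat.find_le ⟨b, hb1, hb2, rfl⟩).trans hb3
    set a' := C g.leadingCoeff * a - C a.leadingCoeff * X ^ (a.natDegree - g.natDegree) * g with ha'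
    have ha'q : a' ∈ q := sub_mem (Ideal.mul_mem_left _ _ haq) (Ideal.mul_mem_left _ _ hgq)
    have hdle : a'.natDegree ≤ a.natDegree := by
      refine (natDegree_sub_le _ _).trans (max_le (natDegree_C_mul_le _ _) ?_)
      refine (natDegree_mul_le).trans ((Nat.add_le_add_right (natDegree_C_mul_X_pow_le _ _) _).trans ?_)
      omega
    have hcoef : a'.coeff a.natDegree = 0 := by
      rw [ha', coeff_sub, coeff_C_mul, mul_assoc, coeff_C_mul, coeff_X_pow_mul', if_pos (Nat.sub_le _ _),
        Nat.sub_sub_self hle, leadingCoeff, leadingCoeff]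
      ring
    obtain ⟨s, hs, hsa⟩ : ∃ s ∉ P, C s * a' ∈ Ideal.span {g} ⊔ P.map C := by
      by_cases h0 : a' = 0
      · exact ⟨1, P.ne_top_iff_one.1 hP.ne_top, by rw [h0, mul_zero]; exact zero_mem _⟩
      · refine ih _ (lt_of_le_of_ne hdle fun e => h0 ?_) a' rfl ha'q
        rw [← leadingCoeff_eq_zero, leadingCoeff, e, hcoef]
    refine ⟨s * g.leadingCoeff, fun h => (hP.mem_or_mem h).elim hs hgl, ?_⟩
    have e : C (s * g.leadingCoeff) * a =
        C s * a' + C s * (C a.leadingCoeff * X ^ (a.natDegree - g.natDegree)) * g := by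
      rw [ha', map_mul]; ring
    rw [e]
    exact add_mem hsa (Ideal.mem_sup_left (Ideal.mul_mem_left _ _ (Ideal.mem_span_singleton_self g)))

end poly

section line

variable {R : Type u} [CommRing R]

/-- The affine line over `Spec R`. -/
noncomputable abbrev lineMap (R : Type u) [CommRing R] :
    Spec (CommRingCat.of R[X]) ⟶ Spec (CommRingCat.of R) :=
  Spec.map (CommRingCat.ofHom (C : R →+* R[X]))

/-- The generic point of the fibre of the line over `p`. -/
noncomputable def lineGen (p : Spec (CommRingCat.of R)) : Spec (CommRingCat.of R[X]) :=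
  ⟨p.asIdeal.map C, haveI := p.isPrime; Ideal.isPrime_map_C_of_isPrime⟩

instance : LocallyOfFiniteType (lineMap R) := by
  rw [HasRingHomProperty.Spec_iff (P := @LocallyOfFiniteType)]
  exact RingHom.finiteType_algebraMap.mpr (inferInstanceAs (Algebra.FiniteType R R[X]))

theorem lineMap_lineGen (p : Spec (CommRingCat.of R)) : lineMap R (lineGen p) = p := by
  refine PrimeSpectrum.ext ?_
  ext a
  show C a ∈ p.asIdeal.map C ↔ _
  rw [Ideal.mem_map_C_iff]
  exact ⟨fun h => by simpa using h 0, fun h k => by rw [coeff_C]; split_ifs <;> simp [h]⟩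

theorem lineGen_le (x : Spec (CommRingCat.of R[X])) :
    (lineGen (lineMap R x)).asIdeal ≤ x.asIdeal :=
  Ideal.map_le_iff_le_comap.2 le_rfl

theorem eq_lineGen_of_generic (x : Spec (CommRingCat.of R[X]))
    (hx : ∀ x', lineMap R x' = lineMap R x → x' ⤳ x → x' = x) : x = lineGen (lineMap R x) :=
  (hx _ (lineMap_lineGen _) ((specializes_iff_le _ _).2 (lineGen_le x))).symm

theorem trdeg_lineGen (p : Spec (CommRingCat.of R)) :
    (letI := ((lineMap R).residueFieldMap (lineGen p)).hom.toAlgebra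
     Algebra.trdeg ((Spec (CommRingCat.of R)).residueField (lineMap R (lineGen p)))
       ((Spec (CommRingCat.of R[X])).residueField (lineGen p))) = 1 := by
  letI := ((lineMap R).residueFieldMap (lineGen p)).hom.toAlgebra
  set q := (lineGen p).asIdeal with hq
  haveI : q.IsPrime := (lineGen p).isPrime
  haveI := p.isPrime
  haveI : q.LiesOver p.asIdeal := ⟨(congrArg PrimeSpectrum.asIdeal (lineMap_lineGen p)).symm⟩
  rw [trdeg_eq_of_eval p.asIdeal q
    (((Spec (CommRingCat.of R)).evaluation ⊤ (lineMap R (lineGen p)) trivial).hom.comp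
      (Scheme.ΓSpecIso (CommRingCat.of R)).inv.hom)
    (((Spec (CommRingCat.of R[X])).evaluation ⊤ (lineGen p) trivial).hom.comp
      (Scheme.ΓSpecIso (CommRingCat.of R[X])).inv.hom)
    (fun a => (residueFieldMap_specEval (CommRingCat.ofHom C) (lineGen p) a).symm)
    (by
      ext a
      exact (mem_asIdeal_iff (lineMap R (lineGen p)) a).trans (by rw [lineMap_lineGen]))
    (by ext a; exact mem_asIdeal_iff (lineGen p) a)
    (specEval_surj _) (specEval_surj _)]
  haveI : IsDomain (R ⧸ p.asIdeal) := inferInstance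
  let e : (R ⧸ p.asIdeal)[X] ≃ₐ[R ⧸ p.asIdeal] (R[X] ⧸ q) := AlgEquiv.ofRingEquiv
    (f := (Ideal.polynomialQuotientEquivQuotientPolynomial p.asIdeal).trans (Ideal.quotEquivOfEq rfl))
    (fun a => by
      obtain ⟨a, rfl⟩ := Ideal.Quotient.mk_surjective a
      show Ideal.quotEquivOfEq rfl (Ideal.polynomialQuotientEquivQuotientPolynomial p.asIdeal (C _)) = _
      rw [← Polynomial.map_C, Ideal.polynomialQuotientEquivQuotientPolynomial_map_mk]
      rfl)
  rw [← e.trdeg_eq, Polynomial.trdeg_of_isDomain]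

variable {δA : Spec (CommRingCat.of R[X]) → ℤ} {δR : Spec (CommRingCat.of R) → ℤ}
  (hδ : Cyc.DeltaCompat (lineMap R) δA δR) (hdA : Cyc.IsDimFun _ δA)

include hδ in
theorem delta_lineGen (p : Spec (CommRingCat.of R)) : δA (lineGen p) = δR p + 1 := by
  obtain ⟨n, hn, hn'⟩ := hδ (lineGen p)
  rw [trdeg_lineGen] at hn
  rw [hn', lineMap_lineGen, show n = 1 by exact_mod_cast hn.symm]
  rfl

include hδ hdA in
theorem delta_line (x : Spec (CommRingCat.of R[X])) :
    δR (lineMap R x) ≤ δA x ∧ δA x ≤ δR (lineMap R x) + 1 ∧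
      (δA x = δR (lineMap R x) + 1 → x = lineGen (lineMap R x)) := by
  obtain ⟨n, -, hn⟩ := hδ x
  have hs : lineGen (lineMap R x) ⤳ x := (specializes_iff_le _ _).2 (lineGen_le x)
  have h1 := le_of_specializes hdA hs
  rw [delta_lineGen hδ] at h1
  exact ⟨by omega, h1, fun h => (eq_of_specializes hdA hs (by rw [delta_lineGen hδ, h])).symm⟩

theorem hasRelDim_line [IsNoetherianRing R] : Cyc.HasRelDim (lineMap R) 1 := by
  refine hasRelDim_of_trdeg _ fun x hx => ?_
  rw [eq_lineGen_of_generic x hx]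
  exact trdeg_lineGen _

include hδ hdA in
theorem fibOne_line : FibOne (lineMap R) δA δR 1 := by
  intro x hx
  have hgen := (delta_line hδ hdA x).2.2 hx
  refine ⟨?_, fun x' hx' hd' => ?_⟩
  · set I := (maximalIdeal ((Spec (CommRingCat.of R)).presheaf.stalk (lineMap R x))).map
      ((lineMap R).stalkMap x).hom with hI
    have hW := isAffineOpen_top (Spec (CommRingCat.of R[X]))
    letI := TopCat.Presheaf.algebra_section_stalk (Spec (CommRingCat.of R[X])).presheaf
      (⟨x, trivial⟩ : (⊤ : (Spec (CommRingCat.of R[X])).Opens))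
    haveI := hW.isLocalization_stalk ⟨x, trivial⟩
    have hmax : I = maximalIdeal _ := by
      refine le_antisymm ((le_prime_iff (lineMap R) x (closedPoint _)).2
        (congrArg (lineMap R) Scheme.fromSpecStalk_closedPoint)) ?_
      show maximalIdeal _ ≤ I
      rw [← IsLocalization.AtPrime.map_eq_maximalIdeal (hW.primeIdealOf ⟨x, trivial⟩).asIdeal
        ((Spec (CommRingCat.of R[X])).presheaf.stalk x), Ideal.map_le_iff_le_comap]
      intro a ha
      rw [← ker_evaluation hW (trivial : x ∈ (⊤ : (Spec (CommRingCat.of R[X])).Opens))] at ha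
      have ha' := (mem_asIdeal_iff' x a).1 ha
      let gm : R[X] →+* (Spec (CommRingCat.of R[X])).presheaf.stalk x :=
        ((Spec (CommRingCat.of R[X])).presheaf.germ ⊤ x trivial).hom.comp
          (Scheme.ΓSpecIso (CommRingCat.of R[X])).inv.hom
      have hpa : (Scheme.ΓSpecIso (CommRingCat.of R[X])).hom a ∈ Ideal.comap gm I := by
        rw [hgen] at ha'
        refine Ideal.map_le_iff_le_comap.2 (fun c hc => ?_) ha'
        show gm (C c) ∈ I
        have e : gm (C c) = (lineMap R).stalkMap x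
            ((Spec (CommRingCat.of R)).presheaf.germ ⊤ (lineMap R x) trivial
              ((Scheme.ΓSpecIso (CommRingCat.of R)).inv c)) := by
          refine Eq.trans ?_ ((lineMap R).germ_stalkMap_apply ⊤ x trivial _).symm
          exact congrArg _ (congr($(Scheme.ΓSpecIso_inv_naturality (CommRingCat.ofHom C)) c))
        rw [e]
        refine Ideal.mem_map_of_mem _ ?_
        exact (IsLocalRing.residue_eq_zero_iff _).1 ((mem_asIdeal_iff (lineMap R x) c).2 hc)
      show (Spec (CommRingCat.of R[X])).presheaf.germ ⊤ x trivial a ∈ I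
      refine (congrArg (· ∈ I) ?_).mp hpa
      exact congrArg _ (congr($((Scheme.ΓSpecIso (CommRingCat.of R[X])).hom_inv_id) a))
    haveI : IsSimpleModule ((Spec (CommRingCat.of R[X])).presheaf.stalk x)
        ((Spec (CommRingCat.of R[X])).presheaf.stalk x ⧸ I) :=
      isSimpleModule_iff_isCoatom.2 (Ideal.isMaximal_def.1 (hmax ▸ maximalIdeal.isMaximal _))
    show (Module.length _ ((Spec (CommRingCat.of R[X])).presheaf.stalk x ⧸ I)).toNat = 1
    rw [Module.length_eq_one]
    rfl
  · rw [(delta_line hδ hdA x').2.2 (by rw [hx', hd', hx]), hx', ← hgen]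

include hδ hdA in
theorem fibKills_line [IsNoetherianRing R] : FibKills (lineMap R) δA δR 1 := by
  intro ξ hξ
  set p := lineMap R ξ with hp
  have hle := lineGen_le ξ
  have hne : ξ.asIdeal ≠ (lineGen p).asIdeal := fun e => by
    have := delta_lineGen hδ p
    rw [← show ξ = lineGen p from PrimeSpectrum.ext e] at this
    omega
  have hδξ : δA ξ = δR p := by have := (delta_line hδ hdA ξ).1; rw [← hp] at this; omega
  obtain ⟨g, hgξ, hgP, hloc⟩ := exists_local_generator p.asIdeal ξ.asIdeal p.isPrime hle hne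
  set v := (Scheme.ΓSpecIso (CommRingCat.of R[X])).inv g
  have hv : (Spec (CommRingCat.of R[X])).evaluation ⊤ (lineGen p) trivial v ≠ 0 := fun h =>
    hgP ((mem_asIdeal_iff (lineGen p) g).1 h)
  refine ⟨PUnit, inferInstance, fun _ => lineGen p,
    fun _ => (Spec (CommRingCat.of R[X])).evaluation ⊤ (lineGen p) trivial v, fun _ => 1,
    fun _ => ⟨lineMap_lineGen p, by rw [delta_lineGen hδ, hδξ], hv⟩, fun x hx => ?_⟩
  rw [Fintype.sum_unique, one_mul]
  have hs : lineGen p ⤳ x := (specializes_iff_le _ _).2 (hx ▸ lineGen_le x)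
  by_cases hd : δA x + 1 = δA (lineGen p)
  · rw [Cyc.divFun, dif_pos ⟨hs, hd⟩]
    have hdx : δA x = δA ξ := by rw [delta_lineGen hδ] at hd; omega
    by_cases hxξ : x = ξ
    · subst hxξ
      rw [pointFun, if_pos rfl]
      refine (ordAt_eq_one_of_local hdA (isAffineOpen_top _) v trivial hs hd hv
        ((mem_asIdeal_iff x g).2 hgξ) fun a ha => ?_).symm
      obtain ⟨s, hs', hsa⟩ := hloc _ ((mem_asIdeal_iff' x a).1 ha)
      refine ⟨(Scheme.ΓSpecIso (CommRingCat.of R[X])).inv (C s), fun h => hs' ((mem_asIdeal_iff x (C s)).1 h), ?_⟩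
      obtain ⟨b, hb, d, hd', hbd⟩ := Submodule.mem_sup.1 hsa
      obtain ⟨q, rfl⟩ := Ideal.mem_span_singleton'.1 hb
      have e : (Scheme.ΓSpecIso (CommRingCat.of R[X])).inv (C s) * a =
          (Scheme.ΓSpecIso (CommRingCat.of R[X])).inv (q * g + d) := by
        rw [hbd, map_mul]
        congr 1
        exact (congr($((Scheme.ΓSpecIso (CommRingCat.of R[X])).hom_inv_id) a)).symm
      rw [e, map_add, map_mul]
      exact add_mem (Ideal.mem_sup_left (Ideal.mul_mem_left _ _ (Ideal.mem_span_singleton_self _)))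
        (Ideal.mem_sup_right ((mem_asIdeal_iff (lineGen p) d).2 hd'))
    · rw [pointFun, if_neg hxξ]
      refine (ordAt_evaluation_of_ne_zero hdA v trivial hs hd hv fun h0 => hxξ ?_).symm
      have hgx := (mem_asIdeal_iff x g).1 h0
      have hξx : ξ ⤳ x := (specializes_iff_le _ _).2 fun a ha => by
        obtain ⟨s, hs', hsa⟩ := hloc a ha
        have hmem : C s * a ∈ x.asIdeal :=
          sup_le ((Ideal.span_singleton_le_iff_mem _).2 hgx) ((specializes_iff_le _ _).1 hs) hsa
        refine (x.isPrime.mem_or_mem hmem).resolve_left fun h => hs' ?_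
        have : s ∈ (lineMap R x).asIdeal := h
        rwa [hx] at this
      exact (eq_of_specializes hdA hξx hdx.ge).symm
  · rw [Cyc.divFun, dif_neg fun h => hd h.2, pointFun, if_neg]
    rintro rfl
    rw [delta_lineGen hδ] at hd
    omega

end line

end Groth.Agent.CycLib
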