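import Groth.Agent.CycLib.SpecPt

/-!
The maps `O_{Y,y}/p_η → O_{X,x}/p_ξ` induced by a morphism, and lengths of residue fields.
-/

set_option autoImplicit false
set_option linter.style.haveILetI false
set_option maxHeartbeats 400000

universe u

open CategoryTheory AlgebraicGeometry IsLocalRing

namespace Groth.Agent.CycLib

variable {X Y : Scheme.{u}}

/-- The composite `O_{Y,y}/p_η → κ(η) → κ(ξ)`. -/
noncomputable def baseToField (f : X ⟶ Y) {ξ : X} {y : Y} (h : f ξ ⤳ y) :
    Cyc.LocQuot y (f ξ) h →+* X.residueField ξ :=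
  (f.residueFieldMap ξ).hom.comp (algebraMap (Cyc.LocQuot y (f ξ) h) (Y.residueField (f ξ)))

theorem exists_locQuotHom (f : X ⟶ Y) {x ξ : X} {y : Y} (hy : f x = y) (hx : ξ ⤳ x) (h : f ξ ⤳ y) :
    ∃ φ : Cyc.LocQuot y (f ξ) h →+* Cyc.LocQuot x ξ hx, IsLocalHom φ ∧
      (algebraMap (Cyc.LocQuot x ξ hx) (X.residueField ξ)).comp φ = baseToField f h := by
  subst hy
  haveI : (RingHom.ker (Cyc.specMap x ξ hx)).IsPrime := RingHom.ker_isPrime _
  refine ⟨Ideal.quotientMap _ (f.stalkMap x).hom (comap_ker_specMap f hx).ge, ⟨fun q hq => ?_⟩, ?_⟩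
  · obtain ⟨c, rfl⟩ := Ideal.Quotient.mk_surjective q
    rw [Ideal.quotientMap_mk] at hq
    haveI : Nontrivial (Cyc.LocQuot x ξ hx) := Ideal.Quotient.nontrivial_iff.mpr (Ideal.IsPrime.ne_top ‹_›)
    haveI := IsLocalHom.of_surjective (Ideal.Quotient.mk (RingHom.ker (Cyc.specMap x ξ hx)))
      Ideal.Quotient.mk_surjective
    have h1 : IsUnit (f.stalkMap x c) := IsUnit.of_map (Ideal.Quotient.mk _) _ hq
    exact (IsUnit.of_map (f.stalkMap x).hom c h1).map _
  · refine Ideal.Quotient.ringHom_ext (RingHom.ext fun c => ?_)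
    exact (residueFieldMap_specMap' f hx c).symm

theorem length_residue_aux {R S κ' κ : Type u} [CommRing R] [IsLocalRing R] [CommRing S] [IsLocalRing S]
    [Field κ'] [Field κ] [Algebra κ' κ] [Algebra R S] (π' : R →+* κ') (hπ' : Function.Surjective π')
    (π : S →+* κ) (hπ : Function.Surjective π) (hcomm : ∀ r, π (algebraMap R S r) = algebraMap κ' κ (π' r)) :
    (Module.length R (ResidueField S)).toNat = Module.finrank κ' κ := by
  letI := π'.toAlgebra
  letI : Algebra R κ := ((algebraMap κ' κ).comp π').toAlgebra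
  haveI : IsScalarTower R κ' κ := IsScalarTower.of_algebraMap_eq fun _ => rfl
  have hker : RingHom.ker π = maximalIdeal S :=
    IsLocalRing.eq_maximalIdeal (RingHom.ker_isMaximal_of_surjective π hπ)
  let πA : S →ₐ[R] κ := { π with commutes' := hcomm }
  have e : ResidueField S ≃ₐ[R] κ :=
    (Ideal.quotientEquivAlgOfEq R hker.symm).trans (Ideal.quotientKerAlgEquivOfSurjective (f := πA) hπ)
  rw [e.toLinearEquiv.length_eq, Module.length_eq_of_surjective (R := κ') hπ', Module.length_eq_rank]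
  exact Cardinal.toNat_toENat _

theorem length_residueField_locQuot (f : X ⟶ Y) {x ξ : X} {y : Y} (hy : f x = y) (hx : ξ ⤳ x)
    (h : f ξ ⤳ y) [IsLocalRing (Cyc.LocQuot y (f ξ) h)] [IsLocalRing (Cyc.LocQuot x ξ hx)]
    [Algebra (Cyc.LocQuot y (f ξ) h) (Cyc.LocQuot x ξ hx)]
    (hcompat : (algebraMap (Cyc.LocQuot x ξ hx) (X.residueField ξ)).comp
      (algebraMap (Cyc.LocQuot y (f ξ) h) (Cyc.LocQuot x ξ hx)) = baseToField f h) :
    (Module.length (Cyc.LocQuot y (f ξ) h) (ResidueField (Cyc.LocQuot x ξ hx))).toNat = f.residueDegree x := by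
  subst hy
  letI := (f.residueFieldMap x).hom.toAlgebra
  have hleY : RingHom.ker (Cyc.specMap (f x) (f ξ) h) ≤ maximalIdeal _ :=
    le_maximalIdeal (RingHom.ker_isPrime _).ne_top
  have hleX : RingHom.ker (Cyc.specMap x ξ hx) ≤ maximalIdeal _ :=
    le_maximalIdeal (RingHom.ker_isPrime _).ne_top
  let π' : Cyc.LocQuot (f x) (f ξ) h →+* Y.residueField (f x) :=
    Ideal.Quotient.lift _ (Y.residue (f x)).hom fun a ha => (IsLocalRing.residue_eq_zero_iff a).2 (hleY ha)
  let π : Cyc.LocQuot x ξ hx →+* X.residueField x :=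
    Ideal.Quotient.lift _ (X.residue x).hom fun a ha => (IsLocalRing.residue_eq_zero_iff a).2 (hleX ha)
  refine length_residue_aux π' (Ideal.Quotient.lift_surjective_of_surjective _ _
      (Scheme.residue_surjective Y (f x))) π (Ideal.Quotient.lift_surjective_of_surjective _ _
      (Scheme.residue_surjective X x)) fun r => ?_
  obtain ⟨c, rfl⟩ := Ideal.Quotient.mk_surjective r
  have e : algebraMap (Cyc.LocQuot (f x) (f ξ) h) (Cyc.LocQuot x ξ hx) (Ideal.Quotient.mk _ c) =
      Ideal.Quotient.mk _ (f.stalkMap x c) := by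
    refine locQuot_injective x ξ hx ?_
    exact (RingHom.congr_fun hcompat (Ideal.Quotient.mk _ c)).trans (residueFieldMap_specMap' f hx c)
  rw [e]
  exact congr($((Scheme.residue_residueFieldMap f x).symm) c)

end Groth.Agent.CycLib
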