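import Groth.Agent.S6292
import Mathlib.RingTheory.Length
import Mathlib.RingTheory.Support
import Mathlib.RingTheory.Noetherian.Basic

/-!
The index of two submodules with finite-length differences.
-/

set_option autoImplicit false

universe u

namespace Groth.Agent.CycLib.ModIdx

open Submodule

section

variable {A : Type u} [CommRing A] {V V' V'' : Type u} [AddCommGroup V] [Module A V] [AddCommGroup V']
  [Module A V'] [AddCommGroup V''] [Module A V'']

/-- The length of `P / (P ⊓ Q)`. -/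
noncomputable def rlen (P Q : Submodule A V) : ℕ∞ := Module.length A (P ⧸ Q.comap P.subtype)

/-- The submodules differ by modules of finite length. -/
def Com (P Q : Submodule A V) : Prop := rlen P Q ≠ ⊤ ∧ rlen Q P ≠ ⊤

/-- The index of two submodules. -/
noncomputable def idx (P Q : Submodule A V) : ℤ := ((rlen P Q).toNat : ℤ) - (rlen Q P).toNat

theorem rlen_eq_zero {P Q : Submodule A V} (h : P ≤ Q) : rlen P Q = 0 := by
  rw [rlen, Module.length_eq_zero_iff, Submodule.Quotient.subsingleton_iff, eq_top_iff]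
  exact fun x _ => h x.2

theorem rlen_sup (P Q : Submodule A V) : rlen (P ⊔ Q) Q = rlen P Q := by
  refine LinearEquiv.length_eq (LinearMap.quotientInfEquivSupQuotient P Q).symm |>.trans ?_
  refine LinearEquiv.length_eq (Submodule.quotEquivOfEq _ _ ?_)
  ext x
  simp

theorem rlen_chain {P Q S : Submodule A V} (h : S ≤ Q) (h' : Q ≤ P) : rlen P S = rlen P Q + rlen Q S := by
  rw [add_comm]
  refine Module.length_eq_add_of_exact
    (Submodule.mapQ (S.comap Q.subtype) (S.comap P.subtype) (Submodule.inclusion h') (fun x hx => hx))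
    (Submodule.mapQ (S.comap P.subtype) (Q.comap P.subtype) LinearMap.id (fun x hx => h hx)) ?_ ?_ ?_
  · rintro a b e
    obtain ⟨a, rfl⟩ := Submodule.Quotient.mk_surjective _ a
    obtain ⟨b, rfl⟩ := Submodule.Quotient.mk_surjective _ b
    replace e := (Submodule.Quotient.eq _).1 e
    rw [Submodule.Quotient.eq]
    exact e
  · intro b
    obtain ⟨b, rfl⟩ := Submodule.Quotient.mk_surjective _ b
    exact ⟨Submodule.Quotient.mk b, rfl⟩
  · intro b
    obtain ⟨b, rfl⟩ := Submodule.Quotient.mk_surjective _ b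
    constructor
    · intro hb
      replace hb := (Submodule.Quotient.mk_eq_zero _).1 hb
      exact ⟨Submodule.Quotient.mk ⟨b.1, hb⟩, rfl⟩
    · rintro ⟨a, ha⟩
      obtain ⟨a, rfl⟩ := Submodule.Quotient.mk_surjective _ a
      replace ha := (Submodule.Quotient.eq _).1 ha
      refine (Submodule.Quotient.mk_eq_zero _).2 ?_
      have := Q.sub_mem a.2 (h ha)
      simpa using this

theorem rlen_anti_right (P : Submodule A V) {Q Q' : Submodule A V} (h : Q ≤ Q') : rlen P Q' ≤ rlen P Q :=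
  Module.length_le_of_surjective
    (Submodule.mapQ (Q.comap P.subtype) (Q'.comap P.subtype) LinearMap.id (fun _ hx => h hx)) fun b => by
      obtain ⟨b, rfl⟩ := Submodule.Quotient.mk_surjective _ b
      exact ⟨Submodule.Quotient.mk b, rfl⟩

theorem rlen_mono_left {P P' : Submodule A V} (h : P ≤ P') (Q : Submodule A V) : rlen P Q ≤ rlen P' Q := by
  refine Module.length_le_of_injective
    (Submodule.mapQ (Q.comap P.subtype) (Q.comap P'.subtype) (Submodule.inclusion h) (fun _ hx => hx)) ?_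
  intro a b e
  obtain ⟨a, rfl⟩ := Submodule.Quotient.mk_surjective _ a
  obtain ⟨b, rfl⟩ := Submodule.Quotient.mk_surjective _ b
  replace e := (Submodule.Quotient.eq _).1 e
  rw [Submodule.Quotient.eq]
  exact e

theorem Com.refl (P : Submodule A V) : Com P P := ⟨by simp [rlen_eq_zero le_rfl], by simp [rlen_eq_zero le_rfl]⟩

theorem Com.symm {P Q : Submodule A V} (h : Com P Q) : Com Q P := ⟨h.2, h.1⟩

theorem idx_self (P : Submodule A V) : idx P P = 0 := by simp [idx]

theorem idx_symm (P Q : Submodule A V) : idx Q P = -idx P Q := by simp [idx]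

theorem idx_of_le {P Q : Submodule A V} (h : Q ≤ P) : idx P Q = (rlen P Q).toNat := by
  simp [idx, rlen_eq_zero h]

theorem idx_eq_sub {P Q T : Submodule A V} (hP : P ≤ T) (hQ : Q ≤ T) (h : Com P Q) (hT : rlen T (P ⊔ Q) ≠ ⊤) :
    rlen T Q ≠ ⊤ ∧ rlen T P ≠ ⊤ ∧ idx P Q = ((rlen T Q).toNat : ℤ) - (rlen T P).toNat := by
  have e1 := rlen_chain (le_sup_right : Q ≤ P ⊔ Q) (sup_le hP hQ)
  have e2 := rlen_chain (le_sup_left : P ≤ P ⊔ Q) (sup_le hP hQ)
  rw [rlen_sup] at e1
  rw [sup_comm P Q, rlen_sup, sup_comm Q P] at e2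
  refine ⟨by simp [e1, hT, h.1], by simp [e2, hT, h.2], ?_⟩
  rw [e1, e2, ENat.toNat_add hT h.1, ENat.toNat_add hT h.2, idx]
  push_cast
  ring

theorem Com.trans {P Q S : Submodule A V} (h : Com P Q) (h' : Com Q S) :
    Com P S ∧ idx P S = idx P Q + idx Q S := by
  have hS : rlen (P ⊔ Q ⊔ S) (P ⊔ Q) ≠ ⊤ := by
    rw [sup_comm (P ⊔ Q) S, rlen_sup]
    exact fun e => h'.2 (top_le_iff.1 (e ▸ rlen_anti_right S le_sup_right))
  have hP : rlen (P ⊔ Q ⊔ S) (Q ⊔ S) ≠ ⊤ := by
    rw [sup_assoc, rlen_sup]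
    exact fun e => h.1 (top_le_iff.1 (e ▸ rlen_anti_right P le_sup_left))
  obtain ⟨tQ, tP, e1⟩ := idx_eq_sub (T := P ⊔ Q ⊔ S) (le_sup_left.trans le_sup_left)
    (le_sup_right.trans le_sup_left) h hS
  obtain ⟨tS, -, e2⟩ := idx_eq_sub (T := P ⊔ Q ⊔ S) (le_sup_right.trans le_sup_left) le_sup_right h' hP
  have hc : Com P S := ⟨fun e => tS (top_le_iff.1 (e ▸ rlen_mono_left (le_sup_left.trans le_sup_left) S)),
    fun e => tP (top_le_iff.1 (e ▸ rlen_mono_left le_sup_right P))⟩
  have hPS : rlen (P ⊔ Q ⊔ S) (P ⊔ S) ≠ ⊤ := fun e => tP (top_le_iff.1 (e ▸ rlen_anti_right _ le_sup_left))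
  obtain ⟨-, -, e3⟩ := idx_eq_sub (T := P ⊔ Q ⊔ S) (le_sup_left.trans le_sup_left) le_sup_right hc hPS
  exact ⟨hc, by omega⟩

theorem rlen_split_of_le (f : V' →ₗ[A] V) (g : V →ₗ[A] V'') (hf : Function.Injective f)
    (hfg : Function.Exact f g) {P Q : Submodule A V} (h : Q ≤ P) :
    rlen P Q = rlen (P.comap f) (Q.comap f) + rlen (P.map g) (Q.map g) := by
  refine Module.length_eq_add_of_exact
    (Submodule.mapQ ((Q.comap f).comap (P.comap f).subtype) (Q.comap P.subtype)
      (f.restrict (fun x hx => hx)) (fun x hx => hx))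
    (Submodule.mapQ (Q.comap P.subtype) ((Q.map g).comap (P.map g).subtype)
      (g.restrict (fun x hx => Submodule.mem_map_of_mem hx)) (fun x hx => Submodule.mem_map_of_mem hx)) ?_ ?_ ?_
  · intro a b e
    obtain ⟨a, rfl⟩ := Submodule.Quotient.mk_surjective _ a
    obtain ⟨b, rfl⟩ := Submodule.Quotient.mk_surjective _ b
    replace e := (Submodule.Quotient.eq _).1 e
    rw [Submodule.Quotient.eq]
    show f _ ∈ Q
    simpa using e
  · intro b
    obtain ⟨⟨_, v, hv, rfl⟩, rfl⟩ := Submodule.Quotient.mk_surjective _ b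
    exact ⟨Submodule.Quotient.mk ⟨v, hv⟩, rfl⟩
  · intro b
    obtain ⟨b, rfl⟩ := Submodule.Quotient.mk_surjective _ b
    constructor
    · intro hb
      replace hb := (Submodule.Quotient.mk_eq_zero _).1 hb
      obtain ⟨q, hq, hqb⟩ := hb
      obtain ⟨v', hv'⟩ := (hfg (b.1 - q)).1 (by
        rw [map_sub, sub_eq_zero]
        exact hqb.symm)
      refine ⟨Submodule.Quotient.mk ⟨v', show f v' ∈ P by rw [hv']; exact P.sub_mem b.2 (h hq)⟩, ?_⟩
      refine (Submodule.Quotient.eq _).2 ?_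
      show f v' - b.1 ∈ Q
      rw [hv', sub_sub_cancel_left]
      exact Q.neg_mem hq
    · rintro ⟨a, ha⟩
      obtain ⟨a, rfl⟩ := Submodule.Quotient.mk_surjective _ a
      rw [← ha]
      refine (Submodule.Quotient.mk_eq_zero _).2 ?_
      show g (f a.1) ∈ Q.map g
      rw [hfg.apply_apply_eq_zero]
      exact zero_mem _

theorem Com.split (f : V' →ₗ[A] V) (g : V →ₗ[A] V'') (hf : Function.Injective f)
    (hfg : Function.Exact f g) {P Q : Submodule A V} (h : Com P Q) :
    Com (P.comap f) (Q.comap f) ∧ Com (P.map g) (Q.map g) ∧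
      idx P Q = idx (P.comap f) (Q.comap f) + idx (P.map g) (Q.map g) := by
  have key : ∀ {S T : Submodule A V}, S ≤ T → rlen T S ≠ ⊤ → Com (T.comap f) (S.comap f) ∧ Com (T.map g) (S.map g) ∧
      idx T S = idx (T.comap f) (S.comap f) + idx (T.map g) (S.map g) := by
    intro S T hle hfin
    rw [rlen_split_of_le f g hf hfg hle] at hfin
    replace hfin := WithTop.add_ne_top.1 hfin
    refine ⟨⟨hfin.1, by simp [rlen_eq_zero (Submodule.comap_mono hle)]⟩,
      ⟨hfin.2, by simp [rlen_eq_zero (Submodule.map_mono hle)]⟩, ?_⟩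
    rw [idx_of_le hle, idx_of_le (Submodule.comap_mono hle), idx_of_le (Submodule.map_mono hle),
      rlen_split_of_le f g hf hfg hle, ENat.toNat_add hfin.1 hfin.2]
    push_cast
    ring
  have hTQ : rlen (P ⊔ Q) Q ≠ ⊤ := by rw [rlen_sup]; exact h.1
  have hTP : rlen (P ⊔ Q) P ≠ ⊤ := by rw [sup_comm, rlen_sup]; exact h.2
  obtain ⟨a1, a2, a3⟩ := key le_sup_right hTQ
  obtain ⟨b1, b2, b3⟩ := key le_sup_left hTP
  obtain ⟨c1, d1⟩ := b1.symm.trans a1
  obtain ⟨c2, d2⟩ := b2.symm.trans a2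
  refine ⟨c1, c2, ?_⟩
  have e : idx P Q = idx P (P ⊔ Q) + idx (P ⊔ Q) Q :=
    (Com.trans (show Com P (P ⊔ Q) from ⟨by simp [rlen_eq_zero (Q := P ⊔ Q) le_sup_left], hTP⟩)
      (show Com (P ⊔ Q) Q from ⟨hTQ, by simp [rlen_eq_zero (Q := P ⊔ Q) le_sup_right]⟩)).2
  rw [e, d1, d2, idx_symm (P ⊔ Q) P, b3, a3, idx_symm ((P ⊔ Q).comap f), idx_symm ((P ⊔ Q).map g)]
  ring

theorem rlen_map_injective (f : V' →ₗ[A] V) (hf : Function.Injective f) (P Q : Submodule A V') :
    rlen (P.map f) (Q.map f) = rlen P Q := by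
  refine LinearEquiv.length_eq (LinearEquiv.symm ?_)
  refine Submodule.Quotient.equiv _ _ (Submodule.equivMapOfInjective f hf P) ?_
  ext x
  constructor
  · rintro ⟨y, hy, rfl⟩
    exact ⟨y.1, hy, rfl⟩
  · rintro ⟨q, hq, hqx⟩
    obtain ⟨y, rfl⟩ := (Submodule.equivMapOfInjective f hf P).surjective x
    exact ⟨y, show y.1 ∈ Q from (hf hqx : q = y.1) ▸ hq, rfl⟩

theorem Com.map_injective (f : V' →ₗ[A] V) (hf : Function.Injective f) {P Q : Submodule A V'} (h : Com P Q) :
    Com (P.map f) (Q.map f) ∧ idx (P.map f) (Q.map f) = idx P Q := by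
  simp only [Com, idx, rlen_map_injective f hf]
  exact ⟨h, trivial⟩

theorem rlen_map_of_ker_le (g : V →ₗ[A] V'') {P Q : Submodule A V} (h : LinearMap.ker g ≤ Q) :
    rlen (P.map g) (Q.map g) = rlen P Q := by
  rw [← rlen_sup P Q, ← rlen_sup (P.map g), ← Submodule.map_sup]
  rw [rlen_split_of_le (LinearMap.ker g).subtype g (Submodule.subtype_injective _)
    (LinearMap.exact_subtype_ker_map g) (le_sup_right : Q ≤ P ⊔ Q), rlen_eq_zero (show (P ⊔ Q).comap (LinearMap.ker g).subtype ≤ Q.comap (LinearMap.ker g).subtype from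
      fun x _ => h x.2), zero_add]

theorem idx_map_of_ker_le (g : V →ₗ[A] V'') {P Q : Submodule A V} (hP : LinearMap.ker g ≤ P)
    (hQ : LinearMap.ker g ≤ Q) : idx (P.map g) (Q.map g) = idx P Q := by
  rw [idx, idx, rlen_map_of_ker_le g hQ, rlen_map_of_ker_le g hP]

/-- Splitting along a submodule. -/
theorem Com.split_sub (W : Submodule A V) {P Q : Submodule A V} (h : Com P Q) :
    Com (P ⊓ W) (Q ⊓ W) ∧ Com (P ⊔ W) (Q ⊔ W) ∧ idx P Q = idx (P ⊓ W) (Q ⊓ W) + idx (P ⊔ W) (Q ⊔ W) := by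
  obtain ⟨c1, c2, e⟩ := h.split W.subtype W.mkQ W.injective_subtype (LinearMap.exact_subtype_mkQ W)
  obtain ⟨d1, d2⟩ := c1.map_injective W.subtype W.injective_subtype
  simp only [Submodule.map_comap_subtype, inf_comm W] at d1 d2
  have hm : ∀ S : Submodule A V, (S ⊔ W).map W.mkQ = S.map W.mkQ := fun S => by
    rw [Submodule.map_sup, Submodule.mkQ_map_self, sup_bot_eq]
  have hk : ∀ S : Submodule A V, LinearMap.ker W.mkQ ≤ S ⊔ W := fun S => by
    rw [Submodule.ker_mkQ]; exact le_sup_right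
  refine ⟨d1, ?_, ?_⟩
  · refine ⟨?_, ?_⟩
    · rw [← rlen_map_of_ker_le W.mkQ (hk Q), hm, hm]; exact c2.1
    · rw [← rlen_map_of_ker_le W.mkQ (hk P), hm, hm]; exact c2.2
  · rw [e, d2, ← idx_map_of_ker_le W.mkQ (hk P) (hk Q), hm, hm]

end

section pi

variable {A : Type u} [CommRing A] {ι : Type u} {V : ι → Type u} [∀ i, AddCommGroup (V i)]
  [∀ i, Module A (V i)]

theorem rlen_pi_of_le (s : Finset ι) (hs : ∀ i ∉ s, Subsingleton (V i)) {P Q : ∀ i, Submodule A (V i)}
    (h : ∀ i, Q i ≤ P i) :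
    rlen (Submodule.pi Set.univ P) (Submodule.pi Set.univ Q) = ∑ i ∈ s, rlen (P i) (Q i) := by
  classical
  rw [← Finset.sum_coe_sort s (fun i => rlen (P i) (Q i))]
  simp only [rlen]
  rw [← Module.length_pi_of_fintype (R := A)]
  let φ : Submodule.pi Set.univ P →ₗ[A] Π i : s, (P i ⧸ (Q i).comap (P i).subtype) :=
    LinearMap.pi fun i => ((Q i.1).comap (P i.1).subtype).mkQ ∘ₗ
      (((LinearMap.proj i.1).comp (Submodule.pi Set.univ P).subtype).codRestrict (P i.1)
        fun x => x.2 i.1 trivial)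
  have hker : LinearMap.ker φ = (Submodule.pi Set.univ Q).comap (Submodule.pi Set.univ P).subtype := by
    ext x
    simp only [φ, LinearMap.mem_ker, funext_iff, LinearMap.pi_apply, LinearMap.comp_apply, Submodule.mkQ_apply,
      Pi.zero_apply, Submodule.Quotient.mk_eq_zero, Submodule.mem_comap, Submodule.mem_pi]
    constructor
    · intro hx i _
      by_cases hi : i ∈ s
      · exact hx ⟨i, hi⟩
      · haveI := hs i hi
        show x.1 i ∈ Q i
        rw [Subsingleton.elim (x.1 i) 0]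
        exact zero_mem _
    · exact fun hx i => hx i.1 trivial
  refine LinearEquiv.length_eq ((Submodule.quotEquivOfEq _ _ hker.symm).trans
    (φ.quotKerEquivOfSurjective fun y => ?_))
  choose z hz using fun i => Submodule.Quotient.mk_surjective _ (y i)
  refine ⟨⟨fun i => if hi : i ∈ s then (z ⟨i, hi⟩).1 else 0, fun i _ => ?_⟩, funext fun i => ?_⟩
  · dsimp only
    split_ifs with hi
    · exact (z ⟨i, hi⟩).2
    · exact zero_mem _
  · refine Eq.trans ?_ (hz i)
    exact congrArg Submodule.Quotient.mk (Subtype.ext (dif_pos i.2))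

theorem com_pi (s : Finset ι) (hs : ∀ i ∉ s, Subsingleton (V i)) {P Q : ∀ i, Submodule A (V i)}
    (h : ∀ i, Com (P i) (Q i)) :
    Com (Submodule.pi Set.univ P) (Submodule.pi Set.univ Q) ∧
      idx (Submodule.pi Set.univ P) (Submodule.pi Set.univ Q) = ∑ i ∈ s, idx (P i) (Q i) := by
  have key : ∀ {S T : ∀ i, Submodule A (V i)}, (∀ i, S i ≤ T i) → (∀ i, Com (T i) (S i)) →
      Com (Submodule.pi Set.univ T) (Submodule.pi Set.univ S) ∧
        idx (Submodule.pi Set.univ T) (Submodule.pi Set.univ S) = ∑ i ∈ s, idx (T i) (S i) := by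
    intro S T hle hc
    have hle' : Submodule.pi Set.univ S ≤ Submodule.pi Set.univ T := fun x hx i hi => hle i (hx i hi)
    refine ⟨⟨?_, by simp [rlen_eq_zero hle']⟩, ?_⟩
    · rw [rlen_pi_of_le s hs hle]
      exact WithTop.sum_ne_top.2 fun i _ => (hc i).1
    · rw [idx_of_le hle', rlen_pi_of_le s hs hle, Finset.sum_congr rfl fun i _ => idx_of_le (hle i),
        ← Nat.cast_sum]
      congr 1
      have : ∀ i ∈ s, rlen (T i) (S i) = ((rlen (T i) (S i)).toNat : ℕ∞) := fun i _ =>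
        (ENat.coe_toNat (hc i).1).symm
      rw [Finset.sum_congr rfl this, ← Nat.cast_sum, ENat.toNat_coe]
  have hP : ∀ i, Com (P i ⊔ Q i) (P i) := fun i =>
    ⟨by rw [sup_comm, rlen_sup]; exact (h i).2, by simp [rlen_eq_zero (Q := P i ⊔ Q i) le_sup_left]⟩
  have hQ : ∀ i, Com (P i ⊔ Q i) (Q i) := fun i =>
    ⟨by rw [rlen_sup]; exact (h i).1, by simp [rlen_eq_zero (Q := P i ⊔ Q i) le_sup_right]⟩
  obtain ⟨a1, a2⟩ := key (fun i => le_sup_left) hP
  obtain ⟨b1, b2⟩ := key (fun i => le_sup_right) hQ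
  obtain ⟨c, e⟩ := a1.symm.trans b1
  refine ⟨c, ?_⟩
  rw [e, idx_symm (Submodule.pi Set.univ fun i => P i ⊔ Q i), a2, b2, ← Finset.sum_neg_distrib,
    ← Finset.sum_add_distrib]
  exact Finset.sum_congr rfl fun i _ => by rw [((hP i).symm.trans (hQ i)).2, idx_symm (P i ⊔ Q i)]

end pi

section local_ring

variable {A : Type u} [CommRing A] [IsNoetherianRing A] [IsLocalRing A] {V : Type u} [AddCommGroup V]
  [Module A V]

/-- A finite module which vanishes off the closed point has finite length. -/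
theorem length_ne_top_of_locally_zero {N : Type u} [AddCommGroup N] [Module A N] [Module.Finite A N]
    (h : ∀ q : Ideal A, q.IsPrime → q ≠ IsLocalRing.maximalIdeal A → ∀ n : N, ∃ s ∉ q, s • n = 0) :
    Module.length A N ≠ ⊤ := by
  have hrad : IsLocalRing.maximalIdeal A ≤ (Module.annihilator A N).radical := by
    rw [Ideal.radical_eq_sInf]
    refine le_sInf fun J hJ => ?_
    haveI := hJ.2
    by_contra hne
    have hJs : (⟨J, hJ.2⟩ : PrimeSpectrum A) ∈ Module.support A N := by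
      rw [Module.support_eq_zeroLocus]; exact hJ.1
    obtain ⟨n, hn⟩ := Module.mem_support_iff'.1 hJs
    obtain ⟨s, hs, hsn⟩ := h J hJ.2 (fun e => hne e.ge) n
    exact hn s hs hsn
  obtain ⟨n, hn⟩ := Ideal.exists_pow_le_of_le_radical_of_fg hrad (IsNoetherian.noetherian _)
  refine Module.length_ne_top_iff.2 (S6292.result (IsLocalRing.maximalIdeal A) (IsNoetherian.noetherian _) N n ?_)
  rw [eq_bot_iff, Submodule.smul_le]
  intro a ha b _
  rw [Submodule.mem_bot]
  exact Module.mem_annihilator.1 (hn ha) b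

/-- A criterion for finite relative length. -/
theorem rlen_ne_top {P Q P0 : Submodule A V} (hP : P0.FG) (hle : P ≤ P0 ⊔ Q)
    (h : ∀ q : Ideal A, q.IsPrime → q ≠ IsLocalRing.maximalIdeal A → ∀ v ∈ P0, ∃ s ∉ q, s • v ∈ Q) :
    rlen P Q ≠ ⊤ := by
  haveI := Module.Finite.iff_fg.2 hP
  have h0 : rlen P0 Q ≠ ⊤ := by
    refine length_ne_top_of_locally_zero fun q hq hqm n => ?_
    obtain ⟨⟨v, hv⟩, rfl⟩ := Submodule.Quotient.mk_surjective _ n
    obtain ⟨s, hs, hsv⟩ := h q hq hqm v hv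
    refine ⟨s, hs, ?_⟩
    rw [← Submodule.Quotient.mk_smul, Submodule.Quotient.mk_eq_zero]
    exact hsv
  refine fun e => h0 (top_le_iff.1 ?_)
  rw [← e, ← rlen_sup P0 Q]
  exact rlen_mono_left hle Q

end local_ring

end Groth.Agent.CycLib.ModIdx
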