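import Groth.Agent.CycLib.ModIndex
import Mathlib.RingTheory.Localization.AtPrime.Basic
import Mathlib.RingTheory.Finiteness.Basic

/-!
Composition series with chosen generators of finite length modules over a localization, and the index of a
lattice with respect to such a series.
-/

set_option autoImplicit false

universe u

namespace Groth.Agent.CycLib.ModIdx

open Submodule IsLocalRing

section series

variable {R : Type u} [CommRing R] [IsLocalRing R] {V : Type u} [AddCommGroup V] [Module R V]

/-- The submodule spanned by a list. -/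
def lspan (R : Type u) [CommRing R] {V : Type u} [AddCommGroup V] [Module R V] : List V → Submodule R V
  | [] => ⊥
  | e :: l => lspan R l ⊔ Submodule.span R {e}

/-- A composition series with chosen generators, from the top down. -/
def IsSer (R : Type u) [CommRing R] [IsLocalRing R] {V : Type u} [AddCommGroup V] [Module R V] :
    List V → Prop
  | [] => True
  | e :: l => IsSer R l ∧ e ∉ lspan R l ∧ ∀ r ∈ maximalIdeal R, r • e ∈ lspan R l

theorem mem_lspan_cons (e : V) (l : List V) : e ∈ lspan R (e :: l) :=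
  Submodule.mem_sup_right (Submodule.mem_span_singleton_self e)

theorem lspan_le_cons (e : V) (l : List V) : lspan R l ≤ lspan R (e :: l) := le_sup_left

theorem smul_mem_of_mem_cons {e : V} {l : List V} (h : IsSer R (e :: l)) {v : V}
    (hv : v ∈ lspan R (e :: l)) {r : R} (hr : r ∈ maximalIdeal R) : r • v ∈ lspan R l := by
  obtain ⟨x, hx, y, hy, rfl⟩ := Submodule.mem_sup.1 hv
  obtain ⟨c, rfl⟩ := Submodule.mem_span_singleton.1 hy
  rw [smul_add, smul_smul]
  exact add_mem ((lspan R l).smul_mem r hx) (h.2.2 _ (Ideal.mul_mem_right c _ hr))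

theorem sup_eq_of_mem {e : V} {l : List V} (h : IsSer R (e :: l)) {v : V} (hv : v ∈ lspan R (e :: l))
    (hv' : v ∉ lspan R l) : lspan R l ⊔ Submodule.span R {v} = lspan R (e :: l) := by
  refine le_antisymm (sup_le le_sup_left ((Submodule.span_singleton_le_iff_mem _ _).2 hv))
    (sup_le le_sup_left ((Submodule.span_singleton_le_iff_mem _ _).2 ?_))
  obtain ⟨x, hx, y, hy, rfl⟩ := Submodule.mem_sup.1 hv
  obtain ⟨c, rfl⟩ := Submodule.mem_span_singleton.1 hy
  obtain ⟨u, rfl⟩ : IsUnit c := by
    by_contra hc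
    exact hv' (add_mem hx (h.2.2 c hc))
  refine Submodule.mem_sup.2 ⟨-((↑u⁻¹ : R) • x), (lspan R l).neg_mem ((lspan R l).smul_mem _ hx),
    (↑u⁻¹ : R) • (x + (↑u : R) • e), Submodule.smul_mem _ _ (Submodule.mem_span_singleton_self _), ?_⟩
  rw [smul_add, ← mul_smul, Units.inv_mul, one_smul]
  abel

theorem exists_socle (W K : Submodule R V) {n : ℕ} :
    ∀ v ∈ K, v ∉ W → (∀ r ∈ maximalIdeal R ^ n, r • v ∈ W) →
      ∃ e ∈ K, e ∉ W ∧ ∀ r ∈ maximalIdeal R, r • e ∈ W := by
  induction n with
  | zero =>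
    intro v _ hv h
    exact absurd (by simpa using h 1 (by simp)) hv
  | succ n ih =>
    intro v hK hv h
    by_cases hh : ∀ r ∈ maximalIdeal R, r • v ∈ W
    · exact ⟨v, hK, hv, hh⟩
    · push Not at hh
      obtain ⟨r, hr, hrv⟩ := hh
      refine ih (r • v) (K.smul_mem r hK) hrv fun c hc => ?_
      rw [smul_smul]
      exact h _ (pow_succ (maximalIdeal R) n ▸ Ideal.mul_mem_mul hc hr)

/-- Existence of series. -/
theorem exists_series [IsNoetherian R V] (hV : ∃ n, maximalIdeal R ^ n ≤ Module.annihilator R V)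
    (K : Submodule R V) : ∃ l, IsSer R l ∧ lspan R l = K := by
  obtain ⟨n, hn⟩ := hV
  obtain ⟨W, ⟨l, hl, rfl, hle⟩, hmax⟩ := WellFounded.has_min (r := (· > ·)) wellFounded_gt
    {W : Submodule R V | ∃ l, IsSer R l ∧ lspan R l = W ∧ W ≤ K} ⟨⊥, [], trivial, rfl, bot_le⟩
  refine ⟨l, hl, le_antisymm hle fun v hv => ?_⟩
  by_contra hv'
  obtain ⟨e, heK, he, hme⟩ := exists_socle (lspan R l) K (n := n) v hv hv' fun r hr => by
    rw [Module.mem_annihilator.1 (hn hr) v]
    exact zero_mem _
  refine hmax (lspan R (e :: l)) ⟨e :: l, ⟨hl, he, hme⟩, rfl,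
    sup_le hle ((Submodule.span_singleton_le_iff_mem _ _).2 heK)⟩ ?_
  exact lt_of_le_of_ne le_sup_left fun e' => he (e' ▸ mem_lspan_cons e l)

theorem eq_nil_of_lspan_eq_bot {l : List V} (h : IsSer R l) (h' : lspan R l = ⊥) : l = [] := by
  cases l with
  | nil => rfl
  | cons e l =>
    refine absurd ?_ h.2.1
    have := mem_lspan_cons (R := R) e l
    rw [h', Submodule.mem_bot] at this
    rw [this]
    exact zero_mem _

/-- A quantity which does not change under the elementary moves does not depend on the series. -/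
theorem ser_invariant [IsNoetherian R V] (hV : ∃ n, maximalIdeal R ^ n ≤ Module.annihilator R V) {G : Type*}
    (ν : List V → G)
    (hscale : ∀ l e e', IsSer R (e :: l) → IsSer R (e' :: l) → lspan R (e :: l) = lspan R (e' :: l) →
      ν (e :: l) = ν (e' :: l))
    (hcong : ∀ e l l', IsSer R (e :: l) → IsSer R (e :: l') → lspan R l = lspan R l' → ν l = ν l' →
      ν (e :: l) = ν (e :: l'))
    (hexch : ∀ a b l, IsSer R (a :: b :: l) → IsSer R (b :: a :: l) → ν (a :: b :: l) = ν (b :: a :: l))
    {l l' : List V} (hl : IsSer R l) (hl' : IsSer R l') (h : lspan R l = lspan R l') : ν l = ν l' := by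
  suffices H : ∀ (n : ℕ) (l l' : List V), l.length = n → IsSer R l → IsSer R l' → lspan R l = lspan R l' →
      l'.length = n ∧ ν l = ν l' from (H _ l l' rfl hl hl' h).2
  intro n
  induction n with
  | zero =>
    intro l l' hn hl hl' h
    obtain rfl := List.length_eq_zero_iff.1 hn
    obtain rfl := eq_nil_of_lspan_eq_bot hl' h.symm
    exact ⟨rfl, rfl⟩
  | succ n ih =>
    intro l l' hn hl hl' h
    match l, hn with
    | e :: t, hn =>
    match l' with
    | [] => exact absurd (eq_nil_of_lspan_eq_bot hl h) (List.cons_ne_nil _ _)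
    | e' :: t' =>
    have hn' : t.length = n := Nat.succ_injective hn
    by_cases hH : lspan R t = lspan R t'
    · obtain ⟨h1, h2⟩ := ih t t' hn' hl.1 hl'.1 hH
      have het' : IsSer R (e :: t') := ⟨hl'.1, hH ▸ hl.2.1, hH ▸ hl.2.2⟩
      refine ⟨congrArg Nat.succ h1, (hcong e t t' hl het' hH h2).trans ?_⟩
      refine hscale t' e e' het' hl' (Eq.trans ?_ h)
      show lspan R t' ⊔ _ = lspan R t ⊔ _
      rw [hH]
    · obtain ⟨a, ha, ha'⟩ : ∃ a ∈ lspan R t, a ∉ lspan R t' := by
        by_contra hc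
        push Not at hc
        obtain ⟨b, hb, hb'⟩ := SetLike.exists_of_lt (lt_of_le_of_ne hc hH)
        have e1 := sup_eq_of_mem hl (h ▸ lspan_le_cons e' t' hb) hb'
        refine hl'.2.1 ?_
        have e2 : lspan R (e :: t) ≤ lspan R t' :=
          e1 ▸ sup_le hc ((Submodule.span_singleton_le_iff_mem _ _).2 hb)
        exact e2 (h ▸ mem_lspan_cons e' t')
      obtain ⟨b, hb, hb'⟩ : ∃ b ∈ lspan R t', b ∉ lspan R t := by
        by_contra hc
        push Not at hc
        have e1 := sup_eq_of_mem hl' (h ▸ lspan_le_cons e t ha) ha'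
        refine hl.2.1 ?_
        have e2 : lspan R (e' :: t') ≤ lspan R t :=
          e1 ▸ sup_le hc ((Submodule.span_singleton_le_iff_mem _ _).2 ha)
        exact e2 (h ▸ mem_lspan_cons e t)
      obtain ⟨w, hw, hwK⟩ := exists_series hV (lspan R t ⊓ lspan R t')
      have haW : a ∈ lspan R (e' :: t') := h ▸ lspan_le_cons e t ha
      have hbW : b ∈ lspan R (e :: t) := h ▸ lspan_le_cons e' t' hb
      have hsa : IsSer R (a :: w) := ⟨hw, fun hh => ha' (hwK.le hh).2, fun r hr =>
        hwK.ge ⟨(lspan R t).smul_mem r ha, smul_mem_of_mem_cons hl' haW hr⟩⟩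
      have hsb : IsSer R (b :: w) := ⟨hw, fun hh => hb' (hwK.le hh).1, fun r hr =>
        hwK.ge ⟨smul_mem_of_mem_cons hl hbW hr, (lspan R t').smul_mem r hb⟩⟩
      have hWt' : lspan R t' ⊔ Submodule.span R {a} = lspan R (e' :: t') := sup_eq_of_mem hl' haW ha'
      have hWt : lspan R t ⊔ Submodule.span R {b} = lspan R (e :: t) := sup_eq_of_mem hl hbW hb'
      have hga : lspan R (a :: w) = lspan R t := by
        refine le_antisymm (sup_le (hwK.le.trans inf_le_left) ((Submodule.span_singleton_le_iff_mem _ _).2 ha)) fun v hv => ?_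
        have hv' : v ∈ lspan R t' ⊔ Submodule.span R {a} := hWt' ▸ h ▸ lspan_le_cons e t hv
        obtain ⟨x, hx, y, hy, rfl⟩ := Submodule.mem_sup.1 hv'
        refine Submodule.add_mem_sup (hwK.ge ⟨?_, hx⟩) hy
        have := sub_mem hv ((Submodule.span_singleton_le_iff_mem _ _).2 ha hy)
        simpa using this
      have hgb : lspan R (b :: w) = lspan R t' := by
        refine le_antisymm (sup_le (hwK.le.trans inf_le_right) ((Submodule.span_singleton_le_iff_mem _ _).2 hb)) fun v hv => ?_
        have hv' : v ∈ lspan R t ⊔ Submodule.span R {b} := hWt ▸ h ▸ lspan_le_cons e' t' hv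
        obtain ⟨x, hx, y, hy, rfl⟩ := Submodule.mem_sup.1 hv'
        refine Submodule.add_mem_sup (hwK.ge ⟨hx, ?_⟩) hy
        have := sub_mem hv ((Submodule.span_singleton_le_iff_mem _ _).2 hb hy)
        simpa using this
      obtain ⟨l1, e1⟩ := ih t (a :: w) hn' hl.1 hsa hga.symm
      obtain ⟨l2, e2⟩ := ih (b :: w) t' l1 hsb hl'.1 hgb
      have hea : IsSer R (e :: a :: w) := ⟨hsa, hga ▸ hl.2.1, hga ▸ hl.2.2⟩
      have hba : IsSer R (b :: a :: w) := ⟨hsa, hga ▸ hb', hga ▸ fun r hr => smul_mem_of_mem_cons hl hbW hr⟩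
      have hab : IsSer R (a :: b :: w) := ⟨hsb, hgb ▸ ha', hgb ▸ fun r hr => smul_mem_of_mem_cons hl' haW hr⟩
      have heb : IsSer R (e' :: b :: w) := ⟨hsb, hgb ▸ hl'.2.1, hgb ▸ hl'.2.2⟩
      refine ⟨congrArg Nat.succ l2, ?_⟩
      calc ν (e :: t) = ν (e :: a :: w) := hcong e t (a :: w) hl hea hga.symm e1
        _ = ν (b :: a :: w) := hscale _ _ _ hea hba (by
          show lspan R (a :: w) ⊔ _ = lspan R (a :: w) ⊔ _
          rw [hga, hWt]; rfl)
        _ = ν (a :: b :: w) := hexch _ _ _ hba hab
        _ = ν (e' :: b :: w) := hscale _ _ _ hab heb (by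
          show lspan R (b :: w) ⊔ _ = lspan R (b :: w) ⊔ _
          rw [hgb, hWt']; rfl)
        _ = ν (e' :: t') := hcong e' (b :: w) t' heb hl' hgb e2

end series

section index

variable (A : Type u) [CommRing A] {R : Type u} [CommRing R] [Algebra A R] {V : Type u} [AddCommGroup V]
  [Module R V] [Module A V] [IsScalarTower A R V]

/-- The contribution of one step of a series. -/
noncomputable def sidx (H : Submodule R V) (e : V) (L : Submodule A V) : ℤ :=
  idx (L ⊓ (H ⊔ Submodule.span R {e}).restrictScalars A ⊔ H.restrictScalars A)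
    (Submodule.span A {e} ⊔ H.restrictScalars A)

/-- The index of a lattice with respect to a series. -/
noncomputable def nf (R : Type u) [CommRing R] [Algebra A R] {V : Type u} [AddCommGroup V]
    [Module R V] [Module A V] [IsScalarTower A R V] : List V → Submodule A V → ℤ
  | [], _ => 0
  | e :: l, L => sidx A (lspan R l) e L + nf R l L

/-- A finitely generated submodule generating `V` over the localization. -/
def Lat (p : Ideal A) (L : Submodule A V) : Prop := L.FG ∧ ∀ v, ∃ s ∉ p, s • v ∈ L

variable {A} [IsNoetherianRing A] [IsLocalRing A] [IsLocalRing R] {p : Ideal A} [p.IsPrime]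
  [IsLocalization.AtPrime R p]
  (hp1 : ∀ q : Ideal A, q.IsPrime → p ≤ q → q = p ∨ q = maximalIdeal A)
  (hV : ∃ n, maximalIdeal R ^ n ≤ Module.annihilator R V)

include hp1 hV in
/-- Away from `p` and the closed point the module vanishes. -/
theorem kill {q : Ideal A} (hq : q.IsPrime) (hqp : q ≠ p) (hqm : q ≠ maximalIdeal A) (v : V) :
    ∃ s ∉ q, s • v = 0 := by
  obtain ⟨n, hn⟩ := hV
  obtain ⟨t, htp, htq⟩ : ∃ t ∈ p, t ∉ q := by
    by_contra hc
    push Not at hc
    exact (hp1 q hq hc).elim hqp hqm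
  refine ⟨t ^ n, fun h => htq (hq.mem_of_pow_mem n h), ?_⟩
  rw [← algebraMap_smul R (t ^ n) v, map_pow]
  exact Module.mem_annihilator.1 (hn (Ideal.pow_mem_pow
    (((IsLocalization.AtPrime.to_map_mem_maximal_iff R p t).2 htp)) n)) v

theorem exists_smul_span {H : Submodule R V} {e v : V} (hv : v ∈ H ⊔ Submodule.span R {e}) :
    ∃ s ∉ p, s • v ∈ Submodule.span A {e} ⊔ H.restrictScalars A := by
  obtain ⟨x, hx, y, hy, rfl⟩ := Submodule.mem_sup.1 hv
  obtain ⟨r, rfl⟩ := Submodule.mem_span_singleton.1 hy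
  obtain ⟨⟨a, ⟨s, hs⟩⟩, hra⟩ := IsLocalization.surj p.primeCompl r
  refine ⟨s, hs, ?_⟩
  rw [smul_add, add_comm]
  refine Submodule.add_mem_sup ?_ ((H.restrictScalars A).smul_mem s hx)
  refine Submodule.mem_span_singleton.2 ⟨a, ?_⟩
  rw [← algebraMap_smul R a e, ← hra, mul_comm, mul_smul, algebraMap_smul]

include hp1 hV in
theorem com_lat {L L' : Submodule A V} (hL : Lat A p L) (hL' : Lat A p L') : Com L L' := by
  have key : ∀ {L L' : Submodule A V}, Lat A p L → Lat A p L' → rlen L L' ≠ ⊤ := fun {L L'} hL hL' =>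
    rlen_ne_top hL.1 le_sup_left fun q hq hqm v _ => by
      by_cases hqp : q = p
      · subst hqp; exact hL'.2 v
      · obtain ⟨s, hs, hsv⟩ := kill hp1 hV hq hqp hqm v
        exact ⟨s, hs, hsv ▸ zero_mem _⟩
  exact ⟨key hL hL', key hL' hL⟩

include hp1 hV in
theorem com_step {H : Submodule R V} (e : V) {L : Submodule A V} (hL : Lat A p L) :
    Com (L ⊓ (H ⊔ Submodule.span R {e}).restrictScalars A ⊔ H.restrictScalars A)
      (Submodule.span A {e} ⊔ H.restrictScalars A) := by
  haveI := isNoetherian_of_fg_of_noetherian L hL.1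
  have hfg : (L ⊓ (H ⊔ Submodule.span R {e}).restrictScalars A).FG := Submodule.FG.of_le hL.1 inf_le_left
  refine ⟨rlen_ne_top hfg (sup_le le_sup_left (le_sup_right.trans le_sup_right)) fun q hq hqm v hv => ?_,
    rlen_ne_top (Submodule.fg_span_singleton e) (sup_le le_sup_left (le_sup_right.trans le_sup_right))
      fun q hq hqm v hv => ?_⟩
  · by_cases hqp : q = p
    · subst hqp; exact exists_smul_span hv.2
    · obtain ⟨s, hs, hsv⟩ := kill hp1 hV hq hqp hqm v
      exact ⟨s, hs, hsv ▸ zero_mem _⟩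
  · by_cases hqp : q = p
    · subst hqp
      obtain ⟨s, hs, hsv⟩ := hL.2 v
      refine ⟨s, hs, Submodule.mem_sup_left ⟨hsv, ?_⟩⟩
      obtain ⟨c, rfl⟩ := Submodule.mem_span_singleton.1 hv
      exact Submodule.smul_mem _ s (Submodule.smul_mem _ c (Submodule.mem_sup_right (Submodule.mem_span_singleton_self e)))
    · obtain ⟨s, hs, hsv⟩ := kill hp1 hV hq hqp hqm v
      exact ⟨s, hs, hsv ▸ zero_mem _⟩

include hp1 hV in
theorem nf_sub {L L' : Submodule A V} (hL : Lat A p L) (hL' : Lat A p L') (l : List V) :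
    nf A R l L - nf A R l L' = idx (L ⊓ (lspan R l).restrictScalars A) (L' ⊓ (lspan R l).restrictScalars A) := by
  induction l with
  | nil => simp [nf, lspan, idx_self]
  | cons e l ih =>
    obtain ⟨hc, -, -⟩ := (com_lat hp1 hV hL hL').split_sub ((lspan R (e :: l)).restrictScalars A)
    obtain ⟨-, -, h3⟩ := hc.split_sub ((lspan R l).restrictScalars A)
    have hle : (lspan R l).restrictScalars A ≤ (lspan R (e :: l)).restrictScalars A := lspan_le_cons e l
    rw [inf_assoc, inf_eq_right.2 hle, inf_assoc, inf_eq_right.2 hle, ← ih] at h3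
    have h4 := ((com_step hp1 hV e hL).trans (com_step (H := lspan R l) hp1 hV e hL').symm).2
    rw [h3, show lspan R (e :: l) = lspan R l ⊔ Submodule.span R {e} from rfl, h4]
    simp only [nf, sidx, idx_symm (L' ⊓ _ ⊔ _)]
    ring

include hp1 hV in
theorem nf_swap {L : Submodule A V} (hL : Lat A p L) {a b : V} {l : List V}
    (hab : IsSer R (a :: b :: l)) (hba : IsSer R (b :: a :: l)) :
    nf A R (a :: b :: l) L = nf A R (b :: a :: l) L := by
  set K := lspan R l
  set W := (K ⊔ Submodule.span R {a} ⊔ Submodule.span R {b}).restrictScalars A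
  let P := L ⊓ W ⊔ K.restrictScalars A
  let Q := Submodule.span A {a} ⊔ Submodule.span A {b} ⊔ K.restrictScalars A
  have hPQ : Com P Q := by
    haveI := isNoetherian_of_fg_of_noetherian L hL.1
    have hfg : (L ⊓ W).FG := Submodule.FG.of_le hL.1 inf_le_left
    refine ⟨rlen_ne_top hfg (sup_le le_sup_left (le_sup_right.trans le_sup_right)) fun q hq hqm v hv => ?_,
      rlen_ne_top ((Submodule.fg_span_singleton a).sup (Submodule.fg_span_singleton b))
        (sup_le le_sup_left (le_sup_right.trans le_sup_right)) fun q hq hqm v hv => ?_⟩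
    · by_cases hqp : q = p
      · subst hqp
        obtain ⟨x, hx, y, hy, rfl⟩ := Submodule.mem_sup.1 (show v ∈ (K ⊔ Submodule.span R {a}) ⊔ Submodule.span R {b} from hv.2)
        obtain ⟨s, hs, hsx⟩ := exists_smul_span (A := A) (p := q) hx
        obtain ⟨t, ht, hty⟩ := exists_smul_span (A := A) (p := q) (H := (⊥ : Submodule R V))
          (Submodule.mem_sup_right hy)
        refine ⟨s * t, fun h => (‹q.IsPrime›.mem_or_mem h).elim hs ht, ?_⟩
        rw [smul_add]
        refine add_mem ?_ ?_
        · rw [mul_comm, mul_smul]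
          exact Submodule.smul_mem _ t ((sup_le (le_sup_left.trans le_sup_left) le_sup_right : Submodule.span A {a} ⊔ K.restrictScalars A ≤ Q) hsx)
        · rw [mul_smul]
          refine Submodule.smul_mem _ s ?_
          simp only [Submodule.restrictScalars_bot, sup_bot_eq] at hty
          exact le_sup_left (a := Submodule.span A {a} ⊔ Submodule.span A {b}) (le_sup_right (b := Submodule.span A {b}) hty)
      · obtain ⟨s, hs, hsv⟩ := kill hp1 hV hq hqp hqm v
        exact ⟨s, hs, hsv ▸ zero_mem _⟩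
    · by_cases hqp : q = p
      · subst hqp
        obtain ⟨s, hs, hsv⟩ := hL.2 v
        refine ⟨s, hs, Submodule.mem_sup_left ⟨hsv, W.smul_mem s ?_⟩⟩
        refine (sup_le ?_ ?_ : Submodule.span A {a} ⊔ Submodule.span A {b} ≤ W) hv
        · exact (Submodule.span_singleton_le_iff_mem _ _).2
            (Submodule.mem_sup_left (Submodule.mem_sup_right (Submodule.mem_span_singleton_self a)))
        · exact (Submodule.span_singleton_le_iff_mem _ _).2
            (Submodule.mem_sup_right (Submodule.mem_span_singleton_self b))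
      · obtain ⟨s, hs, hsv⟩ := kill hp1 hV hq hqp hqm v
        exact ⟨s, hs, hsv ▸ zero_mem _⟩
  have hswap : ∀ c d : V, IsSer R (d :: c :: l) →
      (lspan R (d :: c :: l)).restrictScalars A = W → ∀ x ∈ p, algebraMap A R x • d ∈ K := by
    intro c d hs hW x hx
    have hr := (IsLocalization.AtPrime.to_map_mem_maximal_iff R p x).2 hx
    have hd1 : d ∈ W := hW ▸ mem_lspan_cons d (c :: l)
    have hda : algebraMap A R x • d ∈ lspan R (a :: l) := smul_mem_of_mem_cons hba hd1 hr
    have hdb : algebraMap A R x • d ∈ lspan R (b :: l) :=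
      smul_mem_of_mem_cons hab ((show lspan R (a :: b :: l) = K ⊔ Submodule.span R {a} ⊔ Submodule.span R {b} from
        sup_right_comm _ _ _).ge hd1) hr
    obtain ⟨y, hy, z, hz, hyz⟩ := Submodule.mem_sup.1 hdb
    obtain ⟨t, rfl⟩ := Submodule.mem_span_singleton.1 hz
    rw [← hyz]
    refine add_mem hy ?_
    have ht : t ∈ maximalIdeal R := by
      by_contra hu
      obtain ⟨u, rfl⟩ := not_not.1 hu
      refine hba.2.1 ?_
      have : (↑u : R) • b ∈ lspan R (a :: l) := by
        have := sub_mem hda (lspan_le_cons a l hy)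
        rwa [← hyz, add_sub_cancel_left] at this
      have := Submodule.smul_mem _ (↑u⁻¹ : R) this
      rwa [← mul_smul, Units.inv_mul, one_smul] at this
    exact hab.1.2.2 t ht
  have half : ∀ c d : V, IsSer R (d :: c :: l) →
      (lspan R (d :: c :: l)).restrictScalars A = W → Q = Submodule.span A {c} ⊔ Submodule.span A {d} ⊔ K.restrictScalars A →
      idx P Q = sidx A (lspan R (c :: l)) d L + sidx A K c L := by
    intro c d hs hW hQ
    obtain ⟨-, -, h3⟩ := hPQ.split_sub ((lspan R (c :: l)).restrictScalars A)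
    have hKc : K.restrictScalars A ≤ (lspan R (c :: l)).restrictScalars A := lspan_le_cons c l
    have hcW : (lspan R (c :: l)).restrictScalars A ≤ W := hW ▸ lspan_le_cons d (c :: l)
    have hca : Submodule.span A {c} ≤ (lspan R (c :: l)).restrictScalars A :=
      (Submodule.span_singleton_le_iff_mem _ _).2 (mem_lspan_cons c l)
    have e1 : P ⊓ (lspan R (c :: l)).restrictScalars A =
        L ⊓ (lspan R (c :: l)).restrictScalars A ⊔ K.restrictScalars A := by
      show (L ⊓ W ⊔ _) ⊓ _ = _
      rw [sup_comm, sup_inf_assoc_of_le _ hKc, inf_assoc, inf_eq_right.2 hcW, sup_comm]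
    have e2 : P ⊔ (lspan R (c :: l)).restrictScalars A = L ⊓ W ⊔ (lspan R (c :: l)).restrictScalars A := by
      show L ⊓ W ⊔ _ ⊔ _ = _
      rw [sup_assoc, sup_eq_right.2 hKc]
    have e3 : Q ⊓ (lspan R (c :: l)).restrictScalars A = Submodule.span A {c} ⊔ K.restrictScalars A := by
      rw [hQ, sup_right_comm, sup_inf_assoc_of_le _ (sup_le hca hKc)]
      refine sup_eq_left.2 ?_
      rintro v ⟨hv, hv'⟩
      obtain ⟨x, rfl⟩ := Submodule.mem_span_singleton.1 hv
      refine Submodule.mem_sup_right ?_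
      by_cases hx : x ∈ p
      · rw [Submodule.restrictScalars_mem, ← algebraMap_smul R x d]
        have hdW : d ∈ lspan R (d :: c :: l) := mem_lspan_cons d (c :: l)
        exact hswap c d hs hW x hx
      · refine absurd ?_ hs.2.1
        obtain ⟨u, hu⟩ := IsLocalization.map_units R (⟨x, hx⟩ : p.primeCompl)
        have : (↑u⁻¹ : R) • x • d ∈ lspan R (c :: l) := Submodule.smul_mem _ _ hv'
        rwa [← algebraMap_smul R x d, ← mul_smul, ← hu, Units.inv_mul, one_smul] at this
    have e4 : Q ⊔ (lspan R (c :: l)).restrictScalars A = Submodule.span A {d} ⊔ (lspan R (c :: l)).restrictScalars A := by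
      rw [hQ, sup_assoc, sup_eq_right.2 hKc, sup_comm (Submodule.span A {c}), sup_assoc, sup_eq_right.2 hca]
    rw [h3, e1, e2, e3, e4, add_comm]
    simp only [sidx]
    rw [← hW]
    rfl
  show sidx A (lspan R (b :: l)) a L + (sidx A K b L + nf A R l L) =
    sidx A (lspan R (a :: l)) b L + (sidx A K a L + nf A R l L)
  rw [← add_assoc, ← add_assoc, ← half b a hab (congrArg _ (sup_right_comm _ _ _))
    (congrArg (· ⊔ _) (sup_comm _ _)), ← half a b hba rfl rfl]

theorem rlen_smul_step {H : Submodule R V} {e : V} (he : e ∉ H) (hme : ∀ r ∈ maximalIdeal R, r • e ∈ H) {c : A} :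
    rlen (Submodule.span A {e} ⊔ H.restrictScalars A) (Submodule.span A {c • e} ⊔ H.restrictScalars A) =
      Module.length A (A ⧸ (p ⊔ Ideal.span {c})) := by
  have hsup : Submodule.span A {e} ⊔ H.restrictScalars A =
      Submodule.span A {e} ⊔ (Submodule.span A {c • e} ⊔ H.restrictScalars A) := by
    rw [← sup_assoc, sup_eq_left.2 ((Submodule.span_singleton_le_iff_mem _ _).2
      (Submodule.smul_mem _ c (Submodule.mem_span_singleton_self e)))]
  rw [hsup, rlen_sup, rlen]
  let φ : A →ₗ[A] _ := ((Submodule.span A {c • e} ⊔ H.restrictScalars A).comap (Submodule.span A {e}).subtype).mkQ ∘ₗ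
    (LinearMap.toSpanSingleton A V e).codRestrict (Submodule.span A {e})
      (fun a => Submodule.smul_mem _ a (Submodule.mem_span_singleton_self e))
  have hmem : ∀ t : A, t • e ∈ H.restrictScalars A ↔ t ∈ p := fun t => by
    refine ⟨fun h => ?_, fun h => ?_⟩
    · by_contra ht
      obtain ⟨u, hu⟩ := IsLocalization.map_units R (⟨t, ht⟩ : p.primeCompl)
      have : (↑u⁻¹ : R) • t • e ∈ H := Submodule.smul_mem _ _ h
      rw [← algebraMap_smul R t e, ← mul_smul, ← hu, Units.inv_mul, one_smul] at this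
      exact he this
    · rw [← algebraMap_smul R t e]
      exact hme _ ((IsLocalization.AtPrime.to_map_mem_maximal_iff R p t).2 h)
  have hker : LinearMap.ker φ = p ⊔ Ideal.span {c} := by
    ext a
    show Submodule.Quotient.mk _ = 0 ↔ _
    rw [Submodule.Quotient.mk_eq_zero]
    show a • e ∈ Submodule.span A {c • e} ⊔ H.restrictScalars A ↔ _
    constructor
    · intro h
      obtain ⟨x, hx, y, hy, hxy⟩ := Submodule.mem_sup.1 h
      obtain ⟨d, rfl⟩ := Submodule.mem_span_singleton.1 hx
      rw [show a = (a - d * c) + d * c by ring]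
      refine Submodule.add_mem_sup ((hmem _).1 ?_) (Ideal.mem_span_singleton'.2 ⟨d, rfl⟩)
      rw [sub_smul, mul_smul, ← hxy, add_sub_cancel_left]
      exact hy
    · intro h
      obtain ⟨x, hx, y, hy, rfl⟩ := Submodule.mem_sup.1 h
      obtain ⟨d, rfl⟩ := Ideal.mem_span_singleton'.1 hy
      rw [add_smul, mul_smul, add_comm]
      exact Submodule.add_mem_sup (Submodule.smul_mem _ _ (Submodule.mem_span_singleton_self _)) ((hmem x).2 hx)
  refine (LinearEquiv.length_eq ((Submodule.quotEquivOfEq _ _ hker.symm).trans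
    (φ.quotKerEquivOfSurjective fun z => ?_))).symm
  obtain ⟨⟨v, hv⟩, rfl⟩ := Submodule.Quotient.mk_surjective _ z
  obtain ⟨a, rfl⟩ := Submodule.mem_span_singleton.1 hv
  exact ⟨a, rfl⟩

include hp1 in
theorem length_quot_ne_top {c : A} (hc : c ∉ p) : Module.length A (A ⧸ (p ⊔ Ideal.span {c})) ≠ ⊤ := by
  refine length_ne_top_of_locally_zero fun q hq hqm n => ?_
  obtain ⟨a, rfl⟩ := Ideal.Quotient.mk_surjective n
  obtain ⟨s, hs, hsq⟩ : ∃ s ∈ p ⊔ Ideal.span {c}, s ∉ q := by
    by_contra hh
    push Not at hh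
    rcases hp1 q hq (le_sup_left.trans hh) with h | h
    · exact hc (h ▸ hh c (Submodule.mem_sup_right (Ideal.mem_span_singleton_self c)))
    · exact hqm h
  exact ⟨s, hsq, Ideal.Quotient.eq_zero_iff_mem.2 (Ideal.mul_mem_right a _ hs)⟩

include hp1 hV in
/-- Changing a generator by a rational function. -/
theorem sidx_scale {H : Submodule R V} {e e' : V} (he : e ∉ H) (hme : ∀ r ∈ maximalIdeal R, r • e ∈ H)
    (he' : e' ∉ H) (hme' : ∀ r ∈ maximalIdeal R, r • e' ∈ H)
    (hW : H ⊔ Submodule.span R {e} = H ⊔ Submodule.span R {e'}) {a b : A} (ha : a ∉ p) (hb : b ∉ p)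
    (hab : b • e' - a • e ∈ H) {L : Submodule A V} (hL : Lat A p L) :
    sidx A H e L - sidx A H e' L = ((Module.length A (A ⧸ (p ⊔ Ideal.span {b}))).toNat : ℤ) -
      (Module.length A (A ⧸ (p ⊔ Ideal.span {a}))).toNat := by
  have hle : ∀ (c : A) (v : V), Submodule.span A {c • v} ⊔ H.restrictScalars A ≤
      Submodule.span A {v} ⊔ H.restrictScalars A := fun c v =>
    sup_le_sup_right ((Submodule.span_singleton_le_iff_mem _ _).2
      (Submodule.smul_mem _ c (Submodule.mem_span_singleton_self v))) _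
  have h1 : Com (Submodule.span A {e} ⊔ H.restrictScalars A) (Submodule.span A {a • e} ⊔ H.restrictScalars A) :=
    ⟨by rw [rlen_smul_step (p := p) he hme]; exact length_quot_ne_top hp1 ha, by simp [rlen_eq_zero (hle a e)]⟩
  have h2 : Com (Submodule.span A {e'} ⊔ H.restrictScalars A) (Submodule.span A {b • e'} ⊔ H.restrictScalars A) :=
    ⟨by rw [rlen_smul_step (p := p) he' hme']; exact length_quot_ne_top hp1 hb, by simp [rlen_eq_zero (hle b e')]⟩
  have heq : Submodule.span A {b • e'} ⊔ H.restrictScalars A = Submodule.span A {a • e} ⊔ H.restrictScalars A := by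
    refine le_antisymm (sup_le ?_ le_sup_right) (sup_le ?_ le_sup_right)
    · rw [Submodule.span_singleton_le_iff_mem, show b • e' = a • e + (b • e' - a • e) by abel]
      exact Submodule.add_mem_sup (Submodule.mem_span_singleton_self _) hab
    · rw [Submodule.span_singleton_le_iff_mem, show a • e = b • e' + -(b • e' - a • e) by abel]
      exact Submodule.add_mem_sup (Submodule.mem_span_singleton_self _) (H.neg_mem hab)
  have hs := com_step hp1 hV (H := H) e hL
  have hs' := com_step hp1 hV (H := H) e' hL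
  rw [← hW] at hs'
  obtain ⟨c12, e12⟩ := h2.trans (show Com (Submodule.span A {b • e'} ⊔ H.restrictScalars A)
    (Submodule.span A {e} ⊔ H.restrictScalars A) from heq ▸ h1.symm)
  have key := (hs'.trans c12).2
  have i1 : idx (Submodule.span A {a • e} ⊔ H.restrictScalars A) (Submodule.span A {e} ⊔ H.restrictScalars A) =
      -((Module.length A (A ⧸ (p ⊔ Ideal.span {a}))).toNat : ℤ) := by
    rw [idx_symm (Submodule.span A {e} ⊔ H.restrictScalars A), idx_of_le (hle a e), rlen_smul_step (p := p) he hme]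
  have i2 : idx (Submodule.span A {e'} ⊔ H.restrictScalars A) (Submodule.span A {b • e'} ⊔ H.restrictScalars A) =
      ((Module.length A (A ⧸ (p ⊔ Ideal.span {b}))).toNat : ℤ) := by
    rw [idx_of_le (hle b e'), rlen_smul_step (p := p) he' hme']
  rw [e12, i2, heq, i1] at key
  simp only [sidx, ← hW]
  omega

end index

end Groth.Agent.CycLib.ModIdx
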