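import Groth.Agent.CycLib.ModSeries

/-!
Series and lattices in short exact sequences.
-/

set_option autoImplicit false

universe u

namespace Groth.Agent.CycLib.ModIdx

open Submodule IsLocalRing

variable {A : Type u} [CommRing A] {R : Type u} [CommRing R] [Algebra A R] {V V' V'' : Type u} [AddCommGroup V]
  [Module R V] [Module A V] [IsScalarTower A R V] [AddCommGroup V'] [Module R V'] [Module A V']
  [IsScalarTower A R V'] [AddCommGroup V''] [Module R V''] [Module A V''] [IsScalarTower A R V'']
  (f : V' →ₗ[R] V) (g : V →ₗ[R] V'')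

theorem lspan_map (l : List V') : lspan R (l.map f) = (lspan R l).map f := by
  induction l with
  | nil => simp [lspan]
  | cons e l ih => simp [lspan, ih, Submodule.map_sup, Submodule.map_span]

theorem sidx_map (hf : Function.Injective f) (H : Submodule R V') (e : V') (L : Submodule A V) :
    sidx A (H.map f) (f e) L = sidx A H e (L.comap (f.restrictScalars A)) := by
  have hP : ∀ P Q : Submodule A V', idx (P.map (f.restrictScalars A)) (Q.map (f.restrictScalars A)) = idx P Q :=
    fun P Q => by simp only [idx, rlen_map_injective (f.restrictScalars A) hf]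
  rw [sidx, sidx, ← hP]
  congr 1
  · rw [Submodule.map_sup, Submodule.map_inf (f.restrictScalars A) hf, Submodule.map_comap_eq]
    congr 1
    apply le_antisymm
    · rintro v ⟨hvL, hvW⟩
      rw [← Set.image_singleton, ← Submodule.map_span, ← Submodule.map_sup] at hvW
      obtain ⟨w, hw, rfl⟩ := hvW
      exact ⟨⟨⟨w, rfl⟩, hvL⟩, ⟨w, hw, rfl⟩⟩
    · rintro v ⟨⟨-, hvL⟩, w, hw, rfl⟩
      refine ⟨hvL, ?_⟩
      show f w ∈ H.map f ⊔ Submodule.span R {f e}
      rw [← Set.image_singleton, ← Submodule.map_span, ← Submodule.map_sup]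
      exact ⟨w, hw, rfl⟩
  · rw [Submodule.map_sup, Submodule.map_span, Set.image_singleton]
    rfl

theorem nf_map (hf : Function.Injective f) (l : List V') (L : Submodule A V) :
    nf A R (l.map f) L = nf A R l (L.comap (f.restrictScalars A)) := by
  induction l with
  | nil => rfl
  | cons e l ih =>
    show sidx A (lspan R (l.map f)) (f e) L + nf A R (l.map f) L = sidx A (lspan R l) e _ + nf A R l _
    rw [ih, lspan_map, sidx_map f hf]

theorem sidx_comap (hg : Function.Surjective g) (H : Submodule R V'') (e : V) (L : Submodule A V) :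
    sidx A (H.comap g) e L = sidx A H (g e) (L.map (g.restrictScalars A)) := by
  have hk : ∀ P : Submodule A V, LinearMap.ker (g.restrictScalars A) ≤ P ⊔ (H.comap g).restrictScalars A :=
    fun P v hv => Submodule.mem_sup_right (show g v ∈ H from (show g v = 0 from hv).symm ▸ zero_mem _)
  rw [sidx, sidx, ← idx_map_of_ker_le (g.restrictScalars A) (hk _) (hk _)]
  have hH : ((H.comap g).restrictScalars A).map (g.restrictScalars A) = H.restrictScalars A :=
    le_antisymm (Submodule.map_le_iff_le_comap.2 fun v hv => hv) fun v hv => by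
      obtain ⟨w, rfl⟩ := hg v
      exact ⟨w, hv, rfl⟩
  have hW : ∀ w : V, w ∈ H.comap g ⊔ Submodule.span R {e} ↔ g w ∈ H ⊔ Submodule.span R {g e} := fun w => by
    constructor
    · intro hw
      obtain ⟨x, hx, y, hy, rfl⟩ := Submodule.mem_sup.1 hw
      obtain ⟨r, rfl⟩ := Submodule.mem_span_singleton.1 hy
      rw [map_add, map_smul]
      exact Submodule.add_mem_sup hx (Submodule.smul_mem _ r (Submodule.mem_span_singleton_self _))
    · intro hw
      obtain ⟨x, hx, y, hy, hxy⟩ := Submodule.mem_sup.1 hw
      obtain ⟨r, rfl⟩ := Submodule.mem_span_singleton.1 hy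
      rw [show w = (w - r • e) + r • e by abel]
      refine Submodule.add_mem_sup ?_ (Submodule.smul_mem _ r (Submodule.mem_span_singleton_self _))
      show g (w - r • e) ∈ H
      rw [map_sub, map_smul, ← hxy, add_sub_cancel_right]
      exact hx
  congr 1
  · rw [Submodule.map_sup, hH]
    congr 1
    apply le_antisymm
    · rintro _ ⟨w, ⟨hwL, hwW⟩, rfl⟩
      exact ⟨⟨w, hwL, rfl⟩, (hW w).1 hwW⟩
    · rintro _ ⟨⟨w, hwL, rfl⟩, hwW⟩
      exact ⟨w, ⟨hwL, (hW w).2 hwW⟩, rfl⟩
  · rw [Submodule.map_sup, hH, Submodule.map_span, Set.image_singleton]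
    rfl

variable [IsLocalRing R]

theorem isSer_map (hf : Function.Injective f) {l : List V'} (hl : IsSer R l) : IsSer R (l.map f) := by
  induction l with
  | nil => trivial
  | cons e l ih =>
    refine ⟨ih hl.1, ?_, fun r hr => ?_⟩
    · rw [lspan_map]
      rintro ⟨x, hx, hxe⟩
      exact hl.2.1 (hf hxe ▸ hx)
    · rw [lspan_map, ← map_smul]
      exact Submodule.mem_map_of_mem (hl.2.2 r hr)

/-- Concatenation of series along a short exact sequence. -/
theorem append_series (hf : Function.Injective f) (hfg : Function.Exact f g) (hg : Function.Surjective g)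
    {l' : List V'} (hl' : IsSer R l') (htop : lspan R l' = ⊤) :
    ∀ (l : List V), IsSer R (l.map g) →
      IsSer R (l ++ l'.map f) ∧ lspan R (l ++ l'.map f) = (lspan R (l.map g)).comap g ∧
        ∀ L : Submodule A V, nf A R (l ++ l'.map f) L =
          nf A R (l.map g) (L.map (g.restrictScalars A)) + nf A R l' (L.comap (f.restrictScalars A))
  | [], _ => by
    refine ⟨isSer_map f hf hl', ?_, fun L => by rw [List.nil_append, nf_map f hf]; simp [nf]⟩
    rw [List.nil_append, lspan_map, htop, Submodule.map_top, List.map_nil]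
    show _ = (⊥ : Submodule R V'').comap g
    rw [Submodule.comap_bot, hfg.linearMap_ker_eq]
  | e :: l, h => by
    obtain ⟨h1, h2, h3⟩ := append_series hf hfg hg hl' htop l h.1
    refine ⟨⟨h1, ?_, fun r hr => ?_⟩, ?_, fun L => ?_⟩
    · show e ∉ lspan R (l ++ l'.map f)
      rw [h2]
      exact h.2.1
    · show r • e ∈ lspan R (l ++ l'.map f)
      rw [h2, Submodule.mem_comap, map_smul]
      exact h.2.2 r hr
    · show lspan R (l ++ l'.map f) ⊔ Submodule.span R {e} = _
      rw [h2]
      refine le_antisymm (sup_le (Submodule.comap_mono le_sup_left) ((Submodule.span_singleton_le_iff_mem _ _).2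
        (mem_lspan_cons (g e) (l.map g)))) fun w hw => ?_
      obtain ⟨x, hx, y, hy, hxy⟩ := Submodule.mem_sup.1
        (show g w ∈ lspan R (l.map g) ⊔ Submodule.span R {g e} from hw)
      obtain ⟨r, rfl⟩ := Submodule.mem_span_singleton.1 hy
      rw [show w = (w - r • e) + r • e by abel]
      refine Submodule.add_mem_sup ?_ (Submodule.smul_mem _ r (Submodule.mem_span_singleton_self _))
      show g (w - r • e) ∈ lspan R (l.map g)
      rw [map_sub, map_smul, ← hxy, add_sub_cancel_right]
      exact hx
    · show sidx A (lspan R (l ++ l'.map f)) e L + nf A R (l ++ l'.map f) L =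
        sidx A (lspan R (l.map g)) (g e) _ + nf A R (l.map g) _ + _
      rw [h2, sidx_comap g hg, h3, add_assoc]

variable [IsNoetherianRing A] (p : Ideal A)

theorem Lat.comap (hf : Function.Injective f) {L : Submodule A V} (hL : Lat A p L) :
    Lat A p (L.comap (f.restrictScalars A)) := by
  refine ⟨?_, fun v => ?_⟩
  · refine Submodule.fg_of_fg_map_injective (f.restrictScalars A) hf ?_
    haveI := isNoetherian_of_fg_of_noetherian L hL.1
    exact Submodule.FG.of_le hL.1 (Submodule.map_comap_le _ _)
  · obtain ⟨s, hs, hsv⟩ := hL.2 (f v)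
    exact ⟨s, hs, by rwa [Submodule.mem_comap, map_smul]⟩

theorem Lat.map (hg : Function.Surjective g) {L : Submodule A V} (hL : Lat A p L) :
    Lat A p (L.map (g.restrictScalars A)) := by
  refine ⟨hL.1.map _, fun v => ?_⟩
  obtain ⟨w, rfl⟩ := hg v
  obtain ⟨s, hs, hsv⟩ := hL.2 w
  exact ⟨s, hs, s • w, hsv, by simp⟩

end Groth.Agent.CycLib.ModIdx
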