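import Groth.Agent.CycLib.LineFib
import Groth.Agent.CycLib.FlatDecomp
import Groth.Agent.ProjProper.Basic
import Groth.Agent.CycLib.ProjChart
import Groth.Prelude.Def_P1

/-!
Stalks of base changes of closed immersions; the two sections of the projective line.
-/

set_option autoImplicit false
set_option linter.style.haveILetI false
set_option maxHeartbeats 800000

universe u

open CategoryTheory AlgebraicGeometry IsLocalRing Limits

namespace Groth.Agent.CycLib

/-- The stalk map of a base change of a closed immersion is surjective with the expected kernel. -/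
theorem ker_stalkMap_isPullback {W Z X P : Scheme.{u}} {a : W ⟶ Z} {b : W ⟶ X} {i : Z ⟶ P} {s : X ⟶ P}
    [IsClosedImmersion s] [IsClosedImmersion a] (h : IsPullback a b i s) (w : W)
    (hsp : s (b w) ⤳ i (a w)) :
    RingHom.ker (a.stalkMap w).hom =
      ((RingHom.ker (s.stalkMap (b w)).hom).comap (P.presheaf.stalkSpecializes hsp).hom).map
        (i.stalkMap (a w)).hom := by
  set e := P.presheaf.stalkSpecializes hsp
  set J := ((RingHom.ker (s.stalkMap (b w)).hom).comap e.hom).map (i.stalkMap (a w)).hom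
  have hw : i.stalkMap (a w) ≫ a.stalkMap w = e ≫ s.stalkMap (b w) ≫ b.stalkMap w := by
    apply Spec.map_injective
    rw [← cancel_mono (P.fromSpecStalk (i (a w)))]
    simp only [Spec.map_comp, Category.assoc, e, Scheme.SpecMap_stalkSpecializes_fromSpecStalk hsp,
      Scheme.SpecMap_stalkMap_fromSpecStalk, Scheme.SpecMap_stalkMap_fromSpecStalk_assoc, h.w]
  have hge : J ≤ RingHom.ker (a.stalkMap w).hom := by
    refine Ideal.map_le_iff_le_comap.2 fun c hc => ?_
    show a.stalkMap w (i.stalkMap (a w) c) = 0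
    rw [← CommRingCat.comp_apply, hw, CommRingCat.comp_apply, CommRingCat.comp_apply,
      show s.stalkMap (b w) (e c) = 0 from hc, map_zero]
  refine le_antisymm ?_ hge
  have hJ : J ≠ ⊤ := fun hJ => (RingHom.ker_ne_top (a.stalkMap w).hom) (top_le_iff.1 (hJ ▸ hge))
  haveI : Nontrivial (Z.presheaf.stalk (a w) ⧸ J) := Ideal.Quotient.nontrivial_iff.2 hJ
  let D : CommRingCat.{u} := CommRingCat.of (Z.presheaf.stalk (a w) ⧸ J)
  let mk : Z.presheaf.stalk (a w) ⟶ D := CommRingCat.ofHom (Ideal.Quotient.mk J)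
  haveI : IsLocalRing D := IsLocalRing.of_surjective' (Ideal.Quotient.mk J) Ideal.Quotient.mk_surjective
  haveI : IsLocalHom mk.hom := isLocalHom_mk J hJ
  obtain ⟨ψ, hψ⟩ : ∃ ψ : X.presheaf.stalk (b w) ⟶ D,
      e ≫ s.stalkMap (b w) ≫ ψ = i.stalkMap (a w) ≫ mk := by
    have hs : Function.Surjective (e ≫ s.stalkMap (b w)).hom := by
      intro c
      obtain ⟨d, rfl⟩ := s.stalkMap_surjective (b w) c
      have hsp' : i (a w) ⤳ s (b w) := by
        have e' : i (a w) = s (b w) := by
          show (a ≫ i) w = (b ≫ s) w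
          rw [h.w]
        rw [e']
      refine ⟨P.presheaf.stalkSpecializes hsp' d, ?_⟩
      show s.stalkMap (b w) (e (P.presheaf.stalkSpecializes hsp' d)) = s.stalkMap (b w) d
      refine congrArg _ ?_
      show (P.presheaf.stalkSpecializes hsp' ≫ P.presheaf.stalkSpecializes hsp) d = d
      simp
    obtain ⟨φ, hφ⟩ : ∃ φ : X.presheaf.stalk (b w) →+* D,
        φ.comp (e ≫ s.stalkMap (b w)).hom = (i.stalkMap (a w) ≫ mk).hom :=
      ⟨_, RingHom.liftOfRightInverse_comp _ _ (Function.rightInverse_surjInv hs)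
        ⟨(i.stalkMap (a w) ≫ mk).hom, fun c hc => Ideal.Quotient.eq_zero_iff_mem.2 (Ideal.mem_map_of_mem _ hc)⟩⟩
    refine ⟨CommRingCat.ofHom φ, ?_⟩
    exact CommRingCat.hom_ext hφ
  have hsq : (Spec.map mk ≫ Z.fromSpecStalk (a w)) ≫ i = (Spec.map ψ ≫ X.fromSpecStalk (b w)) ≫ s := by
    simp only [Category.assoc]
    rw [← Scheme.SpecMap_stalkMap_fromSpecStalk, ← Scheme.SpecMap_stalkMap_fromSpecStalk,
      ← Spec.map_comp_assoc, ← hψ]
    simp only [Spec.map_comp, Category.assoc, e, Scheme.SpecMap_stalkSpecializes_fromSpecStalk hsp]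
  let L := h.lift _ _ hsq
  have hL : L ≫ a = Spec.map mk ≫ Z.fromSpecStalk (a w) := h.lift_fst _ _ _
  have hq : a (L (closedPoint D)) = a w := by
    show (L ≫ a) (closedPoint D) = a w
    rw [hL]
    show Z.fromSpecStalk (a w) (Spec.map mk (closedPoint D)) = a w
    rw [Spec_closedPoint]
    exact Scheme.fromSpecStalk_closedPoint
  have hqw : L (closedPoint D) = w := a.isClosedEmbedding.injective hq
  have hqs : L (closedPoint D) ⤳ w := by rw [hqw]
  let lam : W.presheaf.stalk w ⟶ D :=
    W.presheaf.stalkSpecializes hqs ≫ Scheme.stalkClosedPointTo L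
  have hlam : a.stalkMap w ≫ lam = mk := by
    apply Spec.map_injective
    rw [← cancel_mono (Z.fromSpecStalk (a w)), ← hL]
    simp only [lam, Spec.map_comp, Category.assoc, Scheme.SpecMap_stalkMap_fromSpecStalk,
      Scheme.SpecMap_stalkSpecializes_fromSpecStalk_assoc hqs,
      Scheme.Spec_stalkClosedPointTo_fromSpecStalk_assoc]
  intro c hc
  refine Ideal.Quotient.eq_zero_iff_mem.1 ?_
  show mk c = 0
  rw [← hlam, CommRingCat.comp_apply, show a.stalkMap w c = 0 from hc, map_zero]

section coordinate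


/-- `T_j / T_i` in the chart `D₊(T_i)`. -/
noncomputable def ratio (i j : Fin (1 + 1)) : HomogeneousLocalization.Away P1.grading.{u} (P1.T i) :=
  HomogeneousLocalization.Away.mk P1.grading.{u} (P1.X_mem i) 1 (P1.T j) (by simpa using P1.X_mem j)

/-- The coordinate `T_j / T_i` as a section. -/
noncomputable def cz (i j : Fin (1 + 1)) : Γ(Proj P1.grading.{u}, Proj.basicOpen P1.grading.{u} (P1.T i)) :=
  Proj.awayToSection P1.grading.{u} (P1.T i) (ratio i j)

theorem surjective_evalAway (i : Fin (1 + 1)) : Function.Surjective (P1.evalAway.{u} i) := fun r =>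
  ⟨HomogeneousLocalization.Away.mk P1.grading.{u} (P1.X_mem i) 0 (MvPolynomial.C r)
      (by simpa using (MvPolynomial.mem_homogeneousSubmodule 0 _).mpr (MvPolynomial.isHomogeneous_C _ r)), by
    simp only [P1.evalAway, RingHom.comp_apply, HomogeneousLocalization.algebraMap_apply,
      HomogeneousLocalization.Away.val_mk, pow_zero]
    rw [show (⟨(1 : MvPolynomial (Fin (1 + 1)) P1.R0.{u}), _⟩ : Submonoid.powers (P1.T.{u} i)) = 1 from Subtype.ext rfl,
      Localization.mk_one_eq_algebraMap, IsLocalization.Away.lift_eq]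
    simp⟩

theorem ker_evalAway (i j : Fin (1 + 1)) (hij : i ≠ j) :
    RingHom.ker (P1.evalAway.{u} i) = Ideal.span {ratio i j} := by
  have hev : ∀ l, P1.evalAway i (ratio i l) = Pi.single (M := fun _ => P1.R0.{u}) i 1 l := by
    intro l
    simp only [P1.evalAway, ratio, RingHom.comp_apply, HomogeneousLocalization.algebraMap_apply,
      HomogeneousLocalization.Away.val_mk, pow_one, Localization.mk_eq_mk']
    set L := IsLocalization.Away.lift (S := Localization.Away (P1.T.{u} i)) (P1.T.{u} i)
      (g := (MvPolynomial.aeval (Pi.single i (1 : P1.R0.{u}) : Fin (1 + 1) → P1.R0)).toRingHom) (by simp)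
    have h := congrArg L (IsLocalization.mk'_spec (Localization.Away (P1.T.{u} i)) (P1.T.{u} l)
      (⟨(P1.T i) ^ 1, 1, rfl⟩ : Submonoid.powers (P1.T.{u} i)))
    rw [map_mul, IsLocalization.Away.lift_eq, IsLocalization.Away.lift_eq] at h
    simpa using h
  refine le_antisymm (fun a ha => ?_) ((Ideal.span_singleton_le_iff_mem _).2 ?_)
  · obtain ⟨p, rfl⟩ := ZetaLib.dehom_surjective P1.grading.{u} (P1.X_mem i) a
    let π := Ideal.Quotient.mk (Ideal.span {ratio i j})
    have hT : ∀ l, ZetaLib.dehom P1.grading.{u} (P1.X_mem i) (MvPolynomial.X l) = ratio i l := fun l =>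
      ZetaLib.dehom_of_mem P1.grading.{u} _ (P1.X_mem l)
    have hself : ratio.{u} i i = 1 := by
      refine HomogeneousLocalization.val_injective _ ?_
      simp [ratio, Localization.mk_self ⟨P1.T i, (Submonoid.mem_powers (P1.T.{u} i))⟩]
    have hcomp : π.comp (ZetaLib.dehom P1.grading.{u} (P1.X_mem i)) =
        ((π.comp (ZetaLib.dehom P1.grading.{u} (P1.X_mem i))).comp MvPolynomial.C).comp
          ((P1.evalAway i).comp (ZetaLib.dehom P1.grading.{u} (P1.X_mem i))) := by
      refine MvPolynomial.ringHom_ext (fun r => ?_) fun l => ?_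
      · show π _ = π (ZetaLib.dehom P1.grading.{u} (P1.X_mem i)
          (MvPolynomial.C (P1.evalAway i (ZetaLib.dehom P1.grading.{u} (P1.X_mem i) (MvPolynomial.C r)))))
        congr 3
        simp only [P1.evalAway, RingHom.comp_apply,
          ZetaLib.dehom_of_mem P1.grading.{u} _ ((MvPolynomial.mem_homogeneousSubmodule 0 _).mpr
            (MvPolynomial.isHomogeneous_C _ r)),
          HomogeneousLocalization.algebraMap_apply, HomogeneousLocalization.Away.val_mk, pow_zero]
        rw [show (⟨(1 : MvPolynomial (Fin (1 + 1)) P1.R0.{u}), _⟩ : Submonoid.powers (P1.T.{u} i)) = 1 from Subtype.ext rfl,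
          Localization.mk_one_eq_algebraMap, IsLocalization.Away.lift_eq]
        simp
      · by_cases hl : l = i
        · subst hl
          simp [hT, hev, hself]
        · obtain rfl : l = j := by omega
          simp [hT, hev, Pi.single_eq_of_ne hl, π]
    refine Ideal.Quotient.eq_zero_iff_mem.1 ((RingHom.congr_fun hcomp p).trans ?_)
    simp only [RingHom.comp_apply]
    rw [RingHom.mem_ker.1 ha]
    simp
  · rw [RingHom.mem_ker, hev, Pi.single_eq_of_ne hij.symm]

instance isClosedImmersion_evalAway (i : Fin (1 + 1)) :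
    IsClosedImmersion (Spec.map (CommRingCat.ofHom (P1.evalAway.{u} i))) :=
  IsClosedImmersion.spec_of_surjective _ (surjective_evalAway i)

/-- The germ of the coordinate at a point of the chart. -/
noncomputable def czGerm (i j : Fin (1 + 1)) (q : Proj P1.grading.{u}) (hq : q ∈ Proj.basicOpen P1.grading.{u} (P1.T i)) :
    (Proj P1.grading.{u}).presheaf.stalk q :=
  (Proj P1.grading.{u}).presheaf.germ (Proj.basicOpen P1.grading.{u} (P1.T i)) q hq (cz i j)

theorem cz_mul (i j : Fin (1 + 1)) {q : Proj P1.grading.{u}} (hi : q ∈ Proj.basicOpen P1.grading.{u} (P1.T i))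
    (hj : q ∈ Proj.basicOpen P1.grading.{u} (P1.T j)) : czGerm i j q hi * czGerm j i q hj = 1 := by
  have hyx : q ∈ Proj.basicOpen P1.grading.{u} (P1.T i * P1.T j) := by
    rw [Proj.basicOpen_mul]; exact ⟨hi, hj⟩
  have h : ∀ (i j : Fin (1 + 1)) {x} (hx : x = P1.T.{u} i * P1.T j) (hq : q ∈ Proj.basicOpen P1.grading.{u} x)
      (hi : q ∈ Proj.basicOpen P1.grading.{u} (P1.T i)),
      czGerm i j q hi = (Proj P1.grading.{u}).presheaf.germ _ q hq
        (Proj.awayToSection P1.grading.{u} x (HomogeneousLocalization.awayMap P1.grading.{u} (P1.X_mem j) hx (ratio i j))) := by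
    intro i j x hx hq hi
    have e := congr($(Proj.awayMap_awayToSection P1.grading.{u} (P1.X_mem j) (f := P1.T i) hx) (ratio i j))
    refine Eq.trans ?_ (congrArg ((Proj P1.grading.{u}).presheaf.germ _ q hq) e).symm
    exact ((Proj P1.grading.{u}).presheaf.germ_res_apply (homOfLE (Proj.basicOpen_mono P1.grading.{u} _ _ ⟨_, hx⟩)) q hq _).symm
  rw [h i j rfl hyx hi, h j i (mul_comm _ _) hyx hj, ← map_mul, ← map_mul]
  rw [show HomogeneousLocalization.awayMap P1.grading.{u} (P1.X_mem j) (f := P1.T i) rfl (ratio i j) *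
      HomogeneousLocalization.awayMap P1.grading.{u} (P1.X_mem i) (f := P1.T j) (mul_comm _ _) (ratio j i) =
      (1 : HomogeneousLocalization.Away P1.grading.{u} (P1.T i * P1.T j)) from ?_, map_one, map_one]
  rw [ratio, ratio, HomogeneousLocalization.awayMap_mk, HomogeneousLocalization.awayMap_mk]
  refine HomogeneousLocalization.val_injective _ ?_
  simp only [HomogeneousLocalization.val_mul, HomogeneousLocalization.Away.val_mk,
    HomogeneousLocalization.val_one, Localization.mk_mul, pow_one]
  rw [← Localization.mk_one, Localization.mk_eq_mk_iff, Localization.r_iff_exists]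
  exact ⟨1, by simp; ring⟩

theorem mem_other_iff (i j : Fin (1 + 1)) (q : Proj P1.grading.{u}) (hi : q ∈ Proj.basicOpen P1.grading.{u} (P1.T i)) :
    q ∈ Proj.basicOpen P1.grading.{u} (P1.T j) ↔ IsUnit (czGerm i j q hi) := by
  constructor
  · exact fun hj => IsUnit.of_mul_eq_one _ (cz_mul i j hi hj)
  · intro hu
    obtain ⟨r, rfl⟩ : q ∈ Set.range (Proj.awayι P1.grading.{u} (P1.T i) (P1.X_mem i) one_pos) := by
      rwa [← Proj.opensRange_awayι P1.grading.{u} (P1.T i) (P1.X_mem i) one_pos] at hi
    have h1 : r ∈ Proj.awayι P1.grading.{u} (P1.T i) (P1.X_mem i) one_pos ⁻¹ᵁ Proj.basicOpen P1.grading.{u} (P1.T j) := by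
      rw [Proj.awayι_preimage_basicOpen P1.grading.{u} (P1.X_mem i) one_pos (P1.X_mem j) one_pos]
      show HomogeneousLocalization.Away.isLocalizationElem (P1.X_mem i) (P1.X_mem j) ∉ r.asIdeal
      rw [show HomogeneousLocalization.Away.isLocalizationElem (P1.X_mem.{u} i) (P1.X_mem j) = ratio i j by
        refine HomogeneousLocalization.val_injective _ ?_
        simp [HomogeneousLocalization.Away.isLocalizationElem, ratio]]
      intro hr
      have hu' := hu.map ((Proj.awayι P1.grading.{u} (P1.T i) (P1.X_mem i) one_pos).stalkMap r).hom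
      rw [show ((Proj.awayι P1.grading.{u} (P1.T i) (P1.X_mem i) one_pos).stalkMap r).hom
          (czGerm i j _ hi) = (Spec (CommRingCat.of (HomogeneousLocalization.Away P1.grading.{u} (P1.T i)))).presheaf.germ ⊤ r
            trivial ((Scheme.ΓSpecIso _).inv (ratio i j)) from germ_awayι i r hi _] at hu'
      exact (hu'.map (Scheme.residue _ r).hom).ne_zero
        ((mem_asIdeal_iff (A := CommRingCat.of (HomogeneousLocalization.Away P1.grading.{u} (P1.T i))) r _).2 hr)
    exact h1
where
  germ_awayι (i : Fin (1 + 1)) (r : Spec (CommRingCat.of (HomogeneousLocalization.Away P1.grading.{u} (P1.T.{u} i))))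
      (hm : Proj.awayι P1.grading.{u} (P1.T i) (P1.X_mem i) one_pos r ∈ Proj.basicOpen P1.grading.{u} (P1.T i))
      (a : HomogeneousLocalization.Away P1.grading.{u} (P1.T i)) :
      (Proj.awayι P1.grading.{u} (P1.T i) (P1.X_mem i) one_pos).stalkMap r
          ((Proj P1.grading.{u}).presheaf.germ (Proj.basicOpen P1.grading.{u} (P1.T i)) _ hm (Proj.awayToSection P1.grading.{u} (P1.T i) a)) =
        (Spec (CommRingCat.of (HomogeneousLocalization.Away P1.grading.{u} (P1.T i)))).presheaf.germ ⊤ r trivial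
          ((Scheme.ΓSpecIso _).inv a) := by
    set j := Proj.awayι P1.grading.{u} (P1.T i) (P1.X_mem i) one_pos
    have e : (⊤ : (Spec (CommRingCat.of (HomogeneousLocalization.Away P1.grading.{u} (P1.T i)))).Opens) ≤
        j ⁻¹ᵁ Proj.basicOpen P1.grading.{u} (P1.T i) := by
      intro q _
      show j q ∈ Proj.basicOpen P1.grading.{u} (P1.T i)
      rw [← Proj.opensRange_awayι P1.grading.{u} (P1.T i) (P1.X_mem i) one_pos]
      exact ⟨q, rfl⟩
    rw [← appLE_awayToSection P1.grading.{u} (P1.X_mem i) e]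
    refine (j.germ_stalkMap_apply (Proj.basicOpen P1.grading.{u} (P1.T i)) _ hm _).trans ?_
    exact ((Spec (CommRingCat.of (HomogeneousLocalization.Away P1.grading.{u} (P1.T i)))).presheaf.germ_res_apply
      (homOfLE e) _ trivial _).symm

end coordinate

end Groth.Agent.CycLib
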