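import Groth.Agent.CycLib.CutLength
import Groth.Agent.CycLib.RatMap
import Groth.Agent.CycLib.ClosedPt
import Groth.Agent.CycLib.PullDivApp
import Groth.Agent.CycLib.PullSurj

/-!
The divisor of `T_j / T_i` on a closed subscheme of the projective line over `X` cuts out its fibre over `0` resp. `∞`.
-/

set_option autoImplicit false
set_option linter.style.haveILetI false
set_option maxHeartbeats 1000000

universe u

open CategoryTheory AlgebraicGeometry IsLocalRing Limits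

namespace Groth.Agent.CycLib

variable {X : Scheme.{u}}

/-- The rational function `T_j / T_i` at a point of the chart `i`. -/
noncomputable def tVal (X : Scheme.{u}) (i j : Fin (1 + 1)) (p : CohB1.ProjSpaceOver 1 X) (hp : p ∈ chartOpen X i) :
    (CohB1.ProjSpaceOver 1 X).residueField p :=
  (CohB1.ProjSpaceOver 1 X).evaluation (chartOpen X i) p hp (tSec X i j)

theorem tVal_eq (i j : Fin (1 + 1)) (p : CohB1.ProjSpaceOver 1 X) (hp : p ∈ chartOpen X i) :
    tVal X i j p hp = (CohB1.ProjSpaceOver 1 X).residue p (tGerm X i j p hp) := by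
  rw [tGerm_eq_germ]
  rfl

theorem tVal_eq_specMap (i j : Fin (1 + 1)) {q p : CohB1.ProjSpaceOver 1 X} (h : q ⤳ p) (hp : p ∈ chartOpen X i) :
    tVal X i j q (h.mem_open (chartOpen X i).2 hp) = Cyc.specMap p q h (tGerm X i j p hp) := by
  rw [tGerm_eq_germ, specMap_germ]
  rfl

theorem tVal_mul (i j : Fin (1 + 1)) (p : CohB1.ProjSpaceOver 1 X) (hi : p ∈ chartOpen X i)
    (hj : p ∈ chartOpen X j) : tVal X i j p hi * tVal X j i p hj = 1 := by
  rw [tVal_eq, tVal_eq, ← map_mul, tGerm_mul, map_one]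

theorem tVal_ne_zero (i j : Fin (1 + 1)) (p : CohB1.ProjSpaceOver 1 X) (hi : p ∈ chartOpen X i)
    (hj : p ∈ chartOpen X j) : tVal X i j p hi ≠ 0 :=
  left_ne_zero_of_mul_eq_one (tVal_mul i j p hi hj)

theorem mem_chartOpen_of_notMem_range (p : CohB1.ProjSpaceOver 1 X)
    (h : p ∉ Set.range ⇑(P1.sect X 0) ∪ Set.range ⇑(P1.sect X 1)) (i : Fin (1 + 1)) : p ∈ chartOpen X i := by
  simp only [Set.mem_union, mem_range_sect_iff X 0 1 (by decide), mem_range_sect_iff X 1 0 (by decide),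
    not_or, not_and, not_not] at h
  obtain ⟨l, hl⟩ := exists_mem_chartOpen X p
  fin_cases l <;> fin_cases i
  · exact hl
  · exact h.1 hl
  · exact h.2 hl
  · exact hl

theorem mem_range_union_of_sect (i : Fin (1 + 1)) (x : X) :
    P1.sect X i x ∈ Set.range ⇑(P1.sect X 0) ∪ Set.range ⇑(P1.sect X 1) := by
  fin_cases i
  · exact Or.inl ⟨x, rfl⟩
  · exact Or.inr ⟨x, rfl⟩

theorem sect_injective (i : Fin (1 + 1)) : Function.Injective ⇑(P1.sect X i) :=
  (P1.sect X i).isClosedEmbedding.injective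

theorem sect_ne (x x' : X) : P1.sect X 0 x ≠ P1.sect X 1 x' := fun h =>
  ((mem_range_sect_iff X 1 0 (by decide) _).1 ⟨x', rfl⟩).2
    (h ▸ ((mem_range_sect_iff X 0 1 (by decide) (P1.sect X 0 x)).1 ⟨x, rfl⟩).1)

theorem toBase_sect (i : Fin (1 + 1)) (x : X) :
    CohB1.ProjSpaceOver.toBase 1 X (P1.sect X i x) = x :=
  congrArg (fun g => g.base x) (sect_toBase X i)

theorem delta_sect {δ : X → ℤ} {δP : CohB1.ProjSpaceOver 1 X → ℤ}
    (hP : Cyc.DeltaCompat (CohB1.ProjSpaceOver.toBase 1 X) δP δ) (i : Fin (1 + 1)) (x : X) :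
    δP (P1.sect X i x) = δ x := by
  have h := deltaCompat_comp (deltaCompat_preimmersion (P1.sect X i) δP) hP
  rw [sect_toBase] at h
  exact congrFun (deltaCompat_eq h (deltaCompat_preimmersion (𝟙 X) δ)) x

theorem residueDegree_toBase_sect (i : Fin (1 + 1)) (x : X) :
    (CohB1.ProjSpaceOver.toBase 1 X).residueDegree (P1.sect X i x) = 1 := by
  have h := residueDegree_comp (P1.sect X i) (CohB1.ProjSpaceOver.toBase 1 X) x
  rw [residueDegree_congr (sect_toBase X i) x,
    residueDegree_eq_one (𝟙 X) x (residueFieldMap_bijective_closedImmersion (𝟙 X) x).2] at h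
  exact Nat.eq_one_of_mul_eq_one_left h.symm

theorem comap_span_tGerm (i j : Fin (1 + 1)) {q p : CohB1.ProjSpaceOver 1 X} (e : q = p) (h : q ⤳ p)
    (hq : q ∈ chartOpen X i) (hp : p ∈ chartOpen X i) :
    (Ideal.span {tGerm X i j q hq}).comap ((CohB1.ProjSpaceOver 1 X).presheaf.stalkSpecializes h).hom =
      Ideal.span {tGerm X i j p hp} := by
  subst e
  rw [show (CohB1.ProjSpaceOver 1 X).presheaf.stalkSpecializes h = 𝟙 _ from
    TopCat.Presheaf.stalk_hom_ext _ fun U hU => by simp]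
  exact Ideal.comap_id _

variable (δ : X → ℤ) (δP : CohB1.ProjSpaceOver 1 X → ℤ) (k : ℤ) {Z : Scheme.{u}}
  (ι : Z ⟶ CohB1.ProjSpaceOver 1 X)

/-- `[Z_0]_k` at a point lying on `Z`. -/
theorem subschemeFun_sect_of_mem [IsClosedImmersion ι] (i j : Fin (1 + 1)) (hij : i ≠ j) (x : X) (hx : δ x = k)
    (z : Z) (hz : ι z = P1.sect X i x) (hm : ι z ∈ chartOpen X i) :
    Cyc.subschemeFun δ k (pullback.snd ι (P1.sect X i)) x =
      ((Module.length (Z.presheaf.stalk z)
        (Z.presheaf.stalk z ⧸ Ideal.span {ι.stalkMap z (tGerm X i j (ι z) hm)})).toNat : ℤ) := by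
  obtain ⟨w, hw1, hw2⟩ := Scheme.Pullback.exists_preimage_pullback (f := ι) (g := P1.sect X i) z x hz
  subst hw1 hw2
  rw [Cyc.subschemeFun, if_pos hx,
    show {w' | pullback.snd ι (P1.sect X i) w' = pullback.snd ι (P1.sect X i) w} = {w} from Set.ext fun w' =>
      ⟨fun h => (pullback.snd ι (P1.sect X i)).isClosedEmbedding.injective h, fun h => by rw [h]; rfl⟩,
    finsum_mem_singleton]
  set a := pullback.fst ι (P1.sect X i)
  have hker := ker_stalkMap_isPullback (IsPullback.of_hasPullback ι (P1.sect X i)) w (by rw [hz])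
  rw [ker_stalkMap_sect X i j hij _ (hz ▸ hm), comap_span_tGerm i j hz.symm _ _ hm, Ideal.map_span,
    Set.image_singleton] at hker
  have hs : Function.Surjective (a.stalkMap w).hom := a.stalkMap_surjective w
  refine congrArg (fun n : ℕ∞ => (n.toNat : ℤ)) ?_
  rw [length_quot_self]
  exact ((length_self_congr ((Ideal.quotEquivOfEq hker.symm).trans
    (RingHom.quotientKerEquivOfSurjective hs)))).symm

/-- `[Z_0]_k` away from `Z`. -/
theorem subschemeFun_sect_of_notMem (i : Fin (1 + 1)) (x : X) (hz : P1.sect X i x ∉ Set.range ι) :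
    Cyc.subschemeFun δ k (pullback.snd ι (P1.sect X i)) x = 0 := by
  rw [Cyc.subschemeFun]
  split_ifs
  · refine finsum_mem_eq_zero_of_forall_eq_zero fun w hw => absurd ?_ hz
    refine ⟨pullback.fst ι (P1.sect X i) w, ?_⟩
    rw [← (show pullback.snd ι (P1.sect X i) w = x from hw)]
    exact congrArg (fun g : pullback ι (P1.sect X i) ⟶ CohB1.ProjSpaceOver 1 X => g.base w) pullback.condition
  · rfl

/-- The points of `Z` of top dimension. -/
abbrev TopPt : Type u := {ζ : Z // δP (ι ζ) = k + 1}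

/-- The length of `Z` at a point of top dimension. -/
noncomputable abbrev topLen (ζ : TopPt δP k ι) : ℕ :=
  (Module.length (Z.presheaf.stalk ζ.1) (Z.presheaf.stalk ζ.1)).toNat

variable {δ δP k}

theorem finsum_divFun_eq_length [IsClosedImmersion ι] [IsLocallyNoetherian Z]
    [IsLocallyNoetherian (CohB1.ProjSpaceOver 1 X)]
    (hdP : Cyc.IsDimFun (CohB1.ProjSpaceOver 1 X) δP) (hdZ : Cyc.IsDimFun Z fun z => δP (ι z))
    (hZ : ∀ z, δP (ι z) ≤ k + 1) (i j : Fin (1 + 1)) (z : Z) (hzk : δP (ι z) = k)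
    (hass : ¬ IsAssociatedPrime (maximalIdeal (Z.presheaf.stalk z)) (Z.presheaf.stalk z))
    (hm : ι z ∈ chartOpen X i)
    (hi : ∀ ζ : TopPt δP k ι, ι ζ.1 ∈ chartOpen X i) (hj : ∀ ζ : TopPt δP k ι, ι ζ.1 ∈ chartOpen X j) :
    ∑ᶠ ζ : TopPt δP k ι, (topLen δP k ι ζ : ℤ) * Cyc.divFun δP (ι ζ.1) (tVal X i j (ι ζ.1) (hi ζ)) (ι z) =
      ((Module.length (Z.presheaf.stalk z)
        (Z.presheaf.stalk z ⧸ Ideal.span {ι.stalkMap z (tGerm X i j (ι z) hm)})).toNat : ℤ) := by
  classical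
  let A := Z.presheaf.stalk z
  set t : A := ι.stalkMap z (tGerm X i j (ι z) hm) with ht_def
  have hval : ∀ (ζ : Z) (h : ζ ⤳ z), Cyc.specMap z ζ h t =
      ι.residueFieldMap ζ (tVal X i j (ι ζ) ((h.map ι.continuous).mem_open (chartOpen X i).2 hm)) := by
    intro ζ h
    rw [tVal_eq_specMap i j (h.map ι.continuous) hm, residueFieldMap_specMap' ι h]
  have hge : ∀ ζ : Z, ζ ⤳ z → δP (ι ζ) = k + 1 ∨ ζ = z := fun ζ h => by
    by_cases he : ζ = z
    · exact Or.inr he
    · refine Or.inl (le_antisymm (hZ ζ) ?_)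
      have hlt : δP (ι z) < δP (ι ζ) := (hdZ ζ z h he).1
      omega
  have hmax0 : ∀ (h : z ⤳ z), RingHom.ker (Cyc.specMap z z h) = maximalIdeal A := fun h => by
    ext c
    rw [RingHom.mem_ker, show Cyc.specMap z z h c = Z.residue z c by
      show Z.residue z (Z.presheaf.stalkSpecializes h c) = _
      rw [show Z.presheaf.stalkSpecializes h = 𝟙 _ from TopCat.Presheaf.stalk_hom_ext _ fun U hU => by simp]
      rfl]
    exact IsLocalRing.residue_eq_zero_iff c
  have hmin : ∀ (ζ : Z) (h : ζ ⤳ z), δP (ι ζ) = k + 1 →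
      RingHom.ker (Cyc.specMap z ζ h) ∈ minimalPrimes A := by
    refine fun ζ h hζ => ⟨⟨RingHom.ker_isPrime _, bot_le⟩, fun J hJ hle => ?_⟩
    obtain ⟨ζ', h', he⟩ := exists_ptPrime z ⟨J, hJ.1⟩
    obtain rfl : RingHom.ker (Cyc.specMap z ζ' h') = J := congrArg PrimeSpectrum.asIdeal he
    obtain rfl := eq_of_specializes hdZ ((ptPrime_le_iff h' h).1 hle) (by
      show δP (ι ζ') ≤ δP (ι ζ)
      rw [hζ]; exact hZ _)
    exact le_rfl
  have hnot : maximalIdeal A ∉ minimalPrimes A := fun h => hass (by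
    refine (Module.associatedPrimes.minimalPrimes_annihilator_subset_associatedPrimes A A) ?_
    rwa [Module.annihilator_eq_bot.2 inferInstance])
  have hminiff : ∀ P : PrimeSpectrum A, P.asIdeal ∈ minimalPrimes A →
      δP (ι (Z.fromSpecStalk z P)) = k + 1 := by
    intro P hP
    obtain ⟨ζ, h, rfl⟩ := exists_ptPrime z P
    rw [fromSpecStalk_ptPrime]
    rcases hge ζ h with h' | rfl
    · exact h'
    · exact absurd (hmax0 h ▸ hP) hnot
  have hdim : ∀ P : Ideal A, P.IsPrime → P ∈ minimalPrimes A ∨ P = maximalIdeal A := by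
    intro P hP
    obtain ⟨ζ, h, he⟩ := exists_ptPrime z ⟨P, hP⟩
    obtain rfl : RingHom.ker (Cyc.specMap z ζ h) = P := congrArg PrimeSpectrum.asIdeal he
    rcases hge ζ h with h' | rfl
    · exact Or.inl (hmin ζ h h')
    · exact Or.inr (hmax0 h)
  have hne : ∀ ζ : TopPt δP k ι, tVal X i j (ι ζ.1) (hi ζ) ≠ 0 := fun ζ =>
    tVal_ne_zero i j _ (hi ζ) (hj ζ)
  have ht : ∀ P ∈ minimalPrimes A, t ∉ P := by
    intro P hP htP
    obtain ⟨ζ, h, he⟩ := exists_ptPrime z ⟨P, hP.1.1⟩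
    obtain rfl : RingHom.ker (Cyc.specMap z ζ h) = P := congrArg PrimeSpectrum.asIdeal he
    have hζ := hminiff (ptPrime z ζ h) hP
    rw [fromSpecStalk_ptPrime] at hζ
    rw [RingHom.mem_ker, hval ζ h] at htP
    exact hne ⟨ζ, hζ⟩ ((map_eq_zero_iff _ (ι.residueFieldMap ζ).hom.injective).1 htP)
  have hfin : {P : PrimeSpectrum A | P.asIdeal ∈ minimalPrimes A}.Finite :=
    (Ideal.finite_minimalPrimes_of_isNoetherianRing A (⊥ : Ideal A)).preimage
      fun a _ b _ e => PrimeSpectrum.ext e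
  rw [length_cut_eq_sum hdim hass t ht hfin.toFinset fun P => hfin.mem_toFinset, Nat.cast_sum]
  let f : hfin.toFinset → TopPt δP k ι := fun P =>
    ⟨Z.fromSpecStalk z P.1, hminiff P.1 (hfin.mem_toFinset.1 P.2)⟩
  have hf : Function.Injective f := fun P Q h =>
    Subtype.ext ((Z.fromSpecStalk z).isEmbedding.injective (show Z.fromSpecStalk z P.1 = Z.fromSpecStalk z Q.1 from congrArg (fun ζ : TopPt δP k ι => ζ.1) h))
  rw [finsum_eq_sum_of_support_subset _ (s := Finset.univ.image f) ?_,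
    Finset.sum_image fun _ _ _ _ h => hf h, ← Finset.sum_coe_sort hfin.toFinset]
  · refine Finset.sum_congr rfl fun P _ => ?_
    obtain ⟨ζ, h, hP⟩ := exists_ptPrime z P.1
    obtain ⟨P, hPm⟩ := P
    subst hP
    have hζ := hminiff (ptPrime z ζ h) (hfin.mem_toFinset.1 hPm)
    rw [fromSpecStalk_ptPrime] at hζ
    have hfP : f ⟨ptPrime z ζ h, hPm⟩ = ⟨ζ, hζ⟩ := Subtype.ext (fromSpecStalk_ptPrime z ζ h)
    rw [hfP]
    have h1 : δP (ι z) + 1 = δP (ι ζ) := by omega
    have hlen : topLen δP k ι ⟨ζ, hζ⟩ = (Module.length (Localization.AtPrime (ptPrime z ζ h).asIdeal)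
        (Localization.AtPrime (ptPrime z ζ h).asIdeal)).toNat := by
      letI := (Z.presheaf.stalkSpecializes h).hom.toAlgebra
      haveI : IsLocalization.AtPrime (Z.presheaf.stalk ζ) (ptPrime z ζ h).asIdeal :=
        isLocalization_stalkSpecializes h
      exact congrArg ENat.toNat (length_self_congr
        (IsLocalization.algEquiv (ptPrime z ζ h).asIdeal.primeCompl (Z.presheaf.stalk ζ)
          (Localization.AtPrime (ptPrime z ζ h).asIdeal)).toRingEquiv)
    rw [hlen, Nat.cast_mul]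
    refine congrArg _ ?_
    rw [Cyc.divFun, dif_pos ⟨h.map ι.continuous, h1⟩,
      ← ordAt_closedImmersion hdP ι h h1 (hne ⟨ζ, hζ⟩), ← hval ζ h,
      ordAt_specMap hdZ h h1 (by
        rw [hval ζ h]
        exact fun e => hne ⟨ζ, hζ⟩ ((map_eq_zero_iff _ (ι.residueFieldMap ζ).hom.injective).1 e))]
    show ((Module.length _ _).toNat : ℤ) = _
    rw [length_quot_surjective (Ideal.Quotient.mk (RingHom.ker (Cyc.specMap z ζ h))) Ideal.Quotient.mk_surjective
      _ ((ptPrime z ζ h).asIdeal ⊔ Ideal.span {t})]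
    rw [← Set.image_singleton, ← Ideal.map_span, Ideal.comap_map_of_surjective _ Ideal.Quotient.mk_surjective,
      ← RingHom.ker_eq_comap_bot, Ideal.mk_ker, sup_comm]
    rfl
  · intro ζ hζ
    have h : ι ζ.1 ⤳ ι z := by
      by_contra h
      refine hζ ?_
      show (topLen δP k ι ζ : ℤ) * Cyc.divFun δP (ι ζ.1) _ (ι z) = 0
      rw [Cyc.divFun, dif_neg fun h' => h h'.1, mul_zero]
    have h' : ζ.1 ⤳ z := ι.isClosedEmbedding.isInducing.specializes_iff.1 h
    refine Finset.mem_coe.2 (Finset.mem_image.2 ⟨⟨ptPrime z ζ.1 h', hfin.mem_toFinset.2 (hmin ζ.1 h' ζ.2)⟩,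
      Finset.mem_univ _, Subtype.ext (fromSpecStalk_ptPrime z ζ.1 h')⟩)

theorem finsum_divFun_eq_subschemeFun [IsClosedImmersion ι] [IsLocallyNoetherian Z]
    [IsLocallyNoetherian (CohB1.ProjSpaceOver 1 X)]
    (hP : Cyc.DeltaCompat (CohB1.ProjSpaceOver.toBase 1 X) δP δ)
    (hdP : Cyc.IsDimFun (CohB1.ProjSpaceOver 1 X) δP) (hdZ : Cyc.IsDimFun Z fun z => δP (ι z))
    (hZ : ∀ z, δP (ι z) ≤ k + 1)
    (hemb : ∀ z : Z, IsAssociatedPrime (maximalIdeal (Z.presheaf.stalk z)) (Z.presheaf.stalk z) →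
      ι z ∉ Set.range ⇑(P1.sect X 0) ∪ Set.range ⇑(P1.sect X 1) ∨ δP (ι z) < k)
    (i j : Fin (1 + 1)) (hij : i ≠ j)
    (hi : ∀ ζ : TopPt δP k ι, ι ζ.1 ∈ chartOpen X i) (hj : ∀ ζ : TopPt δP k ι, ι ζ.1 ∈ chartOpen X j) (x : X) :
    ∑ᶠ ζ : TopPt δP k ι,
        (topLen δP k ι ζ : ℤ) * Cyc.divFun δP (ι ζ.1) (tVal X i j (ι ζ.1) (hi ζ)) (P1.sect X i x) =
      Cyc.subschemeFun δ k (pullback.snd ι (P1.sect X i)) x := by
  by_cases hx : δ x = k
  · by_cases hz : P1.sect X i x ∈ Set.range ι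
    · obtain ⟨z, hz⟩ := hz
      have hm : ι z ∈ chartOpen X i := hz ▸ ((mem_range_sect_iff X i j hij (P1.sect X i x)).1 ⟨x, rfl⟩).1
      have hk : δP (ι z) = k := by rw [hz, delta_sect hP, hx]
      have hass : ¬ IsAssociatedPrime (maximalIdeal (Z.presheaf.stalk z)) (Z.presheaf.stalk z) := fun h =>
        (hemb z h).elim (fun h' => h' (hz ▸ mem_range_union_of_sect i x)) (fun h' => (hk ▸ h').false)
      rw [subschemeFun_sect_of_mem δ k ι i j hij x hx z hz hm, ← hz]
      exact finsum_divFun_eq_length ι hdP hdZ hZ i j z hk hass hm hi hj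
    · rw [subschemeFun_sect_of_notMem δ k ι i x hz]
      refine finsum_eq_zero_of_forall_eq_zero fun ζ => ?_
      rw [Cyc.divFun, dif_neg, mul_zero]
      exact fun h => hz (h.1.mem_closed ι.isClosedEmbedding.isClosed_range ⟨ζ.1, rfl⟩)
  · rw [Cyc.subschemeFun, if_neg hx]
    refine finsum_eq_zero_of_forall_eq_zero fun ζ => ?_
    rw [Cyc.divFun, dif_neg, mul_zero]
    rintro ⟨-, h⟩
    rw [delta_sect hP, ζ.2] at h
    omega

end Groth.Agent.CycLib
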