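import Groth.Agent.CycLib.P1Chart

/-!
Local equations of the sections `0` and `∞` of the projective line over a scheme.
-/

set_option autoImplicit false
set_option linter.style.haveILetI false
set_option maxHeartbeats 800000

universe u

open CategoryTheory AlgebraicGeometry IsLocalRing Limits

namespace Groth.Agent.CycLib

variable (X : Scheme.{u})

/-- The projection to `P¹_ℤ`. -/
noncomputable abbrev toP1Z : CohB1.ProjSpaceOver 1 X ⟶ Proj P1.grading.{u} := pullback.fst _ _

/-- The points `0` and `∞` of `P¹_ℤ`. -/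
noncomputable abbrev pointZ (i : Fin (1 + 1)) :
    Spec (CommRingCat.of P1.R0.{u}) ⟶ Proj P1.grading.{u} :=
  Spec.map (CommRingCat.ofHom (P1.evalAway.{u} i)) ≫
    Proj.awayι P1.grading.{u} (P1.T i) (P1.X_mem i) one_pos

/-- The chart `D₊(T_i)` of the projective line over `X`. -/
noncomputable abbrev chartOpen (i : Fin (1 + 1)) : (CohB1.ProjSpaceOver 1 X).Opens :=
  toP1Z X ⁻¹ᵁ Proj.basicOpen P1.grading.{u} (P1.T i)

/-- The germ of `T_j / T_i` at a point of the chart `i`. -/
noncomputable def tGerm (i j : Fin (1 + 1)) (p : CohB1.ProjSpaceOver 1 X) (hp : p ∈ chartOpen X i) :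
    (CohB1.ProjSpaceOver 1 X).presheaf.stalk p :=
  (toP1Z X).stalkMap p (czGerm i j (toP1Z X p) hp)

/-- `T_j / T_i` as a section of the chart `i`. -/
noncomputable def tSec (i j : Fin (1 + 1)) : Γ(CohB1.ProjSpaceOver 1 X, chartOpen X i) :=
  (toP1Z X).app (Proj.basicOpen P1.grading.{u} (P1.T i)) (cz i j)

theorem tGerm_eq_germ (i j : Fin (1 + 1)) (p : CohB1.ProjSpaceOver 1 X) (hp : p ∈ chartOpen X i) :
    tGerm X i j p hp = (CohB1.ProjSpaceOver 1 X).presheaf.germ (chartOpen X i) p hp (tSec X i j) :=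
  (toP1Z X).germ_stalkMap_apply (Proj.basicOpen P1.grading.{u} (P1.T i)) p hp _

theorem tGerm_mul (i j : Fin (1 + 1)) (p : CohB1.ProjSpaceOver 1 X) (hi : p ∈ chartOpen X i)
    (hj : p ∈ chartOpen X j) : tGerm X i j p hi * tGerm X j i p hj = 1 := by
  rw [tGerm, tGerm, ← map_mul, cz_mul i j hi hj, map_one]

theorem isUnit_tGerm_iff (i j : Fin (1 + 1)) (p : CohB1.ProjSpaceOver 1 X) (hp : p ∈ chartOpen X i) :
    IsUnit (tGerm X i j p hp) ↔ p ∈ chartOpen X j :=
  ⟨fun h => (mem_other_iff i j _ hp).2 (isUnit_of_map_unit ((toP1Z X).stalkMap p).hom _ h),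
    fun h => IsUnit.of_mul_eq_one _ (tGerm_mul X i j p hp h)⟩

theorem exists_mem_chartOpen (p : CohB1.ProjSpaceOver 1 X) : ∃ i, p ∈ chartOpen X i := by
  have hq : toP1Z X p ∈ (⨆ i : Fin (1 + 1), Proj.basicOpen P1.grading.{u} (P1.T i)) := by
    rw [Proj.iSup_basicOpen_eq_top' P1.grading.{u}
      (fun i : Fin (1 + 1) => (P1.T i : MvPolynomial (Fin (1 + 1)) P1.R0.{u})) (fun i => ⟨1, P1.X_mem i⟩) ?_]
    · trivial
    refine top_le_iff.mp fun p _ => ?_
    clear * - p
    induction p using MvPolynomial.induction_on with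
    | C r => exact Subalgebra.algebraMap_mem _ (⟨MvPolynomial.C r, (MvPolynomial.mem_homogeneousSubmodule 0 _).mpr
        (MvPolynomial.isHomogeneous_C _ r)⟩ : P1.grading.{u} 0)
    | add p q hp hq => exact add_mem hp hq
    | mul_X p i hp => exact mul_mem hp (Algebra.subset_adjoin ⟨i, rfl⟩)
  obtain ⟨i, hi⟩ := TopologicalSpace.Opens.mem_iSup.1 hq
  exact ⟨i, hi⟩

theorem sect_toBase (i : Fin (1 + 1)) : P1.sect X i ≫ CohB1.ProjSpaceOver.toBase 1 X = 𝟙 X :=
  pullback.lift_snd _ _ _

theorem sect_toP1Z (i : Fin (1 + 1)) :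
    P1.sect X i ≫ toP1Z X = specULiftZIsTerminal.from X ≫ pointZ i :=
  pullback.lift_fst _ _ _

instance isClosedImmersion_sect (i : Fin (1 + 1)) : IsClosedImmersion (P1.sect X i) := by
  haveI : IsProper (CohB1.ProjSpaceOver.toBase 1 X) := ProjProper.Basic.isProper_toBase 1 X
  haveI : IsClosedImmersion (P1.sect X i ≫ CohB1.ProjSpaceOver.toBase 1 X) := by
    rw [sect_toBase]
    infer_instance
  exact IsClosedImmersion.of_comp (P1.sect X i) (CohB1.ProjSpaceOver.toBase 1 X)

theorem isPullback_sect (i : Fin (1 + 1)) :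
    IsPullback (P1.sect X i) (specULiftZIsTerminal.from X) (toP1Z X) (pointZ i) := by
  refine ⟨⟨sect_toP1Z X i⟩, ⟨PullbackCone.IsLimit.mk _ (fun s => s.fst ≫ CohB1.ProjSpaceOver.toBase 1 X)
    (fun s => ?_) (fun s => specULiftZIsTerminal.hom_ext _ _) (fun s m h1 _ => ?_)⟩⟩
  · refine pullback.hom_ext ?_ ?_
    · refine ((Category.assoc _ _ _).trans
        ((congrArg ((s.fst ≫ CohB1.ProjSpaceOver.toBase 1 X) ≫ ·) (sect_toP1Z X i)).trans
          (Category.assoc _ _ _).symm)).trans ?_
      exact (congrArg (· ≫ pointZ i) (specULiftZIsTerminal.hom_ext _ s.snd)).trans s.condition.symm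
    · exact (Category.assoc _ _ _).trans
        ((congrArg ((s.fst ≫ CohB1.ProjSpaceOver.toBase 1 X) ≫ ·) (sect_toBase X i)).trans (Category.comp_id _))
  · show m = s.fst ≫ CohB1.ProjSpaceOver.toBase 1 X
    rw [← h1]
    exact ((Category.assoc _ _ _).trans ((congrArg (m ≫ ·) (sect_toBase X i)).trans (Category.comp_id _))).symm

/-- The closed point `0` resp. `∞` is cut out by the coordinate. -/
theorem mem_range_sect_iff (i j : Fin (1 + 1)) (hij : i ≠ j) (p : CohB1.ProjSpaceOver 1 X) :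
    p ∈ Set.range (P1.sect X i) ↔ p ∈ chartOpen X i ∧ p ∉ chartOpen X j := by
  have hrange : ∀ q : Proj P1.grading.{u}, q ∈ Set.range (pointZ i) ↔
      q ∈ Proj.basicOpen P1.grading.{u} (P1.T i) ∧ q ∉ Proj.basicOpen P1.grading.{u} (P1.T j) := by
    intro q
    let ι := Proj.awayι P1.grading.{u} (P1.T i) (P1.X_mem i) one_pos
    have hr : ∀ r, r ∈ Set.range (Spec.map (CommRingCat.ofHom (P1.evalAway.{u} i))) ↔
        ι r ∉ Proj.basicOpen P1.grading.{u} (P1.T j) := fun r => by
      show r ∈ Set.range (PrimeSpectrum.comap (P1.evalAway.{u} i)) ↔ r ∉ ι ⁻¹ᵁ Proj.basicOpen P1.grading.{u} (P1.T j)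
      rw [range_comap_of_surjective _ _ (surjective_evalAway i), ker_evalAway i j hij,
        PrimeSpectrum.zeroLocus_span, Proj.awayι_preimage_basicOpen P1.grading.{u} (P1.X_mem i) one_pos (P1.X_mem j) one_pos,
        show HomogeneousLocalization.Away.isLocalizationElem (P1.X_mem.{u} i) (P1.X_mem j) = ratio i j by
          refine HomogeneousLocalization.val_injective _ ?_
          simp [HomogeneousLocalization.Away.isLocalizationElem, ratio]]
      show {ratio i j} ⊆ (r.asIdeal : Set _) ↔ ¬ (ratio i j ∉ r.asIdeal)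
      rw [Set.singleton_subset_iff, not_not]
      rfl
    constructor
    · rintro ⟨z, rfl⟩
      refine ⟨?_, (hr _).1 ⟨z, rfl⟩⟩
      rw [← Proj.opensRange_awayι P1.grading.{u} (P1.T i) (P1.X_mem i) one_pos]
      exact ⟨_, rfl⟩
    · rintro ⟨h1, h2⟩
      rw [← Proj.opensRange_awayι P1.grading.{u} (P1.T i) (P1.X_mem i) one_pos] at h1
      obtain ⟨r, rfl⟩ := h1
      obtain ⟨z, rfl⟩ := (hr r).2 h2
      exact ⟨z, rfl⟩
  constructor
  · rintro ⟨x, rfl⟩
    refine (hrange _).1 ⟨specULiftZIsTerminal.from X x, ?_⟩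
    exact congrArg (fun g => g.base x) (isPullback_sect X i).w.symm
  · intro h
    obtain ⟨z, hz⟩ := (hrange _).2 h
    obtain ⟨w, hw, -⟩ := Scheme.Pullback.exists_preimage_pullback (f := toP1Z X) (g := pointZ i) p z hz.symm
    refine ⟨(isPullback_sect X i).isoPullback.inv w, ?_⟩
    refine Eq.trans ?_ hw
    exact congrArg (fun g => g.base w) (IsPullback.isoPullback_inv_fst (isPullback_sect X i))

theorem ker_stalkMap_point (i j : Fin (1 + 1)) (hij : i ≠ j) (z : Spec (CommRingCat.of P1.R0.{u}))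
    (hm : pointZ i z ∈ Proj.basicOpen P1.grading.{u} (P1.T i)) :
    RingHom.ker ((pointZ i).stalkMap z).hom = Ideal.span {czGerm i j (pointZ i z) hm} := by
  let φ := P1.evalAway.{u} i
  let ι := Proj.awayι P1.grading.{u} (P1.T i) (P1.X_mem i) one_pos
  set r := Spec.map (CommRingCat.ofHom φ) z with hr
  let A := CommRingCat.of (HomogeneousLocalization.Away P1.grading.{u} (P1.T.{u} i))
  let gm : A →+* (Spec A).presheaf.stalk r :=
    ((Spec A).presheaf.germ ⊤ r trivial).hom.comp (Scheme.ΓSpecIso A).inv.hom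
  have hnat : ∀ a, (Spec.map (CommRingCat.ofHom φ)).stalkMap z (gm a) =
      (Spec (CommRingCat.of P1.R0.{u})).presheaf.germ ⊤ z trivial ((Scheme.ΓSpecIso _).inv (φ a)) := fun a => by
    refine ((Spec.map (CommRingCat.ofHom φ)).germ_stalkMap_apply ⊤ z trivial _).trans ?_
    exact congrArg _ (congr($(Scheme.ΓSpecIso_inv_naturality (CommRingCat.ofHom φ)) a)).symm
  have hker : RingHom.ker ((Spec.map (CommRingCat.ofHom φ)).stalkMap z).hom = Ideal.span {gm (ratio i j)} := by
    refine le_antisymm (fun c hc => ?_) ((Ideal.span_singleton_le_iff_mem _).2 ?_)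
    · have hW := isAffineOpen_top (Spec A)
      letI := TopCat.Presheaf.algebra_section_stalk (Spec A).presheaf (⟨r, trivial⟩ : (⊤ : (Spec A).Opens))
      haveI := hW.isLocalization_stalk ⟨r, trivial⟩
      obtain ⟨⟨a, s⟩, hcs⟩ := IsLocalization.surj (hW.primeIdealOf ⟨r, trivial⟩).asIdeal.primeCompl c
      obtain ⟨a', rfl⟩ := (ConcreteCategory.bijective_of_isIso (Scheme.ΓSpecIso A).inv).2 a
      have hsu : IsUnit (algebraMap Γ(Spec A, ⊤) ((Spec A).presheaf.stalk r) s.1) :=
        IsLocalization.map_units _ s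
      replace hcs : c * algebraMap Γ(Spec A, ⊤) ((Spec A).presheaf.stalk r) s.1 = gm a' := hcs
      have h0 : (Spec.map (CommRingCat.ofHom φ)).stalkMap z (gm a') = 0 := by
        rw [← hcs, map_mul, RingHom.mem_ker.1 hc, zero_mul]
      rw [hnat] at h0
      have hW' := isAffineOpen_top (Spec (CommRingCat.of P1.R0.{u}))
      letI := TopCat.Presheaf.algebra_section_stalk (Spec (CommRingCat.of P1.R0.{u})).presheaf
        (⟨z, trivial⟩ : (⊤ : (Spec (CommRingCat.of P1.R0.{u})).Opens))
      haveI := hW'.isLocalization_stalk ⟨z, trivial⟩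
      obtain ⟨⟨t, ht⟩, htv⟩ := (IsLocalization.map_eq_zero_iff (hW'.primeIdealOf ⟨z, trivial⟩).asIdeal.primeCompl
        ((Spec (CommRingCat.of P1.R0.{u})).presheaf.stalk z) _).1 h0
      obtain ⟨t, rfl⟩ := (ConcreteCategory.bijective_of_isIso
        (Scheme.ΓSpecIso (CommRingCat.of P1.R0.{u})).inv).2 t
      obtain ⟨t', rfl⟩ := surjective_evalAway i t
      have hta : φ (t' * a') = 0 := by
        rw [map_mul]
        refine (ConcreteCategory.bijective_of_isIso (Scheme.ΓSpecIso (CommRingCat.of P1.R0.{u})).inv).1 ?_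
        rw [map_zero, map_mul]
        exact htv
      rw [← RingHom.mem_ker, ker_evalAway i j hij, Ideal.mem_span_singleton] at hta
      obtain ⟨q, hq⟩ := hta
      have htu : IsUnit (gm t') := by
        have h1 : IsUnit ((Spec.map (CommRingCat.ofHom φ)).stalkMap z (gm t')) := by
          rw [hnat]; exact IsLocalization.map_units _ ⟨_, ht⟩
        exact isUnit_of_map_unit ((Spec.map (CommRingCat.ofHom φ)).stalkMap z).hom _ h1
      refine (Ideal.unit_mul_mem_iff_mem _ (htu.mul hsu)).1 ?_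
      rw [mul_assoc, mul_comm _ c, hcs, ← map_mul, hq, map_mul]
      exact Ideal.mul_mem_right _ _ (Ideal.mem_span_singleton_self _)
    · rw [RingHom.mem_ker]
      refine (hnat _).trans ?_
      rw [RingHom.mem_ker.1 ((ker_evalAway i j hij).ge (Ideal.mem_span_singleton_self _)), map_zero, map_zero]
  have hι : Function.Bijective (ι.stalkMap r).hom := ConcreteCategory.bijective_of_isIso _
  have hg : ι.stalkMap r (czGerm i j (ι r) hm) = gm (ratio i j) :=
    mem_other_iff.germ_awayι i r hm (ratio i j)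
  show RingHom.ker ((Spec.map (CommRingCat.ofHom φ) ≫ ι).stalkMap z).hom = _
  rw [Scheme.Hom.stalkMap_comp]
  show RingHom.ker (((Spec.map (CommRingCat.ofHom φ)).stalkMap z).hom.comp (ι.stalkMap r).hom) = _
  rw [← RingHom.comap_ker, hker, ← hg, ← Set.image_singleton, ← Ideal.map_span]
  exact Ideal.comap_map_of_bijective _ hι

/-- The local equation of a section at a point on it. -/
theorem ker_stalkMap_sect (i j : Fin (1 + 1)) (hij : i ≠ j) (x : X) (hp : P1.sect X i x ∈ chartOpen X i) :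
    RingHom.ker ((P1.sect X i).stalkMap x).hom = Ideal.span {tGerm X i j (P1.sect X i x) hp} := by
  have e : toP1Z X (P1.sect X i x) = pointZ i (specULiftZIsTerminal.from X x) := by
    exact congrArg (fun g => g.base x) (isPullback_sect X i).w
  have key : ∀ (q : Proj P1.grading.{u}) (h : toP1Z X (P1.sect X i x) = q)
      (hm : q ∈ Proj.basicOpen P1.grading.{u} (P1.T i)) (hs : q ⤳ toP1Z X (P1.sect X i x)),
      (Ideal.span {czGerm i j q hm}).comap ((Proj P1.grading.{u}).presheaf.stalkSpecializes hs).hom =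
        Ideal.span {czGerm i j (toP1Z X (P1.sect X i x)) hp} := by
    rintro q rfl hm hs
    rw [show (Proj P1.grading.{u}).presheaf.stalkSpecializes hs = 𝟙 _ from
      TopCat.Presheaf.stalk_hom_ext _ fun U hU => by simp]
    exact Ideal.comap_id _
  haveI : IsClosedImmersion (pointZ.{u} i) := by
    let st : Proj P1.grading.{u} ⟶ Spec (CommRingCat.of P1.R0.{u}) := CohB1.ProjSpace.toSpec 1 P1.R0.{u}
    haveI : IsSeparated st := @IsProper.toIsSeparated _ _ _ (ProjProper.Basic.isProper_toSpec 1 P1.R0.{u})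
    haveI : IsClosedImmersion (pointZ i ≫ st) := by
      rw [specULiftZIsTerminal.hom_ext (pointZ i ≫ st) (𝟙 _)]
      infer_instance
    exact IsClosedImmersion.of_comp (pointZ i) st
  rw [ker_stalkMap_isPullback (isPullback_sect X i) x (by rw [e]),
    ker_stalkMap_point i j hij _ (e ▸ hp), key _ e, Ideal.map_span, Set.image_singleton]
  rfl

end Groth.Agent.CycLib
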