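import Groth.Agent.CycLib.P1Cut
import Groth.Agent.CycLib.SheafSpec

/-!
The divisor of `T_j / T_i` on a coherent module over the projective line over `X` cuts out its fibre over `0` resp. `∞`.
-/

set_option autoImplicit false
set_option linter.style.haveILetI false
set_option maxHeartbeats 1000000

universe u

open CategoryTheory AlgebraicGeometry IsLocalRing Limits

namespace Groth.Agent.CycLib

variable {X : Scheme.{u}} (δ : X → ℤ) (δP : CohB1.ProjSpaceOver 1 X → ℤ) (k : ℤ)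
  (F : (CohB1.ProjSpaceOver 1 X).Modules)

/-- The points of top dimension of the support. -/
abbrev TopSupp : Type u := {q : CohB1.ProjSpaceOver 1 X // δP q = k + 1 ∧ Nontrivial (F.presheaf.stalk q)}

/-- The length of the module at a point of top dimension. -/
noncomputable abbrev suppLen (ζ : TopSupp δP k F) : ℕ :=
  (Module.length ((CohB1.ProjSpaceOver 1 X).presheaf.stalk ζ.1) (F.presheaf.stalk ζ.1)).toNat

variable {δ δP k}

theorem finsum_suppLen_eq_sheafFun [IsLocallyNoetherian (CohB1.ProjSpaceOver 1 X)]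
    (hP : Cyc.DeltaCompat (CohB1.ProjSpaceOver.toBase 1 X) δP δ)
    (hdP : Cyc.IsDimFun (CohB1.ProjSpaceOver 1 X) δP) (hF : Coh.IsCoh F)
    (hsupp : ∀ p, Nontrivial (F.presheaf.stalk p) → δP p ≤ k + 1)
    (hemb : ∀ p : CohB1.ProjSpaceOver 1 X,
      IsAssociatedPrime (maximalIdeal ((CohB1.ProjSpaceOver 1 X).presheaf.stalk p)) (F.presheaf.stalk p) →
      p ∉ Set.range ⇑(P1.sect X 0) ∪ Set.range ⇑(P1.sect X 1) ∨ δP p < k)
    (i j : Fin (1 + 1)) (hij : i ≠ j)
    (hi : ∀ ζ : TopSupp δP k F, ζ.1 ∈ chartOpen X i) (hj : ∀ ζ : TopSupp δP k F, ζ.1 ∈ chartOpen X j) (x : X) :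
    ∑ᶠ ζ : TopSupp δP k F,
        (suppLen δP k F ζ : ℤ) * Cyc.divFun δP ζ.1 (tVal X i j ζ.1 (hi ζ)) (P1.sect X i x) =
      Cyc.sheafFun δ k ((Scheme.Modules.pullback (P1.sect X i)).obj F) x := by
  classical
  haveI := hF.1
  unfold Cyc.sheafFun
  split_ifs with hx
  swap
  · refine finsum_eq_zero_of_forall_eq_zero fun ζ => ?_
    rw [Cyc.divFun, dif_neg, mul_zero]
    rintro ⟨-, h⟩
    rw [delta_sect hP, ζ.2.1] at h
    omega
  set p := P1.sect X i x with hp
  have hm : p ∈ chartOpen X i := ((mem_range_sect_iff X i j hij p).1 ⟨x, rfl⟩).1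
  have hpk : δP p = k := by rw [hp, delta_sect hP, hx]
  haveI : Module.Finite ((CohB1.ProjSpaceOver 1 X).presheaf.stalk p) (F.presheaf.stalk p) :=
    FDesc.QuasiFlat.finite_stalk_of_isCoh F hF p
  rw [(exists_pullback_stalk_equiv F (P1.sect X i) x).2, ker_stalkMap_sect X i j hij x hm]
  by_cases hnt : Nontrivial (F.presheaf.stalk p)
  swap
  · rw [not_nontrivial_iff_subsingleton] at hnt
    haveI := hnt
    rw [Module.length_eq_zero]
    refine finsum_eq_zero_of_forall_eq_zero fun ζ => ?_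
    rw [Cyc.divFun, dif_neg, mul_zero]
    intro h
    have h' := (nontrivial_stalk_iff_le F h.1).1 ζ.2.2
    rw [Module.annihilator_eq_top_iff.2 hnt] at h'
    exact (RingHom.ker_ne_top _) (top_le_iff.1 h')
  haveI := hnt
  let A := (CohB1.ProjSpaceOver 1 X).presheaf.stalk p
  set N := F.presheaf.stalk p
  set t : A := tGerm X i j p hm
  have hge : ∀ ζ, (h : ζ ⤳ p) → Nontrivial (F.presheaf.stalk ζ) → δP ζ = k + 1 ∨ ζ = p := fun ζ h hn => by
    by_cases he : ζ = p
    · exact Or.inr he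
    · refine Or.inl (le_antisymm (hsupp ζ hn) ?_)
      have := (hdP ζ p h he).1
      omega
  have hmax0 : ∀ h : p ⤳ p, RingHom.ker (Cyc.specMap p p h) = maximalIdeal A := fun h => by
    rw [ker_specMap_eq_comap, show (CohB1.ProjSpaceOver 1 X).presheaf.stalkSpecializes h = 𝟙 _ from
      TopCat.Presheaf.stalk_hom_ext _ fun U hU => by simp]
    exact Ideal.comap_id _
  have hass : ¬ IsAssociatedPrime (maximalIdeal A) N := fun h =>
    (hemb p h).elim (fun h' => h' (mem_range_union_of_sect i x)) (fun h' => (hpk ▸ h').false)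
  have hnot : maximalIdeal A ∉ (Module.annihilator A N).minimalPrimes := fun h =>
    hass (minimalPrimes_subset_associatedPrimes N h)
  have hminiff : ∀ P : PrimeSpectrum A, P.asIdeal ∈ (Module.annihilator A N).minimalPrimes →
      δP ((CohB1.ProjSpaceOver 1 X).fromSpecStalk p P) = k + 1 ∧
        Nontrivial (F.presheaf.stalk ((CohB1.ProjSpaceOver 1 X).fromSpecStalk p P)) := by
    intro P hP'
    obtain ⟨ζ, h, rfl⟩ := exists_ptPrime p P
    rw [fromSpecStalk_ptPrime]
    have hn : Nontrivial (F.presheaf.stalk ζ) := (nontrivial_stalk_iff_le F h).2 hP'.1.2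
    rcases hge ζ h hn with h' | rfl
    · exact ⟨h', hn⟩
    · exact absurd (hmax0 h ▸ hP') hnot
  have hmin : ∀ (ζ) (h : ζ ⤳ p), δP ζ = k + 1 → Nontrivial (F.presheaf.stalk ζ) →
      RingHom.ker (Cyc.specMap p ζ h) ∈ (Module.annihilator A N).minimalPrimes := by
    refine fun ζ h hζ hn => ⟨⟨RingHom.ker_isPrime _, (nontrivial_stalk_iff_le F h).1 hn⟩, fun J hJ hle => ?_⟩
    obtain ⟨ζ', h', he⟩ := exists_ptPrime p ⟨J, hJ.1⟩
    obtain rfl : RingHom.ker (Cyc.specMap p ζ' h') = J := congrArg PrimeSpectrum.asIdeal he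
    obtain rfl := eq_of_specializes hdP ((ptPrime_le_iff h' h).1 hle)
      (hζ ▸ hsupp ζ' ((nontrivial_stalk_iff_le F h').2 hJ.2))
    exact le_rfl
  have hdim : ∀ P : Ideal A, P.IsPrime → Module.annihilator A N ≤ P →
      P ∈ (Module.annihilator A N).minimalPrimes ∨ P = maximalIdeal A := by
    intro P hP' hle
    obtain ⟨ζ, h, he⟩ := exists_ptPrime p ⟨P, hP'⟩
    obtain rfl : RingHom.ker (Cyc.specMap p ζ h) = P := congrArg PrimeSpectrum.asIdeal he
    have hn := (nontrivial_stalk_iff_le F h).2 hle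
    rcases hge ζ h hn with h' | rfl
    · exact Or.inl (hmin ζ h h' hn)
    · exact Or.inr (hmax0 h)
  have hne : ∀ ζ : TopSupp δP k F, tVal X i j ζ.1 (hi ζ) ≠ 0 := fun ζ => tVal_ne_zero i j _ (hi ζ) (hj ζ)
  have hval : ∀ ζ (h : ζ ⤳ p), Cyc.specMap p ζ h t = tVal X i j ζ (h.mem_open (chartOpen X i).2 hm) :=
    fun ζ h => (tVal_eq_specMap i j h hm).symm
  have ht : ∀ P ∈ (Module.annihilator A N).minimalPrimes, t ∉ P := by
    intro P hP' htP
    obtain ⟨ζ, h, he⟩ := exists_ptPrime p ⟨P, hP'.1.1⟩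
    obtain rfl : RingHom.ker (Cyc.specMap p ζ h) = P := congrArg PrimeSpectrum.asIdeal he
    have hζ := hminiff (ptPrime p ζ h) hP'
    rw [fromSpecStalk_ptPrime] at hζ
    rw [RingHom.mem_ker, hval ζ h] at htP
    exact hne ⟨ζ, hζ⟩ htP
  have hfin : {P : PrimeSpectrum A | P.asIdeal ∈ (Module.annihilator A N).minimalPrimes}.Finite :=
    (Ideal.finite_minimalPrimes_of_isNoetherianRing A (Module.annihilator A N)).preimage
      fun a _ b _ e => PrimeSpectrum.ext e
  rw [length_cut_module N hdim hass t ht hfin.toFinset fun P => hfin.mem_toFinset, Nat.cast_sum]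
  let f : hfin.toFinset → TopSupp δP k F := fun P =>
    ⟨(CohB1.ProjSpaceOver 1 X).fromSpecStalk p P.1, hminiff P.1 (hfin.mem_toFinset.1 P.2)⟩
  have hf : Function.Injective f := fun P Q h => Subtype.ext
    (((CohB1.ProjSpaceOver 1 X).fromSpecStalk p).isEmbedding.injective
      (show (CohB1.ProjSpaceOver 1 X).fromSpecStalk p P.1 = (CohB1.ProjSpaceOver 1 X).fromSpecStalk p Q.1 from
        congrArg (fun ζ : TopSupp δP k F => ζ.1) h))
  rw [finsum_eq_sum_of_support_subset _ (s := Finset.univ.image f) ?_,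
    Finset.sum_image fun _ _ _ _ h => hf h, ← Finset.sum_coe_sort hfin.toFinset]
  · refine Finset.sum_congr rfl fun P _ => ?_
    obtain ⟨ζ, h, hP'⟩ := exists_ptPrime p P.1
    obtain ⟨P, hPm⟩ := P
    subst hP'
    have hζ := hminiff (ptPrime p ζ h) (hfin.mem_toFinset.1 hPm)
    rw [fromSpecStalk_ptPrime] at hζ
    have hfP : f ⟨ptPrime p ζ h, hPm⟩ = ⟨ζ, hζ⟩ := Subtype.ext (fromSpecStalk_ptPrime p ζ h)
    rw [hfP, Nat.cast_mul, length_localized_stalk F h]
    refine congrArg _ ?_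
    have h1 : δP p + 1 = δP ζ := by omega
    rw [Cyc.divFun, dif_pos ⟨h, h1⟩, ← hval ζ h,
      ordAt_specMap hdP h h1 (by rw [hval ζ h]; exact hne ⟨ζ, hζ⟩)]
    show ((Module.length _ _).toNat : ℤ) = _
    rw [length_quot_surjective (Ideal.Quotient.mk (RingHom.ker (Cyc.specMap p ζ h))) Ideal.Quotient.mk_surjective
      _ ((ptPrime p ζ h).asIdeal ⊔ Ideal.span {t})]
    rw [← Set.image_singleton, ← Ideal.map_span, Ideal.comap_map_of_surjective _ Ideal.Quotient.mk_surjective,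
      ← RingHom.ker_eq_comap_bot, Ideal.mk_ker, sup_comm]
    rfl
  · intro ζ hζ
    have h : ζ.1 ⤳ p := by
      by_contra h
      refine hζ ?_
      show (suppLen δP k F ζ : ℤ) * Cyc.divFun δP ζ.1 _ p = 0
      rw [Cyc.divFun, dif_neg fun h' => h h'.1, mul_zero]
    exact Finset.mem_coe.2 (Finset.mem_image.2
      ⟨⟨ptPrime p ζ.1 h, hfin.mem_toFinset.2 (hmin ζ.1 h ζ.2.1 ζ.2.2)⟩,
        Finset.mem_univ _, Subtype.ext (fromSpecStalk_ptPrime p ζ.1 h)⟩)

end Groth.Agent.CycLib
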