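import Groth.Prelude.Def_Cyc
import Groth.Agent.CycLib.DimFun
import Mathlib.AlgebraicGeometry.Stalk
import Mathlib.AlgebraicGeometry.Noetherian
import Mathlib.RingTheory.Length
import Mathlib.RingTheory.Artinian.Module
import Mathlib.RingTheory.Artinian.Ring

/-!
Coefficients of flat pullbacks at generic points of fibres.
-/

set_option autoImplicit false
set_option linter.style.haveILetI false
set_option maxHeartbeats 400000

universe u

open CategoryTheory AlgebraicGeometry IsLocalRing

namespace Groth.Agent.CycLib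

variable {X Y : Scheme.{u}}

/-- Primes of `O_{X,x}` containing `m_{f x} O_{X,x}` are the generizations of `x` in the fibre. -/
theorem le_prime_iff (f : X ⟶ Y) (x : X) (P : PrimeSpectrum (X.presheaf.stalk x)) :
    (maximalIdeal (Y.presheaf.stalk (f x))).map (f.stalkMap x).hom ≤ P.asIdeal ↔
      f (X.fromSpecStalk x P) = f x := by
  have h : f (X.fromSpecStalk x P) = Y.fromSpecStalk (f x) (Spec.map (f.stalkMap x) P) := by
    rw [← Scheme.Hom.comp_apply, ← Scheme.Hom.comp_apply, Scheme.SpecMap_stalkMap_fromSpecStalk]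
  rw [h, Ideal.map_le_iff_le_comap]
  constructor
  · intro hle
    have : Spec.map (f.stalkMap x) P = closedPoint (Y.presheaf.stalk (f x)) :=
      PrimeSpectrum.ext (le_antisymm (IsLocalRing.le_maximalIdeal (Ideal.IsPrime.ne_top (PrimeSpectrum.isPrime _)))
        hle)
    rw [this]
    exact Scheme.fromSpecStalk_closedPoint
  · intro he
    have : Spec.map (f.stalkMap x) P = closedPoint (Y.presheaf.stalk (f x)) :=
      (Y.fromSpecStalk (f x)).isEmbedding.injective (he.trans Scheme.fromSpecStalk_closedPoint.symm)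
    exact (congrArg PrimeSpectrum.asIdeal this).ge

/-- Every point has a generization in its fibre which is generic in that fibre. -/
theorem exists_generic_fibre [IsLocallyNoetherian X] (f : X ⟶ Y) (x : X) :
    ∃ x0 : X, x0 ⤳ x ∧ f x0 = f x ∧ ∀ x' : X, f x' = f x0 → x' ⤳ x0 → x' = x0 := by
  have hne : (maximalIdeal (Y.presheaf.stalk (f x))).map (f.stalkMap x).hom ≤ maximalIdeal (X.presheaf.stalk x) :=
    (le_prime_iff f x (closedPoint _)).mpr (congrArg f Scheme.fromSpecStalk_closedPoint)
  obtain ⟨q, hq, -⟩ := Ideal.exists_minimalPrimes_le hne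
  let Q : PrimeSpectrum (X.presheaf.stalk x) := ⟨q, hq.1.1⟩
  have hsp : X.fromSpecStalk x Q ⤳ x := by
    have := Scheme.range_fromSpecStalk (X := X) (x := x)
    have hmem : X.fromSpecStalk x Q ∈ Set.range (X.fromSpecStalk x) := ⟨Q, rfl⟩
    rw [this] at hmem
    exact hmem
  refine ⟨X.fromSpecStalk x Q, hsp, (le_prime_iff f x Q).mp hq.1.2, fun x' hfx hx' => ?_⟩
  have hmem : x' ∈ Set.range (X.fromSpecStalk x) := by
    rw [Scheme.range_fromSpecStalk]
    exact hx'.trans hsp
  obtain ⟨P, rfl⟩ := hmem
  rw [(le_prime_iff f x Q).mp hq.1.2] at hfx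
  have hle : P.asIdeal ≤ q :=
    (PrimeSpectrum.le_iff_specializes P Q).mpr ((X.fromSpecStalk x).isEmbedding.isInducing.specializes_iff.mp hx')
  congr 1
  exact PrimeSpectrum.ext (le_antisymm hle (hq.2 ⟨P.2, (le_prime_iff f x P).mpr hfx⟩ hle))

/-- At a generic point of a fibre the local ring of the fibre has finite nonzero length. -/
theorem length_fibre_pos [IsLocallyNoetherian X] (f : X ⟶ Y) (x : X)
    (hmax : ∀ x' : X, f x' = f x → x' ⤳ x → x' = x) :
    (Module.length (X.presheaf.stalk x) (X.presheaf.stalk x ⧸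
      (maximalIdeal (Y.presheaf.stalk (f x))).map (f.stalkMap x).hom)).toNat ≠ 0 := by
  set R := X.presheaf.stalk x
  set I := (maximalIdeal (Y.presheaf.stalk (f x))).map (f.stalkMap x).hom
  have hI : I ≤ maximalIdeal R :=
    (le_prime_iff f x (closedPoint _)).mpr (congrArg f Scheme.fromSpecStalk_closedPoint)
  haveI : Nontrivial (R ⧸ I) := Ideal.Quotient.nontrivial_iff.mpr
    (fun h => (maximalIdeal.isMaximal R).ne_top (top_le_iff.mp (h ▸ hI)))
  haveI : Ring.KrullDimLE 0 (R ⧸ I) := by
    rw [Ring.krullDimLE_zero_iff]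
    intro P hP
    haveI := hP
    have hIP : I ≤ P.comap (Ideal.Quotient.mk I) :=
      Ideal.mk_ker.ge.trans (Ideal.comap_mono bot_le)
    let P' : PrimeSpectrum R := ⟨P.comap (Ideal.Quotient.mk I), inferInstance⟩
    have hsp : X.fromSpecStalk x P' ⤳ x := by
      have hmem : X.fromSpecStalk x P' ∈ Set.range (X.fromSpecStalk x) := ⟨P', rfl⟩
      rw [Scheme.range_fromSpecStalk] at hmem
      exact hmem
    have h1 := hmax _ ((le_prime_iff f x P').mp hIP) hsp
    have h2 : P' = closedPoint R :=
      (X.fromSpecStalk x).isEmbedding.injective (h1.trans Scheme.fromSpecStalk_closedPoint.symm)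
    haveI : (P.comap (Ideal.Quotient.mk I)).IsMaximal := by
      rw [show P.comap (Ideal.Quotient.mk I) = maximalIdeal R from congrArg PrimeSpectrum.asIdeal h2]
      exact maximalIdeal.isMaximal R
    exact Ideal.map_comap_of_surjective _ Ideal.Quotient.mk_surjective P ▸
      (Ideal.IsMaximal.map_of_surjective_of_ker_le Ideal.Quotient.mk_surjective (by rw [Ideal.mk_ker]; exact hIP))
  haveI : IsArtinianRing (R ⧸ I) := IsNoetherianRing.isArtinianRing_of_krullDimLE_zero
  haveI : IsArtinian R (R ⧸ I) := isArtinian_of_surjective_algebraMap (S := R) (Ideal.Quotient.mk_surjective (I := I))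
  intro h
  rcases ENat.toNat_eq_zero.mp h with h | h
  · exact not_subsingleton _ (Module.length_eq_zero_iff.mp h)
  · exact Module.length_ne_top h

theorem length_fibre_ne_top [IsLocallyNoetherian X] (f : X ⟶ Y) (x : X)
    (hmax : ∀ x' : X, f x' = f x → x' ⤳ x → x' = x) :
    Module.length (X.presheaf.stalk x) (X.presheaf.stalk x ⧸
      (maximalIdeal (Y.presheaf.stalk (f x))).map (f.stalkMap x).hom) ≠ ⊤ :=
  fun h => length_fibre_pos f x hmax (by rw [h]; rfl)

/-- The coefficient of a pullback vanishes everywhere only if the cycle vanishes on the image. -/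
theorem eq_zero_of_pullFun_eq_zero [IsLocallyNoetherian X] (f : X ⟶ Y) {δX : X → ℤ} {δY : Y → ℤ} {r : ℤ}
    (hshift : ∀ x : X, (∀ x' : X, f x' = f x → x' ⤳ x → x' = x) → δX x = δY (f x) + r) {α : Y → ℤ}
    (h : Cyc.pullFun f δX δY r α = 0) (x : X) : α (f x) = 0 := by
  obtain ⟨x0, -, hf, hmax⟩ := exists_generic_fibre f x
  have := congrFun h x0
  rw [Cyc.pullFun, if_pos (hshift x0 hmax), Pi.zero_apply] at this
  rcases mul_eq_zero.mp this with h' | h'
  · rwa [hf] at h'
  · exact absurd (by exact_mod_cast h') (length_fibre_pos f x0 hmax)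

theorem finite_support_of_compact [CompactSpace X] (α : AlgebraicCycle X ℤ) :
    (Function.support ⇑α).Finite := by
  simpa using LocallyFiniteSupport.finite_inter_support_of_isCompact
    (Function.locallyFinsupp.locallyFiniteSupport α) isCompact_univ

end Groth.Agent.CycLib
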