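import Groth.Agent.CycLib.SpecPt
import Groth.Agent.CycLib.FlatDecomp
import Groth.Agent.CycLib.FibreDim
import Groth.Agent.CycLib.PullFun
import Mathlib.AlgebraicGeometry.Morphisms.UniversallyOpen
import Mathlib.Data.ENat.BigOperators

/-!
The flat pullback of a principal divisor is the sum of the divisors on the components of the preimage.
-/

set_option autoImplicit false
set_option linter.style.haveILetI false
set_option maxHeartbeats 400000

universe u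

open CategoryTheory AlgebraicGeometry IsLocalRing TensorProduct Classical

namespace Groth.Agent.CycLib

variable {X Y : Scheme.{u}}

/-- Generic points of the fibre over `ξ`. -/
abbrev FibGen (f : X ⟶ Y) (ξ : Y) : Type u :=
  {ζ : X // (∀ x' : X, f x' = f ζ → x' ⤳ ζ → x' = ζ) ∧ f ζ = ξ}

/-- The length of the local ring of the fibre at `x`. -/
noncomputable def fibLen (f : X ⟶ Y) (x : X) : ℕ :=
  (Module.length (X.presheaf.stalk x) (X.presheaf.stalk x ⧸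
    (maximalIdeal (Y.presheaf.stalk (f x))).map (f.stalkMap x).hom)).toNat

/-- The summand of the pullback of `div (ξ, g)` at a point `x` given by `ζ`. -/
noncomputable def pullTerm (f : X ⟶ Y) (δX : X → ℤ) (ξ : Y) (g : Y.residueField ξ) (x : X)
    (ζ : FibGen f ξ) : ℤ :=
  (fibLen f ζ.1 : ℤ) *
    Cyc.divFun δX ζ.1 (f.residueFieldMap ζ.1 ((Y.residueFieldCongr ζ.2.2.symm).hom g)) x

theorem delta_eq_of_generic (f : X ⟶ Y) [LocallyOfFiniteType f] {δX : X → ℤ} {δY : Y → ℤ}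
    (hδ : Cyc.DeltaCompat f δX δY) {r : ℕ} (hr : Cyc.HasRelDim f r) (x : X)
    (hmax : ∀ x' : X, f x' = f x → x' ⤳ x → x' = x) : δX x = δY (f x) + r := by
  obtain ⟨n, hn, he⟩ := hδ x
  rw [trdeg_eq_of_hasRelDim f hr x hmax] at hn
  rw [he, show r = n from by exact_mod_cast hn]

theorem delta_le_add (f : X ⟶ Y) [LocallyOfFiniteType f] [IsLocallyNoetherian X] {δX : X → ℤ}
    {δY : Y → ℤ} (hd : Cyc.IsDimFun X δX)
    (hδ : Cyc.DeltaCompat f δX δY) {r : ℕ} (hr : Cyc.HasRelDim f r) (x : X) :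
    δX x ≤ δY (f x) + r := by
  obtain ⟨x0, hx0, hf, hmax⟩ := exists_generic_fibre f x
  have h := le_of_specializes hd hx0
  rw [delta_eq_of_generic f hδ hr x0 hmax, hf] at h
  exact h

theorem fibGen_of_delta (f : X ⟶ Y) [LocallyOfFiniteType f] [IsLocallyNoetherian X] {δX : X → ℤ}
    {δY : Y → ℤ} (hd : Cyc.IsDimFun X δX)
    (hδ : Cyc.DeltaCompat f δX δY) {r : ℕ} (hr : Cyc.HasRelDim f r) (x : X)
    (h : δX x = δY (f x) + r) : ∀ x' : X, f x' = f x → x' ⤳ x → x' = x := fun x' hf hs => by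
  refine eq_of_specializes hd hs ?_
  rw [h, ← hf]
  exact delta_le_add f hd hδ hr x'

/-- `len (A_Q / I A_Q)` for the prime of `ζ` is the fibre length at `ζ`. -/
theorem length_quot_map_eq (f : X ⟶ Y) {x ζ : X} (h : ζ ⤳ x) {ξ : Y} (h' : ξ ⤳ f x) (hf : f ζ = ξ) :
    (Module.length (X.presheaf.stalk ζ) (X.presheaf.stalk ζ ⧸
      ((RingHom.ker (Cyc.specMap (f x) ξ h')).map (f.stalkMap x).hom).map
        (X.presheaf.stalkSpecializes h).hom)).toNat = fibLen f ζ := by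
  subst hf
  letI := (Y.presheaf.stalkSpecializes h').hom.toAlgebra
  haveI : (RingHom.ker (Cyc.specMap (f x) (f ζ) h')).IsPrime := RingHom.ker_isPrime _
  haveI : IsLocalization.AtPrime (Y.presheaf.stalk (f ζ)) (RingHom.ker (Cyc.specMap (f x) (f ζ) h')) :=
    isLocalization_stalkSpecializes h'
  have hm : (RingHom.ker (Cyc.specMap (f x) (f ζ) h')).map (Y.presheaf.stalkSpecializes h').hom =
      maximalIdeal (Y.presheaf.stalk (f ζ)) :=
    IsLocalization.AtPrime.map_eq_maximalIdeal _ _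
  have hc : ((X.presheaf.stalkSpecializes h).hom).comp (f.stalkMap x).hom =
      (f.stalkMap ζ).hom.comp (Y.presheaf.stalkSpecializes h').hom := by
    ext c
    exact (Scheme.Hom.stalkSpecializes_stalkMap_apply f ζ x h c).symm
  rw [Ideal.map_map, hc, ← Ideal.map_map, hm, fibLen]

theorem pullTerm_eq_zero_of_not (f : X ⟶ Y) [LocallyOfFiniteType f] {δX : X → ℤ} {δY : Y → ℤ}
    (hδ : Cyc.DeltaCompat f δX δY) {r : ℕ} (hr : Cyc.HasRelDim f r) (ξ : Y) (g : Y.residueField ξ)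
    (x : X) (ζ : FibGen f ξ) (h : ¬ (ζ.1 ⤳ x ∧ δX x + 1 = δY ξ + r)) :
    pullTerm f δX ξ g x ζ = 0 := by
  have hz := delta_eq_of_generic f hδ hr ζ.1 ζ.2.1
  rw [ζ.2.2] at hz
  rw [pullTerm, Cyc.divFun, dif_neg (fun hc => h ⟨hc.1, hc.2.trans hz⟩), mul_zero]

theorem lift_eq (f : X ⟶ Y) {x ζ : X} {ξ : Y} (hζ : f ζ = ξ) (h : ζ ⤳ x) (h' : ξ ⤳ f x)
    (a b : Y.presheaf.stalk (f x)) :
    f.residueFieldMap ζ ((Y.residueFieldCongr hζ.symm).hom
      (Cyc.specMap (f x) ξ h' a / Cyc.specMap (f x) ξ h' b)) =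
      Cyc.specMap x ζ h (f.stalkMap x a) / Cyc.specMap x ζ h (f.stalkMap x b) := by
  rw [map_div₀, map_div₀, residueFieldMap_congr_specMap f hζ h h',
    residueFieldMap_congr_specMap f hζ h h']

theorem specMap_stalkMap_ne_zero (f : X ⟶ Y) {x ζ : X} {ξ : Y} (hζ : f ζ = ξ) (h : ζ ⤳ x)
    (h' : ξ ⤳ f x) {a : Y.presheaf.stalk (f x)} (ha : Cyc.specMap (f x) ξ h' a ≠ 0) :
    Cyc.specMap x ζ h (f.stalkMap x a) ≠ 0 := by
  rw [← residueFieldMap_congr_specMap f hζ h h' a]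
  exact (map_ne_zero _).2 ((map_ne_zero _).2 ha)

variable (f : X ⟶ Y) [Flat f] [LocallyOfFiniteType f]

/-- The multiplicity identity at a point of codimension one. -/
theorem ordZ_mul_fibLen [IsLocallyNoetherian X] [IsLocallyNoetherian Y] {δX : X → ℤ} {δY : Y → ℤ}
    (hdX : Cyc.IsDimFun X δX) (hdY : Cyc.IsDimFun Y δY) (hδ : Cyc.DeltaCompat f δX δY) {r : ℕ}
    (hr : Cyc.HasRelDim f r) {x : X} {ξ : Y} (h : ξ ⤳ f x) (hy : δY (f x) + 1 = δY ξ)
    (hx : δX x = δY (f x) + r) :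
    ∃ S : Finset X, (∀ ζ, ζ ∈ S ↔ ζ ⤳ x ∧ f ζ = ξ) ∧
      (∀ ζ ∈ S, (∀ x' : X, f x' = f ζ → x' ⤳ ζ → x' = ζ) ∧ δX x + 1 = δX ζ) ∧
      ∀ a : Y.presheaf.stalk (f x), Cyc.specMap (f x) ξ h a ≠ 0 →
        LenLib.ordZ (Ideal.Quotient.mk (RingHom.ker (Cyc.specMap (f x) ξ h)) a) * (fibLen f x : ℤ) =
          ∑ ζ ∈ S, if hζ : ζ ⤳ x then (fibLen f ζ : ℤ) *
            LenLib.ordZ (Ideal.Quotient.mk (RingHom.ker (Cyc.specMap x ζ hζ)) (f.stalkMap x a)) else 0 := by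
  classical
  have hgx := fibGen_of_delta f hdX hδ hr x hx
  letI := (f.stalkMap x).hom.toAlgebra
  haveI : Module.Flat (Y.presheaf.stalk (f x)) (X.presheaf.stalk x) := Flat.stalkMap f x
  haveI : IsLocalHom (algebraMap (Y.presheaf.stalk (f x)) (X.presheaf.stalk x)) :=
    inferInstanceAs (IsLocalHom (f.stalkMap x).hom)
  haveI hp : (RingHom.ker (Cyc.specMap (f x) ξ h)).IsPrime := RingHom.ker_isPrime _
  haveI : Ring.KrullDimLE 1 (Y.presheaf.stalk (f x) ⧸ RingHom.ker (Cyc.specMap (f x) ξ h)) :=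
    locQuot_krullDimLE_one hdY (f x) ξ h hy
  let I : Ideal (X.presheaf.stalk x) :=
    (RingHom.ker (Cyc.specMap (f x) ξ h)).map (algebraMap (Y.presheaf.stalk (f x)) (X.presheaf.stalk x))
  have hle : ∀ (ζ : X) (hζ : ζ ⤳ x), I ≤ RingHom.ker (Cyc.specMap x ζ hζ) ↔ ξ ⤳ f ζ := fun ζ hζ => by
    rw [Ideal.map_le_iff_le_comap]
    show _ ≤ (RingHom.ker (Cyc.specMap x ζ hζ)).comap (f.stalkMap x).hom ↔ _
    rw [comap_ker_specMap]
    exact ptPrime_le_iff h _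
  have hmax : ∀ (ζ : X) (hζ : ζ ⤳ x),
      (ptPrime x ζ hζ).asIdeal = maximalIdeal (X.presheaf.stalk x) ↔ ζ = x := fun ζ hζ => by
    constructor
    · intro e
      have e' : ptPrime x ζ hζ = closedPoint (X.presheaf.stalk x) := PrimeSpectrum.ext e
      rw [← fromSpecStalk_ptPrime x ζ hζ, e']
      exact Scheme.fromSpecStalk_closedPoint
    · rintro rfl
      have e : ptPrime ζ ζ hζ = closedPoint (X.presheaf.stalk ζ) :=
        (X.fromSpecStalk ζ).isEmbedding.injective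
          ((fromSpecStalk_ptPrime ζ ζ hζ).trans Scheme.fromSpecStalk_closedPoint.symm)
      exact congrArg PrimeSpectrum.asIdeal e
  have hclass : ∀ ζ : X, ζ ⤳ x → ξ ⤳ f ζ → ζ = x ∨ (f ζ = ξ ∧ δX x + 1 = δX ζ) := by
    intro ζ hs hxi
    have h1 := le_of_specializes hdY (hs.map f.continuous)
    have h2 := le_of_specializes hdY hxi
    by_cases he : δY (f ζ) = δY (f x)
    · exact Or.inl (hgx _ (eq_of_specializes hdY (hs.map f.continuous) he.le) hs)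
    · have e : f ζ = ξ := (eq_of_specializes hdY hxi (by omega)).symm
      refine Or.inr ⟨e, ?_⟩
      have h3 := delta_le_add f hdX hδ hr ζ
      have h4 : ζ ≠ x := fun h0 => he (by rw [h0])
      have h5 := (hdX _ _ hs h4).1
      rw [e] at h3
      omega
  have hne : ξ ≠ f x := fun e => by rw [e] at hy; omega
  let T' : Set (PrimeSpectrum (X.presheaf.stalk x)) :=
    {Q | I ≤ Q.asIdeal ∧ Q.asIdeal ≠ maximalIdeal (X.presheaf.stalk x)}
  have hmin : ∀ Q ∈ T', ∀ Q' : PrimeSpectrum (X.presheaf.stalk x), I ≤ Q'.asIdeal →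
      Q'.asIdeal ≤ Q.asIdeal → Q' = Q := by
    intro Q hQ Q' hQ' hQQ'
    obtain ⟨ζ, hs, rfl⟩ := exists_ptPrime x Q
    obtain ⟨ζ', hs', rfl⟩ := exists_ptPrime x Q'
    have hsp : ζ' ⤳ ζ := (ptPrime_le_iff hs' hs).1 hQQ'
    have hζx : ζ ≠ x := fun e => hQ.2 ((hmax ζ hs).2 e)
    have h1 := (hclass ζ hs ((hle ζ hs).1 hQ.1)).resolve_left hζx
    rcases hclass ζ' hs' ((hle ζ' hs').1 hQ') with h2 | h2
    · subst h2
      exact absurd (eq_of_specializes hdX hs (le_of_specializes hdX hsp)) hζx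
    · obtain rfl := eq_of_specializes hdX hsp (le_of_eq (h2.2.symm.trans h1.2))
      rfl
  have hfinT : T'.Finite := by
    refine ((I.finite_minimalPrimes_of_isNoetherianRing _).preimage
      (fun a _ b _ e => PrimeSpectrum.ext e)).subset fun Q hQ => ?_
    refine ⟨⟨Q.2, hQ.1⟩, fun J hJ hJQ => ?_⟩
    exact (congrArg PrimeSpectrum.asIdeal (hmin Q hQ ⟨J, hJ.1⟩ hJ.2 hJQ)).ge
  have hTiff : ∀ (ζ : X) (hs : ζ ⤳ x), ptPrime x ζ hs ∈ T' ↔ f ζ = ξ := fun ζ hs => by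
    constructor
    · intro hQ
      exact ((hclass ζ hs ((hle ζ hs).1 hQ.1)).resolve_left fun e => hQ.2 ((hmax ζ hs).2 e)).1
    · intro e
      exact ⟨(hle ζ hs).2 (e ▸ specializes_rfl), fun e' => hne (by rw [← e, (hmax ζ hs).1 e'])⟩
  let pt : PrimeSpectrum (X.presheaf.stalk x) → X := fun Q => X.fromSpecStalk x Q
  have hpt : ∀ Q, ∃ hs : pt Q ⤳ x, ptPrime x (pt Q) hs = Q := fun Q => by
    obtain ⟨ζ, hs, rfl⟩ := exists_ptPrime x Q
    have e : pt (ptPrime x ζ hs) = ζ := fromSpecStalk_ptPrime x ζ hs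
    exact ⟨e.symm ▸ hs, (X.fromSpecStalk x).isEmbedding.injective (fromSpecStalk_ptPrime _ _ _)⟩
  have hinj : Function.Injective pt := (X.fromSpecStalk x).isEmbedding.injective
  refine ⟨hfinT.toFinset.image pt, fun ζ => ?_, fun ζ hζ => ?_, fun a ha => ?_⟩
  · rw [Finset.mem_image]
    constructor
    · rintro ⟨Q, hQ, rfl⟩
      obtain ⟨hs, e⟩ := hpt Q
      exact ⟨hs, (hTiff _ hs).1 (e.symm ▸ hfinT.mem_toFinset.1 hQ)⟩
    · rintro ⟨hs, hfζ⟩
      exact ⟨_, hfinT.mem_toFinset.2 ((hTiff ζ hs).2 hfζ), fromSpecStalk_ptPrime x ζ hs⟩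
  · obtain ⟨Q, hQ, rfl⟩ := Finset.mem_image.1 hζ
    obtain ⟨hs, e⟩ := hpt Q
    have hQ' : ptPrime x (pt Q) hs ∈ T' := e.symm ▸ hfinT.mem_toFinset.1 hQ
    obtain ⟨e1, e2⟩ := (hclass _ hs ((hle _ hs).1 hQ'.1)).resolve_left fun e => hQ'.2 ((hmax _ hs).2 e)
    refine ⟨fibGen_of_delta f hdX hδ hr _ ?_, e2⟩
    rw [e1]
    omega
  · obtain ⟨ζ₀, hζ₀, hfζ₀⟩ := Flat.generalizingMap f h
    have key := flat_quot_decomp (C := X.presheaf.stalk x) (RingHom.ker (Cyc.specMap (f x) ξ h))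
      hfinT.toFinset (fun Q => hfinT.mem_toFinset)
      ⟨_, hfinT.mem_toFinset.2 ((hTiff ζ₀ hζ₀).2 hfζ₀)⟩
      (fun Q hQ => hmin Q (hfinT.mem_toFinset.1 hQ)) (length_fibre_ne_top f x hgx) (a := a)
      (fun e => ha (RingHom.mem_ker.1 e))
    rw [Finset.sum_image fun a _ b _ e => hinj e]
    refine key.trans (Finset.sum_congr rfl fun Q hQ => ?_)
    obtain ⟨hs, e⟩ := hpt Q
    rw [dif_pos hs]
    generalize hζe : pt Q = ζ at hs e ⊢
    subst e
    congr 2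
    letI := (X.presheaf.stalkSpecializes hs).hom.toAlgebra
    haveI : IsLocalization.AtPrime (X.presheaf.stalk ζ) (ptPrime x ζ hs).asIdeal :=
      isLocalization_stalkSpecializes hs
    rw [locLen_eq _ _ (X.presheaf.stalk ζ)]
    exact length_quot_map_eq f hs h ((hTiff ζ hs).1 (hfinT.mem_toFinset.1 hQ))

/-- `f^* div (ξ, g) = ∑_ζ len(O_ζ / m_ξ O_ζ) • div (ζ, g|ζ)`. -/
theorem pullFun_divFun' [IsLocallyNoetherian X] [IsLocallyNoetherian Y] {δX : X → ℤ} {δY : Y → ℤ}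
    (hdX : Cyc.IsDimFun X δX) (hdY : Cyc.IsDimFun Y δY)
    (hδ : Cyc.DeltaCompat f δX δY) {r : ℕ} (hr : Cyc.HasRelDim f r) (ξ : Y) (g : Y.residueField ξ)
    (hg : g ≠ 0) (x : X) :
    Cyc.pullFun f δX δY r (Cyc.divFun δY ξ g) x = ∑ᶠ ζ : FibGen f ξ, pullTerm f δX ξ g x ζ := by
  classical
  have hz : ¬ (ξ ⤳ f x ∧ δX x + 1 = δY ξ + r) →
      Cyc.pullFun f δX δY r (Cyc.divFun δY ξ g) x = 0 ∧ ∀ ζ, pullTerm f δX ξ g x ζ = 0 := by
    intro hn
    refine ⟨?_, fun ζ => pullTerm_eq_zero_of_not f hδ hr ξ g x ζ fun hc =>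
      hn ⟨ζ.2.2 ▸ hc.1.map f.continuous, hc.2⟩⟩
    rw [Cyc.pullFun]
    split_ifs with h1
    · rw [Cyc.divFun, dif_neg (fun hc => hn ⟨hc.1, by omega⟩), zero_mul]
    · rfl
  by_cases hc : ξ ⤳ f x ∧ δX x + 1 = δY ξ + r
  swap
  · rw [(hz hc).1, finsum_congr (hz hc).2, finsum_zero]
  obtain ⟨hsp, hxd⟩ := hc
  have h1 := delta_le_add f hdX hδ hr x
  have h2 := le_of_specializes hdY hsp
  haveI := locQuot_isFractionRing (f x) ξ hsp
  obtain ⟨a', b', hb', hab⟩ := IsFractionRing.div_surjective (Cyc.LocQuot (f x) ξ hsp) g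
  obtain ⟨a, rfl⟩ := Ideal.Quotient.mk_surjective a'
  obtain ⟨b, rfl⟩ := Ideal.Quotient.mk_surjective b'
  rw [locQuot_algebraMap, locQuot_algebraMap] at hab
  subst hab
  obtain ⟨ha, hb⟩ := div_ne_zero_iff.1 hg
  by_cases hyξ : δY (f x) = δY ξ
  · have hfx : f x = ξ := (eq_of_specializes hdY hsp hyξ.ge).symm
    rw [Cyc.pullFun, Cyc.divFun]
    rw [dif_neg (fun hc => by omega)]
    rw [zero_mul, ite_self, finsum_congr (g := fun _ => 0) fun ζ => ?_, finsum_zero]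
    rw [pullTerm, Cyc.divFun]
    split_ifs with hc
    · have hu : ∀ c : Y.presheaf.stalk (f x), Cyc.specMap (f x) ξ hsp c ≠ 0 → IsUnit (f.stalkMap x c) := by
        intro c hcne
        refine IsUnit.map (f.stalkMap x).hom ?_
        by_contra hn
        refine hcne (RingHom.mem_ker.1 ?_)
        have e : RingHom.ker (Cyc.specMap (f x) ξ hsp) = maximalIdeal (Y.presheaf.stalk (f x)) := by
          subst hfx
          rw [ker_specMap_eq_comap, TopCat.Presheaf.stalkSpecializes_refl]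
          exact Ideal.comap_id _
        rw [e]
        exact hn
      rw [lift_eq f ζ.2.2 hc.1 hsp a b,
        ordAt_div hdX hc.1 hc.2 ((hu a ha).map _).ne_zero ((hu b hb).map _).ne_zero,
        LenLib.ordZ_of_isUnit ((hu a ha).map _), LenLib.ordZ_of_isUnit ((hu b hb).map _),
        sub_self, mul_zero]
    · rw [mul_zero]
  have hy : δY (f x) + 1 = δY ξ := by omega
  have hxe : δX x = δY (f x) + r := by omega
  rw [Cyc.pullFun, if_pos hxe, Cyc.divFun, dif_pos ⟨hsp, hy⟩, ordAt_div hdY hsp hy ha hb]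
  obtain ⟨S, hS, hSg, hsum⟩ := ordZ_mul_fibLen f hdX hdY hδ hr hsp hy hxe
  show _ * (fibLen f x : ℤ) = _
  rw [sub_mul, hsum a ha, hsum b hb, ← Finset.sum_sub_distrib]
  let G : X → ℤ := fun ζ => if h : (∀ x' : X, f x' = f ζ → x' ⤳ ζ → x' = ζ) ∧ f ζ = ξ then
    pullTerm f δX ξ (Cyc.specMap (f x) ξ hsp a / Cyc.specMap (f x) ξ hsp b) x ⟨ζ, h⟩ else 0
  have hG : (∑ᶠ ζ : FibGen f ξ, pullTerm f δX ξ (Cyc.specMap (f x) ξ hsp a / Cyc.specMap (f x) ξ hsp b) x ζ) =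
      ∑ᶠ ζ : X, G ζ := by
    rw [finsum_congr (g := fun ζ : FibGen f ξ => G ζ.1) fun ζ => (dif_pos ζ.2).symm,
      finsum_subtype_eq_finsum_cond]
    refine finsum_congr fun ζ => ?_
    by_cases h : (∀ x' : X, f x' = f ζ → x' ⤳ ζ → x' = ζ) ∧ f ζ = ξ
    · exact finsum_eq_if.trans (if_pos h)
    · rw [finsum_eq_if, if_neg h, show G ζ = 0 from dif_neg h]
  rw [hG, finsum_eq_sum_of_support_subset G (s := S) ?_]
  · refine Finset.sum_congr rfl fun ζ hζ => ?_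
    obtain ⟨hs, hf⟩ := (hS ζ).1 hζ
    obtain ⟨hgen, hd⟩ := hSg ζ hζ
    rw [dif_pos hs, dif_pos hs, show G ζ = _ from dif_pos ⟨hgen, hf⟩, pullTerm, Cyc.divFun,
      dif_pos ⟨hs, hd⟩, lift_eq f hf hs hsp a b, ordAt_div hdX hs hd
        (specMap_stalkMap_ne_zero f hf hs hsp ha) (specMap_stalkMap_ne_zero f hf hs hsp hb), mul_sub]
  · intro ζ hζ
    by_contra hn
    refine hζ ?_
    show G ζ = 0
    by_cases h : (∀ x' : X, f x' = f ζ → x' ⤳ ζ → x' = ζ) ∧ f ζ = ξ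
    · rw [show G ζ = _ from dif_pos h]
      exact pullTerm_eq_zero_of_not f hδ hr ξ _ x ⟨ζ, h⟩ fun hc => hn ((hS ζ).2 ⟨hc.1, h.2⟩)
    · exact dif_neg h

/-- `pullFun_divFun'` under setup hypotheses. -/
theorem pullFun_divFun {δX : X → ℤ} {δY : Y → ℤ} (hX : Cyc.IsSetup X δX) (hY : Cyc.IsSetup Y δY)
    (hδ : Cyc.DeltaCompat f δX δY) {r : ℕ} (hr : Cyc.HasRelDim f r) (ξ : Y) (g : Y.residueField ξ)
    (hg : g ≠ 0) (x : X) :
    Cyc.pullFun f δX δY r (Cyc.divFun δY ξ g) x = ∑ᶠ ζ : FibGen f ξ, pullTerm f δX ξ g x ζ := by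
  haveI := hX.1
  haveI := hY.1
  exact pullFun_divFun' f hX.2.2 hY.2.2 hδ hr ξ g hg x

end Groth.Agent.CycLib
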